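import Groth.Agent.Lib.Helper29.QCohPush
import Mathlib.AlgebraicGeometry.Morphisms.QuasiSeparated

/-!
The localisation property of sections (`LocAt`) on quasi-compact quasi-separated opens, from the
localisation property on affine opens (the "qcqs lemma" for modules), and gluing of two sections.
-/

set_option autoImplicit false
universe u

namespace Groth.Agent.Lib.Helper29.QCohLoc

open AlgebraicGeometry CategoryTheory Opposite TopologicalSpace

variable {X : Scheme.{u}} (F : X.Modules)

/-- sections with equal germs everywhere are equal -/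
theorem section_ext' {U : X.Opens} (s t : Γ(F, U))
    (h : ∀ (x : X) (hx : x ∈ U), F.presheaf.germ U x hx s = F.presheaf.germ U x hx t) : s = t :=
  TopCat.Presheaf.section_ext ⟨F.presheaf, F.isSheaf⟩ U s t h

/-- gluing two sections agreeing on the intersection -/
theorem glue₂ (S V : X.Opens) (s₁ : Γ(F, S)) (s₂ : Γ(F, V))
    (h : F.presheaf.map (homOfLE (inf_le_left : S ⊓ V ≤ S)).op s₁ =
      F.presheaf.map (homOfLE (inf_le_right : S ⊓ V ≤ V)).op s₂) :
    ∃ s : Γ(F, S ⊔ V), F.presheaf.map (homOfLE (le_sup_left : S ≤ S ⊔ V)).op s = s₁ ∧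
      F.presheaf.map (homOfLE (le_sup_right : V ≤ S ⊔ V)).op s = s₂ := by
  let Fs : TopCat.Sheaf Ab X.carrier := ⟨F.presheaf, F.isSheaf⟩
  let U : Bool → Opens X := fun b => cond b S V
  let sf : ∀ b : Bool, ToType (Fs.1.obj (op (U b))) := fun b =>
    match b with
    | true => s₁
    | false => s₂
  have hgerm : ∀ (x : X) (hx : x ∈ S ⊓ V), F.presheaf.germ S x hx.1 s₁ = F.presheaf.germ V x hx.2 s₂ := by
    intro x hx
    have := congrArg (F.presheaf.germ (S ⊓ V) x hx) h
    rwa [germ_res, germ_res] at this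
  have hcompat : TopCat.Presheaf.IsCompatible Fs.1 U sf := by
    intro i j
    apply section_ext' F
    intro x hx
    change F.presheaf.germ _ x hx (F.presheaf.map _ (sf i)) =
      F.presheaf.germ _ x hx (F.presheaf.map _ (sf j))
    rw [TopCat.Presheaf.germ_res_apply, TopCat.Presheaf.germ_res_apply]
    cases i <;> cases j
    · rfl
    · exact (hgerm x ⟨hx.2, hx.1⟩).symm
    · exact hgerm x hx
    · rfl
  obtain ⟨s, hs, -⟩ := Fs.existsUnique_gluing' U (S ⊔ V)
    (fun b => match b with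
      | true => homOfLE le_sup_left
      | false => homOfLE le_sup_right)
    (by
      intro x hx
      rcases hx with hx | hx
      · exact Opens.mem_iSup.mpr ⟨true, hx⟩
      · exact Opens.mem_iSup.mpr ⟨false, hx⟩) sf hcompat
  exact ⟨s, hs true, hs false⟩

variable (hloc : ∀ V : X.Opens, IsAffineOpen V → LocAt F V)

include hloc in
/-- on a quasi-compact open, a section vanishing on `D(a)` is killed by a power of `a` -/
theorem kill_of_isCompact {U : X.Opens} (hU : IsCompact (U : Set X)) (a : Γ(X, U)) (s : Γ(F, U))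
    (hs : F.presheaf.map (homOfLE (X.basicOpen_le a)).op s = 0) : ∃ n : ℕ, a ^ n • s = 0 := by
  obtain ⟨S, hS, e⟩ := isCompact_and_isOpen_iff_finite_and_eq_biUnion_affineOpens.mp ⟨hU, U.2⟩
  have hle : ∀ V ∈ S, (V : X.Opens) ≤ U := by
    intro V hV x hx
    have : x ∈ (U : Set X) := by
      rw [e]
      exact Set.mem_biUnion hV hx
    exact this
  have hV : ∀ V : X.affineOpens, ∀ hVS : V ∈ S, ∃ n : ℕ,
      X.presheaf.map (homOfLE (hle V hVS)).op a ^ n • F.presheaf.map (homOfLE (hle V hVS)).op s = 0 := by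
    intro V hVS
    refine (hloc V.1 V.2).kill' _ (V.1 ⊓ X.basicOpen a) (Scheme.basicOpen_res _ _ _).symm
      inf_le_left _ ?_
    rw [res_res]
    have : F.presheaf.map (homOfLE ((inf_le_right : V.1 ⊓ X.basicOpen a ≤ X.basicOpen a).trans
        (X.basicOpen_le a))).op s = F.presheaf.map (homOfLE (inf_le_right :
          V.1 ⊓ X.basicOpen a ≤ X.basicOpen a)).op (F.presheaf.map (homOfLE (X.basicOpen_le a)).op s) :=
      (res_res F _ _ s).symm
    rw [show F.presheaf.map (homOfLE ((inf_le_left : V.1 ⊓ X.basicOpen a ≤ V.1).trans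
      (hle V hVS))).op s = _ from this, hs, map_zero]
  classical
  choose! n hn using hV
  refine ⟨hS.toFinset.sup n, ?_⟩
  apply section_ext' F
  intro x hx
  rw [map_zero]
  have hx' : x ∈ (U : Set X) := hx
  rw [e] at hx'
  simp only [Set.mem_iUnion] at hx'
  obtain ⟨V, hVS, hxV⟩ := hx'
  have hnle : n V ≤ hS.toFinset.sup n := Finset.le_sup (hS.mem_toFinset.mpr hVS)
  have h1 := congrArg (F.presheaf.germ V.1 x hxV) (hn V hVS)
  rw [germ_smul, map_pow, germ_res, map_zero] at h1
  have h2 : X.presheaf.germ V.1 x hxV (X.presheaf.map (homOfLE (hle V hVS)).op a) =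
      X.presheaf.germ U x hx a := TopCat.Presheaf.germ_res_apply _ _ _ _ _
  rw [h2] at h1
  rw [germ_smul, map_pow, ← Nat.sub_add_cancel hnle, pow_add, mul_smul, h1, smul_zero]

include hloc in
/-- on a quasi-compact quasi-separated open, a section over `D(a)` extends after multiplication
by a power of `a` -/
theorem ext_of_qcqs {U : X.Opens} (hU : IsCompact (U : Set X))
    (hU' : IsQuasiSeparated (U : Set X)) (a : Γ(X, U)) (t : Γ(F, X.basicOpen a)) :
    ∃ (n : ℕ) (s : Γ(F, U)), F.presheaf.map (homOfLE (X.basicOpen_le a)).op s =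
      (X.presheaf.map (homOfLE (X.basicOpen_le a)).op a) ^ n • t := by
  revert hU' a t
  refine compact_open_induction_on U hU ?_ ?_
  · intro _ a t
    refine ⟨0, 0, ?_⟩
    apply section_ext' F
    intro x hx
    exact (X.basicOpen_le a hx).elim
  · intro S hS V ih hqs a t
    have hqsS : IsQuasiSeparated (S : Set X) := hqs.of_subset Set.subset_union_left
    -- data on `S`
    set a₁ : Γ(X, S) := X.presheaf.map (homOfLE (le_sup_left : S ≤ S ⊔ V.1)).op a with ha₁
    have hD₁ : X.basicOpen a₁ = S ⊓ X.basicOpen a := Scheme.basicOpen_res _ _ _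
    have hD₁le : X.basicOpen a₁ ≤ X.basicOpen a := hD₁ ▸ inf_le_right
    obtain ⟨n₁, y₁, hy₁⟩ := ih hqsS a₁ (F.presheaf.map (homOfLE hD₁le).op t)
    -- data on `V`
    set a₂ : Γ(X, V.1) := X.presheaf.map (homOfLE (le_sup_right : V.1 ≤ S ⊔ V.1)).op a with ha₂
    have hD₂ : X.basicOpen a₂ = V.1 ⊓ X.basicOpen a := Scheme.basicOpen_res _ _ _
    have hD₂le : X.basicOpen a₂ ≤ X.basicOpen a := hD₂ ▸ inf_le_right
    obtain ⟨n₂, y₂, hy₂⟩ := (hloc V.1 V.2).ext a₂ (F.presheaf.map (homOfLE hD₂le).op t)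
    have hga₁ : ∀ (x : X) (hx : x ∈ S), X.presheaf.germ S x hx a₁ =
        X.presheaf.germ (S ⊔ V.1) x (Or.inl hx) a := fun x hx =>
      TopCat.Presheaf.germ_res_apply _ _ _ _ _
    have hga₂ : ∀ (x : X) (hx : x ∈ V.1), X.presheaf.germ V.1 x hx a₂ =
        X.presheaf.germ (S ⊔ V.1) x (Or.inr hx) a := fun x hx =>
      TopCat.Presheaf.germ_res_apply _ _ _ _ _
    -- germ forms of the two equations
    have g₁ : ∀ (x : X) (hxS : x ∈ S) (hxa : x ∈ X.basicOpen a),
        F.presheaf.germ S x hxS y₁ = X.presheaf.germ (S ⊔ V.1) x (Or.inl hxS) a ^ n₁ •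
          F.presheaf.germ (X.basicOpen a) x hxa t := by
      intro x hxS hxa
      have hx₁ : x ∈ X.basicOpen a₁ := hD₁ ▸ ⟨hxS, hxa⟩
      have := congrArg (F.presheaf.germ (X.basicOpen a₁) x hx₁) hy₁
      rw [germ_res, germ_smul, map_pow, germ_res, TopCat.Presheaf.germ_res_apply, hga₁] at this
      exact this
    have g₂ : ∀ (x : X) (hxV : x ∈ V.1) (hxa : x ∈ X.basicOpen a),
        F.presheaf.germ V.1 x hxV y₂ = X.presheaf.germ (S ⊔ V.1) x (Or.inr hxV) a ^ n₂ •
          F.presheaf.germ (X.basicOpen a) x hxa t := by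
      intro x hxV hxa
      have hx₂ : x ∈ X.basicOpen a₂ := hD₂ ▸ ⟨hxV, hxa⟩
      have := congrArg (F.presheaf.germ (X.basicOpen a₂) x hx₂) hy₂
      rw [germ_res, germ_smul, map_pow, germ_res, TopCat.Presheaf.germ_res_apply, hga₂] at this
      exact this
    -- the intersection
    set W : X.Opens := S ⊓ V.1 with hW
    have hWc : IsCompact (W : Set X) :=
      hqs _ _ Set.subset_union_left S.2 hS Set.subset_union_right V.1.2 V.2.isCompact
    set a₃ : Γ(X, W) := X.presheaf.map (homOfLE (inf_le_left.trans le_sup_left : W ≤ S ⊔ V.1)).op a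
      with ha₃
    set z : Γ(F, W) := a₃ ^ n₂ • F.presheaf.map (homOfLE (inf_le_left : W ≤ S)).op y₁ -
      a₃ ^ n₁ • F.presheaf.map (homOfLE (inf_le_right : W ≤ V.1)).op y₂ with hz
    have hga₃ : ∀ (x : X) (hx : x ∈ W), X.presheaf.germ W x hx a₃ =
        X.presheaf.germ (S ⊔ V.1) x (Or.inl hx.1) a := fun x hx =>
      TopCat.Presheaf.germ_res_apply _ _ _ _ _
    have hz0 : F.presheaf.map (homOfLE (X.basicOpen_le a₃)).op z = 0 := by
      apply section_ext' F
      intro x hx
      have hxW : x ∈ W := X.basicOpen_le a₃ hx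
      have hxa : x ∈ X.basicOpen a := by
        have : X.basicOpen a₃ = W ⊓ X.basicOpen a := Scheme.basicOpen_res _ _ _
        exact (this ▸ hx).2
      rw [germ_res, map_zero, hz, map_sub, germ_smul, germ_smul, map_pow, map_pow, germ_res,
        germ_res, hga₃ x hxW, g₁ x hxW.1 hxa, g₂ x hxW.2 hxa, ← mul_smul, ← mul_smul, ← pow_add,
        ← pow_add, add_comm n₂ n₁, sub_self]
    obtain ⟨n, hn⟩ := kill_of_isCompact F hloc hWc a₃ z hz0
    -- glue
    obtain ⟨s, hs₁, hs₂⟩ := glue₂ F S V.1 (a₁ ^ (n + n₂) • y₁) (a₂ ^ (n + n₁) • y₂) (by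
      apply section_ext' F
      intro x hx
      have h1 := congrArg (F.presheaf.germ W x hx) hn
      rw [germ_smul, map_pow, hz, map_sub, smul_sub, germ_smul, germ_smul, map_pow, map_pow,
        germ_res, germ_res, map_zero, sub_eq_zero, ← mul_smul, ← mul_smul, ← pow_add, ← pow_add,
        hga₃ x hx] at h1
      rw [germ_res, germ_res, germ_smul, germ_smul, map_pow, map_pow, hga₁, hga₂]
      exact h1)
    refine ⟨n + n₁ + n₂, s, ?_⟩
    apply section_ext' F
    intro x hx
    rw [germ_res, germ_smul, map_pow, TopCat.Presheaf.germ_res_apply]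
    rcases X.basicOpen_le a hx with hxS | hxV
    · have h1 := congrArg (F.presheaf.germ S x hxS) hs₁
      rw [germ_res, germ_smul, map_pow, hga₁, g₁ x hxS hx, ← mul_smul, ← pow_add] at h1
      rw [h1]
      congr 2
      ring
    · have h1 := congrArg (F.presheaf.germ V.1 x hxV) hs₂
      rw [germ_res, germ_smul, map_pow, hga₂, g₂ x hxV hx, ← mul_smul, ← pow_add] at h1
      rw [h1]

include hloc in
/-- the localisation property on quasi-compact quasi-separated opens -/
theorem LocAt.of_qcqs {U : X.Opens} (hU : IsCompact (U : Set X))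
    (hU' : IsQuasiSeparated (U : Set X)) : LocAt F U where
  kill a s hs := kill_of_isCompact F hloc hU a s hs
  ext a t := ext_of_qcqs F hloc hU hU' a t

/-- weakly associated points of the pushforward along a quasi-compact quasi-separated morphism
come from weakly associated points upstairs -/
theorem exists_isWeakAssPoint_of_pushforward_qcqs {S : Scheme.{u}} (f : X ⟶ S) [QuasiCompact f]
    [QuasiSeparated f] (F : X.Modules) [F.IsQuasicoherent] (s : S)
    (hs : Curv2.IsWeakAssPoint ((Scheme.Modules.pushforward f).obj F) s) :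
    ∃ x : X, f.base x = s ∧ Curv2.IsWeakAssPoint F x := by
  obtain ⟨V, hV, hsV, -⟩ := exists_isAffineOpen_mem_and_subset (X := S) (x := s) (U := ⊤) trivial
  have hlocF : ∀ U : X.Opens, IsAffineOpen U → LocAt F U :=
    fun U hU => LocAt.of_isQuasicoherent F hU
  have hWc : IsCompact (f ⁻¹ᵁ V : Set X) := f.isCompact_preimage hV.isCompact
  have hWq : IsQuasiSeparated (f ⁻¹ᵁ V : Set X) := f.isQuasiSeparated_preimage hV.isQuasiSeparated
  have hFW : LocAt F (f ⁻¹ᵁ V) := LocAt.of_qcqs F hlocF hWc hWq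
  have hG := LocAt.pushforward f F V hFW
  obtain ⟨t, ht⟩ := (isWeakAssPoint_iff _ hV hG s hsV).mp hs
  rw [ann_pushforward] at ht
  set t' : Γ(F, f ⁻¹ᵁ V) := t with ht'
  -- a finite affine cover of the preimage
  obtain ⟨T, hT, e⟩ := isCompact_and_isOpen_iff_finite_and_eq_biUnion_affineOpens.mp
    ⟨hWc, (f ⁻¹ᵁ V).2⟩
  have hle : ∀ U ∈ T, (U : X.Opens) ≤ f ⁻¹ᵁ V := by
    intro U hU x hx
    have : x ∈ (f ⁻¹ᵁ V : Set X) := by
      rw [e]
      exact Set.mem_biUnion hU hx
    exact this
  classical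
  let I : X.affineOpens → Ideal Γ(S, V) := fun U =>
    if h : U ∈ T then (ann F (F.presheaf.map (homOfLE (hle U h)).op t')).comap
      (f.appLE V U.1 (hle U h)).hom else ⊤
  have hI : (ann F t').comap (f.app V).hom = hT.toFinset.inf I := by
    ext a
    rw [Ideal.mem_comap, mem_ann, Submodule.mem_finsetInf]
    constructor
    · intro ha U hU
      have hUT : U ∈ T := hT.mem_toFinset.mp hU
      simp only [I, dif_pos hUT]
      rw [Ideal.mem_comap, mem_ann]
      have h1 := congrArg (F.presheaf.map (homOfLE (hle U hUT)).op) ha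
      rw [res_smul, map_zero] at h1
      exact h1
    · intro ha
      apply section_ext' F
      intro x hx
      have hx' : x ∈ (f ⁻¹ᵁ V : Set X) := hx
      rw [e] at hx'
      simp only [Set.mem_iUnion] at hx'
      obtain ⟨U, hUT, hxU⟩ := hx'
      have h1 := ha U (hT.mem_toFinset.mpr hUT)
      simp only [I, dif_pos hUT] at h1
      rw [Ideal.mem_comap, mem_ann] at h1
      have h2 := congrArg (F.presheaf.germ U.1 x hxU) h1
      rw [germ_smul, germ_res, map_zero] at h2
      rw [germ_smul, map_zero]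
      have h3 : X.presheaf.germ U.1 x hxU ((f.appLE V U.1 (hle U hUT)).hom a) =
          X.presheaf.germ (f ⁻¹ᵁ V) x hx ((f.app V).hom a) :=
        TopCat.Presheaf.germ_res_apply _ _ _ _ _
      rw [h3] at h2
      exact h2
  rw [hI] at ht
  have hsp : (hV.primeIdealOf ⟨s, hsV⟩).asIdeal.IsPrime := inferInstance
  obtain ⟨U, hU, hUle⟩ := hsp.inf_le'.mp ht.1.2
  have hUT : U ∈ T := hT.mem_toFinset.mp hU
  simp only [I, dif_pos hUT] at hUle
  have hmin : (hV.primeIdealOf ⟨s, hsV⟩).asIdeal ∈
      ((ann F (F.presheaf.map (homOfLE (hle U hUT)).op t')).comap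
        (f.appLE V U.1 (hle U hUT)).hom).minimalPrimes := by
    refine ⟨⟨hsp, hUle⟩, ?_⟩
    rintro q ⟨hq, hqle⟩ hqs
    refine ht.2 ⟨hq, ?_⟩ hqs
    refine le_trans (Finset.inf_le hU) ?_
    simp only [I, dif_pos hUT]
    exact hqle
  obtain ⟨p', hp', hcomap⟩ := Ideal.exists_minimalPrimes_comap_eq
    (f.appLE V U.1 (hle U hUT)).hom _ hmin
  have hp'prime : p'.IsPrime := hp'.1.1
  obtain ⟨x, hx, hxp⟩ := exists_point_of_prime U.2 p'
  refine ⟨x, ?_, (isWeakAssPoint_iff F U.2 (hlocF U.1 U.2) x hx).mpr ⟨_, hxp ▸ hp'⟩⟩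
  have h1 := IsAffineOpen.comap_primeIdealOf_appLE (f := f) V hV U.1 U.2 (hle U hUT) hx
  apply primeIdealOf_injective hV (x := f.base x) (y := s) (hle U hUT hx) hsV
  rw [← h1]
  apply PrimeSpectrum.ext
  change (U.2.primeIdealOf ⟨x, hx⟩).asIdeal.comap (f.appLE V U.1 (hle U hUT)).hom = _
  rw [hxp, hcomap]

end Groth.Agent.Lib.Helper29.QCohLoc
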