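import Groth.Agent.Lib.Helper29.QCohLoc
import Mathlib.RingTheory.Ideal.MinimalPrime.Localization
import Mathlib.RingTheory.Localization.AtPrime.Basic

set_option autoImplicit false
universe u

namespace Groth.Agent.Lib.Helper29.QCohLoc

open AlgebraicGeometry CategoryTheory Opposite TopologicalSpace

variable (X : Scheme.{u})

/-- sections of the structure module are sections of the structure sheaf -/
def toSec {U : X.Opens} (t : Γ(Coh.structureModule X, U)) : Γ(X, U) := t

/-- sections of the structure sheaf as sections of the structure module -/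
def ofSec {U : X.Opens} (t : Γ(X, U)) : Γ(Coh.structureModule X, U) := t

theorem smul_ofSec {U : X.Opens} (a b : Γ(X, U)) : a • ofSec X b = ofSec X (a * b) := rfl

theorem ofSec_res {U V : X.Opens} (h : V ≤ U) (a : Γ(X, U)) :
    (Coh.structureModule X).presheaf.map (homOfLE h).op (ofSec X a) =
      ofSec X (X.presheaf.map (homOfLE h).op a) := rfl

theorem ofSec_zero {U : X.Opens} : ofSec X (0 : Γ(X, U)) = 0 := rfl

theorem ofSec_injective {U : X.Opens} : Function.Injective (ofSec X (U := U)) := fun _ _ h => h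

/-- the structure module has the localisation property on affine opens -/
theorem locAt_structureModule {U : X.Opens} (hU : IsAffineOpen U) :
    LocAt (Coh.structureModule X) U where
  kill a s hs := by
    have hloc := hU.isLocalization_basicOpen a
    have h1 : algebraMap Γ(X, U) Γ(X, X.basicOpen a) (toSec X s) = 0 := hs
    obtain ⟨⟨_, n, rfl⟩, hn⟩ := (IsLocalization.map_eq_zero_iff (Submonoid.powers a) _ _).mp h1
    exact ⟨n, hn⟩
  ext a t := by
    have hloc := hU.isLocalization_basicOpen a
    obtain ⟨⟨s, ⟨_, n, rfl⟩⟩, hs⟩ := IsLocalization.surj (Submonoid.powers a) (toSec X t)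
    refine ⟨n, ofSec X s, ?_⟩
    have hs' : toSec X t * algebraMap Γ(X, U) Γ(X, X.basicOpen a) (a ^ n) =
        algebraMap Γ(X, U) Γ(X, X.basicOpen a) s := hs
    rw [map_pow, mul_comm] at hs'
    exact hs'.symm

/-- the germ of the unit section -/
noncomputable def oneGerm (x : X) : (Coh.structureModule X).presheaf.stalk x :=
  (Coh.structureModule X).presheaf.germ ⊤ x trivial (ofSec X 1)

theorem germ_ofSec {U : X.Opens} (x : X) (hx : x ∈ U) (a : Γ(X, U)) :
    (Coh.structureModule X).presheaf.germ U x hx (ofSec X a) =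
      X.presheaf.germ U x hx a • oneGerm X x := by
  have h1 : ofSec X a = a • ofSec X (1 : Γ(X, U)) := by rw [smul_ofSec, mul_one]
  rw [h1, germ_smul]
  congr 1
  unfold oneGerm
  rw [← germ_res (Coh.structureModule X) ⊤ U le_top x hx (ofSec X 1), ofSec_res, map_one]

/-- the stalk of the structure module is the local ring, as a module over itself -/
noncomputable def stalkEquiv (x : X) :
    X.presheaf.stalk x ≃ₗ[X.presheaf.stalk x] (Coh.structureModule X).presheaf.stalk x :=
  LinearEquiv.ofBijective
    (LinearMap.toSpanSingleton (X.presheaf.stalk x) _ (oneGerm X x)) (by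
    constructor
    · rw [injective_iff_map_eq_zero]
      intro r hr
      rw [LinearMap.toSpanSingleton_apply] at hr
      obtain ⟨W, hxW, a, rfl⟩ := TopCat.Presheaf.exists_germ_eq X.presheaf (x := x) r
      rw [← germ_ofSec] at hr
      have h0 : (Coh.structureModule X).presheaf.germ W x hxW (ofSec X a) =
          (Coh.structureModule X).presheaf.germ W x hxW 0 := by rw [hr, map_zero]
      obtain ⟨W', hxW', iU, iV, hW'⟩ :=
        TopCat.Presheaf.germ_eq (Coh.structureModule X).presheaf x hxW hxW _ 0 h0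
      rw [map_zero] at hW'
      have h2 : X.presheaf.map (homOfLE iU.le).op a = 0 := ofSec_injective X hW'
      have h3 := TopCat.Presheaf.germ_res_apply X.presheaf (homOfLE iU.le) x hxW' a
      rw [← h3, h2, map_zero]
    · intro m
      obtain ⟨W, hxW, t, rfl⟩ :=
        TopCat.Presheaf.exists_germ_eq (Coh.structureModule X).presheaf (x := x) m
      refine ⟨X.presheaf.germ W x hxW (toSec X t), ?_⟩
      rw [LinearMap.toSpanSingleton_apply, ← germ_ofSec]
      rfl)

/-- associated points of the structure module through the local rings -/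
theorem isAssPoint_structureModule_iff (x : X) :
    Curv2.IsAssPoint (Coh.structureModule X) x ↔
      IsAssociatedPrime (IsLocalRing.maximalIdeal (X.presheaf.stalk x)) (X.presheaf.stalk x) :=
  (LinearEquiv.isAssociatedPrime_iff (stalkEquiv X x)).symm

section spec

variable {X} {U : X.Opens} (hU : IsAffineOpen U)

theorem primeIdealOf_le_of_specializes {x y : X} (hx : x ∈ U) (hy : y ∈ U) (h : y ⤳ x) :
    (hU.primeIdealOf ⟨y, hy⟩).asIdeal ≤ (hU.primeIdealOf ⟨x, hx⟩).asIdeal := by
  intro a ha
  rw [mem_primeIdealOf_iff] at ha ⊢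
  exact fun hxa => ha (h.mem_open (X.basicOpen a).isOpen hxa)

theorem specializes_of_primeIdealOf_le {x y : X} (hx : x ∈ U) (hy : y ∈ U)
    (h : (hU.primeIdealOf ⟨y, hy⟩).asIdeal ≤ (hU.primeIdealOf ⟨x, hx⟩).asIdeal) : y ⤳ x := by
  have h1 : hU.primeIdealOf ⟨y, hy⟩ ≤ hU.primeIdealOf ⟨x, hx⟩ := h
  have h2 := (PrimeSpectrum.le_iff_specializes _ _).mp h1
  have h3 := h2.map hU.fromSpec.base.hom.continuous
  have e1 := hU.fromSpec_primeIdealOf ⟨y, hy⟩
  have e2 := hU.fromSpec_primeIdealOf ⟨x, hx⟩
  simp only at e1 e2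
  rw [← e1, ← e2]
  exact h3

end spec

theorem le_of_minimalPrimes_ann_of_isReduced {A : Type*} [CommRing A] [IsReduced A] (s : A)
    (I : Ideal A) (hI : ∀ a, a ∈ I ↔ a * s = 0) (p : Ideal A) (hp : p ∈ I.minimalPrimes)
    (q : Ideal A) [hq : q.IsPrime] (hqp : q ≤ p) : p ≤ q := by
  have hpp : p.IsPrime := hp.1.1
  have hIp : I ≤ p := hp.1.2
  have key : ∀ t ∈ p, ∃ c, c ∉ p ∧ c * t * s = 0 := by
    intro t ht
    have hrad := IsLocalization.AtPrime.radical_map_of_mem_minimalPrimes
      (A := Localization.AtPrime p) p I hp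
    have h1 : algebraMap A (Localization.AtPrime p) t ∈
        (I.map (algebraMap A (Localization.AtPrime p))).radical := by
      rw [hrad]; exact Ideal.mem_map_of_mem _ ht
    obtain ⟨n, hn⟩ := h1
    rw [← map_pow, IsLocalization.algebraMap_mem_map_algebraMap_iff p.primeCompl] at hn
    obtain ⟨c, hc, hcn⟩ := hn
    refine ⟨c, hc, ?_⟩
    have h2 : c * t ^ n * s = 0 := (hI _).mp hcn
    have h3 : (c * t * s) ^ (n + 1) = 0 := by
      have : (c * t * s) ^ (n + 1) = (c * t ^ n * s) * (c ^ n * t * s ^ n) := by ring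
      rw [this, h2, zero_mul]
    exact IsReduced.eq_zero _ ⟨n + 1, h3⟩
  have hs : s ∉ p := by
    intro hsp
    obtain ⟨c, hc, hcs⟩ := key s hsp
    have h3 : (c * s) ^ 2 = 0 := by
      have : (c * s) ^ 2 = c * (c * s * s) := by ring
      rw [this, hcs, mul_zero]
    have h4 : c * s = 0 := IsReduced.eq_zero _ ⟨2, h3⟩
    exact hc (hIp ((hI c).mpr h4))
  intro t ht
  obtain ⟨c, hc, hcts⟩ := key t ht
  have h5 : c * t * s ∈ q := by rw [hcts]; exact q.zero_mem
  rcases hq.mem_or_mem h5 with h6 | h6
  · rcases hq.mem_or_mem h6 with h7 | h7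
    · exact absurd (hqp h7) hc
    · exact h7
  · exact absurd (hqp h6) hs

end Groth.Agent.Lib.Helper29.QCohLoc
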