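import Groth.Agent.Lib.Helper29.TameN

/-!
# Tame symbols, part O: the laws of the tame symbol
-/

set_option autoImplicit false

namespace Groth.Agent.Lib.Helper29.Tame

universe u

open IsLocalRing CycAlg

section laws

variable {A : Type u} [CommRing A] [IsNoetherianRing A] [IsLocalRing A]

omit [IsNoetherianRing A] in
theorem tameSymbol_ne_zero (a b : A) : tameSymbol A a b ≠ 0 := by
  unfold tameSymbol
  split_ifs with h
  · unfold TameData.value
    apply finprod_ne_zero
    intro q
    rw [localFactor_eq]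
    haveI : Module.Finite A (Classical.choice h).B := (Classical.choice h).isFinExt.2.1
    haveI hloc : ∀ q : MaximalSpectrum (Classical.choice h).B,
      IsLocalHom (algebraMap A (Localization.AtPrime q.asIdeal)) := (Classical.choice h).isLocalHom
    haveI := finite_residueField (A := A) q
    exact Algebra.norm_ne_zero_iff.mpr (pow_ne_zero _ (LocFac.base_ne_zero _))
  · exact one_ne_zero

theorem sum_ord_eq_length (hA : ringKrullDim A = 1) (B : Type u) [CommRing B] [Algebra A B]
    (hB : IsFinExt A B (maximalIdeal A)) [Module.Finite A B]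
    [hloc : ∀ q : MaximalSpectrum B,
      IsLocalHom (algebraMap A (Localization.AtPrime q.asIdeal))]
    (b : A) (hbA : b ∈ nonZeroDivisors A) (hbu : ¬ IsUnit b)
    (hbB : ∀ q : MaximalSpectrum B, algebraMap A (Localization.AtPrime q.asIdeal) b ∈
      nonZeroDivisors (Localization.AtPrime q.asIdeal)) :
    Module.length A (A ⧸ Ideal.span {b}) = ∑ᶠ q : MaximalSpectrum B,
      (Module.finrank (ResidueField A) (ResidueField (Localization.AtPrime q.asIdeal)) : ℕ∞) *
        Ring.ord (Localization.AtPrime q.asIdeal)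
          (algebraMap A (Localization.AtPrime q.asIdeal) b) := by
  haveI : Ring.KrullDimLE 1 A := Ring.krullDimLE_iff.mpr hA.le
  haveI : IsNoetherianRing B := isNoetherianRing_of_finite A
  haveI : Ring.KrullDimLE 1 B := krullDimLE_one_of_finite (A := A)
  have hbB' : algebraMap A B b ∈ nonZeroDivisors B := by
    apply mem_nonZeroDivisors_of_localization
    intro n
    rw [← IsScalarTower.algebraMap_apply]
    exact hbB n
  have hbm : b ∈ maximalIdeal A := (mem_maximalIdeal b).mpr hbu
  obtain ⟨N, hN⟩ := hB.2.2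
  have hcoker : Module.length A (B ⧸ LinearMap.range (Algebra.ofId A B).toLinearMap) < ⊤ := by
    haveI := Groth.Agent.Lib.Helper87.artinian_quot hA (b ^ N) (pow_mem hbA N)
    apply Groth.Agent.Lib.Helper87.length_lt_top_of_smul_eq_zero (b ^ N)
    intro x
    obtain ⟨y, rfl⟩ := Submodule.Quotient.mk_surjective _ x
    rw [← Submodule.Quotient.mk_smul, Submodule.Quotient.mk_eq_zero]
    obtain ⟨a, ha⟩ := RingHom.mem_range.mp (hN (b ^ N) (Ideal.pow_mem_pow hbm N) y)
    exact ⟨a, ha⟩
  have h2 := length_quot_span_eq_of_injective (Algebra.ofId A B) hB.1 hcoker b hbB'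
  have h1 := length_quot_span_eq_sum (A := A) (algebraMap A B b)
    (isFiniteLength_quotient_span_singleton B hbB')
  rw [h2, Algebra.ofId_apply, h1]
  apply finsum_congr
  intro q
  rw [← IsScalarTower.algebraMap_apply]

theorem sum_toNat_eq (hA : ringKrullDim A = 1) (B : Type u) [CommRing B] [Algebra A B]
    (hB : IsFinExt A B (maximalIdeal A)) [Module.Finite A B]
    [hloc : ∀ q : MaximalSpectrum B,
      IsLocalHom (algebraMap A (Localization.AtPrime q.asIdeal))]
    [Fintype (MaximalSpectrum B)]
    (b : A) (hbA : b ∈ nonZeroDivisors A) (hbu : ¬ IsUnit b)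
    (hbB : ∀ q : MaximalSpectrum B, algebraMap A (Localization.AtPrime q.asIdeal) b ∈
      nonZeroDivisors (Localization.AtPrime q.asIdeal)) :
    ∑ q : MaximalSpectrum B,
      Module.finrank (ResidueField A) (ResidueField (Localization.AtPrime q.asIdeal)) *
        (Ring.ord (Localization.AtPrime q.asIdeal)
          (algebraMap A (Localization.AtPrime q.asIdeal) b)).toNat =
      (Module.length A (A ⧸ Ideal.span {b})).toNat := by
  haveI : Ring.KrullDimLE 1 A := Ring.krullDimLE_iff.mpr hA.le
  rw [sum_ord_eq_length hA B hB b hbA hbu hbB, finsum_eq_sum_of_fintype]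
  have : ∀ q : MaximalSpectrum B,
      (Module.finrank (ResidueField A) (ResidueField (Localization.AtPrime q.asIdeal)) : ℕ∞) *
        Ring.ord (Localization.AtPrime q.asIdeal)
          (algebraMap A (Localization.AtPrime q.asIdeal) b) =
      ((Module.finrank (ResidueField A) (ResidueField (Localization.AtPrime q.asIdeal)) *
        (Ring.ord (Localization.AtPrime q.asIdeal)
          (algebraMap A (Localization.AtPrime q.asIdeal) b)).toNat : ℕ) : ℕ∞) := by
    intro q
    obtain ⟨hN, hK⟩ := instances_localization' A q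
    push_cast
    rw [ENat.coe_toNat (Ring.ord_ne_top (hbB q))]
  rw [Finset.sum_congr rfl (fun q _ => this q), ← Nat.cast_sum, ENat.toNat_coe]

/-- the symbol as a power of an element of the residue field -/
theorem tameSymbol_eq_pow (hA : ringKrullDim A = 1) {a₁ b : A} (h₁ : a₁ ∈ nonZeroDivisors A)
    (hb : b ∈ nonZeroDivisors A) (hbu : ¬ IsUnit b)
    (B : Type u) [CommRing B] [Algebra A B] (hB : IsFinExt A B (maximalIdeal A))
    [Module.Finite A B]
    [hloc : ∀ q : MaximalSpectrum B,
      IsLocalHom (algebraMap A (Localization.AtPrime q.asIdeal))]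
    (F : ∀ q : MaximalSpectrum B, LocFac (Localization.AtPrime q.asIdeal)
      (algebraMap A _ a₁) (algebraMap A _ b)) (x : ResidueField A)
    (hF : ∀ q, (F q).sym = (algebraMap (ResidueField A)
      (ResidueField (Localization.AtPrime q.asIdeal)) x) ^
        (Ring.ord (Localization.AtPrime q.asIdeal)
          (algebraMap A (Localization.AtPrime q.asIdeal) b)).toNat) :
    tameSymbol A a₁ b = x ^ (Module.length A (A ⧸ Ideal.span {b})).toNat := by
  classical
  haveI := finite_maximalSpectrum A (R := B)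
  letI := Fintype.ofFinite (MaximalSpectrum B)
  rw [tameSymbol_eq_finprod hA h₁ hb B hB F, finprod_eq_prod_of_fintype,
    ← sum_toNat_eq hA B hB b hb hbu (fun q => (F q).c₂_mem), ← Finset.prod_pow_eq_pow_sum]
  apply Finset.prod_congr rfl
  intro q _
  rw [hF q, ← map_pow, Algebra.norm_algebraMap, ← pow_mul, mul_comm]

omit [IsNoetherianRing A] in
theorem length_quot_eq_zero_of_isUnit {b : A} (hu : IsUnit b) :
    Module.length A (A ⧸ Ideal.span {b}) = 0 := Ring.ord_of_isUnit hu

theorem tameSymbol_self (hA : ringKrullDim A = 1) {b : A} (hb : b ∈ nonZeroDivisors A) :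
    tameSymbol A b b = (-1) ^ (Module.length A (A ⧸ Ideal.span {b})).toNat := by
  by_cases hu : IsUnit b
  · rw [tameSymbol_eq_one_of_isUnit hu hu, length_quot_eq_zero_of_isUnit hu]
    simp
  · obtain ⟨B, _, _, hB, π, hπ, hM⟩ := exists_common hA b b b hb hb hb (fun h => hu h.1)
    haveI : Module.Finite A B := hB.2.1
    haveI hloc : ∀ q : MaximalSpectrum B,
      IsLocalHom (algebraMap A (Localization.AtPrime q.asIdeal)) := fun q => isLocalHom_of_finite q
    have Mb := fun q => (hM q).1.some
    apply tameSymbol_eq_pow hA hb hb hu B hB (fun q => Mono.toLocFac (hπ q) (Mb q) (Mb q))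
    intro q
    haveI : Ring.KrullDimLE 1 A := Ring.krullDimLE_iff.mpr hA.le
    obtain ⟨hN, hK⟩ := instances_localization' A q
    rw [Mono.sym_self, map_neg, map_one,
      LocFac.toNat_ord_c₂ (Mono.toLocFac (hπ q) (Mb q) (Mb q))]
    rfl

theorem tameSymbol_unit_left (hA : ringKrullDim A = 1) (c : Aˣ) {b : A}
    (hb : b ∈ nonZeroDivisors A) :
    tameSymbol A (c : A) b = residue A (c : A) ^ (Module.length A (A ⧸ Ideal.span {b})).toNat := by
  by_cases hu : IsUnit b
  · rw [tameSymbol_eq_one_of_isUnit c.isUnit hu, length_quot_eq_zero_of_isUnit hu]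
    simp
  · obtain ⟨B, _, _, hB, π, hπ, hM⟩ := exists_common hA b b b hb hb hb (fun h => hu h.1)
    haveI : Module.Finite A B := hB.2.1
    haveI hloc : ∀ q : MaximalSpectrum B,
      IsLocalHom (algebraMap A (Localization.AtPrime q.asIdeal)) := fun q => isLocalHom_of_finite q
    have Mb := fun q => (hM q).1.some
    apply tameSymbol_eq_pow hA (IsUnit.mem_nonZeroDivisors c.isUnit) hb hu B hB
      (fun q => Mono.toLocFac (hπ q)
        ((Mono.ofUnit (π q) (Units.map (algebraMap A (Localization.AtPrime q.asIdeal)).toMonoidHom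
          c)).cast rfl) (Mb q))
    intro q
    haveI : Ring.KrullDimLE 1 A := Ring.krullDimLE_iff.mpr hA.le
    obtain ⟨hN, hK⟩ := instances_localization' A q
    rw [LocFac.toNat_ord_c₂ (Mono.toLocFac (hπ q)
        ((Mono.ofUnit (π q) (Units.map (algebraMap A (Localization.AtPrime q.asIdeal)).toMonoidHom
          c)).cast rfl) (Mb q))]
    exact Mono.sym_unit_left (hπ q) _ (Mb q)

theorem tameSymbol_mul_left (hA : ringKrullDim A = 1) {a a' b : A} (ha : a ∈ nonZeroDivisors A)
    (ha' : a' ∈ nonZeroDivisors A) (hb : b ∈ nonZeroDivisors A) :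
    tameSymbol A (a * a') b = tameSymbol A a b * tameSymbol A a' b := by
  by_cases hu : IsUnit a ∧ IsUnit a' ∧ IsUnit b
  · rw [tameSymbol_eq_one_of_isUnit (hu.1.mul hu.2.1) hu.2.2,
      tameSymbol_eq_one_of_isUnit hu.1 hu.2.2, tameSymbol_eq_one_of_isUnit hu.2.1 hu.2.2, one_mul]
  · obtain ⟨B, _, _, hB, π, hπ, hM⟩ := exists_common hA a a' b ha ha' hb hu
    haveI : Module.Finite A B := hB.2.1
    haveI hloc : ∀ q : MaximalSpectrum B,
      IsLocalHom (algebraMap A (Localization.AtPrime q.asIdeal)) := fun q => isLocalHom_of_finite q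
    haveI := finite_maximalSpectrum A (R := B)
    have Ma := fun q => (hM q).1.some
    have Ma' := fun q => (hM q).2.1.some
    have Mb := fun q => (hM q).2.2.some
    rw [tameSymbol_eq_finprod hA (mul_mem ha ha') hb B hB
        (fun q => Mono.toLocFac (hπ q) (((Ma q).mul (Ma' q)).cast (map_mul _ _ _).symm) (Mb q)),
      tameSymbol_eq_finprod hA ha hb B hB (fun q => Mono.toLocFac (hπ q) (Ma q) (Mb q)),
      tameSymbol_eq_finprod hA ha' hb B hB (fun q => Mono.toLocFac (hπ q) (Ma' q) (Mb q)),
      ← finprod_mul_distrib (Set.toFinite _) (Set.toFinite _)]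
    apply finprod_congr
    intro q
    refine Eq.trans ?_ (map_mul (Algebra.norm (ResidueField A)) _ _)
    congr 1
    exact Mono.sym_mul_left (hπ q) (Ma q) (Ma' q) (Mb q)

theorem tameSymbol_mul_right (hA : ringKrullDim A = 1) {a a' b : A} (ha : a ∈ nonZeroDivisors A)
    (ha' : a' ∈ nonZeroDivisors A) (hb : b ∈ nonZeroDivisors A) :
    tameSymbol A b (a * a') = tameSymbol A b a * tameSymbol A b a' := by
  by_cases hu : IsUnit a ∧ IsUnit a' ∧ IsUnit b
  · rw [tameSymbol_eq_one_of_isUnit hu.2.2 (hu.1.mul hu.2.1),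
      tameSymbol_eq_one_of_isUnit hu.2.2 hu.1, tameSymbol_eq_one_of_isUnit hu.2.2 hu.2.1, one_mul]
  · obtain ⟨B, _, _, hB, π, hπ, hM⟩ := exists_common hA a a' b ha ha' hb hu
    haveI : Module.Finite A B := hB.2.1
    haveI hloc : ∀ q : MaximalSpectrum B,
      IsLocalHom (algebraMap A (Localization.AtPrime q.asIdeal)) := fun q => isLocalHom_of_finite q
    haveI := finite_maximalSpectrum A (R := B)
    have Ma := fun q => (hM q).1.some
    have Ma' := fun q => (hM q).2.1.some
    have Mb := fun q => (hM q).2.2.some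
    rw [tameSymbol_eq_finprod hA hb (mul_mem ha ha') B hB
        (fun q => Mono.toLocFac (hπ q) (Mb q) (((Ma q).mul (Ma' q)).cast (map_mul _ _ _).symm)),
      tameSymbol_eq_finprod hA hb ha B hB (fun q => Mono.toLocFac (hπ q) (Mb q) (Ma q)),
      tameSymbol_eq_finprod hA hb ha' B hB (fun q => Mono.toLocFac (hπ q) (Mb q) (Ma' q)),
      ← finprod_mul_distrib (Set.toFinite _) (Set.toFinite _)]
    apply finprod_congr
    intro q
    refine Eq.trans ?_ (map_mul (Algebra.norm (ResidueField A)) _ _)
    congr 1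
    exact Mono.sym_mul_right (hπ q) (Ma q) (Ma' q) (Mb q)

theorem tameSymbol_steinberg (hA : ringKrullDim A = 1) {a b : A} (ha : a ∈ nonZeroDivisors A)
    (hb : b ∈ nonZeroDivisors A) (hc : b - a ∈ nonZeroDivisors A) :
    tameSymbol A a (b - a) * tameSymbol A b b = tameSymbol A b (b - a) * tameSymbol A a b := by
  by_cases hu : IsUnit a ∧ IsUnit b ∧ IsUnit (b - a)
  · rw [tameSymbol_eq_one_of_isUnit hu.1 hu.2.2, tameSymbol_eq_one_of_isUnit hu.2.1 hu.2.1,
      tameSymbol_eq_one_of_isUnit hu.2.1 hu.2.2, tameSymbol_eq_one_of_isUnit hu.1 hu.2.1]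
  · obtain ⟨B, _, _, hB, π, hπ, hM⟩ := exists_common hA a b (b - a) ha hb hc hu
    haveI : Module.Finite A B := hB.2.1
    haveI hloc : ∀ q : MaximalSpectrum B,
      IsLocalHom (algebraMap A (Localization.AtPrime q.asIdeal)) := fun q => isLocalHom_of_finite q
    haveI := finite_maximalSpectrum A (R := B)
    have Ma := fun q => (hM q).1.some
    have Mb := fun q => (hM q).2.1.some
    have Mc := fun q => (hM q).2.2.some
    rw [tameSymbol_eq_finprod hA ha hc B hB (fun q => Mono.toLocFac (hπ q) (Ma q) (Mc q)),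
      tameSymbol_eq_finprod hA hb hb B hB (fun q => Mono.toLocFac (hπ q) (Mb q) (Mb q)),
      tameSymbol_eq_finprod hA hb hc B hB (fun q => Mono.toLocFac (hπ q) (Mb q) (Mc q)),
      tameSymbol_eq_finprod hA ha hb B hB (fun q => Mono.toLocFac (hπ q) (Ma q) (Mb q)),
      ← finprod_mul_distrib (Set.toFinite _) (Set.toFinite _),
      ← finprod_mul_distrib (Set.toFinite _) (Set.toFinite _)]
    apply finprod_congr
    intro q
    refine Eq.trans (map_mul (Algebra.norm (ResidueField A)) _ _).symm
      (Eq.trans ?_ (map_mul (Algebra.norm (ResidueField A)) _ _))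
    congr 1
    exact Mono.sym_steinberg (hπ q) (Ma q) (Mb q) ((Mc q).cast (map_sub _ _ _))

end laws

end Groth.Agent.Lib.Helper29.Tame
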