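import Groth.Agent.Lib.Helper29.QCohAssMore
import Groth.Agent.Lib.Helper29.QCohUnit
import Mathlib.AlgebraicGeometry.Noetherian
import Mathlib.RingTheory.Ideal.AssociatedPrime.Finiteness

/-!
Associated points of modules with the localisation property on affine opens of a locally
Noetherian scheme, through annihilators of sections over affine opens.
-/

set_option autoImplicit false
universe u

namespace Groth.Agent.Lib.Helper29.QCohLoc

open AlgebraicGeometry CategoryTheory CategoryTheory.Limits Opposite TopologicalSpace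

variable {X : Scheme.{u}} (F : X.Modules) {U : X.Opens} (hU : IsAffineOpen U) (hF : LocAt F U)

include hU hF in
/-- a point whose prime is the annihilator of a section is an associated point -/
theorem isAssPoint_of_ann_eq (x : X) (hx : x ∈ U) (s : Γ(F, U))
    (h : ann F s = (hU.primeIdealOf ⟨x, hx⟩).asIdeal) : Curv2.IsAssPoint F x := by
  rw [isAssPoint_iff_isWeakAssPoint]
  refine (isWeakAssPoint_iff F hU hF x hx).mpr ⟨s, ?_⟩
  rw [h, Ideal.minimalPrimes_eq_subsingleton_self]
  rfl

include hU hF in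
/-- below any prime containing the annihilator of a section there is the prime of an associated
point which still contains this annihilator -/
theorem exists_isAssPoint_le (s : Γ(F, U)) (q : Ideal Γ(X, U)) [q.IsPrime] (hq : ann F s ≤ q) :
    ∃ (y : X) (hy : y ∈ U), Curv2.IsAssPoint F y ∧ ann F s ≤ (hU.primeIdealOf ⟨y, hy⟩).asIdeal ∧
      (hU.primeIdealOf ⟨y, hy⟩).asIdeal ≤ q := by
  obtain ⟨p, hp, hpq⟩ := Ideal.exists_minimalPrimes_le (J := q) hq
  have hpp : p.IsPrime := hp.1.1
  obtain ⟨y, hy, hyp⟩ := exists_point_of_prime hU p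
  refine ⟨y, hy, ?_, hyp ▸ hp.1.2, hyp ▸ hpq⟩
  rw [isAssPoint_iff_isWeakAssPoint]
  exact (isWeakAssPoint_iff F hU hF y hy).mpr ⟨s, hyp ▸ hp⟩

include hU hF in
/-- a nonzero germ at `x` gives an associated point generising `x` -/
theorem exists_isAssPoint_specializes (x : X) (hx : x ∈ U) (s : Γ(F, U))
    (hs : F.presheaf.germ U x hx s ≠ 0) :
    ∃ (y : X) (hy : y ∈ U), Curv2.IsAssPoint F y ∧ y ⤳ x ∧ F.presheaf.germ U y hy s ≠ 0 := by
  have hle : ann F s ≤ (hU.primeIdealOf ⟨x, hx⟩).asIdeal := by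
    intro a ha
    rw [mem_primeIdealOf_iff]
    intro hxa
    exact hs ((germ_eq_zero_iff F hU hF x hx s).mpr ⟨a, hxa, (mem_ann F s a).mp ha⟩)
  obtain ⟨y, hy, hy1, hy2, hy3⟩ := exists_isAssPoint_le F hU hF s _ hle
  exact ⟨y, hy, hy1, specializes_of_primeIdealOf_le hU hx hy hy3,
    germ_ne_zero_of_ann_le F hU hF y hy s hy2⟩

include hU hF in
/-- on a locally Noetherian scheme, an associated point in an affine open is the point of the
annihilator of a section -/
theorem exists_section_ann_eq [IsLocallyNoetherian X] (x : X) (hx : x ∈ U)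
    (h : Curv2.IsAssPoint F x) :
    ∃ s : Γ(F, U), ann F s = (hU.primeIdealOf ⟨x, hx⟩).asIdeal := by
  have : IsNoetherianRing Γ(X, U) := IsLocallyNoetherian.component_noetherian ⟨U, hU⟩
  have h' : IsAssociatedPrime (IsLocalRing.maximalIdeal (X.presheaf.stalk x))
      (F.presheaf.stalk x) := h
  rw [isAssociatedPrime_iff] at h'
  obtain ⟨-, m, hm⟩ := h'
  have hm0 : m ≠ 0 := by
    rintro rfl
    have : (1 : X.presheaf.stalk x) ∈ IsLocalRing.maximalIdeal (X.presheaf.stalk x) := by
      rw [hm, Submodule.mem_colon_singleton]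
      simp
    exact (Ideal.ne_top_iff_one _).mp (IsLocalRing.maximalIdeal.isMaximal _).ne_top this
  obtain ⟨a, s0, ha, hs0⟩ := exists_germ_eq_smul F hU hF x hx m
  have hau : IsUnit (X.presheaf.germ U x hx a) := (Scheme.mem_basicOpen X a x hx).mp ha
  have hs0ne : F.presheaf.germ U x hx s0 ≠ 0 := by
    rw [hs0]
    intro h0
    exact hm0 (hau.smul_eq_zero.mp h0)
  -- each element of the prime kills `s0` after multiplication by something invertible at `x`
  have hkill : ∀ g ∈ (hU.primeIdealOf ⟨x, hx⟩).asIdeal,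
      ∃ b : Γ(X, U), x ∈ X.basicOpen b ∧ b • g • s0 = 0 := by
    intro g hg
    apply (germ_eq_zero_iff F hU hF x hx (g • s0)).mp
    rw [germ_smul, hs0, smul_comm]
    have hgm : X.presheaf.germ U x hx g ∈ IsLocalRing.maximalIdeal (X.presheaf.stalk x) := by
      rw [mem_primeIdealOf_iff, Scheme.mem_basicOpen X g x hx] at hg
      exact hg
    rw [hm, Submodule.mem_colon_singleton] at hgm
    have : X.presheaf.germ U x hx g • m = 0 := by simpa using hgm
    rw [this, smul_zero]
  obtain ⟨T, hT⟩ := (isNoetherianRing_iff_ideal_fg Γ(X, U)).mp inferInstance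
    (hU.primeIdealOf ⟨x, hx⟩).asIdeal
  have hTmem : ∀ g ∈ T, g ∈ (hU.primeIdealOf ⟨x, hx⟩).asIdeal := fun g hg => by
    rw [← hT]; exact Ideal.subset_span hg
  classical
  choose! b hb1 hb2 using hkill
  set B : Γ(X, U) := ∏ g ∈ T, b g with hB
  have hBx : x ∈ X.basicOpen B := by
    by_contra hcon
    have h1 : B ∈ (hU.primeIdealOf ⟨x, hx⟩).asIdeal := (mem_primeIdealOf_iff hU x hx B).mpr hcon
    rw [hB, Ideal.IsPrime.prod_mem_iff] at h1
    obtain ⟨g, hgT, hg⟩ := h1
    exact (mem_primeIdealOf_iff hU x hx (b g)).mp hg (hb1 g (hTmem g hgT))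
  have hBu : IsUnit (X.presheaf.germ U x hx B) := (Scheme.mem_basicOpen X B x hx).mp hBx
  refine ⟨B • s0, le_antisymm ?_ ?_⟩
  · intro c hc
    rw [mem_primeIdealOf_iff]
    intro hxc
    apply hs0ne
    have h1 : F.presheaf.germ U x hx (c • B • s0) = 0 := by
      rw [(mem_ann F _ c).mp hc, map_zero]
    rw [germ_smul, germ_smul] at h1
    have hcu : IsUnit (X.presheaf.germ U x hx c) := (Scheme.mem_basicOpen X c x hx).mp hxc
    exact hBu.smul_eq_zero.mp (hcu.smul_eq_zero.mp h1)
  · rw [← hT, Ideal.span_le]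
    intro g hgT
    change g ∈ ann F (B • s0)
    rw [mem_ann]
    obtain ⟨c, hc⟩ : b g ∣ B := Finset.dvd_prod_of_mem b hgT
    rw [hc, ← mul_smul]
    have e : g * (b g * c) = c * (b g * g) := by ring
    rw [e, mul_smul, mul_smul, hb2 g (hTmem g hgT), smul_zero]

include hU hF in
/-- on a locally Noetherian scheme the associated points in an affine open are the points of the
annihilators of sections -/
theorem isAssPoint_iff_exists_ann_eq [IsLocallyNoetherian X] (x : X) (hx : x ∈ U) :
    Curv2.IsAssPoint F x ↔ ∃ s : Γ(F, U), ann F s = (hU.primeIdealOf ⟨x, hx⟩).asIdeal :=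
  ⟨exists_section_ann_eq F hU hF x hx, fun ⟨s, hs⟩ => isAssPoint_of_ann_eq F hU hF x hx s hs⟩

end Groth.Agent.Lib.Helper29.QCohLoc
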