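import Groth.Agent.Lib.Helper29.QCohLoc

set_option autoImplicit false
universe u

namespace Groth.Agent.Lib.Helper29.QCohLoc

open AlgebraicGeometry CategoryTheory Opposite TopologicalSpace

variable {X S : Scheme.{u}}

theorem LocAt.kill' {F : X.Modules} {U : X.Opens} (hF : LocAt F U) (a : Γ(X, U)) (W : X.Opens)
    (hW : W = X.basicOpen a) (hle : W ≤ U) (s : Γ(F, U))
    (hs : F.presheaf.map (homOfLE hle).op s = 0) : ∃ n : ℕ, a ^ n • s = 0 := by
  subst hW
  exact hF.kill a s hs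

theorem LocAt.ext' {F : X.Modules} {U : X.Opens} (hF : LocAt F U) (a : Γ(X, U)) (W : X.Opens)
    (hW : W = X.basicOpen a) (hle : W ≤ U) (t : Γ(F, W)) :
    ∃ (n : ℕ) (s : Γ(F, U)), F.presheaf.map (homOfLE hle).op s =
      (X.presheaf.map (homOfLE hle).op a) ^ n • t := by
  subst hW
  exact hF.ext a t

/-- scalar multiplication on sections of a pushforward -/
theorem pushforward_smul (f : X ⟶ S) (F : X.Modules) (V : S.Opens) (a : Γ(S, V))
    (t : Γ((Scheme.Modules.pushforward f).obj F, V)) :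
    a • t = ((f.app V).hom a • (show Γ(F, f ⁻¹ᵁ V) from t) : Γ(F, f ⁻¹ᵁ V)) := rfl

/-- the localisation property passes to pushforwards -/
theorem LocAt.pushforward (f : X ⟶ S) (F : X.Modules) (V : S.Opens) (hF : LocAt F (f ⁻¹ᵁ V)) :
    LocAt ((Scheme.Modules.pushforward f).obj F) V where
  kill a t ht := by
    obtain ⟨n, hn⟩ := hF.kill' ((f.app V).hom a) (f ⁻¹ᵁ (S.basicOpen a))
      (Scheme.preimage_basicOpen f a) ((Opens.map f.base).map (homOfLE (S.basicOpen_le a))).le t ht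
    refine ⟨n, ?_⟩
    rw [pushforward_smul, map_pow]
    exact hn
  ext a t := by
    obtain ⟨n, s, hs⟩ := hF.ext' ((f.app V).hom a) (f ⁻¹ᵁ (S.basicOpen a))
      (Scheme.preimage_basicOpen f a) ((Opens.map f.base).map (homOfLE (S.basicOpen_le a))).le t
    refine ⟨n, s, ?_⟩
    rw [pushforward_smul, map_pow]
    refine hs.trans ?_
    congr 2
    have := congrArg (fun g => g.hom a) (f.naturality (homOfLE (S.basicOpen_le a)).op)
    exact this.symm

theorem ann_pushforward (f : X ⟶ S) (F : X.Modules) (V : S.Opens)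
    (t : Γ((Scheme.Modules.pushforward f).obj F, V)) :
    ann ((Scheme.Modules.pushforward f).obj F) t =
      (ann F (show Γ(F, f ⁻¹ᵁ V) from t)).comap (f.app V).hom := by
  ext a
  rw [mem_ann, Ideal.mem_comap, mem_ann, pushforward_smul]
  exact Iff.rfl

theorem primeIdealOf_injective {U : X.Opens} (hU : IsAffineOpen U) {x y : X} (hx : x ∈ U)
    (hy : y ∈ U) (h : hU.primeIdealOf ⟨x, hx⟩ = hU.primeIdealOf ⟨y, hy⟩) : x = y := by
  have e1 := hU.fromSpec_primeIdealOf ⟨x, hx⟩
  have e2 := hU.fromSpec_primeIdealOf ⟨y, hy⟩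
  rw [h] at e1
  exact e1.symm.trans e2

/-- weakly associated points of the pushforward along an affine morphism come from weakly
associated points upstairs -/
theorem exists_isWeakAssPoint_of_pushforward (f : X ⟶ S) [IsAffineHom f] (F : X.Modules)
    [F.IsQuasicoherent] (s : S)
    (hs : Curv2.IsWeakAssPoint ((Scheme.Modules.pushforward f).obj F) s) :
    ∃ x : X, f.base x = s ∧ Curv2.IsWeakAssPoint F x := by
  obtain ⟨V, hV, hsV, -⟩ := exists_isAffineOpen_mem_and_subset (X := S) (x := s) (U := ⊤) trivial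
  have hW : IsAffineOpen (f ⁻¹ᵁ V) := hV.preimage f
  have hFW := LocAt.of_isQuasicoherent F hW
  have hG := LocAt.pushforward f F V hFW
  obtain ⟨t, ht⟩ := (isWeakAssPoint_iff _ hV hG s hsV).mp hs
  rw [ann_pushforward] at ht
  obtain ⟨p', hp', hcomap⟩ := Ideal.exists_minimalPrimes_comap_eq (f.app V).hom _ ht
  have hp'prime : p'.IsPrime := hp'.1.1
  obtain ⟨x, hx, hxp⟩ := exists_point_of_prime hW p'
  refine ⟨x, ?_, (isWeakAssPoint_iff F hW hFW x hx).mpr ⟨t, hxp ▸ hp'⟩⟩
  have h1 := IsAffineOpen.comap_primeIdealOf_appLE (f := f) V hV (f ⁻¹ᵁ V) hW le_rfl hx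
  rw [Scheme.Hom.appLE_eq_app] at h1
  apply primeIdealOf_injective hV (x := f.base x) (y := s) hx hsV
  rw [← h1]
  apply PrimeSpectrum.ext
  change (hW.primeIdealOf ⟨x, hx⟩).asIdeal.comap (f.app V).hom = _
  rw [hxp, hcomap]

theorem ann_eq_colon (F : X.Modules) {U : X.Opens} (t : Γ(F, U)) :
    ann F t = (⊥ : Submodule Γ(X, U) Γ(F, U)).colon {t} := by
  ext r
  rw [mem_ann, Submodule.mem_colon_singleton, Submodule.mem_bot]

/-- on a locally Noetherian scheme the image of a weakly associated point under an affine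
morphism is weakly associated to the pushforward -/
theorem isWeakAssPoint_pushforward_of_isLocallyNoetherian (f : X ⟶ S) [IsAffineHom f]
    [IsLocallyNoetherian X] (F : X.Modules) [F.IsQuasicoherent] (x : X)
    (hx : Curv2.IsWeakAssPoint F x) :
    Curv2.IsWeakAssPoint ((Scheme.Modules.pushforward f).obj F) (f.base x) := by
  obtain ⟨V, hV, hsV, -⟩ :=
    exists_isAffineOpen_mem_and_subset (X := S) (x := f.base x) (U := ⊤) trivial
  have hW : IsAffineOpen (f ⁻¹ᵁ V) := hV.preimage f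
  have hxW : x ∈ f ⁻¹ᵁ V := hsV
  have hFW := LocAt.of_isQuasicoherent F hW
  have hG := LocAt.pushforward f F V hFW
  have hnoeth : IsNoetherianRing Γ(X, f ⁻¹ᵁ V) :=
    IsLocallyNoetherian.component_noetherian ⟨f ⁻¹ᵁ V, hW⟩
  obtain ⟨t, ht⟩ := (isWeakAssPoint_iff F hW hFW x hxW).mp hx
  rw [ann_eq_colon] at ht
  obtain ⟨t', ht'⟩ := Submodule.exists_eq_colon_of_mem_minimalPrimes ht
  rw [← ann_eq_colon] at ht'
  rw [isWeakAssPoint_iff _ hV hG (f.base x) hsV]
  refine ⟨(show Γ((Scheme.Modules.pushforward f).obj F, V) from t'), ?_⟩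
  rw [ann_pushforward]
  have h1 := IsAffineOpen.comap_primeIdealOf_appLE (f := f) V hV (f ⁻¹ᵁ V) hW le_rfl hxW
  rw [Scheme.Hom.appLE_eq_app] at h1
  have h2 : (hV.primeIdealOf ⟨f.base x, hsV⟩).asIdeal =
      (ann F (show Γ(F, f ⁻¹ᵁ V) from t')).comap (f.app V).hom := by
    rw [← h1, ← ht']
    rfl
  rw [← h2, Ideal.minimalPrimes_eq_subsingleton_self]
  rfl

end Groth.Agent.Lib.Helper29.QCohLoc
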