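import Groth.Prelude.Def_CurvBase
import Mathlib.AlgebraicGeometry.Modules.Tilde

/-!
Sections of a quasi-coherent module over an affine open: restriction to a basic open is
a localisation (elementwise form), and consequences for germs.
-/

set_option autoImplicit false
universe u

namespace Groth.Agent.Lib.Helper29.QCohLoc

open AlgebraicGeometry CategoryTheory Opposite TopologicalSpace

set_option backward.isDefEq.respectTransparency.types false

theorem res_res {X : Scheme.{u}} (F : X.Modules) {U V W : X.Opens} (h1 : V ≤ U) (h2 : W ≤ V)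
    (s : Γ(F, U)) :
    F.presheaf.map (homOfLE h2).op (F.presheaf.map (homOfLE h1).op s) =
      F.presheaf.map (homOfLE (h2.trans h1)).op s := by
  rw [← ConcreteCategory.comp_apply, ← Functor.map_comp]
  rfl

theorem res_resX {X : Scheme.{u}} {U V W : X.Opens} (h1 : V ≤ U) (h2 : W ≤ V)
    (s : Γ(X, U)) :
    X.presheaf.map (homOfLE h2).op (X.presheaf.map (homOfLE h1).op s) =
      X.presheaf.map (homOfLE (h2.trans h1)).op s := by
  rw [← ConcreteCategory.comp_apply, ← Functor.map_comp]
  rfl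

theorem res_smul {X : Scheme.{u}} (F : X.Modules) {U V : X.Opens} (h : V ≤ U)
    (r : Γ(X, U)) (s : Γ(F, U)) :
    F.presheaf.map (homOfLE h).op (r • s) =
      X.presheaf.map (homOfLE h).op r • F.presheaf.map (homOfLE h).op s :=
  Scheme.Modules.map_smul F (homOfLE h) r s

/-- inner form: chart `j`, element `g` of the ring, target open `W = j(D(g))` -/
theorem loc_inner {X : Scheme.{u}} {R : CommRingCat.{u}} (j : Spec R ⟶ X) [IsOpenImmersion j]
    (F : X.Modules) [F.IsQuasicoherent] (g : R) (W : X.Opens)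
    (hW : j ''ᵁ (PrimeSpectrum.basicOpen g) = W) (hWle : W ≤ j ''ᵁ ⊤) :
    (∀ s : Γ(F, j ''ᵁ ⊤), F.presheaf.map (homOfLE hWle).op s = 0 →
      ∃ n : ℕ, ((j.appIso ⊤).inv ((Scheme.ΓSpecIso R).inv g)) ^ n • s = 0) ∧
    (∀ t : Γ(F, W), ∃ (n : ℕ) (s : Γ(F, j ''ᵁ ⊤)),
      F.presheaf.map (homOfLE hWle).op s =
        (X.presheaf.map (homOfLE hWle).op ((j.appIso ⊤).inv ((Scheme.ΓSpecIso R).inv g))) ^ n
          • t) := by
  subst hW
  let M := F.restrict j
  have hM : M.IsQuasicoherent := inferInstance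
  have hloc := (isIso_fromTildeΓ_iff_isLocalizing M).mp inferInstance
  let D : (Spec R).Opens := PrimeSpectrum.basicOpen g
  have hg : IsLocalizedModule (.powers g) ((modulesSpecToSheaf.obj M).obj.map (D.leTop).op).hom :=
    hloc g
  refine ⟨?_, ?_⟩
  · intro x hx
    let x' : Γ(M, ⊤) := x
    have hx' : ((modulesSpecToSheaf.obj M).obj.map (D.leTop).op).hom x' = 0 := hx
    obtain ⟨⟨_, n, rfl⟩, hn⟩ := (IsLocalizedModule.eq_zero_iff (.powers g) _).mp hx'
    refine ⟨n, ?_⟩
    have hn' : g ^ n • x' = 0 := hn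
    have h5 : (((j.appIso ⊤).inv ((Scheme.ΓSpecIso R).inv g)) ^ n • x : Γ(F, j ''ᵁ ⊤)) =
        (g ^ n • x' : Γ(M, ⊤)) := by
      rw [← map_pow, ← map_pow]
      rfl
    exact h5.trans hn'
  · intro y
    let y' : Γ(M, D) := y
    obtain ⟨⟨x, ⟨_, n, rfl⟩⟩, hxy⟩ := IsLocalizedModule.surj (.powers g)
      ((modulesSpecToSheaf.obj M).obj.map (D.leTop).op).hom y'
    refine ⟨n, x, ?_⟩
    have hxy' : g ^ n • y' = ((modulesSpecToSheaf.obj M).obj.map (D.leTop).op).hom x := hxy
    have keyD : X.presheaf.map (homOfLE hWle).op ((j.appIso ⊤).inv ((Scheme.ΓSpecIso R).inv g)) =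
        (j.appIso D).inv ((Spec R).presheaf.map D.leTop.op ((Scheme.ΓSpecIso R).inv g)) := by
      have h6 := congr($(j.appIso_inv_naturality (D.leTop).op) ((Scheme.ΓSpecIso R).inv g))
      rw [ConcreteCategory.comp_apply, ConcreteCategory.comp_apply] at h6
      rw [h6]
      rfl
    rw [keyD]
    have h7 : (((j.appIso D).inv ((Spec R).presheaf.map D.leTop.op ((Scheme.ΓSpecIso R).inv g))) ^ n
        • y : Γ(F, j ''ᵁ D)) = (g ^ n • y' : Γ(M, D)) := by
      rw [← map_pow, ← map_pow, ← map_pow]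
      rfl
    rw [h7, hxy']
    rfl

/-- chart form: `U` is the image of an affine chart -/
theorem loc_chart {X : Scheme.{u}} {R : CommRingCat.{u}} (j : Spec R ⟶ X) [IsOpenImmersion j]
    (F : X.Modules) [F.IsQuasicoherent] (U : X.Opens) (e : j ''ᵁ ⊤ = U) (a : Γ(X, U)) :
    (∀ s : Γ(F, U), F.presheaf.map (homOfLE (X.basicOpen_le a)).op s = 0 →
      ∃ n : ℕ, a ^ n • s = 0) ∧
    (∀ t : Γ(F, X.basicOpen a), ∃ (n : ℕ) (s : Γ(F, U)),
        F.presheaf.map (homOfLE (X.basicOpen_le a)).op s =
          (X.presheaf.map (homOfLE (X.basicOpen_le a)).op a) ^ n • t) := by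
  subst e
  let g : R := (Scheme.ΓSpecIso R).hom ((j.appIso ⊤).hom a)
  have hga : (j.appIso ⊤).inv ((Scheme.ΓSpecIso R).inv g) = a := by simp [g]
  have hW : j ''ᵁ (PrimeSpectrum.basicOpen g) = X.basicOpen a := by
    rw [← hga, ← Scheme.image_basicOpen, basicOpen_eq_of_affine]
  have := loc_inner j F g (X.basicOpen a) hW (X.basicOpen_le a)
  rw [hga] at this
  exact this

/-- restriction from `U` to its basic opens behaves like localisation (elementwise form) -/
structure LocAt {X : Scheme.{u}} (F : X.Modules) (U : X.Opens) : Prop where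
  kill : ∀ (a : Γ(X, U)) (s : Γ(F, U)),
    F.presheaf.map (homOfLE (X.basicOpen_le a)).op s = 0 → ∃ n : ℕ, a ^ n • s = 0
  ext : ∀ (a : Γ(X, U)) (t : Γ(F, X.basicOpen a)), ∃ (n : ℕ) (s : Γ(F, U)),
    F.presheaf.map (homOfLE (X.basicOpen_le a)).op s =
      (X.presheaf.map (homOfLE (X.basicOpen_le a)).op a) ^ n • t

/-- quasi-coherent modules have the localisation property on affine opens -/
theorem LocAt.of_isQuasicoherent {X : Scheme.{u}} (F : X.Modules) [F.IsQuasicoherent]
    {U : X.Opens} (hU : IsAffineOpen U) : LocAt F U where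
  kill a s hs := (loc_chart hU.fromSpec F U
    (by rw [Scheme.Hom.image_top_eq_opensRange, hU.opensRange_fromSpec]) a).1 s hs
  ext a t := (loc_chart hU.fromSpec F U
    (by rw [Scheme.Hom.image_top_eq_opensRange, hU.opensRange_fromSpec]) a).2 t

variable {X : Scheme.{u}} (F : X.Modules)

/-- germs are compatible with scalar multiplication -/
theorem germ_smul (U : X.Opens) (x : X) (hx : x ∈ U) (a : Γ(X, U)) (s : Γ(F, U)) :
    F.presheaf.germ U x hx (a • s) = X.presheaf.germ U x hx a • F.presheaf.germ U x hx s :=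
  PresheafOfModules.germ_smul (R := X.presheaf)
    (show PresheafOfModules (X.presheaf ⋙ forget₂ CommRingCat RingCat) from F.val) x U hx a s

theorem germ_res (U V : X.Opens) (h : V ≤ U) (x : X) (hx : x ∈ V) (s : Γ(F, U)) :
    F.presheaf.germ V x hx (F.presheaf.map (homOfLE h).op s) = F.presheaf.germ U x (h hx) s :=
  TopCat.Presheaf.germ_res_apply F.presheaf (homOfLE h) x hx s

variable {U : X.Opens} (hU : IsAffineOpen U) (hF : LocAt F U)

include hU hF in
/-- the germ at `x` of a section over an affine open vanishes iff some function not vanishing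
at `x` kills the section -/
theorem germ_eq_zero_iff (x : X) (hx : x ∈ U) (s : Γ(F, U)) :
    F.presheaf.germ U x hx s = 0 ↔ ∃ a : Γ(X, U), x ∈ X.basicOpen a ∧ a • s = 0 := by
  constructor
  · intro h
    have h0 : F.presheaf.germ U x hx s = F.presheaf.germ U x hx 0 := by rw [h, map_zero]
    obtain ⟨W, hxW, iU, iV, hW⟩ := TopCat.Presheaf.germ_eq F.presheaf x hx hx s 0 h0
    rw [map_zero] at hW
    obtain ⟨a, ha1, ha2⟩ := hU.exists_basicOpen_le (V := W) ⟨x, hxW⟩ hx
    have hres : F.presheaf.map (homOfLE (X.basicOpen_le a)).op s = 0 := by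
      have := res_res F iU.le ha1 s
      rw [show F.presheaf.map (homOfLE iU.le).op s = 0 from hW, map_zero] at this
      exact this.symm
    obtain ⟨n, hn⟩ := hF.kill a s hres
    refine ⟨a ^ (n + 1), ?_, ?_⟩
    · rw [Scheme.basicOpen_pow _ _ (Nat.succ_pos n)]
      exact ha2
    · rw [pow_succ', mul_smul, hn, smul_zero]
  · rintro ⟨a, hxa, ha⟩
    have h1 := germ_smul F U x hx a s
    rw [ha, map_zero] at h1
    have hu : IsUnit (X.presheaf.germ U x hx a) := (Scheme.mem_basicOpen X a x hx).mp hxa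
    obtain ⟨u, hu⟩ := hu
    have : (↑u⁻¹ : X.presheaf.stalk x) • (X.presheaf.germ U x hx a • F.presheaf.germ U x hx s) =
        F.presheaf.germ U x hx s := by
      rw [← mul_smul, ← hu, Units.inv_mul, one_smul]
    rw [← this, ← h1, smul_zero]

include hU hF in
/-- every element of the stalk is, up to a unit coming from the affine open, a germ of a
section over the affine open -/
theorem exists_germ_eq_smul (x : X) (hx : x ∈ U) (m : F.presheaf.stalk x) :
    ∃ (a : Γ(X, U)) (s : Γ(F, U)), x ∈ X.basicOpen a ∧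
      F.presheaf.germ U x hx s = X.presheaf.germ U x hx a • m := by
  obtain ⟨W, hxW, t, rfl⟩ := TopCat.Presheaf.exists_germ_eq F.presheaf (x := x) m
  obtain ⟨a, ha1, ha2⟩ := hU.exists_basicOpen_le (V := W) ⟨x, hxW⟩ hx
  obtain ⟨n, s, hs⟩ := hF.ext a (F.presheaf.map (homOfLE ha1).op t)
  refine ⟨a ^ n, s, ?_, ?_⟩
  · rcases Nat.eq_zero_or_pos n with rfl | hn
    · rw [pow_zero]
      have : X.basicOpen (1 : Γ(X, U)) = U := Scheme.basicOpen_of_isUnit X isUnit_one
      rw [this]
      exact hx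
    · rw [Scheme.basicOpen_pow _ _ hn]
      exact ha2
  · have h1 := congrArg (F.presheaf.germ (X.basicOpen a) x ha2) hs
    rw [germ_res, ← map_pow, germ_smul, germ_res] at h1
    have h2 : X.presheaf.germ (X.basicOpen a) x ha2
        (X.presheaf.map (homOfLE (X.basicOpen_le a)).op a) = X.presheaf.germ U x hx a :=
      TopCat.Presheaf.germ_res_apply X.presheaf (homOfLE (X.basicOpen_le a)) x ha2 a
    rw [h1, map_pow, map_pow, h2, map_pow]

/-- the annihilator ideal of a section -/
noncomputable def ann {U : X.Opens} (s : Γ(F, U)) : Ideal Γ(X, U) :=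
  LinearMap.ker (LinearMap.toSpanSingleton Γ(X, U) Γ(F, U) s)

theorem mem_ann {U : X.Opens} (s : Γ(F, U)) (a : Γ(X, U)) : a ∈ ann F s ↔ a • s = 0 := by
  unfold ann
  rw [LinearMap.mem_ker, LinearMap.toSpanSingleton_apply]

include hU hF in
/-- the annihilator of a germ is the extension of the annihilator of the section -/
theorem smul_germ_eq_zero_iff (x : X) (hx : x ∈ U) (s : Γ(F, U)) (r : X.presheaf.stalk x) :
    r • F.presheaf.germ U x hx s = 0 ↔ r ∈ (ann F s).map (X.presheaf.germ U x hx).hom := by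
  let _ := X.presheaf.algebra_section_stalk ⟨x, hx⟩
  have hloc := hU.isLocalization_stalk ⟨x, hx⟩
  have hunit : ∀ a : Γ(X, U), x ∈ X.basicOpen a → IsUnit (X.presheaf.germ U x hx a) :=
    fun a ha => (Scheme.mem_basicOpen X a x hx).mp ha
  constructor
  · intro h
    obtain ⟨⟨b, c⟩, hbc⟩ := IsLocalization.surj (hU.primeIdealOf ⟨x, hx⟩).asIdeal.primeCompl r
    have hbc' : r * X.presheaf.germ U x hx c.1 = X.presheaf.germ U x hx b := hbc
    have hcu : IsUnit (X.presheaf.germ U x hx c.1) :=
      IsLocalization.map_units (X.presheaf.stalk x) c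
    have h1 : F.presheaf.germ U x hx (b • s) = 0 := by
      rw [germ_smul, ← hbc', mul_comm, mul_smul, h, smul_zero]
    obtain ⟨a, ha1, ha2⟩ := (germ_eq_zero_iff F hU hF x hx (b • s)).mp h1
    have hab : a * b ∈ ann F s := by
      rw [mem_ann, mul_smul, ha2]
    have h2 : X.presheaf.germ U x hx (a * b) ∈ (ann F s).map (X.presheaf.germ U x hx).hom :=
      Ideal.mem_map_of_mem _ hab
    rw [map_mul] at h2
    have h3 : X.presheaf.germ U x hx b ∈ (ann F s).map (X.presheaf.germ U x hx).hom := by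
      obtain ⟨u, hu⟩ := hunit a ha1
      have := Ideal.mul_mem_left _ (↑u⁻¹ : X.presheaf.stalk x) h2
      rwa [← mul_assoc, ← hu, Units.inv_mul, one_mul] at this
    obtain ⟨u, hu⟩ := hcu
    have := Ideal.mul_mem_right (↑u⁻¹ : X.presheaf.stalk x) _ h3
    rwa [← hbc', ← hu, mul_assoc, Units.mul_inv, mul_one] at this
  · intro h
    have hle : (ann F s).map (X.presheaf.germ U x hx).hom ≤
        LinearMap.ker (LinearMap.toSpanSingleton (X.presheaf.stalk x) (F.presheaf.stalk x)
          (F.presheaf.germ U x hx s)) := by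
      rw [Ideal.map_le_iff_le_comap]
      intro a ha
      rw [Ideal.mem_comap, LinearMap.mem_ker, LinearMap.toSpanSingleton_apply]
      change X.presheaf.germ U x hx a • _ = 0
      rw [← germ_smul, (mem_ann F s a).mp ha, map_zero]
    have := hle h
    rwa [LinearMap.mem_ker, LinearMap.toSpanSingleton_apply] at this

/-- with the radical form of associated primes, associated and weakly associated points agree -/
theorem isAssPoint_iff_isWeakAssPoint (x : X) :
    Curv2.IsAssPoint F x ↔ Curv2.IsWeakAssPoint F x := by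
  have hcolon : ∀ m : F.presheaf.stalk x,
      (⊥ : Submodule (X.presheaf.stalk x) (F.presheaf.stalk x)).colon {m} =
        LinearMap.ker (LinearMap.toSpanSingleton (X.presheaf.stalk x) (F.presheaf.stalk x) m) := by
    intro m
    ext r
    rw [Submodule.mem_colon_singleton, Submodule.mem_bot, LinearMap.mem_ker,
      LinearMap.toSpanSingleton_apply]
  unfold Curv2.IsAssPoint Curv2.IsWeakAssPoint IsAssociatedPrime
  rw [Submodule.isAssociatedPrime_def]
  constructor
  · rintro ⟨-, m, hm⟩
    exact ⟨m, by rw [← hcolon, ← hm]⟩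
  · rintro ⟨m, hm⟩
    exact ⟨inferInstance, m, by rw [hcolon, hm]⟩

/-- a weakly associated point lies in the support -/
theorem IsWeakAssPoint.ne_zero {x : X} (h : Curv2.IsWeakAssPoint F x) :
    ∃ m : F.presheaf.stalk x, m ≠ 0 := by
  obtain ⟨m, hm⟩ := h
  refine ⟨m, ?_⟩
  rintro rfl
  have : (1 : X.presheaf.stalk x) ∈ IsLocalRing.maximalIdeal (X.presheaf.stalk x) := by
    rw [← hm]
    apply Ideal.le_radical
    rw [LinearMap.mem_ker, LinearMap.toSpanSingleton_apply, smul_zero]
  exact (Ideal.ne_top_iff_one _).mp (IsLocalRing.maximalIdeal.isMaximal _).ne_top this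

include hU hF in
/-- weakly associated points through sections over an affine open neighbourhood -/
theorem isWeakAssPoint_iff (x : X) (hx : x ∈ U) :
    Curv2.IsWeakAssPoint F x ↔
      ∃ s : Γ(F, U), (hU.primeIdealOf ⟨x, hx⟩).asIdeal ∈ (ann F s).minimalPrimes := by
  let _ := X.presheaf.algebra_section_stalk ⟨x, hx⟩
  have hloc := hU.isLocalization_stalk ⟨x, hx⟩
  have hker : ∀ s : Γ(F, U),
      LinearMap.ker (LinearMap.toSpanSingleton (X.presheaf.stalk x) (F.presheaf.stalk x)
        (F.presheaf.germ U x hx s)) = (ann F s).map (algebraMap Γ(X, U) (X.presheaf.stalk x)) := by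
    intro s
    ext r
    rw [LinearMap.mem_ker, LinearMap.toSpanSingleton_apply]
    exact smul_germ_eq_zero_iff F hU hF x hx s r
  have hmax : (hU.primeIdealOf ⟨x, hx⟩).asIdeal.map (algebraMap Γ(X, U) (X.presheaf.stalk x)) =
      IsLocalRing.maximalIdeal (X.presheaf.stalk x) :=
    IsLocalization.AtPrime.map_eq_maximalIdeal _ _
  constructor
  · rintro ⟨m, hm⟩
    obtain ⟨a, s, ha, hs⟩ := exists_germ_eq_smul F hU hF x hx m
    refine ⟨s, ?_⟩
    have hu : IsUnit (X.presheaf.germ U x hx a) := (Scheme.mem_basicOpen X a x hx).mp ha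
    have hann : LinearMap.ker (LinearMap.toSpanSingleton (X.presheaf.stalk x)
        (F.presheaf.stalk x) (F.presheaf.germ U x hx s)) =
        LinearMap.ker (LinearMap.toSpanSingleton (X.presheaf.stalk x) (F.presheaf.stalk x) m) := by
      ext r
      rw [LinearMap.mem_ker, LinearMap.toSpanSingleton_apply, LinearMap.mem_ker,
        LinearMap.toSpanSingleton_apply, hs, smul_comm]
      exact hu.smul_eq_zero
    rw [hker] at hann
    have hrad : ((ann F s).map (algebraMap Γ(X, U) (X.presheaf.stalk x))).radical =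
        IsLocalRing.maximalIdeal (X.presheaf.stalk x) := by rw [hann, hm]
    have hmem : IsLocalRing.maximalIdeal (X.presheaf.stalk x) ∈
        ((ann F s).map (algebraMap Γ(X, U) (X.presheaf.stalk x))).minimalPrimes := by
      rw [← Ideal.radical_minimalPrimes, hrad, Ideal.minimalPrimes_eq_subsingleton_self]
      rfl
    rw [IsLocalization.minimalPrimes_map (hU.primeIdealOf ⟨x, hx⟩).asIdeal.primeCompl] at hmem
    have hunder : (IsLocalRing.maximalIdeal (X.presheaf.stalk x)).under Γ(X, U) =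
        (hU.primeIdealOf ⟨x, hx⟩).asIdeal :=
      IsLocalization.AtPrime.under_maximalIdeal _ _
    rw [Set.mem_preimage, hunder] at hmem
    exact hmem
  · rintro ⟨s, hs⟩
    refine ⟨F.presheaf.germ U x hx s, ?_⟩
    rw [hker, IsLocalization.AtPrime.radical_map_of_mem_minimalPrimes _ _ _ hs, hmax]

/-- membership in the prime ideal of a point of an affine open -/
theorem mem_primeIdealOf_iff (x : X) (hx : x ∈ U) (a : Γ(X, U)) :
    a ∈ (hU.primeIdealOf ⟨x, hx⟩).asIdeal ↔ x ∉ X.basicOpen a := by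
  rw [hU.primeIdealOf_eq_map_closedPoint ⟨x, hx⟩, Scheme.mem_basicOpen X a x hx]
  change X.presheaf.germ U x hx a ∈ IsLocalRing.maximalIdeal _ ↔ _
  rw [IsLocalRing.mem_maximalIdeal, mem_nonunits_iff]

theorem fromSpec_mem (P : Spec Γ(X, U)) : hU.fromSpec.base P ∈ U := by
  have := Set.mem_range_self (f := hU.fromSpec.base) P
  rwa [hU.range_fromSpec] at this

theorem primeIdealOf_fromSpec (P : Spec Γ(X, U)) :
    hU.primeIdealOf ⟨hU.fromSpec.base P, fromSpec_mem hU P⟩ = P := by
  apply hU.fromSpec.isOpenEmbedding.injective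
  exact hU.fromSpec_primeIdealOf ⟨hU.fromSpec.base P, fromSpec_mem hU P⟩

/-- every prime of the ring of an affine open is the prime of a point -/
theorem exists_point_of_prime (p : Ideal Γ(X, U)) [hp : p.IsPrime] :
    ∃ (y : X) (hy : y ∈ U), (hU.primeIdealOf ⟨y, hy⟩).asIdeal = p :=
  ⟨hU.fromSpec.base (⟨p, hp⟩ : PrimeSpectrum Γ(X, U)), fromSpec_mem hU _,
    congrArg PrimeSpectrum.asIdeal (primeIdealOf_fromSpec hU (⟨p, hp⟩ : PrimeSpectrum Γ(X, U)))⟩

include hU hF in
/-- if the annihilator of a section lies in the prime of `y`, its germ at `y` is nonzero -/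
theorem germ_ne_zero_of_ann_le (y : X) (hy : y ∈ U) (s : Γ(F, U))
    (h : ann F s ≤ (hU.primeIdealOf ⟨y, hy⟩).asIdeal) : F.presheaf.germ U y hy s ≠ 0 := by
  intro h0
  obtain ⟨a, ha1, ha2⟩ := (germ_eq_zero_iff F hU hF y hy s).mp h0
  exact (mem_primeIdealOf_iff hU y hy a).mp (h ((mem_ann F s a).mpr ha2)) ha1

include hU hF in
/-- a nonzero section over an affine open has a weakly associated point in its support -/
theorem exists_isWeakAssPoint_of_ne_zero (s : Γ(F, U)) (hs : s ≠ 0) :
    ∃ (y : X) (hy : y ∈ U), Curv2.IsWeakAssPoint F y ∧ F.presheaf.germ U y hy s ≠ 0 := by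
  have hne : ann F s ≠ ⊤ := by
    intro h
    have : (1 : Γ(X, U)) ∈ ann F s := by rw [h]; trivial
    rw [mem_ann, one_smul] at this
    exact hs this
  obtain ⟨m, hm, hle⟩ := Ideal.exists_le_maximal _ hne
  obtain ⟨p, hp, -⟩ := Ideal.exists_minimalPrimes_le (J := m) hle
  have hpp : p.IsPrime := hp.1.1
  obtain ⟨y, hy, hyp⟩ := exists_point_of_prime hU p
  refine ⟨y, hy, (isWeakAssPoint_iff F hU hF y hy).mpr ⟨s, hyp ▸ hp⟩, ?_⟩
  exact germ_ne_zero_of_ann_le F hU hF y hy s (hyp ▸ hp.1.2)

/-- a nonzero section of a module with the localisation property on affine opens has a weakly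
associated point in its support -/
theorem exists_isWeakAssPoint_of_section_ne_zero' (hloc : ∀ V : X.Opens, IsAffineOpen V → LocAt F V)
    (W : X.Opens) (s : Γ(F, W)) (hs : s ≠ 0) :
    ∃ (y : X) (hy : y ∈ W), Curv2.IsWeakAssPoint F y ∧ F.presheaf.germ W y hy s ≠ 0 := by
  have hex : ∃ (x : X) (hx : x ∈ W), F.presheaf.germ W x hx s ≠ 0 := by
    by_contra hcon
    push Not at hcon
    apply hs
    refine TopCat.Presheaf.section_ext ⟨F.presheaf, F.isSheaf⟩ W s 0 (fun x hx => ?_)
    rw [hcon x hx, map_zero]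
  obtain ⟨x, hx, hxs⟩ := hex
  obtain ⟨V, hV, hxV, hVW⟩ := exists_isAffineOpen_mem_and_subset (X := X) (x := x) (U := W) hx
  have hVW' : V ≤ W := hVW
  have hs' : F.presheaf.map (homOfLE hVW').op s ≠ 0 := by
    intro h0
    apply hxs
    rw [← germ_res F W V hVW' x hxV s, h0, map_zero]
  obtain ⟨y, hy, hy1, hy2⟩ := exists_isWeakAssPoint_of_ne_zero F hV (hloc V hV) _ hs'
  refine ⟨y, hVW' hy, hy1, ?_⟩
  rwa [germ_res] at hy2

/-- a nonzero section of a quasi-coherent module has a weakly associated point in its support -/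
theorem exists_isWeakAssPoint_of_section_ne_zero [F.IsQuasicoherent] (W : X.Opens) (s : Γ(F, W))
    (hs : s ≠ 0) :
    ∃ (y : X) (hy : y ∈ W), Curv2.IsWeakAssPoint F y ∧ F.presheaf.germ W y hy s ≠ 0 :=
  exists_isWeakAssPoint_of_section_ne_zero' F (fun _ hV => LocAt.of_isQuasicoherent F hV) W s hs

end Groth.Agent.Lib.Helper29.QCohLoc
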