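import Mathlib

/-!
# (BC) flatness of quotient base change descends along `𝔞 ≤ 𝔟` (helper29, for helper55's S4857)
-/

set_option autoImplicit false
universe u
open TensorProduct
open scoped Pointwise

namespace Groth.Agent.Lib.Helper29.AdicFamBC

/-- (BC) flatness of quotient base change descends along `𝔞 ≤ 𝔟` -/
theorem flat_quotient_tensor_of_le {A : Type u} [CommRing A] {Q : Type u} [AddCommGroup Q] [Module A Q]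
    (𝔞 𝔟 : Ideal A) (h : 𝔞 ≤ 𝔟) (hflat : Module.Flat (A ⧸ 𝔞) ((A ⧸ 𝔞) ⊗[A] Q)) :
    Module.Flat (A ⧸ 𝔟) ((A ⧸ 𝔟) ⊗[A] Q) := by
  letI : Algebra (A ⧸ 𝔞) (A ⧸ 𝔟) := (Ideal.Quotient.factor h).toAlgebra
  haveI : IsScalarTower A (A ⧸ 𝔞) (A ⧸ 𝔟) := IsScalarTower.of_algebraMap_eq fun x => by
    rw [RingHom.algebraMap_toAlgebra]
    rfl
  have e : (A ⧸ 𝔟) ⊗[A ⧸ 𝔞] ((A ⧸ 𝔞) ⊗[A] Q) ≃ₗ[A ⧸ 𝔟] (A ⧸ 𝔟) ⊗[A] Q :=
    TensorProduct.AlgebraTensorModule.cancelBaseChange A (A ⧸ 𝔞) (A ⧸ 𝔟) (A ⧸ 𝔟) Q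
  exact Module.Flat.of_linearEquiv e.symm

end Groth.Agent.Lib.Helper29.AdicFamBC
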