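import Mathlib
import Groth.Prelude.Def_W4bk4boschfrg79

/-!
# Extending a map of admissible algebras to `A[f₁,…,fₙ] ⊆ A ⊗ K`
-/

set_option autoImplicit false

namespace Groth.Agent.Lib.Helper29.AdmA

open scoped TensorProduct
open AdicRing

universe u

section Base

variable (R : Type u) [CommRing R]

theorem not_isUnit_of_isAdicComplete [Nontrivial R] (t : R) [IsAdicComplete (Ideal.span {t}) R] :
    ¬ IsUnit t := by
  intro hu
  have htop : Ideal.span {t} = ⊤ := Ideal.span_singleton_eq_top.mpr hu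
  have hH : IsHausdorff (Ideal.span {t}) R := inferInstance
  have h10 : (1 : R) = 0 := by
    apply hH.haus'
    intro n
    rw [SModEq.zero, htop, Ideal.top_pow, Submodule.top_smul]
    trivial
  exact one_ne_zero h10

theorem exists_dvd_pow [IsDomain R] [ValuationRing R] [Ring.KrullDimLE 1 R] (t : R)
    [IsAdicComplete (Ideal.span {t}) R] (r : R) (hr : r ≠ 0) : ∃ m : ℕ, r ∣ t ^ m := by
  by_cases hu : IsUnit r
  · exact ⟨0, hu.dvd⟩
  · have ht : t ∈ (Ideal.span {r}).radical := by
      rw [Ideal.radical_eq_sInf, Ideal.mem_sInf]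
      rintro p ⟨hrp, hp⟩
      have hpne : p ≠ ⊥ := by
        rintro rfl
        exact hr (by simpa using hrp (Ideal.mem_span_singleton_self r))
      have hpm : p.IsMaximal := hp.isMaximal_of_ne_bot hpne
      have : p = IsLocalRing.maximalIdeal R := IsLocalRing.eq_maximalIdeal hpm
      rw [this, IsLocalRing.mem_maximalIdeal]
      exact not_isUnit_of_isAdicComplete R t
    obtain ⟨m, hm⟩ := ht
    exact ⟨m, Ideal.mem_span_singleton.mp hm⟩

theorem eq_zero_of_smul_eq_zero [IsDomain R] [ValuationRing R] [Ring.KrullDimLE 1 R] (t : R)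
    [IsAdicComplete (Ideal.span {t}) R] (D : Type u) [CommRing D] [Algebra R D]
    (hD : NoPowTorsion (Ideal.span {t}) D) (r : R) (hr : r ≠ 0) (d : D) (h : r • d = 0) :
    d = 0 := by
  obtain ⟨m, s, hs⟩ := exists_dvd_pow R t r hr
  apply hD d m
  intro a ha
  rw [Ideal.span_singleton_pow, Ideal.mem_span_singleton] at ha
  obtain ⟨b, rfl⟩ := ha
  rw [hs, mul_assoc, mul_comm, mul_smul, h, smul_zero]

end Base

section Integral

theorem mem_range_of_isIntegral_of_mul_eq_one {D E : Type*} [CommRing D] [CommRing E]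
    [Algebra D E] (h : E) (hint : IsIntegral D h) (e : D) (he : h * algebraMap D E e = 1) :
    ∃ d : D, algebraMap D E d = h := by
  classical
  obtain ⟨P, hmonic, hP⟩ := hint
  obtain ⟨m, hm⟩ : ∃ m, m = P.natDegree := ⟨_, rfl⟩
  obtain ⟨ε, hε⟩ : ∃ ε, ε = algebraMap D E e := ⟨_, rfl⟩
  rw [← hε] at he
  have hεh : ∀ j : ℕ, h ^ j * ε ^ j = 1 := fun j => by rw [← mul_pow, he, one_pow]
  rw [Polynomial.eval₂_eq_sum_range, ← hm] at hP
  have h1 : (∑ j ∈ Finset.range (m + 1), algebraMap D E (P.coeff j) * h ^ j) * ε ^ m = 0 := by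
    rw [hP, zero_mul]
  rw [Finset.sum_mul, Finset.sum_range_succ] at h1
  have htop : algebraMap D E (P.coeff m) * h ^ m * ε ^ m = 1 := by
    rw [hm, hmonic.coeff_natDegree, map_one, one_mul, hεh]
  rw [htop] at h1
  have hlow : ∀ j ∈ Finset.range m, algebraMap D E (P.coeff j) * h ^ j * ε ^ m =
      ε * algebraMap D E (P.coeff j * e ^ (m - j - 1)) := by
    intro j hj
    rw [Finset.mem_range] at hj
    have hpow : ε ^ m = ε ^ j * (ε * ε ^ (m - j - 1)) := by
      rw [← pow_succ', ← pow_add]; congr 1; omega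
    rw [hpow, map_mul, map_pow, ← hε]
    have := hεh j
    linear_combination (algebraMap D E (P.coeff j) * ε * ε ^ (m - j - 1)) * this
  rw [Finset.sum_congr rfl hlow, ← Finset.mul_sum, ← map_sum] at h1
  refine ⟨- ∑ j ∈ Finset.range m, P.coeff j * e ^ (m - j - 1), ?_⟩
  rw [map_neg]
  linear_combination (-h) * h1 +
    (algebraMap D E (∑ j ∈ Finset.range m, P.coeff j * e ^ (m - j - 1))) * he

end Integral

section Main

variable (R : Type u) [CommRing R] [IsDomain R] [ValuationRing R] [Ring.KrullDimLE 1 R]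
  (t : R) [IsAdicComplete (Ideal.span {t}) R]

theorem includeLeft_injective (D : Type u) [CommRing D] [Algebra R D]
    (hD : NoPowTorsion (Ideal.span {t}) D) :
    Function.Injective (algebraMap D (D ⊗[R] FractionRing R)) := by
  haveI : IsLocalization (Algebra.algebraMapSubmonoid D (nonZeroDivisors R))
      (D ⊗[R] FractionRing R) := IsLocalization.tensor (FractionRing R) (nonZeroDivisors R)
  apply IsLocalization.injective (D ⊗[R] FractionRing R)
    (M := Algebra.algebraMapSubmonoid D (nonZeroDivisors R))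
  rintro x ⟨r, hr, rfl⟩
  rw [mem_nonZeroDivisors_iff_right]
  intro d hd
  apply eq_zero_of_smul_eq_zero R t D hD r (nonZeroDivisors.ne_zero hr) d
  rw [Algebra.smul_def, mul_comm]
  exact hd

end Main

end Groth.Agent.Lib.Helper29.AdmA
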