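import Mathlib
import Groth.Prelude.Def_W4bk4boschfrg79
import Groth.Agent.Lib.Helper29.AdmA

/-!
# Extending a map of admissible algebras to `A[f₁,…,fₙ] ⊆ A ⊗ K`: main theorem
-/

set_option autoImplicit false

namespace Groth.Agent.Lib.Helper29.AdmB

open scoped TensorProduct
open AdicRing
open Groth.Agent.Lib.Helper29.AdmA

universe u

theorem main
    (R : Type u) [CommRing R] [IsDomain R] [ValuationRing R] [Ring.KrullDimLE 1 R]
    (t : R) [IsAdicComplete (Ideal.span {t}) R]
    (A : Type u) [CommRing A] [Algebra R A]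
    (n : ℕ) (f : Fin n → A ⊗[R] FractionRing R) (hf : ∀ i, IsIntegral A (f i))
    (c : R) (hc : c ≠ 0) (g : Fin n → A)
    (hg : ∀ i, algebraMap A (A ⊗[R] FractionRing R) (g i) = c • f i)
    (D : Type u) [CommRing D] [Algebra R D] (hD : NoPowTorsion (Ideal.span {t}) D)
    (φ : A →ₐ[R] D)
    (hgen : (Ideal.span (insert (algebraMap R A c) (Set.range g))).map φ =
          Ideal.span {algebraMap R D c} ∨
      ∃ i, (Ideal.span (insert (algebraMap R A c) (Set.range g))).map φ = Ideal.span {φ (g i)}) :
    (Ideal.span (insert (algebraMap R A c) (Set.range g))).map φ = Ideal.span {algebraMap R D c} ∧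
      ∃! ψ : ↥(Algebra.adjoin A (Set.range f)) →ₐ[R] D,
        ψ.comp (IsScalarTower.toAlgHom R A ↥(Algebra.adjoin A (Set.range f))) = φ := by
  classical
  -- notation
  obtain ⟨ι, hιdef⟩ : ∃ ι : D →ₐ[R] D ⊗[R] FractionRing R,
      ι = Algebra.TensorProduct.includeLeft := ⟨_, rfl⟩
  have hιalg : ∀ d : D, ι d = algebraMap D (D ⊗[R] FractionRing R) d := by
    intro d; rw [hιdef]; rfl
  have hι : Function.Injective ι := by
    intro x y hxy
    rw [hιalg, hιalg] at hxy
    exact includeLeft_injective R t D hD hxy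
  obtain ⟨φK, hφKdef⟩ : ∃ φK : A ⊗[R] FractionRing R →ₐ[R] D ⊗[R] FractionRing R,
      φK = Algebra.TensorProduct.map φ (AlgHom.id R (FractionRing R)) := ⟨_, rfl⟩
  have hφK : ∀ a : A, φK (algebraMap A (A ⊗[R] FractionRing R) a) = ι (φ a) := by
    intro a
    rw [hφKdef, hιdef, Algebra.TensorProduct.algebraMap_apply, Algebra.algebraMap_self,
      RingHom.id_apply, Algebra.TensorProduct.map_tmul]
    simp
  -- `c` acts injectively on `D ⊗ K`
  have hcunit : IsUnit (algebraMap R (D ⊗[R] FractionRing R) c) := by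
    have h1 : IsUnit (algebraMap R (FractionRing R) c) := by
      apply IsUnit.mk0
      intro h0
      exact hc ((IsFractionRing.injective R (FractionRing R)) (by rw [h0, map_zero]))
    have h2 := h1.map (Algebra.TensorProduct.includeRight :
      FractionRing R →ₐ[R] D ⊗[R] FractionRing R)
    rwa [AlgHom.commutes] at h2
  have hcDK : ∀ x y : D ⊗[R] FractionRing R, c • x = c • y → x = y := by
    intro x y hxy
    have hx : c • x = algebraMap R (D ⊗[R] FractionRing R) c * x := Algebra.smul_def c x
    have hy : c • y = algebraMap R (D ⊗[R] FractionRing R) c * y := Algebra.smul_def c y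
    rw [hx, hy] at hxy
    exact hcunit.mul_left_cancel hxy
  have hkey : ∀ i, c • φK (f i) = ι (φ (g i)) := by
    intro i
    rw [← map_smul, ← hg, hφK]
  have hcA : φ (algebraMap R A c) = algebraMap R D c := φ.commutes c
  -- Step A
  have hA' : (Ideal.span (insert (algebraMap R A c) (Set.range g))).map φ =
      Ideal.span {algebraMap R D c} := by
    rcases hgen with h | ⟨i₀, h⟩
    · exact h
    · have hc' : algebraMap R D c ∈ Ideal.span {φ (g i₀)} := by
        rw [← h, ← hcA]
        exact Ideal.mem_map_of_mem φ (Ideal.subset_span (Set.mem_insert _ _))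
      obtain ⟨e, he⟩ := Ideal.mem_span_singleton'.mp hc'
      have h1 : φK (f i₀) * algebraMap D (D ⊗[R] FractionRing R) e = 1 := by
        apply hcDK
        rw [← hιalg, ← smul_mul_assoc, hkey, ← map_mul, mul_comm, he]
        have h1' : c • (1 : D ⊗[R] FractionRing R) =
            algebraMap R (D ⊗[R] FractionRing R) c * 1 :=
          Algebra.smul_def c (1 : D ⊗[R] FractionRing R)
        rw [h1', mul_one, AlgHom.commutes]
      have hint : IsIntegral D (φK (f i₀)) := by
        obtain ⟨P, hPm, hP⟩ := hf i₀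
        refine ⟨P.map (φ : A →+* D), hPm.map _, ?_⟩
        rw [Polynomial.eval₂_map]
        have hcomp : (algebraMap D (D ⊗[R] FractionRing R)).comp (φ : A →+* D) =
            (φK : A ⊗[R] FractionRing R →+* D ⊗[R] FractionRing R).comp
              (algebraMap A (A ⊗[R] FractionRing R)) := by
          ext a
          simp only [RingHom.comp_apply, RingHom.coe_coe]
          rw [hφK, hιalg]
        rw [hcomp]
        have h3 := Polynomial.hom_eval₂ P (algebraMap A (A ⊗[R] FractionRing R))
          (φK : A ⊗[R] FractionRing R →+* D ⊗[R] FractionRing R) (f i₀)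
        rw [hP, map_zero] at h3
        exact h3.symm
      obtain ⟨d₀, hd₀⟩ := mem_range_of_isIntegral_of_mul_eq_one _ hint e h1
      have hgd : φ (g i₀) = algebraMap R D c * d₀ := by
        apply hι
        rw [← hkey, ← hd₀, ← hιalg, ← Algebra.smul_def, map_smul]
      rw [h]
      apply le_antisymm
      · rw [Ideal.span_singleton_le_iff_mem, hgd]
        exact Ideal.mul_mem_right _ _ (Ideal.mem_span_singleton_self _)
      · rw [Ideal.span_singleton_le_iff_mem]
        exact hc'
  refine ⟨hA', ?_⟩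
  -- Step B
  have hB : ∀ i, ∃ d : D, ι d = φK (f i) := by
    intro i
    have hmem : φ (g i) ∈ Ideal.span {algebraMap R D c} := by
      rw [← hA']
      exact Ideal.mem_map_of_mem φ (Ideal.subset_span (Set.mem_insert_of_mem _ ⟨i, rfl⟩))
    obtain ⟨d, hd⟩ := Ideal.mem_span_singleton'.mp hmem
    refine ⟨d, ?_⟩
    apply hcDK
    rw [hkey, ← hd, mul_comm, ← Algebra.smul_def, map_smul]
  -- Step C
  have hC : ∀ x ∈ Algebra.adjoin A (Set.range f), φK x ∈ ι.range := by
    intro x hx
    induction hx using Algebra.adjoin_induction with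
    | mem y hy =>
      obtain ⟨i, rfl⟩ := hy
      obtain ⟨d, hd⟩ := hB i
      exact ⟨d, hd⟩
    | algebraMap a => exact ⟨φ a, (hφK a).symm⟩
    | add x y _ _ hx hy =>
      rw [map_add]; exact add_mem hx hy
    | mul x y _ _ hx hy =>
      rw [map_mul]; exact mul_mem hx hy
  -- Step D
  let inc : ↥(Algebra.adjoin A (Set.range f)) →ₐ[R] A ⊗[R] FractionRing R :=
    (Subalgebra.val (Algebra.adjoin A (Set.range f))).restrictScalars R
  let ψ₁ : ↥(Algebra.adjoin A (Set.range f)) →ₐ[R] ι.range :=
    (φK.comp inc).codRestrict ι.range (fun x => hC x.1 x.2)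
  let eD : D ≃ₐ[R] ι.range := AlgEquiv.ofInjective ι hι
  let ψ : ↥(Algebra.adjoin A (Set.range f)) →ₐ[R] D := (eD.symm : ι.range →ₐ[R] D).comp ψ₁
  have hψ : ∀ x : ↥(Algebra.adjoin A (Set.range f)), ι (ψ x) = φK x.1 := by
    intro x
    have h1 : (eD (eD.symm (ψ₁ x)) : D ⊗[R] FractionRing R) = ι (eD.symm (ψ₁ x)) := rfl
    rw [AlgEquiv.apply_symm_apply] at h1
    exact h1.symm
  refine ⟨ψ, ?_, ?_⟩
  · apply AlgHom.ext
    intro a
    apply hι
    rw [AlgHom.comp_apply, hψ]
    exact hφK a
  · intro ψ' hψ'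
    apply AlgHom.ext
    intro x
    apply hι
    rw [hψ]
    have hψ'a : ∀ a : A, ψ' (algebraMap A ↥(Algebra.adjoin A (Set.range f)) a) = φ a := by
      intro a
      exact AlgHom.congr_fun hψ' a
    obtain ⟨x, hx⟩ := x
    induction hx using Algebra.adjoin_induction with
    | mem y hy =>
      obtain ⟨i, rfl⟩ := hy
      apply hcDK
      rw [hkey, ← map_smul, ← map_smul, ← hψ'a]
      congr 2
      apply Subtype.ext
      exact (hg i).symm
    | algebraMap a =>
      have : (⟨algebraMap A (A ⊗[R] FractionRing R) a, Subalgebra.algebraMap_mem _ a⟩ :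
          ↥(Algebra.adjoin A (Set.range f))) =
          algebraMap A ↥(Algebra.adjoin A (Set.range f)) a := rfl
      rw [this, hψ'a]
      exact (hφK a).symm
    | add x y hx hy ihx ihy =>
      have : (⟨x + y, add_mem hx hy⟩ : ↥(Algebra.adjoin A (Set.range f))) =
          ⟨x, hx⟩ + ⟨y, hy⟩ := rfl
      rw [this, map_add, map_add, ihx, ihy]
      exact (map_add φK x y).symm
    | mul x y hx hy ihx ihy =>
      have : (⟨x * y, mul_mem hx hy⟩ : ↥(Algebra.adjoin A (Set.range f))) =
          ⟨x, hx⟩ * ⟨y, hy⟩ := rfl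
      rw [this, map_mul, map_mul, ihx, ihy]
      exact (map_mul φK x y).symm

end Groth.Agent.Lib.Helper29.AdmB
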