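import Groth.Agent.Lib.Helper29.LengthFormula3
import Mathlib.RingTheory.SimpleModule.Basic
import Mathlib.LinearAlgebra.Isomorphisms

set_option autoImplicit false
universe u

namespace Groth.Agent.Lib.Helper29.LengthFormula

open IsLocalRing Groth.Agent.Lib.Helper87

variable {B : Type u} [CommRing B]

section QuotientPrime

variable (q : Ideal B)

/-- the localisation of `B/q` at `q` has length one -/
theorem lam_quotient_self [hq : q.IsPrime] : lam (B ⧸ q) q = 1 := by
  rw [lam_of_isPrime, Module.length_eq_one_iff]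
  set R' := Localization.AtPrime q
  set L := LocalizedModule q.primeCompl (B ⧸ q)
  let e : L := LocalizedModule.mk (1 : B ⧸ q) 1
  let f : R' →ₗ[R'] L := LinearMap.toSpanSingleton R' L e
  have hsurj : Function.Surjective f := by
    intro x
    induction x using LocalizedModule.induction_on with
    | h y s =>
      obtain ⟨b, rfl⟩ := Ideal.Quotient.mk_surjective y
      refine ⟨Localization.mk b s, ?_⟩
      change Localization.mk b s • (LocalizedModule.mk (1 : B ⧸ q) (1 : q.primeCompl) : L) = _
      rw [LocalizedModule.mk_smul_mk, mul_one]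
      congr 1
      rw [Algebra.smul_def, mul_one]
      rfl
  have hker : LinearMap.ker f = maximalIdeal R' := by
    apply le_antisymm
    · apply le_maximalIdeal
      intro htop
      have h1 : (1 : R') ∈ LinearMap.ker f := htop ▸ Submodule.mem_top
      rw [LinearMap.mem_ker, LinearMap.toSpanSingleton_apply, one_smul] at h1
      have h2 : LocalizedModule.mkLinearMap q.primeCompl (B ⧸ q) 1 = 0 := h1
      obtain ⟨c, hc⟩ := (IsLocalizedModule.eq_zero_iff q.primeCompl
        (LocalizedModule.mkLinearMap q.primeCompl (B ⧸ q))).mp h2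
      have hc' : (c : B) • (1 : B ⧸ q) = 0 := hc
      rw [Algebra.smul_def, mul_one] at hc'
      exact c.2 (Ideal.Quotient.eq_zero_iff_mem.mp hc')
    · rw [← Localization.AtPrime.map_eq_maximalIdeal, Ideal.map_le_iff_le_comap]
      intro x hx
      rw [Ideal.mem_comap]
      change algebraMap B R' x ∈ LinearMap.ker f
      rw [LinearMap.mem_ker, LinearMap.toSpanSingleton_apply, algebraMap_smul]
      change x • LocalizedModule.mk (1 : B ⧸ q) 1 = 0
      rw [LocalizedModule.smul'_mk, Algebra.smul_def, mul_one]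
      have : algebraMap B (B ⧸ q) x = 0 := Ideal.Quotient.eq_zero_iff_mem.mpr hx
      rw [this, LocalizedModule.zero_mk]
  rw [isSimpleModule_iff_quot_maximal]
  refine ⟨maximalIdeal R', inferInstance, ⟨?_⟩⟩
  exact (f.quotKerEquivOfSurjective hsurj).symm ≪≫ₗ Submodule.quotEquivOfEq _ _ hker

/-- the localisation of `B/q` at a prime not containing `q` vanishes -/
theorem lam_quotient_of_not_le (p : Ideal B) (h : ¬ q ≤ p) : lam (B ⧸ q) p = 0 := by
  obtain ⟨s, hsq, hsp⟩ := Set.not_subset.mp h
  apply lam_eq_zero_of_smul_eq_zero _ p s hsp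
  intro x
  obtain ⟨b, rfl⟩ := Ideal.Quotient.mk_surjective x
  rw [Algebra.smul_def]
  have : algebraMap B (B ⧸ q) s = 0 := Ideal.Quotient.eq_zero_iff_mem.mpr hsq
  rw [this, zero_mul]

variable (t : B)

open scoped Pointwise in
/-- `(B/q)/t(B/q) = B/(q + tB)` -/
noncomputable def quotSMulTopQuotientEquiv :
    QuotSMulTop t (B ⧸ q) ≃ₗ[B] B ⧸ (q ⊔ Ideal.span {t}) :=
  Submodule.quotEquivOfEq _ _ (by
    rw [← Submodule.ideal_span_singleton_smul t (⊤ : Submodule B (B ⧸ q))]
    ext x
    obtain ⟨b, rfl⟩ := Submodule.mkQ_surjective _ x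
    constructor
    · intro hx
      refine Submodule.smul_induction_on hx ?_ ?_
      · intro r hr n _
        obtain ⟨c, rfl⟩ := Submodule.mkQ_surjective _ n
        obtain ⟨a, rfl⟩ := Ideal.mem_span_singleton'.mp hr
        refine ⟨(a * t) * c, Ideal.mul_mem_right _ _ (Ideal.mul_mem_left _ _ (Ideal.subset_span rfl)),
          ?_⟩
        rw [← smul_eq_mul (a * t) c, map_smul]
      · intro x y hx hy
        exact Submodule.add_mem _ hx hy
    · rintro ⟨c, hc, hcb⟩
      rw [← hcb]
      obtain ⟨a, rfl⟩ := Ideal.mem_span_singleton'.mp hc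
      have : (q.mkQ) (a * t) = (a * t) • (q.mkQ) 1 := by
        rw [← map_smul, smul_eq_mul, mul_one]
      rw [this]
      exact Submodule.smul_mem_smul (Ideal.mul_mem_left _ _ (Ideal.subset_span rfl)) trivial)
    ≪≫ₗ Submodule.quotientQuotientEquivQuotientSup q (Ideal.span {t})

/-- multiplication by `t ∉ q` is injective on `B/q` -/
theorem ker_tmul_quotient_eq_bot [hq : q.IsPrime] (ht : t ∉ q) :
    LinearMap.ker (tmul t (B ⧸ q)) = ⊥ := by
  rw [Submodule.eq_bot_iff]
  intro x hx
  rw [mem_ker_tmul] at hx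
  obtain ⟨b, rfl⟩ := Ideal.Quotient.mk_surjective x
  rw [Algebra.smul_def] at hx
  have h1 : Ideal.Quotient.mk q (t * b) = 0 := by
    rw [map_mul]
    exact hx
  rcases hq.mem_or_mem (Ideal.Quotient.eq_zero_iff_mem.mp h1) with h | h
  · exact absurd h ht
  · exact Ideal.Quotient.eq_zero_iff_mem.mpr h

end QuotientPrime

end Groth.Agent.Lib.Helper29.LengthFormula
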