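import Groth.Agent.Lib.Helper29.LengthFormula7
import Groth.Agent.S6329
import Mathlib

/-!
# Base change of tame symbols, part A: a dévissage for lengths of localizations

`S` is an algebra over a local ring `A'`, `I` an ideal of `S` such that `S/I` is "free of rank `f`
over `A'/𝔞`" in the weak sense recorded by `Frame`.  Then for every prime `p` of `S`,
`λ_p(S/I) = ℓ(A'/𝔞) · λ_p(S/(I + 𝔪' S))`.
-/

set_option autoImplicit false

namespace Groth.Agent.Lib.Helper29.Bc

universe u

open IsLocalRing Groth.Agent.Lib.Helper29.LengthFormula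

section tele

theorem tele_desc {n : ℕ} (f : Fin (n+1) → ℕ∞) (c : ℕ∞)
    (h : ∀ i : Fin n, f i.castSucc = f i.succ + c) : f 0 = f (Fin.last n) + n * c := by
  induction n with
  | zero => simp
  | succ n ih =>
    have h1 := ih (fun i => f i.castSucc) (fun i => by
      have := h i.castSucc
      rw [Fin.succ_castSucc] at this
      exact this)
    have h2 := h (Fin.last n)
    rw [Fin.succ_last] at h2
    have h3 : f 0 = f (Fin.last n).castSucc + n * c := h1
    rw [h3, h2]
    push_cast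
    ring

end tele

section devissage

variable {A' : Type u} [CommRing A'] [IsLocalRing A'] {S : Type u} [CommRing S] [Algebra A' S]

/-- the data making `S/I` look free over `A'/𝔞` -/
structure Frame (𝔞 : Ideal A') (I : Ideal S) (f : ℕ) where
  w : Fin f → S
  T : Fin f → (S →ₗ[A'] A' ⧸ 𝔞)
  T_w : ∀ k i, T k (w i) = if k = i then 1 else 0
  T_I : ∀ k, ∀ x ∈ I, T k x = 0
  span : ∀ x : S, ∃ a : Fin f → A', x - ∑ i, a i • w i ∈ I

variable {𝔞 : Ideal A'} {I : Ideal S} {f : ℕ}

theorem Frame.T_mem (F : Frame 𝔞 I f) (J : Ideal A') (k : Fin f) (v : S)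
    (hv : v ∈ I ⊔ J.map (algebraMap A' S)) : ∃ j ∈ J, F.T k v = Ideal.Quotient.mk 𝔞 j := by
  obtain ⟨u, hu, z, hz, rfl⟩ := Submodule.mem_sup.mp hv
  rw [map_add, F.T_I k u hu, zero_add]
  have hz' : z ∈ (J • ⊤ : Submodule A' S) := by
    rw [Ideal.smul_top_eq_map]; exact hz
  refine Submodule.smul_induction_on hz' (fun j hj s _ => ?_) (fun x y hx hy => ?_)
  · obtain ⟨c, hc⟩ := Ideal.Quotient.mk_surjective (F.T k s)
    refine ⟨j * c, Ideal.mul_mem_right _ _ hj, ?_⟩
    rw [map_smul, ← hc, map_mul]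
    rfl
  · obtain ⟨j₁, hj₁, e₁⟩ := hx
    obtain ⟨j₂, hj₂, e₂⟩ := hy
    exact ⟨j₁ + j₂, add_mem hj₁ hj₂, by rw [map_add, e₁, e₂, map_add]⟩

/-- the key injectivity statement -/
theorem Frame.mem_of_smul_mem (F : Frame 𝔞 I f) (J : Ideal A') (h𝔞 : 𝔞 ≤ J) (t : A') (ht : t ∉ J)
    (x : S) (hx : t • x ∈ I ⊔ J.map (algebraMap A' S)) :
    x ∈ I ⊔ (maximalIdeal A').map (algebraMap A' S) := by
  obtain ⟨a, ha⟩ := F.span x
  have hv : t • ∑ i, a i • F.w i ∈ I ⊔ J.map (algebraMap A' S) := by
    have h1 : t • ∑ i, a i • F.w i = t • x - t • (x - ∑ i, a i • F.w i) := by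
      rw [smul_sub]; abel
    rw [h1]
    refine Submodule.sub_mem _ hx (Submodule.mem_sup_left ?_)
    rw [Algebra.smul_def]
    exact Ideal.mul_mem_left _ _ ha
  have hak : ∀ k, a k ∈ maximalIdeal A' := by
    intro k
    obtain ⟨j, hj, hjk⟩ := F.T_mem J k _ hv
    have h2 : F.T k (t • ∑ i, a i • F.w i) = Ideal.Quotient.mk 𝔞 (t * a k) := by
      rw [map_smul, map_sum]
      simp only [map_smul, F.T_w, smul_ite, smul_zero, Finset.sum_ite_eq, Finset.mem_univ, if_true]
      rw [smul_smul, Algebra.smul_def, mul_one]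
      rfl
    rw [h2] at hjk
    have h3 : t * a k - j ∈ 𝔞 := by
      rw [← Ideal.Quotient.eq_zero_iff_mem, map_sub, hjk, sub_self]
    have h4 : t * a k ∈ J := by
      have := J.add_mem (h𝔞 h3) hj
      rwa [sub_add_cancel] at this
    by_contra hnm
    have hu : IsUnit (a k) := by
      by_contra hnu
      exact hnm ((IsLocalRing.mem_maximalIdeal _).mpr hnu)
    obtain ⟨c, hc⟩ := hu.exists_left_inv
    apply ht
    have : t = c * (t * a k) := by
      rw [mul_left_comm, hc, mul_one]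
    rw [this]
    exact Ideal.mul_mem_left _ _ h4
  have h5 : x = (x - ∑ i, a i • F.w i) + ∑ i, a i • F.w i := by abel
  rw [h5]
  refine Submodule.add_mem _ (Submodule.mem_sup_left ha) (Submodule.mem_sup_right ?_)
  refine Submodule.sum_mem _ (fun i _ => ?_)
  rw [Algebra.smul_def]
  exact Ideal.mul_mem_right _ _ (Ideal.mem_map_of_mem _ (hak i))

end devissage

end Groth.Agent.Lib.Helper29.Bc
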