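import Groth.Agent.Lib.Helper29.BcA

/-!
# Base change of tame symbols, part B: the dévissage step and the main length identity
-/

set_option autoImplicit false

namespace Groth.Agent.Lib.Helper29.Bc

universe u

open IsLocalRing Groth.Agent.Lib.Helper29.LengthFormula

section step

variable {A' : Type u} [CommRing A'] [IsLocalRing A'] {S : Type u} [CommRing S] [Algebra A' S]
variable {𝔞 : Ideal A'} {I : Ideal S} {f : ℕ}

/-- the ideal `I + J S` -/
abbrev idl (I : Ideal S) (J : Ideal A') : Ideal S := I ⊔ J.map (algebraMap A' S)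

theorem idl_mono (I : Ideal S) {J J' : Ideal A'} (h : J ≤ J') : idl I J ≤ idl I J' :=
  sup_le_sup_left (Ideal.map_mono h) _

/-- one dévissage step -/
theorem Frame.lam_step (F : Frame 𝔞 I f) (J : Ideal A') (h𝔞 : 𝔞 ≤ J) (t : A') (ht : t ∉ J)
    (hmt : ∀ a ∈ maximalIdeal A', a * t ∈ J) (p : Ideal S) :
    lam (S ⧸ idl I J) p = lam (S ⧸ idl I (maximalIdeal A')) p +
      lam (S ⧸ idl I (J ⊔ Ideal.span {t})) p := by
  have h1 : idl I (maximalIdeal A') ≤
      Submodule.comap (algebraMap A' S t • (LinearMap.id : S →ₗ[S] S)) (idl I J) := by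
    intro x hx
    obtain ⟨u, hu, z, hz, rfl⟩ := Submodule.mem_sup.mp hx
    rw [Submodule.mem_comap, map_add]
    refine Submodule.add_mem _ (Submodule.mem_sup_left ?_) (Submodule.mem_sup_right ?_)
    · exact Ideal.mul_mem_left _ _ hu
    · have hz' : z ∈ ((maximalIdeal A') • ⊤ : Submodule A' S) := by
        rw [Ideal.smul_top_eq_map]; exact hz
      refine Submodule.smul_induction_on hz' (fun a ha s _ => ?_) (fun x y hx hy => ?_)
      · show algebraMap A' S t * (a • s) ∈ J.map (algebraMap A' S)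
        rw [Algebra.smul_def, ← mul_assoc, ← map_mul, mul_comm t a]
        exact Ideal.mul_mem_right _ _ (Ideal.mem_map_of_mem _ (hmt a ha))
      · rw [map_add]; exact Ideal.add_mem _ hx hy
  let μ : (S ⧸ idl I (maximalIdeal A')) →ₗ[S] (S ⧸ idl I J) :=
    Submodule.mapQ _ _ (algebraMap A' S t • (LinearMap.id : S →ₗ[S] S)) h1
  have hle : idl I J ≤ idl I (J ⊔ Ideal.span {t}) := idl_mono I le_sup_left
  let π : (S ⧸ idl I J) →ₗ[S] (S ⧸ idl I (J ⊔ Ideal.span {t})) :=
    Submodule.mapQ _ _ LinearMap.id (by rwa [Submodule.comap_id])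
  have hμ : ∀ x : S, μ (Submodule.Quotient.mk x) = Submodule.Quotient.mk (algebraMap A' S t * x) :=
    fun x => rfl
  have hπ : ∀ x : S, π (Submodule.Quotient.mk x) = Submodule.Quotient.mk x := fun x => rfl
  have hinj : Function.Injective μ := by
    rw [injective_iff_map_eq_zero]
    intro y hy
    obtain ⟨x, rfl⟩ := Submodule.Quotient.mk_surjective _ y
    rw [hμ, Submodule.Quotient.mk_eq_zero] at hy
    rw [Submodule.Quotient.mk_eq_zero]
    apply F.mem_of_smul_mem J h𝔞 t ht x
    rwa [Algebra.smul_def]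
  have hsurj : Function.Surjective π := by
    intro y
    obtain ⟨x, rfl⟩ := Submodule.Quotient.mk_surjective _ y
    exact ⟨Submodule.Quotient.mk x, rfl⟩
  have hex : Function.Exact μ π := by
    intro y
    obtain ⟨x, rfl⟩ := Submodule.Quotient.mk_surjective _ y
    rw [hπ, Submodule.Quotient.mk_eq_zero]
    constructor
    · intro hx
      have hx' : x ∈ idl I J ⊔ Ideal.span {algebraMap A' S t} := by
        have : idl I (J ⊔ Ideal.span {t}) = idl I J ⊔ Ideal.span {algebraMap A' S t} := by
          unfold idl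
          rw [Ideal.map_sup, Ideal.map_span, Set.image_singleton, sup_assoc]
        rwa [this] at hx
      obtain ⟨u, hu, z, hz, rfl⟩ := Submodule.mem_sup.mp hx'
      obtain ⟨s, rfl⟩ := Ideal.mem_span_singleton'.mp hz
      refine ⟨Submodule.Quotient.mk s, ?_⟩
      rw [hμ, Submodule.Quotient.eq]
      have : algebraMap A' S t * s - (u + s * algebraMap A' S t) = -u := by ring
      rw [this]
      exact Submodule.neg_mem _ hu
    · rintro ⟨y', hy'⟩
      obtain ⟨s, rfl⟩ := Submodule.Quotient.mk_surjective _ y'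
      rw [hμ, Submodule.Quotient.eq] at hy'
      have h2 : algebraMap A' S t * s ∈ idl I (J ⊔ Ideal.span {t}) := by
        refine Submodule.mem_sup_right (Ideal.mul_mem_right _ _ (Ideal.mem_map_of_mem _ ?_))
        exact Ideal.mem_sup_right (Ideal.mem_span_singleton_self t)
      have h3 : x = algebraMap A' S t * s - (algebraMap A' S t * s - x) := by ring
      rw [h3]
      exact Submodule.sub_mem _ h2 (hle hy')
  exact lam_add μ π hinj hsurj hex p

end step

section main

variable {A' : Type u} [CommRing A'] [IsLocalRing A'] {S : Type u} [CommRing S] [Algebra A' S]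
variable {𝔞 : Ideal A'} {I : Ideal S} {f : ℕ}

/-- consequences of a covering relation between submodules of `A'/𝔞` -/
theorem covBy_data {N N' : Submodule A' (A' ⧸ 𝔞)} (h : N ⋖ N') :
    ∃ t : A', t ∉ Submodule.comap (Submodule.mkQ 𝔞) N ∧
      (∀ a ∈ maximalIdeal A', a * t ∈ Submodule.comap (Submodule.mkQ 𝔞) N) ∧
      (Submodule.comap (Submodule.mkQ 𝔞) N' : Ideal A') =
        (Submodule.comap (Submodule.mkQ 𝔞) N : Ideal A') ⊔ Ideal.span {t} := by
  obtain ⟨x, hxN', hxN⟩ := SetLike.exists_of_lt h.lt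
  obtain ⟨t, rfl⟩ := Submodule.mkQ_surjective 𝔞 x
  have hsup : N ⊔ Submodule.span A' {Submodule.mkQ 𝔞 t} = N' := by
    have h1 : N < N ⊔ Submodule.span A' {Submodule.mkQ 𝔞 t} := by
      refine lt_of_le_of_ne le_sup_left (fun heq => hxN ?_)
      rw [heq]
      exact Submodule.mem_sup_right (Submodule.mem_span_singleton_self _)
    have h2 : N ⊔ Submodule.span A' {Submodule.mkQ 𝔞 t} ≤ N' :=
      sup_le h.le (by rw [Submodule.span_le, Set.singleton_subset_iff]; exact hxN')
    exact (h.eq_or_eq h1.le h2).resolve_left h1.ne'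
  refine ⟨t, hxN, ?_, ?_⟩
  · intro a ha
    show Submodule.mkQ 𝔞 (a * t) ∈ N
    have hat : Submodule.mkQ 𝔞 (a * t) = a • Submodule.mkQ 𝔞 t := by
      rw [← smul_eq_mul, map_smul]
    rw [hat]
    by_contra hna
    have h1 : N < N ⊔ Submodule.span A' {a • Submodule.mkQ 𝔞 t} := by
      refine lt_of_le_of_ne le_sup_left (fun heq => hna ?_)
      rw [heq]
      exact Submodule.mem_sup_right (Submodule.mem_span_singleton_self _)
    have h2 : N ⊔ Submodule.span A' {a • Submodule.mkQ 𝔞 t} ≤ N' :=
      sup_le h.le (by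
        rw [Submodule.span_le, Set.singleton_subset_iff]
        exact Submodule.smul_mem _ _ hxN')
    have h3 := (h.eq_or_eq h1.le h2).resolve_left h1.ne'
    have h4 : Submodule.mkQ 𝔞 t ∈ N ⊔ Submodule.span A' {a • Submodule.mkQ 𝔞 t} := by
      rw [h3]; exact hxN'
    obtain ⟨n, hn, z, hz, hnz⟩ := Submodule.mem_sup.mp h4
    obtain ⟨c, rfl⟩ := Submodule.mem_span_singleton.mp hz
    have hu : IsUnit (1 - c * a) := by
      have : c * a ∈ maximalIdeal A' := Ideal.mul_mem_left _ _ ha
      have h5 := (IsLocalRing.mem_maximalIdeal _).mp this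
      have := IsLocalRing.isUnit_or_isUnit_of_add_one (a := c * a) (b := 1 - c * a) (by ring)
      exact this.resolve_left h5
    have h6 : (1 - c * a) • Submodule.mkQ 𝔞 t = n := by
      rw [sub_smul, one_smul, mul_smul]
      exact sub_eq_iff_eq_add.mpr hnz.symm
    apply hxN
    obtain ⟨d, hd⟩ := hu.exists_left_inv
    have : Submodule.mkQ 𝔞 t = d • n := by
      rw [← h6, smul_smul, hd, one_smul]
    rw [this]
    exact Submodule.smul_mem _ _ hn
  · apply le_antisymm
    · intro y hy
      have hy' : Submodule.mkQ 𝔞 y ∈ N' := hy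
      rw [← hsup] at hy'
      obtain ⟨n, hn, z, hz, hnz⟩ := Submodule.mem_sup.mp hy'
      obtain ⟨c, rfl⟩ := Submodule.mem_span_singleton.mp hz
      have h1 : y - c * t ∈ Submodule.comap (Submodule.mkQ 𝔞) N := by
        show Submodule.mkQ 𝔞 (y - c * t) ∈ N
        have : Submodule.mkQ 𝔞 (y - c * t) = n := by
          rw [map_sub, ← hnz, ← smul_eq_mul, map_smul]
          abel
        rw [this]; exact hn
      have h2 : y = (y - c * t) + c * t := by ring
      rw [h2]
      exact Submodule.add_mem _ (Submodule.mem_sup_left h1)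
        (Submodule.mem_sup_right (Ideal.mul_mem_left _ _ (Ideal.mem_span_singleton_self t)))
    · refine sup_le (Submodule.comap_mono h.le) ?_
      rw [Ideal.span_le, Set.singleton_subset_iff]
      exact hxN'

theorem Frame.lam_eq (F : Frame 𝔞 I f) (hfl : IsFiniteLength A' (A' ⧸ 𝔞)) (p : Ideal S) :
    lam (S ⧸ idl I 𝔞) p =
      Module.length A' (A' ⧸ 𝔞) * lam (S ⧸ idl I (maximalIdeal A')) p := by
  obtain ⟨s, h0, h1⟩ := isFiniteLength_iff_exists_compositionSeries.mp hfl
  have hlen := Module.length_compositionSeries s h0 h1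
  let J : Fin (s.length + 1) → Ideal A' := fun i => Submodule.comap (Submodule.mkQ 𝔞) (s i)
  have key := tele_desc (fun i => lam (S ⧸ idl I (J i)) p)
    (lam (S ⧸ idl I (maximalIdeal A')) p) (fun i => by
      obtain ⟨t, ht, hmt, hJ⟩ := covBy_data (s.step i)
      have h𝔞 : 𝔞 ≤ J i.castSucc := by
        intro a ha
        show Submodule.mkQ 𝔞 a ∈ s i.castSucc
        have : Submodule.mkQ 𝔞 a = 0 := by
          rw [Submodule.mkQ_apply, Submodule.Quotient.mk_eq_zero]; exact ha
        rw [this]; exact zero_mem _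
      have := F.lam_step (J i.castSucc) h𝔞 t ht hmt p
      show lam (S ⧸ idl I (J i.castSucc)) p = lam (S ⧸ idl I (J i.succ)) p + _
      have hJ' : J i.succ = J i.castSucc ⊔ Ideal.span {t} := hJ
      rw [hJ', this, add_comm])
  have hJ0 : J 0 = 𝔞 := by
    have : s 0 = ⊥ := h0
    show Submodule.comap (Submodule.mkQ 𝔞) (s 0) = 𝔞
    rw [this, Submodule.comap_bot, Submodule.ker_mkQ]
  have hJl : J (Fin.last s.length) = ⊤ := by
    have : s (Fin.last s.length) = ⊤ := h1
    show Submodule.comap (Submodule.mkQ 𝔞) (s (Fin.last s.length)) = ⊤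
    rw [this, Submodule.comap_top]
  have hlast : lam (S ⧸ idl I (J (Fin.last s.length))) p = 0 := by
    by_cases hp : p.IsPrime
    · refine lam_eq_zero_of_smul_eq_zero _ p 1 (fun h => hp.ne_top ((Ideal.eq_top_iff_one _).mpr h)) ?_
      intro x
      obtain ⟨y, rfl⟩ := Submodule.Quotient.mk_surjective _ x
      rw [one_smul, Submodule.Quotient.mk_eq_zero, hJl]
      unfold idl
      rw [Ideal.map_top, sup_top_eq]
      trivial
    · exact lam_of_not_isPrime _ _ hp
  rw [hlast, zero_add] at key
  have key' : ∀ J₀ : Ideal A', J 0 = J₀ → lam (S ⧸ idl I J₀) p =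
      (s.length : ℕ∞) * lam (S ⧸ idl I (maximalIdeal A')) p := by
    intro J₀ h
    subst h
    exact key
  rw [key' 𝔞 hJ0, ← hlen]

end main

end Groth.Agent.Lib.Helper29.Bc
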