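import Groth.Agent.Lib.Helper29.TameG

/-!
# Tame symbols, part H: invariance of the product of norms of local symbols
-/

set_option autoImplicit false

namespace Groth.Agent.Lib.Helper29.Tame

universe u

open IsLocalRing

section deg

variable {A : Type u} [CommRing A] [IsLocalRing A] {R : Type u} [CommRing R] [Algebra A R]
  [Module.Finite A R]
  [hloc : ∀ n : MaximalSpectrum R, IsLocalHom (algebraMap A (Localization.AtPrime n.asIdeal))]

theorem finite_residueField (n : MaximalSpectrum R) :
    Module.Finite (ResidueField A) (ResidueField (Localization.AtPrime n.asIdeal)) := by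
  haveI : Module.Finite A (ResidueField (Localization.AtPrime n.asIdeal)) :=
    Module.Finite.equiv (quotEquivResidue (A := A) n)
  exact Module.Finite.of_restrictScalars_finite A _ _

theorem resDeg_pos (n : MaximalSpectrum R) :
    0 < Module.finrank (ResidueField A) (ResidueField (Localization.AtPrime n.asIdeal)) := by
  haveI := finite_residueField (A := A) n
  exact Module.finrank_pos

end deg

section compare

variable {A : Type u} [CommRing A] [IsLocalRing A] [IsNoetherianRing A] [Ring.KrullDimLE 1 A]
  {B B'' : Type u} [CommRing B] [CommRing B''] [Algebra A B] [Algebra A B'']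
  [Module.Finite A B] [Module.Finite A B'']
  [hlocB : ∀ n : MaximalSpectrum B, IsLocalHom (algebraMap A (Localization.AtPrime n.asIdeal))]
  [hlocB'' : ∀ n : MaximalSpectrum B'',
    IsLocalHom (algebraMap A (Localization.AtPrime n.asIdeal))]

omit hlocB in
theorem instances_localization' (A' : Type u) [CommRing A'] [IsLocalRing A'] [IsNoetherianRing A']
    [Ring.KrullDimLE 1 A'] {B' : Type u} [CommRing B'] [Algebra A' B'] [Module.Finite A' B']
    (n : MaximalSpectrum B') :
    IsNoetherianRing (Localization.AtPrime n.asIdeal) ∧
      Ring.KrullDimLE 1 (Localization.AtPrime n.asIdeal) := by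
  haveI : IsNoetherianRing B' := isNoetherianRing_of_finite A'
  haveI : Ring.KrullDimLE 1 B' := krullDimLE_one_of_finite (A := A')
  exact ⟨IsLocalization.isNoetherianRing n.asIdeal.primeCompl _ inferInstance,
    krullDimLE_one_localization n.asIdeal⟩

/-- the exponent identity on a fibre -/
theorem fiber_exponent_eq [Fintype (MaximalSpectrum B'')] [DecidableEq (MaximalSpectrum B)]
    {a₁ a₂ : A}
    (F : ∀ q : MaximalSpectrum B, LocFac (Localization.AtPrime q.asIdeal)
      (algebraMap A _ a₁) (algebraMap A _ a₂))
    (g : B →ₐ[A] B'') (hg : Function.Injective g)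
    (hcoker : Module.length A (B'' ⧸ LinearMap.range g.toLinearMap) < ⊤)
    (hpush : ∀ q'' : MaximalSpectrum B'', phi g q'' (F (sigma g q'')).π ∈
      nonZeroDivisors (Localization.AtPrime q''.asIdeal))
    (f : MaximalSpectrum B'' → ℕ)
    (hf : ∀ q'', Module.finrank (ResidueField A) (ResidueField (Localization.AtPrime q''.asIdeal)) =
      Module.finrank (ResidueField A)
        (ResidueField (Localization.AtPrime (sigma g q'').asIdeal)) * f q'')
    (q : MaximalSpectrum B) :
    ∑ q'' ∈ Finset.univ.filter (fun q'' => sigma g q'' = q),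
      f q'' * (Ring.ord (Localization.AtPrime q''.asIdeal)
        (phi g q'' (F (sigma g q'')).π)).toNat =
      (Ring.ord (Localization.AtPrime q.asIdeal) (F q).π).toNat := by
  haveI : IsNoetherianRing B := isNoetherianRing_of_finite A
  haveI : Ring.KrullDimLE 1 B := krullDimLE_one_of_finite (A := A)
  haveI := finite_maximalSpectrum A (R := B)
  obtain ⟨p, hp1, hp2⟩ := exists_global_associate q (F q).π (F q).π_mem
  have hpnz : p ∈ nonZeroDivisors B := by
    apply mem_nonZeroDivisors_of_localization
    intro n
    by_cases hn : n = q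
    · subst hn
      obtain ⟨u, hu⟩ := hp1.symm
      rw [← hu]
      exact mul_mem (F n).π_mem (IsUnit.mem_nonZeroDivisors u.isUnit)
    · exact IsUnit.mem_nonZeroDivisors (isUnit_of_notMem n p (hp2 n hn))
  have hassoc : ∀ q'', sigma g q'' = q →
      Associated (algebraMap B'' (Localization.AtPrime q''.asIdeal) (g p))
        (phi g q'' (F (sigma g q'')).π) := by
    intro q'' h
    subst h
    rw [← phi_algebraMap]
    exact hp1.map (phi g q'')
  have hgpnz : g p ∈ nonZeroDivisors B'' := by
    apply mem_nonZeroDivisors_of_localization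
    intro q''
    by_cases h : sigma g q'' = q
    · obtain ⟨u, hu⟩ := (hassoc q'' h).symm
      rw [← hu]
      exact mul_mem (hpush q'') (IsUnit.mem_nonZeroDivisors u.isUnit)
    · exact IsUnit.mem_nonZeroDivisors
        (isUnit_of_notMem q'' _ (notMem_of_sigma_ne g q'' q h p hp2))
  have key := fiber_sum_eq g hg hcoker q p hpnz hgpnz hp2
  obtain ⟨hN, hK⟩ := instances_localization' A q
  have hR : Ring.ord (Localization.AtPrime q.asIdeal)
      (algebraMap B (Localization.AtPrime q.asIdeal) p) =
      ((Ring.ord (Localization.AtPrime q.asIdeal) (F q).π).toNat : ℕ∞) := by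
    rw [Ring.ord_eq_of_associated hp1, ENat.coe_toNat (Ring.ord_ne_top (F q).π_mem)]
  have hL : ∀ q'' ∈ Finset.univ.filter (fun q'' => sigma g q'' = q),
      (Module.finrank (ResidueField A) (ResidueField (Localization.AtPrime q''.asIdeal)) : ℕ∞) *
        Ring.ord (Localization.AtPrime q''.asIdeal)
          (algebraMap B'' (Localization.AtPrime q''.asIdeal) (g p)) =
      ((Module.finrank (ResidueField A) (ResidueField (Localization.AtPrime q.asIdeal)) *
        (f q'' * (Ring.ord (Localization.AtPrime q''.asIdeal)
          (phi g q'' (F (sigma g q'')).π)).toNat) : ℕ) : ℕ∞) := by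
    intro q'' hq''
    have h : sigma g q'' = q := (Finset.mem_filter.mp hq'').2
    obtain ⟨hN'', hK''⟩ := instances_localization' A q''
    rw [Ring.ord_eq_of_associated (hassoc q'' h), hf q'']
    subst h
    rw [← ENat.coe_toNat (Ring.ord_ne_top (hpush q''))]
    push_cast
    rw [ENat.toNat_coe, mul_assoc]
  rw [Finset.sum_congr rfl hL, hR, ← Nat.cast_sum, ← Nat.cast_mul, Nat.cast_inj,
    ← Finset.mul_sum] at key
  exact Nat.eq_of_mul_eq_mul_left (resDeg_pos (A := A) q) key

end compare

end Groth.Agent.Lib.Helper29.Tame
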