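import Groth.Agent.Lib.Helper29.BcB
import Groth.Agent.Lib.Helper29.TameH

/-!
# Base change of tame symbols, part C: the frame for `A' ⊗[A] B` at a maximal ideal of `B`
-/

set_option autoImplicit false

namespace Groth.Agent.Lib.Helper29.Bc

universe u

open IsLocalRing TensorProduct Groth.Agent.Lib.Helper29.LengthFormula

section frame

variable {A : Type u} [CommRing A] [IsLocalRing A] {B : Type u} [CommRing B] [Algebra A B]
  [Module.Finite A B]
  [hloc : ∀ n : MaximalSpectrum B, IsLocalHom (algebraMap A (Localization.AtPrime n.asIdeal))]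

variable (A) in
/-- the `A`-linear residue map `B → κ(B_n)` -/
noncomputable def resB (n : MaximalSpectrum B) :
    B →ₗ[A] ResidueField (Localization.AtPrime n.asIdeal) :=
  ((IsScalarTower.toAlgHom A (Localization.AtPrime n.asIdeal)
    (ResidueField (Localization.AtPrime n.asIdeal))).comp
      (IsScalarTower.toAlgHom A B (Localization.AtPrime n.asIdeal))).toLinearMap

omit [Module.Finite A B] hloc [IsLocalRing A] in
theorem resB_apply (n : MaximalSpectrum B) (b : B) :
    resB A n b = residue _ (algebraMap B (Localization.AtPrime n.asIdeal) b) := rfl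

omit [Module.Finite A B] hloc [IsLocalRing A] in
theorem resB_eq_zero_iff (n : MaximalSpectrum B) (b : B) : resB A n b = 0 ↔ b ∈ n.asIdeal := by
  haveI := n.isMaximal
  rw [resB_apply, residue_eq_zero_iff,
    IsLocalization.AtPrime.to_map_mem_maximal_iff (Localization.AtPrime n.asIdeal) n.asIdeal]

omit [Module.Finite A B] hloc [IsLocalRing A] in
theorem resB_surjective (n : MaximalSpectrum B) : Function.Surjective (resB A n) := by
  haveI := n.isMaximal
  intro z
  obtain ⟨y, rfl⟩ := (IsLocalization.AtPrime.equivQuotMaximalIdeal n.asIdeal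
      (Localization.AtPrime n.asIdeal)).surjective z
  obtain ⟨b, rfl⟩ := Ideal.Quotient.mk_surjective y
  refine ⟨b, ?_⟩
  rw [resB_apply, IsLocalization.AtPrime.equivQuotMaximalIdeal_apply_mk]
  rfl

end frame

section frame2

variable {A : Type u} [CommRing A] [IsLocalRing A] {B : Type u} [CommRing B] [Algebra A B]
  [Module.Finite A B]
  [hloc : ∀ n : MaximalSpectrum B, IsLocalHom (algebraMap A (Localization.AtPrime n.asIdeal))]

variable (A) in
/-- the residue degree at `n` -/
noncomputable abbrev rdeg (n : MaximalSpectrum B) : ℕ :=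
  Module.finrank (ResidueField A) (ResidueField (Localization.AtPrime n.asIdeal))

variable (A) in
/-- a basis of the residue field extension -/
noncomputable def bas (n : MaximalSpectrum B) :
    Module.Basis (Fin (rdeg A n)) (ResidueField A)
      (ResidueField (Localization.AtPrime n.asIdeal)) :=
  haveI := Tame.finite_residueField (A := A) n
  Module.finBasis _ _

variable (A) in
/-- lifts of the basis elements to `B` -/
noncomputable def blift (n : MaximalSpectrum B) (i : Fin (rdeg A n)) : B :=
  (resB_surjective (A := A) n (bas A n i)).choose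

theorem resB_blift (n : MaximalSpectrum B) (i : Fin (rdeg A n)) :
    resB A n (blift A n i) = bas A n i :=
  (resB_surjective (A := A) n (bas A n i)).choose_spec

variable (A) in
/-- the coordinate functionals on `B` -/
noncomputable def lamk (n : MaximalSpectrum B) (k : Fin (rdeg A n)) :
    B →ₗ[A] (A ⧸ maximalIdeal A) :=
  (((bas A n).coord k).restrictScalars A : _ →ₗ[A] ResidueField A) ∘ₗ resB A n

theorem lamk_apply (n : MaximalSpectrum B) (k : Fin (rdeg A n)) (b : B) :
    lamk A n k b = (bas A n).repr (resB A n b) k := rfl

theorem lamk_blift (n : MaximalSpectrum B) (k i : Fin (rdeg A n)) :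
    lamk A n k (blift A n i) = if k = i then 1 else 0 := by
  rw [lamk_apply, resB_blift, Module.Basis.repr_self, Finsupp.single_apply]
  by_cases h : i = k
  · rw [if_pos h, if_pos h.symm]; rfl
  · rw [if_neg h, if_neg (fun h' => h h'.symm)]; rfl

theorem lamk_of_mem (n : MaximalSpectrum B) (k : Fin (rdeg A n)) (b : B) (hb : b ∈ n.asIdeal) :
    lamk A n k b = 0 := by
  rw [lamk_apply, (resB_eq_zero_iff (A := A) n b).mpr hb, map_zero]
  rfl

/-- every element of `B` is a combination of the lifts modulo `n` -/
theorem exists_sub_mem (n : MaximalSpectrum B) (b : B) :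
    ∃ c : Fin (rdeg A n) → A, b - ∑ i, c i • blift A n i ∈ n.asIdeal := by
  choose c hc using fun i => residue_surjective ((bas A n).repr (resB A n b) i)
  refine ⟨c, ?_⟩
  rw [← resB_eq_zero_iff (A := A), map_sub, map_sum, sub_eq_zero]
  conv_lhs => rw [← (bas A n).sum_repr (resB A n b)]
  refine Finset.sum_congr rfl (fun i _ => ?_)
  rw [map_smul, resB_blift, ← hc i]
  rfl

end frame2

end Groth.Agent.Lib.Helper29.Bc
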