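import Groth.Agent.Lib.Helper29.BcC

/-!
# Base change of tame symbols, part D: the frame on `A' ⊗[A] B`
-/

set_option autoImplicit false

namespace Groth.Agent.Lib.Helper29.Bc

universe u

open IsLocalRing TensorProduct Groth.Agent.Lib.Helper29.LengthFormula

section frame3

variable {A : Type u} [CommRing A] [IsLocalRing A] {B : Type u} [CommRing B] [Algebra A B]
  [Module.Finite A B]
  [hloc : ∀ n : MaximalSpectrum B, IsLocalHom (algebraMap A (Localization.AtPrime n.asIdeal))]
  (A' : Type u) [CommRing A'] [IsLocalRing A'] [Algebra A A']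

/-- the ideal of `A' ⊗[A] B` generated by `n` -/
abbrev extI (n : MaximalSpectrum B) : Ideal (A' ⊗[A] B) :=
  n.asIdeal.map (Algebra.TensorProduct.includeRight : B →ₐ[A] A' ⊗[A] B)

variable (A) in
/-- the functionals on `A' ⊗[A] B` -/
noncomputable def Tk (n : MaximalSpectrum B) (k : Fin (rdeg A n)) :
    (A' ⊗[A] B) →ₗ[A'] A' ⧸ (maximalIdeal A).map (algebraMap A A') :=
  (Algebra.TensorProduct.quotIdealMapEquivTensorQuot A' (maximalIdeal A)).symm.toLinearMap ∘ₗ
    (lamk A n k).baseChange A'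

theorem Tk_tmul (n : MaximalSpectrum B) (k : Fin (rdeg A n)) (a' : A') (b : B) :
    Tk A A' n k (a' ⊗ₜ b) =
      (Algebra.TensorProduct.quotIdealMapEquivTensorQuot A' (maximalIdeal A)).symm
        (a' ⊗ₜ lamk A n k b) := rfl

theorem Tk_tmul_of_mem (n : MaximalSpectrum B) (k : Fin (rdeg A n)) (a' : A') (b : B)
    (hb : b ∈ n.asIdeal) : Tk A A' n k (a' ⊗ₜ b) = 0 := by
  rw [Tk_tmul, lamk_of_mem n k b hb, tmul_zero, map_zero]

theorem Tk_extI (n : MaximalSpectrum B) (k : Fin (rdeg A n)) (x : A' ⊗[A] B)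
    (hx : x ∈ extI A' n) : Tk A A' n k x = 0 := by
  have h1 := TensorProduct.AlgebraTensorModule.range_lTensor_idealMap (R := A) (A := A') A'
    n.asIdeal
  have hx' : x ∈ (extI (A := A) A' n).restrictScalars A' := hx
  rw [← h1] at hx'
  obtain ⟨y, rfl⟩ := hx'
  clear hx
  induction y using TensorProduct.induction_on with
  | zero => simp
  | tmul a' z =>
    exact Tk_tmul_of_mem A' n k a' z.1 z.2
  | add y z hy hz => rw [map_add, map_add, hy, hz, add_zero]

end frame3

section frame4

variable {A : Type u} [CommRing A] [IsLocalRing A] {B : Type u} [CommRing B] [Algebra A B]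
  [Module.Finite A B]
  [hloc : ∀ n : MaximalSpectrum B, IsLocalHom (algebraMap A (Localization.AtPrime n.asIdeal))]
  (A' : Type u) [CommRing A'] [IsLocalRing A'] [Algebra A A']

theorem Tk_w (n : MaximalSpectrum B) (k i : Fin (rdeg A n)) :
    Tk A A' n k ((1 : A') ⊗ₜ blift A n i) = if k = i then 1 else 0 := by
  rw [Tk_tmul, lamk_blift]
  split_ifs
  · exact map_one _
  · rw [tmul_zero, map_zero]

theorem span_tensor (n : MaximalSpectrum B) (x : A' ⊗[A] B) :
    ∃ a : Fin (rdeg A n) → A', x - ∑ i, a i • ((1 : A') ⊗ₜ[A] blift A n i) ∈ extI A' n := by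
  induction x using TensorProduct.induction_on with
  | zero => exact ⟨0, by simp⟩
  | tmul a' b =>
    obtain ⟨c, hc⟩ := exists_sub_mem (A := A) n b
    refine ⟨fun i => a' * algebraMap A A' (c i), ?_⟩
    have h1 : a' ⊗ₜ[A] b - ∑ i, (a' * algebraMap A A' (c i)) • ((1 : A') ⊗ₜ[A] blift A n i) =
        (a' ⊗ₜ[A] (1 : B)) * (Algebra.TensorProduct.includeRight (R := A) (A := A')
          (b - ∑ i, c i • blift A n i)) := by
      rw [Algebra.TensorProduct.includeRight_apply, Algebra.TensorProduct.tmul_mul_tmul, mul_one,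
        one_mul, tmul_sub, tmul_sum]
      congr 1
      refine Finset.sum_congr rfl (fun i _ => ?_)
      rw [TensorProduct.smul_tmul', smul_eq_mul, mul_one, tmul_smul]
      rw [TensorProduct.smul_tmul', Algebra.smul_def, mul_comm]
    rw [h1]
    exact Ideal.mul_mem_left _ _ (Ideal.mem_map_of_mem _ hc)
  | add x y hx hy =>
    obtain ⟨a₁, h₁⟩ := hx
    obtain ⟨a₂, h₂⟩ := hy
    refine ⟨a₁ + a₂, ?_⟩
    have : x + y - ∑ i, (a₁ + a₂) i • ((1 : A') ⊗ₜ[A] blift A n i) =
        (x - ∑ i, a₁ i • ((1 : A') ⊗ₜ[A] blift A n i)) +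
          (y - ∑ i, a₂ i • ((1 : A') ⊗ₜ[A] blift A n i)) := by
      simp only [Pi.add_apply, add_smul, Finset.sum_add_distrib]
      abel
    rw [this]
    exact Ideal.add_mem _ h₁ h₂

end frame4

section frame5

variable {A : Type u} [CommRing A] [IsLocalRing A] {B : Type u} [CommRing B] [Algebra A B]
  [Module.Finite A B]
  [hloc : ∀ n : MaximalSpectrum B, IsLocalHom (algebraMap A (Localization.AtPrime n.asIdeal))]
  (A' : Type u) [CommRing A'] [IsLocalRing A'] [Algebra A A']

variable (A) in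
/-- the frame at a maximal ideal of `B` -/
noncomputable def frame (n : MaximalSpectrum B) :
    Frame (S := A' ⊗[A] B) ((maximalIdeal A).map (algebraMap A A')) (extI A' n) (rdeg A n) where
  w i := (1 : A') ⊗ₜ blift A n i
  T k := Tk A A' n k
  T_w k i := Tk_w A' n k i
  T_I k x hx := Tk_extI A' n k x hx
  span x := span_tensor A' n x

theorem map_le_extI (n : MaximalSpectrum B) :
    ((maximalIdeal A).map (algebraMap A A')).map (algebraMap A' (A' ⊗[A] B)) ≤ extI A' n := by
  rw [Ideal.map_map, ← IsScalarTower.algebraMap_eq, Ideal.map_le_iff_le_comap]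
  intro a ha
  rw [Ideal.mem_comap]
  have h1 : algebraMap A (A' ⊗[A] B) a =
      (Algebra.TensorProduct.includeRight : B →ₐ[A] A' ⊗[A] B) (algebraMap A B a) :=
    (AlgHom.commutes _ a).symm
  rw [h1]
  refine Ideal.mem_map_of_mem _ ?_
  have h2 : a ∈ n.asIdeal.comap (algebraMap A B) := by
    rw [Tame.comap_maximal n]; exact ha
  exact h2

/-- the main length identity for the base change -/
theorem lam_ext (n : MaximalSpectrum B)
    (hfl : IsFiniteLength A' (A' ⧸ (maximalIdeal A).map (algebraMap A A')))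
    (p : Ideal (A' ⊗[A] B)) :
    lam ((A' ⊗[A] B) ⧸ extI A' n) p =
      Module.length A' (A' ⧸ (maximalIdeal A).map (algebraMap A A')) *
        lam ((A' ⊗[A] B) ⧸ idl (extI A' n) (maximalIdeal A')) p := by
  rw [← (frame A A' n).lam_eq hfl p]
  have h : idl (extI A' n) ((maximalIdeal A).map (algebraMap A A')) = extI A' n :=
    sup_eq_left.mpr (map_le_extI A' n)
  exact lam_congr (Submodule.quotEquivOfEq _ _ h.symm) p

end frame5

end Groth.Agent.Lib.Helper29.Bc
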