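import Groth.Agent.Lib.Helper29.BcD

/-!
# Base change of tame symbols, part E: determinants on modules over finite algebras over a field

For a finite commutative algebra `E` over a field `k`, a finite `E`-module `M` and `y ∈ E`:
`det_k (y | M) = ∏_n N_{(E/n)/k}(y mod n) ^ λ_n(M)`.
-/

set_option autoImplicit false

namespace Groth.Agent.Lib.Helper29.Bc

universe u

open IsLocalRing Groth.Agent.Lib.Helper29.LengthFormula

section detlemmas

variable {k : Type u} [Field k]

theorem det_congr_equiv {M N : Type u} [AddCommGroup M] [Module k M] [AddCommGroup N] [Module k N]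
    (e : M ≃ₗ[k] N) (f : M →ₗ[k] M) (g : N →ₗ[k] N) (h : ∀ x, e (f x) = g (e x)) :
    LinearMap.det f = LinearMap.det g := by
  rw [← LinearMap.det_conj f e]
  congr 1
  ext x
  simp only [LinearMap.coe_comp, LinearEquiv.coe_coe, Function.comp_apply]
  rw [h, LinearEquiv.apply_symm_apply]

variable {E : Type u} [CommRing E] [Algebra k E]

/-- multiplication by `y` as a `k`-linear map -/
noncomputable def ymap (M : Type u) [AddCommGroup M] [Module E M] [Module k M] [IsScalarTower k E M]
    (y : E) : M →ₗ[k] M :=
  (LinearMap.lsmul E M y).restrictScalars k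

theorem ymap_apply (M : Type u) [AddCommGroup M] [Module E M] [Module k M] [IsScalarTower k E M]
    (y : E) (x : M) : ymap (k := k) M y x = y • x := rfl

theorem det_ymap_quotient (I : Ideal E) [Module.Finite k E] (y : E) :
    LinearMap.det (ymap (k := k) (E ⧸ I) y) = Algebra.norm k (Ideal.Quotient.mk I y) := by
  rw [Algebra.norm_apply]
  congr 1

/-- the determinant is multiplicative along a submodule -/
theorem det_ymap_submodule (M : Type u) [AddCommGroup M] [Module E M] [Module k M]
    [IsScalarTower k E M] [Module.Finite k M] (N : Submodule E M) (y : E) :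
    LinearMap.det (ymap (k := k) M y) =
      LinearMap.det (ymap (k := k) ↥N y) * LinearMap.det (ymap (k := k) (M ⧸ N) y) := by
  have he : N.restrictScalars k ≤ (N.restrictScalars k).comap (ymap (k := k) M y) := by
    intro x hx
    exact N.smul_mem y hx
  rw [LinearMap.det_eq_det_mul_det (N.restrictScalars k) (ymap (k := k) M y) he]
  congr 1

end detlemmas

section nf

variable {k : Type u} [Field k] {E : Type u} [CommRing E] [Algebra k E] [Module.Finite k E]

/-- the product of norms with multiplicities -/
noncomputable def normProd (M : Type u) [AddCommGroup M] [Module E M] (y : E) : k :=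
  ∏ᶠ n : MaximalSpectrum E,
    Algebra.norm k (Ideal.Quotient.mk n.asIdeal y) ^ (lam M n.asIdeal).toNat

omit [Module.Finite k E] in
theorem lam_of_subsingleton (M : Type u) [AddCommGroup M] [Module E M] [Subsingleton M]
    (p : Ideal E) : lam M p = 0 := by
  by_cases hp : p.IsPrime
  · refine lam_eq_zero_of_smul_eq_zero _ p 1 (fun h => hp.ne_top ((Ideal.eq_top_iff_one _).mpr h)) ?_
    intro x
    exact Subsingleton.elim _ _
  · exact lam_of_not_isPrime _ _ hp

theorem nf_aux (M : Type u) [AddCommGroup M] [Module E M] (h : IsFiniteLength E M) :
    (∀ n : MaximalSpectrum E, lam M n.asIdeal ≠ ⊤) ∧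
      ∀ [Module k M] [IsScalarTower k E M] [Module.Finite k M] (y : E),
        LinearMap.det (ymap (k := k) M y) = normProd (k := k) M y := by
  haveI : IsArtinianRing E := IsArtinianRing.of_finite k E
  haveI : Fintype (MaximalSpectrum E) := Fintype.ofFinite _
  induction h with
  | of_subsingleton =>
    refine ⟨fun n => ?_, ?_⟩
    · rw [lam_of_subsingleton]; exact ENat.zero_ne_top
    · intro _ _ _ y
      rw [LinearMap.det_eq_one_of_subsingleton]
      unfold normProd
      symm
      apply finprod_eq_one_of_forall_eq_one
      intro n
      rw [lam_of_subsingleton, ENat.toNat_zero, pow_zero]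
  | @of_simple_quotient M _ _ N hsimple hN ih =>
    obtain ⟨I, hI, ⟨e⟩⟩ := isSimpleModule_iff_quot_maximal.mp hsimple
    have hlam : ∀ n : MaximalSpectrum E, lam M n.asIdeal =
        lam ↥N n.asIdeal + (if I = n.asIdeal then 1 else 0) := by
      intro n
      haveI := n.isMaximal
      rw [lam_add N.subtype N.mkQ (Submodule.subtype_injective _) (Submodule.mkQ_surjective _)
        (by rw [LinearMap.exact_iff, Submodule.ker_mkQ, Submodule.range_subtype]) n.asIdeal]
      congr 1
      rw [lam_congr e n.asIdeal]
      by_cases hIn : I = n.asIdeal
      · subst hIn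
        rw [if_pos rfl]
        exact lam_quotient_self _
      · rw [if_neg hIn]
        apply lam_quotient_of_not_le
        intro hle
        exact hIn (hI.eq_of_le n.isMaximal.ne_top hle)
    refine ⟨fun n => ?_, ?_⟩
    · rw [hlam n]
      refine WithTop.add_ne_top.mpr ⟨ih.1 n, ?_⟩
      split_ifs
      · exact ENat.one_ne_top
      · exact ENat.zero_ne_top
    · intro _ _ _ y
      haveI : Module.Finite k ↥N :=
        Module.Finite.of_injective (N.subtype.restrictScalars k) (Submodule.subtype_injective _)
      rw [det_ymap_submodule M N y, ih.2 y]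
      have h2 : LinearMap.det (ymap (k := k) (M ⧸ N) y) =
          Algebra.norm k (Ideal.Quotient.mk I y) := by
        rw [← det_ymap_quotient I y]
        refine det_congr_equiv (e.restrictScalars k) _ _ (fun x => ?_)
        show e (y • x) = y • e x
        exact map_smul e y x
      rw [h2]
      unfold normProd
      rw [finprod_eq_prod_of_fintype, finprod_eq_prod_of_fintype]
      have h3 : ∀ n : MaximalSpectrum E,
          Algebra.norm k (Ideal.Quotient.mk n.asIdeal y) ^ (lam M n.asIdeal).toNat =
            Algebra.norm k (Ideal.Quotient.mk n.asIdeal y) ^ (lam ↥N n.asIdeal).toNat *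
              (if I = n.asIdeal then Algebra.norm k (Ideal.Quotient.mk n.asIdeal y) else 1) := by
        intro n
        rw [hlam n]
        split_ifs with hIn
        · rw [ENat.toNat_add (ih.1 n) ENat.one_ne_top, ENat.toNat_one, pow_succ]
        · rw [add_zero, mul_one]
      simp only [h3, Finset.prod_mul_distrib]
      congr 1
      rw [Finset.prod_eq_single (⟨I, hI⟩ : MaximalSpectrum E)]
      · rw [if_pos rfl]
      · intro n _ hn
        rw [if_neg]
        intro hIn
        apply hn
        exact MaximalSpectrum.ext hIn.symm
      · intro hh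
        exact absurd (Finset.mem_univ _) hh

/-- **determinant formula** -/
theorem det_ymap_eq (M : Type u) [AddCommGroup M] [Module E M] [Module k M] [IsScalarTower k E M]
    [Module.Finite k M] (y : E) :
    LinearMap.det (ymap (k := k) M y) = normProd (k := k) M y := by
  have hfl : IsFiniteLength E M := by
    haveI : IsArtinianRing E := IsArtinianRing.of_finite k E
    haveI : Module.Finite E M := Module.Finite.of_restrictScalars_finite k E M
    rw [isFiniteLength_iff_isNoetherian_isArtinian]
    exact ⟨inferInstance, inferInstance⟩
  exact (nf_aux (k := k) M hfl).2 y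

end nf

end Groth.Agent.Lib.Helper29.Bc
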