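import Groth.Agent.Lib.Helper29.BcE

/-!
# Base change of tame symbols, part F: transfer of localized lengths along a quotient map
-/

set_option autoImplicit false

namespace Groth.Agent.Lib.Helper29.Bc

universe u

open IsLocalRing Groth.Agent.Lib.Helper29.LengthFormula

section transfer

variable {S : Type u} [CommRing S]

theorem lam_of_subsingleton' (M : Type u) [AddCommGroup M] [Module S M] [Subsingleton M]
    (p : Ideal S) : lam M p = 0 := by
  by_cases hp : p.IsPrime
  · refine lam_eq_zero_of_smul_eq_zero _ p 1 (fun h => hp.ne_top ((Ideal.eq_top_iff_one _).mpr h)) ?_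
    intro x
    exact Subsingleton.elim _ _
  · exact lam_of_not_isPrime _ _ hp

variable (I₀ : Ideal S)

/-- `λ_q'((S/I₀)/I)` for the preimage `J` of `I` -/
theorem lam_doubleQuot (I : Ideal (S ⧸ I₀)) [hI : I.IsMaximal] (q' : Ideal S) [hq' : q'.IsMaximal] :
    lam ((S ⧸ I₀) ⧸ I) q' = if I.comap (Ideal.Quotient.mk I₀) = q' then 1 else 0 := by
  set J := I.comap (Ideal.Quotient.mk I₀) with hJ
  haveI hJmax : J.IsMaximal := Ideal.comap_isMaximal_of_surjective _ Ideal.Quotient.mk_surjective
  let f : S →ₗ[S] (S ⧸ I₀) ⧸ I :=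
    (Ideal.Quotient.mkₐ S I).toLinearMap ∘ₗ (Ideal.Quotient.mkₐ S I₀).toLinearMap
  have hf : ∀ x, f x = Ideal.Quotient.mk I (Ideal.Quotient.mk I₀ x) := fun x => rfl
  have hsurj : Function.Surjective f := by
    intro z
    obtain ⟨z, rfl⟩ := Ideal.Quotient.mk_surjective z
    obtain ⟨x, rfl⟩ := Ideal.Quotient.mk_surjective z
    exact ⟨x, rfl⟩
  have hker : LinearMap.ker f = J := by
    ext x
    rw [LinearMap.mem_ker, hf, Ideal.Quotient.eq_zero_iff_mem]
    rfl
  let e : (S ⧸ J) ≃ₗ[S] (S ⧸ I₀) ⧸ I :=
    (Submodule.quotEquivOfEq _ _ hker.symm).trans (f.quotKerEquivOfSurjective hsurj)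
  rw [← lam_congr e q']
  by_cases h : J = q'
  · rw [if_pos h, ← h]
    exact lam_quotient_self J
  · rw [if_neg h]
    apply lam_quotient_of_not_le
    intro hle
    exact h (hJmax.eq_of_le hq'.ne_top hle)

theorem lam_transfer (M : Type u) [AddCommGroup M] [Module (S ⧸ I₀) M]
    (h : IsFiniteLength (S ⧸ I₀) M) :
    ∀ [Module S M] [IsScalarTower S (S ⧸ I₀) M] (n : Ideal (S ⧸ I₀)) [n.IsMaximal],
      lam M n = lam M (n.comap (Ideal.Quotient.mk I₀)) := by
  induction h with
  | of_subsingleton =>
    intro _ _ n _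
    rw [lam_of_subsingleton', lam_of_subsingleton']
  | @of_simple_quotient M _ _ N hsimple hN ih =>
    intro _ _ n hn
    obtain ⟨I, hI, ⟨e⟩⟩ := isSimpleModule_iff_quot_maximal.mp hsimple
    haveI hq' : (n.comap (Ideal.Quotient.mk I₀)).IsMaximal :=
      Ideal.comap_isMaximal_of_surjective _ Ideal.Quotient.mk_surjective
    rw [lam_add N.subtype N.mkQ (Submodule.subtype_injective _) (Submodule.mkQ_surjective _)
      (by rw [LinearMap.exact_iff, Submodule.ker_mkQ, Submodule.range_subtype]) n]
    rw [lam_add (N.subtype.restrictScalars S) (N.mkQ.restrictScalars S)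
      (Submodule.subtype_injective _) (Submodule.mkQ_surjective _)
      (by
        intro x
        have := (LinearMap.exact_iff (f := N.subtype) (g := N.mkQ)).mpr
          (by rw [Submodule.ker_mkQ, Submodule.range_subtype]) x
        exact this) (n.comap (Ideal.Quotient.mk I₀))]
    rw [ih n]
    congr 1
    rw [lam_congr e n, lam_congr (e.restrictScalars S) (n.comap (Ideal.Quotient.mk I₀)),
      lam_doubleQuot I₀ I]
    by_cases hIn : I = n
    · subst hIn
      rw [if_pos rfl]
      exact lam_quotient_self I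
    · have h1 : lam ((S ⧸ I₀) ⧸ I) n = 0 := by
        apply lam_quotient_of_not_le
        intro hle
        exact hIn (hI.eq_of_le hn.ne_top hle)
      rw [h1, if_neg]
      intro hc
      apply hIn
      have := congrArg (Ideal.map (Ideal.Quotient.mk I₀)) hc
      rwa [Ideal.map_comap_of_surjective _ Ideal.Quotient.mk_surjective,
        Ideal.map_comap_of_surjective _ Ideal.Quotient.mk_surjective] at this

end transfer

end Groth.Agent.Lib.Helper29.Bc
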