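import Groth.Agent.Lib.Helper29.BcF

/-!
# Base change of tame symbols, part G: the determinant formula over a semi-local ring
-/

set_option autoImplicit false

namespace Groth.Agent.Lib.Helper29.Bc

universe u

open IsLocalRing Groth.Agent.Lib.Helper29.LengthFormula

section semilocal

variable {A : Type u} [CommRing A] [IsLocalRing A] {S : Type u} [CommRing S] [Algebra A S]
  [Module.Finite A S]
  [hloc : ∀ n : MaximalSpectrum S, IsLocalHom (algebraMap A (Localization.AtPrime n.asIdeal))]

variable (A) in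
/-- the local norm factor at a maximal ideal -/
noncomputable def dfac (y : S) (q' : MaximalSpectrum S) : ResidueField A :=
  Algebra.norm (ResidueField A)
    (residue (Localization.AtPrime q'.asIdeal) (algebraMap S (Localization.AtPrime q'.asIdeal) y))

variable (I₀ : Ideal S)

/-- the maximal ideal of `S` below a maximal ideal of `S/I₀` -/
def below (n : MaximalSpectrum (S ⧸ I₀)) : MaximalSpectrum S :=
  ⟨n.asIdeal.comap (Ideal.Quotient.mk I₀),
    haveI := n.isMaximal
    Ideal.comap_isMaximal_of_surjective _ Ideal.Quotient.mk_surjective⟩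

omit [Algebra A S] [Module.Finite A S] hloc [IsLocalRing A] in
theorem below_injective : Function.Injective (below I₀) := by
  intro n n' h
  have h1 : n.asIdeal.comap (Ideal.Quotient.mk I₀) = n'.asIdeal.comap (Ideal.Quotient.mk I₀) :=
    congrArg MaximalSpectrum.asIdeal h
  have := congrArg (Ideal.map (Ideal.Quotient.mk I₀)) h1
  rw [Ideal.map_comap_of_surjective _ Ideal.Quotient.mk_surjective,
    Ideal.map_comap_of_surjective _ Ideal.Quotient.mk_surjective] at this
  exact MaximalSpectrum.ext this

omit [Algebra A S] [Module.Finite A S] hloc [IsLocalRing A] in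
theorem mem_range_below (q' : MaximalSpectrum S) (h : I₀ ≤ q'.asIdeal) :
    q' ∈ Set.range (below I₀) := by
  haveI := q'.isMaximal
  have hmax : (q'.asIdeal.map (Ideal.Quotient.mk I₀)).IsMaximal :=
    Ideal.IsMaximal.map_of_surjective_of_ker_le Ideal.Quotient.mk_surjective
      (by rw [Ideal.mk_ker]; exact h)
  refine ⟨⟨_, hmax⟩, ?_⟩
  apply MaximalSpectrum.ext
  exact Ideal.comap_map_mk h

omit [Algebra A S] [Module.Finite A S] hloc [IsLocalRing A] in
theorem le_below (n : MaximalSpectrum (S ⧸ I₀)) : I₀ ≤ (below I₀ n).asIdeal := by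
  intro x hx
  show Ideal.Quotient.mk I₀ x ∈ n.asIdeal
  rw [Ideal.Quotient.eq_zero_iff_mem.mpr hx]
  exact zero_mem _

omit [Algebra A S] [Module.Finite A S] hloc [IsLocalRing A] in
/-- the localized length of `S/I₀` vanishes at maximal ideals not containing `I₀` -/
theorem lam_eq_zero_of_not_le (q' : MaximalSpectrum S) (h : ¬ I₀ ≤ q'.asIdeal) :
    lam (S ⧸ I₀) q'.asIdeal = 0 :=
  lam_quotient_of_not_le I₀ q'.asIdeal h

/-- the residue map `S → κ(S_q')` as a ring homomorphism -/
noncomputable def resHom (q' : MaximalSpectrum S) :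
    S →+* ResidueField (Localization.AtPrime q'.asIdeal) :=
  (residue (Localization.AtPrime q'.asIdeal)).comp (algebraMap S (Localization.AtPrime q'.asIdeal))

omit [Algebra A S] [Module.Finite A S] hloc [IsLocalRing A] in
theorem resHom_eq_zero_iff (q' : MaximalSpectrum S) (x : S) : resHom q' x = 0 ↔ x ∈ q'.asIdeal := by
  haveI := q'.isMaximal
  show residue _ (algebraMap S (Localization.AtPrime q'.asIdeal) x) = 0 ↔ _
  rw [residue_eq_zero_iff,
    IsLocalization.AtPrime.to_map_mem_maximal_iff (Localization.AtPrime q'.asIdeal) q'.asIdeal]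

omit [Algebra A S] [Module.Finite A S] hloc [IsLocalRing A] in
theorem resHom_surjective (q' : MaximalSpectrum S) : Function.Surjective (resHom q') := by
  haveI := q'.isMaximal
  intro z
  obtain ⟨y, rfl⟩ := (IsLocalization.AtPrime.equivQuotMaximalIdeal q'.asIdeal
      (Localization.AtPrime q'.asIdeal)).surjective z
  obtain ⟨b, rfl⟩ := Ideal.Quotient.mk_surjective y
  refine ⟨b, ?_⟩
  rw [IsLocalization.AtPrime.equivQuotMaximalIdeal_apply_mk]
  rfl

variable [Algebra (ResidueField A) (S ⧸ I₀)] [IsScalarTower A (ResidueField A) (S ⧸ I₀)]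

/-- the comparison of residue fields -/
noncomputable def resEquiv (n : MaximalSpectrum (S ⧸ I₀)) :
    ((S ⧸ I₀) ⧸ n.asIdeal) ≃ₐ[ResidueField A]
      ResidueField (Localization.AtPrime (below I₀ n).asIdeal) :=
  haveI := n.isMaximal
  let g₁ : (S ⧸ I₀) →+* ResidueField (Localization.AtPrime (below I₀ n).asIdeal) :=
    Ideal.Quotient.lift I₀ (resHom (below I₀ n)) (fun x hx =>
      (resHom_eq_zero_iff (below I₀ n) x).mpr (le_below I₀ n hx))
  let g₂ : ((S ⧸ I₀) ⧸ n.asIdeal) →+* ResidueField (Localization.AtPrime (below I₀ n).asIdeal) :=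
    Ideal.Quotient.lift n.asIdeal g₁ (fun x hx => by
      obtain ⟨x, rfl⟩ := Ideal.Quotient.mk_surjective x
      exact (resHom_eq_zero_iff (below I₀ n) x).mpr hx)
  have hbij : Function.Bijective g₂ := by
    refine ⟨?_, ?_⟩
    · rw [injective_iff_map_eq_zero]
      intro x hx
      obtain ⟨x, rfl⟩ := Ideal.Quotient.mk_surjective x
      obtain ⟨s, rfl⟩ := Ideal.Quotient.mk_surjective x
      have h1 : resHom (below I₀ n) s = 0 := hx
      rw [resHom_eq_zero_iff] at h1
      exact Ideal.Quotient.eq_zero_iff_mem.mpr h1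
    intro z
    obtain ⟨x, rfl⟩ := resHom_surjective (below I₀ n) z
    exact ⟨Ideal.Quotient.mk _ (Ideal.Quotient.mk _ x), rfl⟩
  AlgEquiv.ofBijective
    { g₂ with
      commutes' := by
        intro c
        obtain ⟨a, rfl⟩ := residue_surjective c
        have h1 : algebraMap (ResidueField A) ((S ⧸ I₀) ⧸ n.asIdeal) (residue A a) =
            Ideal.Quotient.mk n.asIdeal (Ideal.Quotient.mk I₀ (algebraMap A S a)) := by
          rw [IsScalarTower.algebraMap_apply (ResidueField A) (S ⧸ I₀) ((S ⧸ I₀) ⧸ n.asIdeal)]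
          have : algebraMap (ResidueField A) (S ⧸ I₀) (residue A a) = algebraMap A (S ⧸ I₀) a :=
            (IsScalarTower.algebraMap_apply A (ResidueField A) (S ⧸ I₀) a).symm
          rw [this]
          rfl
        show g₂ _ = _
        rw [h1]
        show resHom (below I₀ n) (algebraMap A S a) = _
        show residue _ (algebraMap S _ (algebraMap A S a)) = _
        rw [← IsScalarTower.algebraMap_apply A S]
        rfl } hbij

theorem resEquiv_mk (n : MaximalSpectrum (S ⧸ I₀)) (y : S) :
    resEquiv (A := A) I₀ n (Ideal.Quotient.mk _ (Ideal.Quotient.mk _ y)) =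
      residue _ (algebraMap S (Localization.AtPrime (below I₀ n).asIdeal) y) := rfl

end semilocal

section normprod

variable {A : Type u} [CommRing A] [IsLocalRing A] {S : Type u} [CommRing S] [Algebra A S]
  [Module.Finite A S]
  [hloc : ∀ n : MaximalSpectrum S, IsLocalHom (algebraMap A (Localization.AtPrime n.asIdeal))]
  (I₀ : Ideal S)
  [Algebra (ResidueField A) (S ⧸ I₀)] [IsScalarTower A (ResidueField A) (S ⧸ I₀)]
  [Module.Finite (ResidueField A) (S ⧸ I₀)]

theorem normProd_eq (y : S) :
    normProd (k := ResidueField A) (E := S ⧸ I₀) (S ⧸ I₀) (Ideal.Quotient.mk I₀ y) =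
      ∏ᶠ q' : MaximalSpectrum S, dfac A y q' ^ (lam (S ⧸ I₀) q'.asIdeal).toNat := by
  classical
  haveI : IsArtinianRing (S ⧸ I₀) := IsArtinianRing.of_finite (ResidueField A) (S ⧸ I₀)
  haveI : Fintype (MaximalSpectrum (S ⧸ I₀)) := Fintype.ofFinite _
  haveI : Finite (MaximalSpectrum S) := Tame.finite_maximalSpectrum A
  haveI : Fintype (MaximalSpectrum S) := Fintype.ofFinite _
  have hfl : IsFiniteLength (S ⧸ I₀) (S ⧸ I₀) := by
    rw [isFiniteLength_iff_isNoetherian_isArtinian]
    exact ⟨inferInstance, inferInstance⟩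
  unfold normProd
  rw [finprod_eq_prod_of_fintype, finprod_eq_prod_of_fintype]
  have hterm : ∀ n : MaximalSpectrum (S ⧸ I₀),
      Algebra.norm (ResidueField A) (Ideal.Quotient.mk n.asIdeal (Ideal.Quotient.mk I₀ y)) ^
          (lam (S ⧸ I₀) n.asIdeal).toNat =
        dfac A y (below I₀ n) ^ (lam (S ⧸ I₀) (below I₀ n).asIdeal).toNat := by
    intro n
    haveI := n.isMaximal
    rw [lam_transfer I₀ (S ⧸ I₀) hfl n.asIdeal]
    congr 1
    rw [← Algebra.norm_eq_of_algEquiv (resEquiv (A := A) I₀ n), resEquiv_mk]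
    rfl
  rw [Finset.prod_congr rfl (fun n _ => hterm n)]
  rw [← Finset.prod_image (s := Finset.univ) (g := below I₀)
    (f := fun q' => dfac A y q' ^ (lam (S ⧸ I₀) q'.asIdeal).toNat)
    (fun a _ b _ h => below_injective I₀ h)]
  apply Finset.prod_subset (Finset.subset_univ _)
  intro q' _ hq'
  have hnle : ¬ I₀ ≤ q'.asIdeal := by
    intro hle
    obtain ⟨n, hn⟩ := mem_range_below I₀ q' hle
    exact hq' (Finset.mem_image.mpr ⟨n, Finset.mem_univ _, hn⟩)
  rw [lam_eq_zero_of_not_le I₀ q' hnle, ENat.toNat_zero, pow_zero]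

end normprod

end Groth.Agent.Lib.Helper29.Bc
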