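import Groth.Agent.Lib.Helper29.BcG

/-!
# Base change of tame symbols, part H: the determinant on `S/(I + 𝔪' S)` for a frame
-/

set_option autoImplicit false

namespace Groth.Agent.Lib.Helper29.Bc

universe u

open IsLocalRing Groth.Agent.Lib.Helper29.LengthFormula

section algE

variable {A' : Type u} [CommRing A'] [IsLocalRing A'] {S : Type u} [CommRing S] [Algebra A' S]

theorem le_comap_idl (I : Ideal S) :
    maximalIdeal A' ≤ (idl I (maximalIdeal A')).comap (algebraMap A' S) := by
  intro a ha
  exact Ideal.mem_sup_right (Ideal.mem_map_of_mem _ ha)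

/-- the `κ'`-algebra structure on `S/(I + 𝔪' S)` -/
@[reducible] noncomputable def algE (I : Ideal S) :
    Algebra (ResidueField A') (S ⧸ idl I (maximalIdeal A')) :=
  Ideal.Quotient.algebraQuotientOfLEComap (le_comap_idl I)

attribute [local instance] algE

instance towerE (I : Ideal S) :
    IsScalarTower A' (ResidueField A') (S ⧸ idl I (maximalIdeal A')) :=
  IsScalarTower.of_algebraMap_eq (fun _ => rfl)

instance finiteE (I : Ideal S) [Module.Finite A' S] :
    Module.Finite (ResidueField A') (S ⧸ idl I (maximalIdeal A')) :=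
  Module.Finite.of_restrictScalars_finite A' _ _

theorem residue_smul_mk (I : Ideal S) (a : A') (x : S) :
    (residue A' a) • (Ideal.Quotient.mk (idl I (maximalIdeal A')) x) =
      Ideal.Quotient.mk (idl I (maximalIdeal A')) (a • x) := by
  rw [Algebra.smul_def, Algebra.smul_def, map_mul]
  rfl

end algE

section framedet

variable {A' : Type u} [CommRing A'] [IsLocalRing A'] {S : Type u} [CommRing S] [Algebra A' S]
variable {𝔞 : Ideal A'} {I : Ideal S} {f : ℕ}

attribute [local instance] algE

/-- the comparison map `κ'^f → S/(I + 𝔪' S)` -/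
noncomputable def Frame.theta (F : Frame 𝔞 I f) :
    (Fin f → ResidueField A') →ₗ[ResidueField A'] (S ⧸ idl I (maximalIdeal A')) :=
  Fintype.linearCombination (ResidueField A') (fun i => Ideal.Quotient.mk _ (F.w i))

theorem Frame.theta_residue (F : Frame 𝔞 I f) (a : Fin f → A') :
    F.theta (fun i => residue A' (a i)) =
      Ideal.Quotient.mk (idl I (maximalIdeal A')) (∑ i, a i • F.w i) := by
  unfold Frame.theta
  rw [Fintype.linearCombination_apply, map_sum]
  refine Finset.sum_congr rfl (fun i _ => ?_)
  exact residue_smul_mk I (a i) (F.w i)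

theorem Frame.T_sum (F : Frame 𝔞 I f) (a : Fin f → A') (k : Fin f) :
    F.T k (∑ i, a i • F.w i) = Ideal.Quotient.mk 𝔞 (a k) := by
  rw [map_sum]
  simp only [map_smul, F.T_w, smul_ite, smul_zero, Finset.sum_ite_eq, Finset.mem_univ, if_true]
  rw [Algebra.smul_def, mul_one]
  rfl

theorem Frame.theta_bijective (F : Frame 𝔞 I f) (h𝔞 : 𝔞 ≤ maximalIdeal A') :
    Function.Bijective F.theta := by
  constructor
  · rw [injective_iff_map_eq_zero]
    intro c hc
    choose a ha using fun i => residue_surjective (c i)
    have hc' : c = fun i => residue A' (a i) := funext (fun i => (ha i).symm)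
    rw [hc', F.theta_residue, Ideal.Quotient.eq_zero_iff_mem] at hc
    funext k
    obtain ⟨j, hj, hjk⟩ := F.T_mem (maximalIdeal A') k _ hc
    rw [F.T_sum] at hjk
    have h3 : a k - j ∈ 𝔞 := by
      rw [← Ideal.Quotient.eq_zero_iff_mem, map_sub, hjk, sub_self]
    have h4 : a k ∈ maximalIdeal A' := by
      have := (maximalIdeal A').add_mem (h𝔞 h3) hj
      rwa [sub_add_cancel] at this
    rw [hc']
    show residue A' (a k) = 0
    rwa [residue_eq_zero_iff]
  · intro z
    obtain ⟨x, rfl⟩ := Ideal.Quotient.mk_surjective z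
    obtain ⟨a, ha⟩ := F.span x
    refine ⟨fun i => residue A' (a i), ?_⟩
    rw [F.theta_residue]
    symm
    rw [Ideal.Quotient.eq]
    exact Ideal.mem_sup_left ha

/-- the determinant of multiplication by `y` in terms of a matrix -/
theorem Frame.det_eq (F : Frame 𝔞 I f) (h𝔞 : 𝔞 ≤ maximalIdeal A') [Module.Finite A' S] (y : S)
    (c : Matrix (Fin f) (Fin f) A') (hc : ∀ i, y * F.w i - ∑ k, c k i • F.w k ∈ I) :
    LinearMap.det (ymap (k := ResidueField A') (E := S ⧸ idl I (maximalIdeal A'))
      (S ⧸ idl I (maximalIdeal A')) (Ideal.Quotient.mk _ y)) = (c.map (residue A')).det := by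
  classical
  let e : (Fin f → ResidueField A') ≃ₗ[ResidueField A'] (S ⧸ idl I (maximalIdeal A')) :=
    LinearEquiv.ofBijective F.theta (F.theta_bijective h𝔞)
  rw [← LinearMap.det_toLin' (c.map (residue A'))]
  symm
  have key : F.theta ∘ₗ Matrix.toLin' (c.map (residue A')) =
      ymap (k := ResidueField A') (E := S ⧸ idl I (maximalIdeal A'))
        (S ⧸ idl I (maximalIdeal A')) (Ideal.Quotient.mk _ y) ∘ₗ F.theta := by
    apply LinearMap.pi_ext'
    intro i
    apply LinearMap.ext_ring
    simp only [LinearMap.coe_comp, LinearMap.coe_single, Function.comp_apply, Matrix.toLin'_apply,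
      Matrix.mulVec_single_one]
    have h1 : (c.map (residue A')).col i = fun k => residue A' (c k i) := rfl
    have h2 : (Pi.single i (1 : ResidueField A') : Fin f → ResidueField A') =
        fun k => residue A' ((Pi.single i (1 : A') : Fin f → A') k) := by
      funext k
      by_cases hk : k = i
      · subst hk; simp
      · simp [Pi.single_eq_of_ne hk]
    rw [h1, F.theta_residue, h2, F.theta_residue, ymap_apply]
    have h3 : ∑ k, (Pi.single i (1 : A') : Fin f → A') k • F.w k = F.w i := by
      rw [Finset.sum_eq_single i]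
      · rw [Pi.single_eq_same, one_smul]
      · intro k _ hk
        rw [Pi.single_eq_of_ne hk, zero_smul]
      · intro h; exact absurd (Finset.mem_univ _) h
    rw [h3, Algebra.smul_def]
    show _ = Ideal.Quotient.mk _ y * Ideal.Quotient.mk _ (F.w i)
    rw [← map_mul]
    symm
    rw [Ideal.Quotient.eq]
    exact Ideal.mem_sup_left (hc i)
  exact det_congr_equiv e _ _ (fun v => congrArg (fun g => g v) key)

end framedet

end Groth.Agent.Lib.Helper29.Bc
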