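import Groth.Agent.Lib.Helper29.BcH

/-!
# Base change of tame symbols, part I: the norm identity
-/

set_option autoImplicit false

namespace Groth.Agent.Lib.Helper29.Bc

universe u

open IsLocalRing TensorProduct Groth.Agent.Lib.Helper29.LengthFormula

section normid

variable {A : Type u} [CommRing A] [IsLocalRing A] {B : Type u} [CommRing B] [Algebra A B]
  [Module.Finite A B]
  [hloc : ∀ n : MaximalSpectrum B, IsLocalHom (algebraMap A (Localization.AtPrime n.asIdeal))]
  (A' : Type u) [CommRing A'] [IsLocalRing A'] [Algebra A A'] [IsLocalHom (algebraMap A A')]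
  [hloc' : ∀ q' : MaximalSpectrum (A' ⊗[A] B),
    IsLocalHom (algebraMap A' (Localization.AtPrime q'.asIdeal))]

attribute [local instance] algE

omit hloc' in
theorem map_le_maximalIdeal :
    (maximalIdeal A).map (algebraMap A A') ≤ maximalIdeal A' := by
  rw [Ideal.map_le_iff_le_comap]
  intro a ha
  rw [Ideal.mem_comap, IsLocalRing.mem_maximalIdeal]
  intro hu
  exact ((IsLocalRing.mem_maximalIdeal a).mp ha) (isUnit_of_map_unit (algebraMap A A') a hu)

omit hloc' [IsLocalHom (algebraMap A A')] in
/-- the matrix relation for multiplication by `1 ⊗ b` -/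
theorem exists_matrix (n : MaximalSpectrum B) (b : B) :
    ∃ c₀ : Matrix (Fin (rdeg A n)) (Fin (rdeg A n)) A,
      (∀ k i, residue A (c₀ k i) = Algebra.leftMulMatrix (bas A n) (resB A n b) k i) ∧
      ∀ i, ((1 : A') ⊗ₜ[A] b) * (frame A A' n).w i -
        ∑ k, (algebraMap A A' (c₀ k i)) • (frame A A' n).w k ∈ extI A' n := by
  choose c₀ hc₀ using fun k i => residue_surjective
    (Algebra.leftMulMatrix (bas A n) (resB A n b) k i)
  refine ⟨c₀, hc₀, fun i => ?_⟩
  have h1 : b * blift A n i - ∑ k, c₀ k i • blift A n k ∈ n.asIdeal := by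
    rw [← resB_eq_zero_iff (A := A), map_sub, map_sum, sub_eq_zero]
    have h2 : resB A n (b * blift A n i) = resB A n b * bas A n i := by
      rw [← resB_blift]
      exact map_mul (((IsScalarTower.toAlgHom A (Localization.AtPrime n.asIdeal)
        (ResidueField (Localization.AtPrime n.asIdeal))).comp
          (IsScalarTower.toAlgHom A B (Localization.AtPrime n.asIdeal)))) _ _
    rw [h2, ← (bas A n).sum_repr (resB A n b * bas A n i)]
    refine Finset.sum_congr rfl (fun k _ => ?_)
    rw [map_smul, resB_blift, ← Algebra.leftMulMatrix_eq_repr_mul, ← hc₀ k i]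
    rfl
  have h3 : ((1 : A') ⊗ₜ[A] b) * (frame A A' n).w i -
      ∑ k, (algebraMap A A' (c₀ k i)) • (frame A A' n).w k =
      (Algebra.TensorProduct.includeRight : B →ₐ[A] A' ⊗[A] B)
        (b * blift A n i - ∑ k, c₀ k i • blift A n k) := by
    show ((1 : A') ⊗ₜ[A] b) * ((1 : A') ⊗ₜ[A] blift A n i) -
      ∑ k, (algebraMap A A' (c₀ k i)) • ((1 : A') ⊗ₜ[A] blift A n k) = _
    rw [Algebra.TensorProduct.includeRight_apply, Algebra.TensorProduct.tmul_mul_tmul, mul_one,
      tmul_sub, tmul_sum]
    congr 1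
    refine Finset.sum_congr rfl (fun k _ => ?_)
    rw [TensorProduct.smul_tmul', tmul_smul, TensorProduct.smul_tmul']
    simp only [Algebra.smul_def, Algebra.algebraMap_self, RingHom.id_apply]
  rw [h3]
  exact Ideal.mem_map_of_mem _ h1

end normid

section normid2

variable {A : Type u} [CommRing A] [IsLocalRing A] {B : Type u} [CommRing B] [Algebra A B]
  [Module.Finite A B]
  [hloc : ∀ n : MaximalSpectrum B, IsLocalHom (algebraMap A (Localization.AtPrime n.asIdeal))]
  (A' : Type u) [CommRing A'] [IsLocalRing A'] [Algebra A A'] [IsLocalHom (algebraMap A A')]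
  [hloc' : ∀ q' : MaximalSpectrum (A' ⊗[A] B),
    IsLocalHom (algebraMap A' (Localization.AtPrime q'.asIdeal))]

attribute [local instance] algE

/-- the product over the closed fibre -/
theorem prod_dfac_eq (n : MaximalSpectrum B) (b : B) :
    ∏ᶠ q' : MaximalSpectrum (A' ⊗[A] B), dfac A' ((1 : A') ⊗ₜ[A] b) q' ^
        (lam ((A' ⊗[A] B) ⧸ idl (extI A' n) (maximalIdeal A')) q'.asIdeal).toNat =
      algebraMap (ResidueField A) (ResidueField A')
        (Algebra.norm (ResidueField A) (resB A n b)) := by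
  classical
  rw [← normProd_eq (A := A') (idl (extI A' n) (maximalIdeal A')) ((1 : A') ⊗ₜ[A] b),
    ← det_ymap_eq]
  obtain ⟨c₀, hc₀, hc⟩ := exists_matrix (A := A) A' n b
  rw [(frame A A' n).det_eq (map_le_maximalIdeal (A := A) A') ((1 : A') ⊗ₜ[A] b)
    (fun k i => algebraMap A A' (c₀ k i)) hc]
  rw [Algebra.norm_eq_matrix_det (bas A n), RingHom.map_det]
  congr 1
  ext k i
  simp only [Matrix.map_apply, RingHom.mapMatrix_apply]
  rw [← hc₀ k i]
  rfl

/-- **the norm identity** -/
theorem norm_identity (n : MaximalSpectrum B) (b : B)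
    (hfl : IsFiniteLength A' (A' ⧸ (maximalIdeal A).map (algebraMap A A'))) :
    ∏ᶠ q' : MaximalSpectrum (A' ⊗[A] B), dfac A' ((1 : A') ⊗ₜ[A] b) q' ^
        (lam ((A' ⊗[A] B) ⧸ extI A' n) q'.asIdeal).toNat =
      (algebraMap (ResidueField A) (ResidueField A')
        (Algebra.norm (ResidueField A) (resB A n b))) ^
          (Module.length A' (A' ⧸ (maximalIdeal A).map (algebraMap A A'))).toNat := by
  rw [← prod_dfac_eq A' n b]
  haveI : Finite (MaximalSpectrum (A' ⊗[A] B)) := Tame.finite_maximalSpectrum A'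
  rw [finprod_pow (Set.toFinite _)]
  apply finprod_congr
  intro q'
  rw [lam_ext A' n hfl q'.asIdeal, ENat.toNat_mul, ← pow_mul, mul_comm]

end normid2

end Groth.Agent.Lib.Helper29.Bc
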