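import Groth.Agent.Lib.Helper29.BcI
import Mathlib.RingTheory.LocalRing.Length
import Mathlib.RingTheory.Flat.TorsionFree
import Mathlib.RingTheory.RingHom.Flat

/-!
# Base change of tame symbols, part J: flat local homomorphisms
-/

set_option autoImplicit false

namespace Groth.Agent.Lib.Helper29.Bc

universe u

open IsLocalRing TensorProduct Groth.Agent.Lib.Helper29.LengthFormula CycAlg

section gen

theorem nzd_of_flat {R S : Type*} [CommRing R] [CommRing S] [Algebra R S] [Module.Flat R S]
    {r : R} (hr : r ∈ nonZeroDivisors R) : algebraMap R S r ∈ nonZeroDivisors S := by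
  have h := Module.Flat.isSMulRegular_of_nonZeroDivisors (M := S) hr
  rw [mem_nonZeroDivisors_iff_right]
  intro x hx
  apply h
  show r • x = r • 0
  rw [smul_zero, Algebra.smul_def, mul_comm]
  exact hx

theorem ord_flat_alg {C C' : Type u} [CommRing C] [CommRing C'] [IsLocalRing C] [IsLocalRing C']
    [Algebra C C'] [IsLocalHom (algebraMap C C')] [Module.Flat C C'] (x : C) :
    Ring.ord C' (algebraMap C C' x) =
      Ring.ord C x * Module.length C' (C' ⧸ (maximalIdeal C).map (algebraMap C C')) := by
  unfold Ring.ord
  rw [← IsLocalRing.length_baseChange C C' (C ⧸ Ideal.span {x})]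
  have h : Ideal.span {algebraMap C C' x} = (Ideal.span {x}).map (algebraMap C C') := by
    rw [Ideal.map_span, Set.image_singleton]
  rw [h]
  exact (Algebra.TensorProduct.quotIdealMapEquivTensorQuot C' (Ideal.span {x})).toLinearEquiv.length_eq

theorem ord_flat {C C' : Type u} [CommRing C] [CommRing C'] [IsLocalRing C] [IsLocalRing C']
    (φ : C →+* C') [hl : IsLocalHom φ] (hφ : φ.Flat) (x : C) :
    Ring.ord C' (φ x) = Ring.ord C x * Module.length C' (C' ⧸ (maximalIdeal C).map φ) := by
  letI : Algebra C C' := φ.toAlgebra
  haveI : IsLocalHom (algebraMap C C') := hl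
  haveI : Module.Flat C C' := hφ
  exact ord_flat_alg x

theorem nzd_of_flat' {C C' : Type u} [CommRing C] [CommRing C'] (φ : C →+* C') (hφ : φ.Flat)
    {x : C} (hx : x ∈ nonZeroDivisors C) : φ x ∈ nonZeroDivisors C' := by
  letI : Algebra C C' := φ.toAlgebra
  haveI : Module.Flat C C' := hφ
  exact nzd_of_flat hx

/-- the localization of `R/I` at a prime is `R_P/IR_P`, on the level of lengths -/
theorem lam_quot_eq {R : Type u} [CommRing R] (I : Ideal R) (P : Ideal R) [P.IsPrime] :
    lam (R ⧸ I) P = Module.length (Localization.AtPrime P)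
      (Localization.AtPrime P ⧸ I.map (algebraMap R (Localization.AtPrime P))) := by
  rw [lam_of_isPrime]
  let fl : R →ₗ[R] Localization.AtPrime P := Algebra.linearMap R (Localization.AtPrime P)
  haveI : IsLocalizedModule P.primeCompl fl := inferInstance
  let g := (I : Submodule R R).toLocalizedQuotient' (Localization.AtPrime P) P.primeCompl fl
  haveI : IsLocalizedModule P.primeCompl g := inferInstance
  have hloc : (I : Submodule R R).localized' (Localization.AtPrime P) P.primeCompl fl =
      I.map (algebraMap R (Localization.AtPrime P)) := Ideal.localized'_eq_map _ _ I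
  have e1 : LocalizedModule P.primeCompl (R ⧸ I) ≃ₗ[Localization.AtPrime P]
      (Localization.AtPrime P ⧸ (I : Submodule R R).localized'
        (Localization.AtPrime P) P.primeCompl fl) :=
    (IsLocalizedModule.iso P.primeCompl g).extendScalarsOfIsLocalization P.primeCompl
      (Localization.AtPrime P)
  rw [e1.length_eq, (Submodule.quotEquivOfEq _ _ hloc).length_eq]

end gen

end Groth.Agent.Lib.Helper29.Bc
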