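import Groth.Agent.Lib.Helper29.BcJ

/-!
# Base change of tame symbols, part K: base change of finite extensions
-/

set_option autoImplicit false

namespace Groth.Agent.Lib.Helper29.Bc

universe u

open IsLocalRing TensorProduct Groth.Agent.Lib.Helper29.LengthFormula CycAlg

section fin

variable {A : Type u} [CommRing A] [IsLocalRing A] {B : Type u} [CommRing B] [Algebra A B]
  (A' : Type u) [CommRing A'] [IsLocalRing A'] [Algebra A A']

/-- elements of `(𝔪^c)A'` move `A' ⊗ B` into the image of `A'` -/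
theorem smul_mem_range (c : ℕ)
    (hc : ∀ r ∈ (maximalIdeal A) ^ c, ∀ b : B, r • b ∈ (algebraMap A B).range)
    (r : A') (hr : r ∈ ((maximalIdeal A) ^ c).map (algebraMap A A')) (x : A' ⊗[A] B) :
    r • x ∈ LinearMap.range (Algebra.linearMap A' (A' ⊗[A] B)) := by
  induction x using TensorProduct.induction_on with
  | zero => rw [smul_zero]; exact Submodule.zero_mem _
  | add x y hx hy => rw [smul_add]; exact Submodule.add_mem _ hx hy
  | tmul a' b =>
    rw [Ideal.map, ] at hr
    refine Submodule.span_induction (p := fun r _ => r • (a' ⊗ₜ[A] b) ∈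
      LinearMap.range (Algebra.linearMap A' (A' ⊗[A] B))) ?_ ?_ ?_ ?_ hr
    · rintro _ ⟨s, hs, rfl⟩
      obtain ⟨a₀, ha₀⟩ := hc s hs b
      refine ⟨a₀ • a', ?_⟩
      rw [Algebra.linearMap_apply, Algebra.TensorProduct.algebraMap_apply,
        Algebra.algebraMap_self, RingHom.id_apply, TensorProduct.smul_tmul' ,
        smul_eq_mul, ← Algebra.smul_def]
      rw [TensorProduct.smul_tmul, TensorProduct.smul_tmul, ← ha₀, Algebra.algebraMap_eq_smul_one]
    · rw [zero_smul]; exact Submodule.zero_mem _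
    · intro x y _ _ hx hy
      rw [add_smul]; exact Submodule.add_mem _ hx hy
    · intro t x _ hx
      rw [smul_eq_mul, mul_smul]
      exact Submodule.smul_mem _ _ hx

theorem isFinExt_baseChange [Module.Flat A A'] (hB : IsFinExt A B (maximalIdeal A))
    (hpow : ∃ N : ℕ, maximalIdeal A' ^ N ≤ (maximalIdeal A).map (algebraMap A A')) :
    IsFinExt A' (A' ⊗[A] B) (maximalIdeal A') := by
  obtain ⟨hinj, hfin, c, hc⟩ := hB
  obtain ⟨N, hN⟩ := hpow
  haveI := hfin
  refine ⟨?_, inferInstance, N * c, ?_⟩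
  · exact Algebra.TensorProduct.includeLeft_injective (S := A') hinj
  · intro r hr x
    have h1 : r ∈ ((maximalIdeal A) ^ c).map (algebraMap A A') := by
      rw [Ideal.map_pow]
      rw [pow_mul] at hr
      exact Ideal.pow_right_mono hN c hr
    obtain ⟨y, hy⟩ := smul_mem_range A' c hc r h1 x
    exact ⟨y, hy⟩

theorem exists_pow_le_map [IsNoetherianRing A'] [Ring.KrullDimLE 1 A'] [Module.Flat A A']
    (a : A) (ha : a ∈ nonZeroDivisors A) (hau : ¬ IsUnit a) :
    ∃ N : ℕ, maximalIdeal A' ^ N ≤ (maximalIdeal A).map (algebraMap A A') := by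
  obtain ⟨N, hN⟩ := Tame.exists_maximalIdeal_pow_le (algebraMap A A' a) (nzd_of_flat ha)
  refine ⟨N, hN.trans ?_⟩
  rw [Ideal.span_le, Set.singleton_subset_iff]
  exact Ideal.mem_map_of_mem _ ((IsLocalRing.mem_maximalIdeal a).mpr hau)

theorem isFiniteLength_quot_map [IsNoetherianRing A']
    (hpow : ∃ N : ℕ, maximalIdeal A' ^ N ≤ (maximalIdeal A).map (algebraMap A A')) :
    IsFiniteLength A' (A' ⧸ (maximalIdeal A).map (algebraMap A A')) := by
  obtain ⟨N, hN⟩ := hpow
  refine isFiniteLength_of_pow_smul_eq_zero _ N ?_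
  intro r hr x
  obtain ⟨x, rfl⟩ := Ideal.Quotient.mk_surjective x
  rw [← Ideal.Quotient.mk_eq_mk, ← Submodule.Quotient.mk_smul, Ideal.Quotient.mk_eq_mk,
    Ideal.Quotient.eq_zero_iff_mem, smul_eq_mul]
  exact Ideal.mul_mem_right _ _ (hN hr)

end fin

end Groth.Agent.Lib.Helper29.Bc
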