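import Groth.Agent.Lib.Helper29.BcK

/-!
# Base change of tame symbols, part L: the local maps `B_σ(q') → (A' ⊗ B)_q'`
-/

set_option autoImplicit false

namespace Groth.Agent.Lib.Helper29.Bc

universe u

open IsLocalRing TensorProduct Groth.Agent.Lib.Helper29.LengthFormula CycAlg

section loc

variable {A : Type u} [CommRing A] [IsLocalRing A] {B : Type u} [CommRing B] [Algebra A B]
  [Module.Finite A B]
  (A' : Type u) [CommRing A'] [IsLocalRing A'] [Algebra A A'] [IsLocalHom (algebraMap A A')]

/-- the ring map `B → A' ⊗[A] B` -/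
abbrev incR : B →+* A' ⊗[A] B :=
  (Algebra.TensorProduct.includeRight : B →ₐ[A] A' ⊗[A] B).toRingHom

omit [IsLocalRing A] [Module.Finite A B] [IsLocalRing A'] [IsLocalHom (algebraMap A A')] in
theorem incR_comp :
    (incR (A := A) (B := B) A').comp (algebraMap A B) =
      (algebraMap A' (A' ⊗[A] B)).comp (algebraMap A A') := by
  ext a
  show (1 : A') ⊗ₜ[A] (algebraMap A B a) = (algebraMap A A' a) ⊗ₜ[A] (1 : B)
  rw [Algebra.algebraMap_eq_smul_one, Algebra.algebraMap_eq_smul_one, TensorProduct.smul_tmul]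

theorem comap_incR_isMaximal (q' : MaximalSpectrum (A' ⊗[A] B)) :
    (q'.asIdeal.comap (incR (A := A) (B := B) A')).IsMaximal := by
  haveI := q'.isMaximal
  haveI : (q'.asIdeal.comap (incR (A := A) (B := B) A')).IsPrime := Ideal.comap_isPrime _ _
  apply Ideal.isMaximal_of_isIntegral_of_isMaximal_comap (R := A)
  have h0 : q'.asIdeal.comap (algebraMap A' (A' ⊗[A] B)) = maximalIdeal A' :=
    Tame.comap_maximal q'
  rw [Ideal.comap_comap, incR_comp, ← Ideal.comap_comap, h0]
  rw [IsLocalRing.maximalIdeal_comap]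
  infer_instance

/-- the maximal ideal of `B` below a maximal ideal of `A' ⊗[A] B` -/
def sig (q' : MaximalSpectrum (A' ⊗[A] B)) : MaximalSpectrum B :=
  ⟨q'.asIdeal.comap (incR (A := A) (B := B) A'), comap_incR_isMaximal A' q'⟩

/-- the local homomorphism `B_σ(q') → (A' ⊗ B)_q'` -/
noncomputable def phi (q' : MaximalSpectrum (A' ⊗[A] B)) :
    Localization.AtPrime (sig A' q').asIdeal →+* Localization.AtPrime q'.asIdeal :=
  Localization.localRingHom (sig A' q').asIdeal q'.asIdeal (incR (A := A) (B := B) A') rfl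

instance (q' : MaximalSpectrum (A' ⊗[A] B)) : IsLocalHom (phi (A := A) (B := B) A' q') :=
  Localization.isLocalHom_localRingHom _ _ _ _

theorem phi_algebraMap (q' : MaximalSpectrum (A' ⊗[A] B)) (b : B) :
    phi A' q' (algebraMap B _ b) = algebraMap (A' ⊗[A] B) _ ((1 : A') ⊗ₜ[A] b) :=
  Localization.localRingHom_to_map _ _ _ _ b

theorem phi_algebraMap_base (q' : MaximalSpectrum (A' ⊗[A] B)) (a : A) :
    phi A' q' (algebraMap A _ a) = algebraMap A' _ (algebraMap A A' a) := by
  rw [IsScalarTower.algebraMap_apply A B (Localization.AtPrime (sig A' q').asIdeal), phi_algebraMap,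
    IsScalarTower.algebraMap_apply A' (A' ⊗[A] B) (Localization.AtPrime q'.asIdeal)]
  congr 1
  exact congrArg (fun f => f a) (incR_comp (A := A) (B := B) A')

theorem flat_incR [Module.Flat A A'] : (incR (A := A) (B := B) A').Flat := by
  letI : Algebra B (A' ⊗[A] B) := Algebra.TensorProduct.rightAlgebra
  have h : (algebraMap A A').Flat := RingHom.flat_algebraMap_iff.mpr inferInstance
  exact RingHom.Flat.isStableUnderBaseChange A A' B (A' ⊗[A] B) h

theorem flat_phi [Module.Flat A A'] (q' : MaximalSpectrum (A' ⊗[A] B)) :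
    (phi (A := A) (B := B) A' q').Flat :=
  RingHom.Flat.localRingHom (flat_incR A') q'.asIdeal (sig A' q').asIdeal rfl

theorem map_maximalIdeal_phi (q' : MaximalSpectrum (A' ⊗[A] B)) :
    (maximalIdeal (Localization.AtPrime (sig A' q').asIdeal)).map (phi A' q') =
      (extI A' (sig A' q')).map (algebraMap (A' ⊗[A] B) (Localization.AtPrime q'.asIdeal)) := by
  show _ = Ideal.map (algebraMap (A' ⊗[A] B) (Localization.AtPrime q'.asIdeal))
    (Ideal.map (incR (A := A) (B := B) A') (sig A' q').asIdeal)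
  rw [← Localization.AtPrime.map_eq_maximalIdeal, Ideal.map_map, Ideal.map_map]
  congr 1
  ext b
  exact phi_algebraMap A' q' b

theorem ord_phi [Module.Flat A A'] (q' : MaximalSpectrum (A' ⊗[A] B))
    (x : Localization.AtPrime (sig A' q').asIdeal) :
    Ring.ord (Localization.AtPrime q'.asIdeal) (phi A' q' x) =
      Ring.ord (Localization.AtPrime (sig A' q').asIdeal) x *
        lam ((A' ⊗[A] B) ⧸ extI A' (sig A' q')) q'.asIdeal := by
  rw [ord_flat (phi A' q') (flat_phi A' q'), map_maximalIdeal_phi, lam_quot_eq]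

theorem lam_eq_zero_of_ne (n : MaximalSpectrum B) (q' : MaximalSpectrum (A' ⊗[A] B))
    (h : n ≠ sig A' q') : lam ((A' ⊗[A] B) ⧸ extI A' n) q'.asIdeal = 0 := by
  apply lam_quotient_of_not_le
  intro hle
  apply h
  have h1 : n.asIdeal ≤ (sig A' q').asIdeal := by
    intro b hb
    exact hle (Ideal.mem_map_of_mem _ hb)
  have h2 := n.isMaximal.eq_of_le (sig A' q').isMaximal.ne_top h1
  cases n
  cases hs : sig A' q'
  rw [hs] at h2
  simp only at h2
  subst h2
  rfl

theorem residue_phi (q' : MaximalSpectrum (A' ⊗[A] B)) (b : B) :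
    ResidueField.map (phi A' q') (residue _ (algebraMap B _ b)) =
      residue _ (algebraMap (A' ⊗[A] B) (Localization.AtPrime q'.asIdeal) ((1 : A') ⊗ₜ[A] b)) := by
  rw [ResidueField.map_residue, phi_algebraMap]

end loc

end Groth.Agent.Lib.Helper29.Bc
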