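import Groth.Agent.Lib.Helper29.BlowupDimOne

/-!
# Semilocal version of the dimension-one blow-up lemma

* `length_quot_map_of_injective`: `length (M₁ / i N) = length (M / N) + length (M₁ / i M)`.
* `length_quot_range_eq_of_injective`: invariance of `length (M / φ M)` under finite-length enlargement.
* `exists_relation'`: homogeneous relation between `a^i b^(N-i)` with a coefficient outside a given
  proper ideal, when `R/aR` has finite length.
* `exists_common_factor`: semilocal version of "`(x, y)` becomes principal in a finite extension".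
-/

set_option autoImplicit false
universe u

namespace Groth.Agent.Lib.Helper29.SemilocalBlowup

open Groth.Agent.Lib.Helper29.BlowupDimOne

section L1

variable {R : Type*} [Ring R] {M M₁ : Type*} [AddCommGroup M] [Module R M] [AddCommGroup M₁]
  [Module R M₁]

/-- for an injective linear map `i : M → M₁` and `N ≤ M`:
`length (M₁ / i N) = length (M / N) + length (M₁ / i M)` -/
theorem length_quot_map_of_injective (i : M →ₗ[R] M₁) (hi : Function.Injective i)
    (N : Submodule R M) :
    Module.length R (M₁ ⧸ N.map i) =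
      Module.length R (M ⧸ N) + Module.length R (M₁ ⧸ LinearMap.range i) := by
  have hle : N.map i ≤ LinearMap.range i := LinearMap.map_le_range
  refine Module.length_eq_add_of_exact (Submodule.mapQ N (N.map i) i (Submodule.le_comap_map i N))
    (Submodule.factor hle) ?_ (Submodule.factor_surjective hle) ?_
  · rw [← LinearMap.ker_eq_bot, eq_bot_iff]
    intro q hq
    obtain ⟨m, rfl⟩ := Submodule.mkQ_surjective _ q
    rw [LinearMap.mem_ker, Submodule.mkQ_apply, Submodule.mapQ_apply,
      Submodule.Quotient.mk_eq_zero] at hq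
    obtain ⟨n, hn, hnm⟩ := hq
    rw [Submodule.mem_bot, Submodule.mkQ_apply, Submodule.Quotient.mk_eq_zero, ← hi hnm]
    exact hn
  · intro q
    obtain ⟨m, rfl⟩ := Submodule.mkQ_surjective _ q
    rw [Submodule.factor_mk, Submodule.mkQ_apply, Submodule.Quotient.mk_eq_zero]
    constructor
    · rintro ⟨m', rfl⟩
      exact ⟨Submodule.Quotient.mk m', rfl⟩
    · rintro ⟨q', hq'⟩
      obtain ⟨m', rfl⟩ := Submodule.mkQ_surjective _ q'
      rw [Submodule.mkQ_apply, Submodule.mapQ_apply, Submodule.mkQ_apply,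
        Submodule.Quotient.eq] at hq'
      have h1 : i m' - m ∈ LinearMap.range i := hle hq'
      have h2 : i m' ∈ LinearMap.range i := ⟨m', rfl⟩
      have := Submodule.sub_mem _ h2 h1
      rwa [sub_sub_cancel] at this

/-- invariance of `length (M / φ M)` under enlarging `M` by a finite-length amount -/
theorem length_quot_range_eq_of_injective (i : M →ₗ[R] M₁) (hi : Function.Injective i)
    (φ : M →ₗ[R] M) (φ₁ : M₁ →ₗ[R] M₁) (hφ₁ : Function.Injective φ₁)
    (hcomm : i ∘ₗ φ = φ₁ ∘ₗ i) (hfin : Module.length R (M₁ ⧸ LinearMap.range i) ≠ ⊤) :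
    Module.length R (M ⧸ LinearMap.range φ) = Module.length R (M₁ ⧸ LinearMap.range φ₁) := by
  have h1 := length_quot_map_of_injective i hi (LinearMap.range φ)
  have h2 := length_quot_map_of_injective φ₁ hφ₁ (LinearMap.range i)
  have heq : (LinearMap.range φ).map i = (LinearMap.range i).map φ₁ := by
    rw [← LinearMap.range_comp, ← LinearMap.range_comp, hcomm]
  rw [heq, h2] at h1
  rw [add_comm] at h1
  exact ((ENat.add_left_injective_of_ne_top hfin) h1).symm

end L1

section Relation

variable {R : Type u} [CommRing R]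

theorem exists_coeff_of_mem_span' (e : ℕ → R) (n j : ℕ) (hj : j ≤ n) (x : R)
    (hx : x ∈ Submodule.span R (e '' {i | i < j})) :
    ∃ d : ℕ → R, (∀ i, j ≤ i → d i = 0) ∧ x = ∑ i ∈ Finset.range n, d i * e i := by
  induction hx using Submodule.span_induction with
  | mem x hx =>
    obtain ⟨k, hk, rfl⟩ := hx
    refine ⟨fun i => if i = k then 1 else 0, fun i hi => ?_, ?_⟩
    · have : i ≠ k := by
        have hk' : k < j := hk
        omega
      simp [this]
    · have hk' : k < j := hk
      rw [Finset.sum_eq_single k]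
      · simp
      · intro i _ hik
        simp [hik]
      · intro hkn
        exact absurd (Finset.mem_range.mpr (lt_of_lt_of_le hk' hj)) hkn
  | zero => exact ⟨fun _ => 0, fun _ _ => rfl, by simp⟩
  | add x y _ _ hx hy =>
    obtain ⟨d₁, h₁, rfl⟩ := hx
    obtain ⟨d₂, h₂, rfl⟩ := hy
    refine ⟨fun i => d₁ i + d₂ i, fun i hi => by simp [h₁ i hi, h₂ i hi], ?_⟩
    rw [← Finset.sum_add_distrib]
    exact Finset.sum_congr rfl (fun i _ => by ring)
  | smul r x _ hx =>
    obtain ⟨d, h, rfl⟩ := hx
    refine ⟨fun i => r * d i, fun i hi => by simp [h i hi], ?_⟩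
    rw [smul_eq_mul, Finset.mul_sum]
    exact Finset.sum_congr rfl (fun i _ => by ring)

theorem exists_coeff_of_mem_smul_span' (I : Ideal R) (e : ℕ → R) (n : ℕ) (x : R)
    (hx : x ∈ I • Submodule.span R (e '' {i | i < n})) :
    ∃ d : ℕ → R, (∀ i, d i ∈ I) ∧ x = ∑ i ∈ Finset.range n, d i * e i := by
  refine Submodule.smul_induction_on (p := fun x => ∃ d : ℕ → R, (∀ i, d i ∈ I) ∧
    x = ∑ i ∈ Finset.range n, d i * e i) hx ?_ ?_
  · intro r hr y hy
    obtain ⟨d, -, rfl⟩ := exists_coeff_of_mem_span' e n n le_rfl y hy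
    refine ⟨fun i => r * d i, fun i => I.mul_mem_right _ hr, ?_⟩
    rw [smul_eq_mul, Finset.mul_sum]
    exact Finset.sum_congr rfl (fun i _ => by ring)
  · rintro x y ⟨d₁, h₁, rfl⟩ ⟨d₂, h₂, rfl⟩
    refine ⟨fun i => d₁ i + d₂ i, fun i => I.add_mem (h₁ i) (h₂ i), ?_⟩
    rw [← Finset.sum_add_distrib]
    exact Finset.sum_congr rfl (fun i _ => by ring)

theorem range_lsmul_eq_span (a : R) :
    LinearMap.range (LinearMap.lsmul R R a) = Ideal.span {a} := by
  ext x
  rw [LinearMap.mem_range, Ideal.mem_span_singleton']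
  constructor
  · rintro ⟨y, rfl⟩
    exact ⟨y, by simp [mul_comm]⟩
  · rintro ⟨y, rfl⟩
    exact ⟨y, by simp [mul_comm]⟩

theorem lsmul_injective_of_mem_nonZeroDivisors (a : R) (ha : a ∈ nonZeroDivisors R) :
    Function.Injective (LinearMap.lsmul R R a) := by
  intro x y hxy
  exact (mul_cancel_left_mem_nonZeroDivisors ha).mp hxy

theorem length_quot_span_pow_ne_top (a : R) (ha : a ∈ nonZeroDivisors R)
    (hfin : Module.length R (R ⧸ Ideal.span {a}) ≠ ⊤) (k : ℕ) :
    Module.length R (R ⧸ Ideal.span {a ^ k}) ≠ ⊤ := by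
  induction k with
  | zero =>
    rw [pow_zero, Ideal.span_singleton_one]
    have : Subsingleton (R ⧸ (⊤ : Ideal R)) := Submodule.Quotient.subsingleton_iff.mpr rfl
    rw [Module.length_eq_zero]
    exact ENat.zero_ne_top
  | succ k ih =>
    have hmap : Ideal.span {a ^ (k + 1)} = Submodule.map (LinearMap.lsmul R R a)
        (Ideal.span {a ^ k}) := by
      rw [Ideal.span, Submodule.map_span, Set.image_singleton]
      congr 2
      simp [pow_succ, mul_comm]
    have h := length_quot_map_of_injective (LinearMap.lsmul R R a)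
      (lsmul_injective_of_mem_nonZeroDivisors a ha) (Ideal.span {a ^ k})
    rw [range_lsmul_eq_span] at h
    have h' : Module.length R (R ⧸ Ideal.span {a ^ (k + 1)}) =
        Module.length R (R ⧸ Ideal.span {a ^ k}) + Module.length R (R ⧸ Ideal.span {a}) := by
      rw [← h]
      exact (Submodule.quotEquivOfEq _ _ hmap).length_eq
    rw [h']
    exact WithTop.add_ne_top.mpr ⟨ih, hfin⟩

/-- **A homogeneous relation with a coefficient outside a given proper ideal** between the
monomials `a^i b^(N-i)`, when `R/aR` has finite length. -/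
theorem exists_relation' (n : Ideal R) (hn : n ≠ ⊤) (a b : R) (ha : a ∈ nonZeroDivisors R)
    (hfin : Module.length R (R ⧸ Ideal.span {a}) ≠ ⊤) :
    ∃ (N : ℕ) (r : ℕ → R), (∃ j ≤ N, r j ∉ n) ∧
      ∑ i ∈ Finset.range (N + 1), r i * (a ^ i * b ^ (N - i)) = 0 := by
  by_cases ham : a ∈ n
  swap
  · refine ⟨1, fun i => if i = 0 then a else -b, ⟨0, Nat.zero_le _, by simpa using ham⟩, ?_⟩
    simp [Finset.sum_range_succ]
    ring
  set N := (Module.length R (R ⧸ Ideal.span {a})).toNat with hN
  by_contra hno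
  push Not at hno
  set e : ℕ → R := fun i => a ^ i * b ^ (N - i) with he
  set E : Submodule R R := Submodule.span R (e '' {i | i < N + 1}) with hE
  set W : ℕ → Submodule R R := fun j =>
    n • E ⊔ Submodule.span R (e '' {i | i < j}) with hW
  have key : ∀ j < N + 1, e j ∉ W j := by
    intro j hj hmem
    obtain ⟨x, hx, y, hy, hxy⟩ := Submodule.mem_sup.mp hmem
    obtain ⟨d₁, h₁, rfl⟩ := exists_coeff_of_mem_smul_span' _ e (N + 1) x hx
    obtain ⟨d₂, h₂, rfl⟩ := exists_coeff_of_mem_span' e (N + 1) j hj.le y hy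
    have hcon := hno N (fun i => (if i = j then 1 else 0) - d₁ i - d₂ i)
    have h3 : ∑ i ∈ Finset.range (N + 1), (if i = j then (1 : R) else 0) * e i = e j := by
      rw [Finset.sum_eq_single j]
      · simp
      · intro i _ hij
        simp [hij]
      · intro hjn
        exact absurd (Finset.mem_range.mpr hj) hjn
    have h0 : ∑ i ∈ Finset.range (N + 1),
            ((if i = j then 1 else 0) - d₁ i - d₂ i) * (a ^ i * b ^ (N - i)) = 0 := by
      calc ∑ i ∈ Finset.range (N + 1),
            ((if i = j then 1 else 0) - d₁ i - d₂ i) * (a ^ i * b ^ (N - i))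
          = ∑ i ∈ Finset.range (N + 1), (if i = j then (1 : R) else 0) * e i
            - ∑ i ∈ Finset.range (N + 1), d₁ i * e i
            - ∑ i ∈ Finset.range (N + 1), d₂ i * e i := by
            rw [← Finset.sum_sub_distrib, ← Finset.sum_sub_distrib]
            exact Finset.sum_congr rfl (fun i _ => by simp only [he]; ring)
        _ = 0 := by rw [h3, ← hxy]; ring
    refine hcon ⟨j, Nat.lt_succ_iff.mp hj, ?_⟩ h0
    simp only [if_true, h₂ j le_rfl, sub_zero]
    intro hj'
    apply (Ideal.ne_top_iff_one n).mp hn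
    have := n.add_mem hj' (h₁ j)
    simpa using this
  have hchain : ∀ j < N + 1, W j < W (j + 1) := by
    intro j hj
    refine lt_of_le_of_ne ?_ ?_
    · apply sup_le_sup_left
      apply Submodule.span_mono
      apply Set.image_mono
      intro i hi
      exact Nat.lt_succ_of_lt hi
    · intro heq
      apply key j hj
      rw [heq]
      exact Submodule.mem_sup_right (Submodule.subset_span ⟨j, Nat.lt_succ_self j, rfl⟩)
  have h1 := length_add_le_of_chain W (N + 1) hchain
  have hWtop : W (N + 1) = E := sup_eq_right.mpr Submodule.smul_le_right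
  have hW0 : W 0 = n • E := by
    simp only [hW]
    have : {i : ℕ | i < 0} = ∅ := by
      ext i
      simp
    rw [this, Set.image_empty, Submodule.span_empty, sup_bot_eq]
  rw [hWtop, hW0] at h1
  have h2 : E.map (LinearMap.lsmul R R a) ≤ n • E := by
    rintro x ⟨y, hy, rfl⟩
    exact Submodule.smul_mem_smul ham hy
  have h3 := length_le_of_le h2
  have h4 := length_quot_map_of_injective (LinearMap.lsmul R R a)
    (lsmul_injective_of_mem_nonZeroDivisors a ha) E
  rw [range_lsmul_eq_span] at h4
  have h5 : Module.length R (R ⧸ Ideal.span {a}) = (N : ℕ∞) := by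
    rw [hN, ENat.coe_toNat hfin]
  have h6 : Module.length R (R ⧸ E) ≠ ⊤ := by
    have hle : Ideal.span {a ^ N} ≤ E := by
      rw [Ideal.span_le, Set.singleton_subset_iff]
      apply Submodule.subset_span
      refine ⟨N, Nat.lt_succ_self N, ?_⟩
      simp [he]
    exact ne_top_of_le_ne_top (length_quot_span_pow_ne_top a ha hfin N) (length_le_of_le hle)
  rw [h4, h5] at h3
  have h7 : Module.length R (R ⧸ E) + ((N + 1 : ℕ) : ℕ∞) ≤ Module.length R (R ⧸ E) + (N : ℕ∞) :=
    h1.trans h3
  obtain ⟨k, hk⟩ := ENat.ne_top_iff_exists.mp h6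
  rw [← hk, ← Nat.cast_add, ← Nat.cast_add, Nat.cast_le] at h7
  omega

end Relation

section SL

variable {R : Type u} [CommRing R] [Finite (MaximalSpectrum R)] {Q : Type u} [CommRing Q]
  [Algebra R Q]

/-- **Making a two-generated ideal principal in a finite extension, semilocal version.**
`x` a nonzerodivisor with `R/xR` of finite length, `y` invertible in the `R`-algebra `Q`: there is
a finite subalgebra `R'` of `Q` and `t, x', y' ∈ R'` with `x = t x'`, `y = t y'`, `(x', y') = R'`. -/
theorem exists_common_factor (x y : R) (hx : x ∈ nonZeroDivisors R)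
    (hfin : Module.length R (R ⧸ Ideal.span {x}) ≠ ⊤) (hy : IsUnit (algebraMap R Q y))
    (hmax : ∀ R' : Subalgebra R Q, Module.Finite R R' → Finite (MaximalSpectrum R')) :
    ∃ R' : Subalgebra R Q, Module.Finite R R' ∧ ∃ t x' y' : R',
      algebraMap R Q x = t * x' ∧ algebraMap R Q y = t * y' ∧ Ideal.span {x', y'} = ⊤ := by
  classical
  have hrel := fun n : MaximalSpectrum R =>
    exists_relation' n.asIdeal n.isMaximal.ne_top x y hx hfin
  choose N r hr hrel using hrel
  have hN : ∀ n, N n ≠ 0 := by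
    intro n h0
    obtain ⟨j, hj, hjn⟩ := hr n
    have hrel' := hrel n
    rw [h0] at hj hrel'
    obtain rfl : j = 0 := Nat.le_zero.mp hj
    simp at hrel'
    rw [hrel'] at hjn
    exact hjn (Ideal.zero_mem _)
  set ι := algebraMap R Q with hι
  obtain ⟨yinv, hyinv⟩ := hy.exists_right_inv
  set s : Q := ι x * yinv with hs
  have hsy : s * ι y = ι x := by
    rw [hs, mul_assoc, mul_comm yinv, hyinv, mul_one]
  set c : MaximalSpectrum R → ℕ → Q := fun n i => ι (r n i) with hc
  have hrelQ : ∀ n, ∑ i ∈ Finset.range (N n + 1), c n i * s ^ i = 0 := by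
    intro n
    have h1 := congrArg ι (hrel n)
    rw [map_sum, map_zero] at h1
    have h2 : ∑ i ∈ Finset.range (N n + 1), c n i * s ^ i * (ι y) ^ (N n) = 0 := by
      rw [← h1]
      apply Finset.sum_congr rfl
      intro i hi
      have hiN : i ≤ N n := Nat.lt_succ_iff.mp (Finset.mem_range.mp hi)
      have hpow : (ι y) ^ (N n) = (ι y) ^ i * (ι y) ^ (N n - i) := by
        rw [← pow_add]
        congr 1
        omega
      simp only [map_mul, map_pow, hc]
      rw [← hsy, mul_pow, hpow]
      ring
    rw [← Finset.sum_mul] at h2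
    exact (hy.pow (N n)).mul_left_eq_zero.mp h2
  have hU0 : ∀ n, U (c n) s (N n) (N n) = 0 := fun n => by
    rw [U_top]
    exact hrelQ n
  have hint : ∀ n, ∀ k ≤ N n, IsIntegral R (U (c n) s (N n) k) := fun n =>
    isIntegral_U s (N n) (c n) (fun i _ => isIntegral_algebraMap) (hU0 n)
  set G : Set Q := ⋃ n : MaximalSpectrum R, (fun k => U (c n) s (N n) k) '' {k | k ≤ N n} with hG
  have hGfin : G.Finite := Set.finite_iUnion (fun n => (Set.finite_le_nat (N n)).image _)
  set R' : Subalgebra R Q := Algebra.adjoin R G with hR'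
  have hGmem : ∀ n, ∀ k ≤ N n, U (c n) s (N n) k ∈ R' := fun n k hk =>
    Algebra.subset_adjoin (Set.mem_iUnion.mpr ⟨n, ⟨k, hk, rfl⟩⟩)
  have hfinR' : Module.Finite R R' :=
    Algebra.finite_adjoin_of_finite_of_isIntegral hGfin (by
      intro z hz
      obtain ⟨n, hz⟩ := Set.mem_iUnion.mp hz
      obtain ⟨k, hk, rfl⟩ := hz
      exact hint n k hk)
  have hGs : ∀ n, ∀ k < N n, U (c n) s (N n) k * s ∈ R' := by
    intro n k hk
    have h1 : U (c n) s (N n) k * s = U (c n) s (N n) (k + 1) - c n (N n - (k + 1)) := by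
      rw [U_succ]
      ring
    rw [h1]
    exact R'.sub_mem (hGmem n (k + 1) hk) (R'.algebraMap_mem _)
  let u : (Σ n : MaximalSpectrum R, Fin (N n)) → R' := fun p =>
    ⟨U (c p.1) s (N p.1) p.2, hGmem p.1 p.2 p.2.2.le⟩
  let v : (Σ n : MaximalSpectrum R, Fin (N n)) → R' := fun p =>
    ⟨U (c p.1) s (N p.1) p.2 * s, hGs p.1 p.2 p.2.2⟩
  have key : ∀ n, ∀ k ≤ N n,
      algebraMap R R' (r n (N n - k)) ∈ Ideal.span (Set.range u ∪ Set.range v) := by
    intro n k hk
    rcases k with _ | k
    · have : algebraMap R R' (r n (N n - 0)) = u ⟨n, ⟨0, Nat.pos_of_ne_zero (hN n)⟩⟩ := by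
        apply Subtype.ext
        rfl
      rw [this]
      exact Ideal.subset_span (Or.inl ⟨_, rfl⟩)
    · have hkN : k < N n := hk
      have hv : v ⟨n, ⟨k, hkN⟩⟩ ∈ Ideal.span (Set.range u ∪ Set.range v) :=
        Ideal.subset_span (Or.inr ⟨_, rfl⟩)
      by_cases hk1 : k + 1 < N n
      · have hu : u ⟨n, ⟨k + 1, hk1⟩⟩ ∈ Ideal.span (Set.range u ∪ Set.range v) :=
          Ideal.subset_span (Or.inl ⟨_, rfl⟩)
        have : algebraMap R R' (r n (N n - (k + 1))) =
            u ⟨n, ⟨k + 1, hk1⟩⟩ - v ⟨n, ⟨k, hkN⟩⟩ := by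
          apply Subtype.ext
          change c n (N n - (k + 1)) = U (c n) s (N n) (k + 1) - U (c n) s (N n) k * s
          rw [U_succ]
          ring
        rw [this]
        exact Ideal.sub_mem _ hu hv
      · have hkN' : k + 1 = N n := by omega
        have : algebraMap R R' (r n (N n - (k + 1))) = - v ⟨n, ⟨k, hkN⟩⟩ := by
          apply Subtype.ext
          change c n (N n - (k + 1)) = - (U (c n) s (N n) k * s)
          have h0 : U (c n) s (N n) (k + 1) = 0 := by rw [hkN']; exact hU0 n
          rw [U_succ] at h0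
          linear_combination h0
        rw [this]
        exact neg_mem hv
  have hspan : Ideal.span (Set.range u ∪ Set.range v) = ⊤ := by
    by_contra hne
    obtain ⟨n₁, hn₁, hle⟩ := Ideal.exists_le_maximal _ hne
    haveI : Algebra.IsIntegral R R' := Algebra.IsIntegral.of_finite R R'
    haveI := hn₁
    let n : MaximalSpectrum R :=
      ⟨n₁.comap (algebraMap R R'), Ideal.isMaximal_comap_of_isIntegral_of_isMaximal n₁⟩
    obtain ⟨j, hj, hjn⟩ := hr n
    apply hjn
    have hmem := key n (N n - j) (Nat.sub_le _ _)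
    rw [Nat.sub_sub_self hj] at hmem
    exact hle hmem
  haveI := hmax R' hfinR'
  obtain ⟨p, hp, hptop⟩ := exists_pair_span_eq_top u v hspan
  have hgen : ∀ q ∈ Submodule.span R' (Set.range fun i => (u i, v i)),
      (q.2 : Q) = (q.1 : Q) * s := by
    intro q hq
    induction hq using Submodule.span_induction with
    | mem x hx =>
      obtain ⟨i, rfl⟩ := hx
      rfl
    | zero => simp
    | add x y _ _ hx hy =>
      simp only [Prod.snd_add, Prod.fst_add, Subalgebra.coe_add, hx, hy, add_mul]
    | smul t x _ hx =>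
      simp only [Prod.smul_snd, Prod.smul_fst, smul_eq_mul, Subalgebra.coe_mul, hx, mul_assoc]
  have hps : (p.2 : Q) = (p.1 : Q) * s := hgen p hp
  have h1mem : (1 : R') ∈ Ideal.span {p.1, p.2} := by
    rw [hptop]
    exact Submodule.mem_top
  obtain ⟨α, β, hαβ⟩ := Ideal.mem_span_pair.mp h1mem
  have hαβQ : (α : Q) * (p.1 : Q) + (β : Q) * ((p.1 : Q) * s) = 1 := by
    have := congrArg Subtype.val hαβ
    simpa [hps] using this
  set t : R' := α * algebraMap R R' y + β * algebraMap R R' x with ht
  have htQ : (t : Q) = (α : Q) * ι y + (β : Q) * ι x := rfl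
  have ht_w : ι y = (t : Q) * (p.1 : Q) := by
    rw [htQ, ← hsy]
    linear_combination (-(ι y)) * hαβQ
  have ht_w' : ι x = (t : Q) * (p.2 : Q) := by
    rw [htQ, hps, ← hsy]
    linear_combination (-(s * ι y)) * hαβQ
  refine ⟨R', hfinR', t, p.2, p.1, ht_w', ht_w, ?_⟩
  rw [Ideal.span_pair_comm]
  exact hptop

end SL

end Groth.Agent.Lib.Helper29.SemilocalBlowup
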