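import Groth.Agent.Lib.Helper29.TameM
import Groth.Agent.S1836

/-!
# Tame symbols, part N: global laws
-/

set_option autoImplicit false

namespace Groth.Agent.Lib.Helper29.Tame

universe u

open IsLocalRing CycAlg

section glob

variable {A : Type u} [CommRing A] [IsNoetherianRing A] [IsLocalRing A]

omit [IsNoetherianRing A] in
theorem tameSymbol_eq_one_of_isUnit {a b : A} (ha : IsUnit a) (hb : IsUnit b) :
    tameSymbol A a b = 1 := by
  unfold tameSymbol
  split_ifs with h
  · exact value_eq_one_of_isUnit _ ha hb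
  · rfl

theorem tameSymbol_eq_value (hA : ringKrullDim A = 1) {a₁ a₂ : A}
    (h₁ : a₁ ∈ nonZeroDivisors A) (h₂ : a₂ ∈ nonZeroDivisors A) (D : TameData A a₁ a₂) :
    tameSymbol A a₁ a₂ = D.value := by
  unfold tameSymbol
  rw [dif_pos ⟨D⟩]
  exact value_eq hA h₁ h₂ _ D

/-- build tame data from a finite extension and local factorization data -/
def mkData {a₁ a₂ : A} (B : Type u) [CommRing B] [Algebra A B]
    (hB : IsFinExt A B (maximalIdeal A))
    (hloc : ∀ q : MaximalSpectrum B, IsLocalHom (algebraMap A (Localization.AtPrime q.asIdeal)))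
    (F : ∀ q : MaximalSpectrum B, LocFac (Localization.AtPrime q.asIdeal)
      (algebraMap A _ a₁) (algebraMap A _ a₂)) : TameData A a₁ a₂ where
  B := B
  isFinExt := hB
  isLocalHom := hloc
  π q := (F q).π
  π_mem q := (F q).π_mem
  u₁ q := (F q).u₁
  u₂ q := (F q).u₂
  e₁ q := (F q).e₁
  e₂ q := (F q).e₂
  fac₁ q := (F q).fac₁
  fac₂ q := (F q).fac₂

theorem tameSymbol_eq_finprod (hA : ringKrullDim A = 1) {a₁ a₂ : A}
    (h₁ : a₁ ∈ nonZeroDivisors A) (h₂ : a₂ ∈ nonZeroDivisors A)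
    (B : Type u) [CommRing B] [Algebra A B] (hB : IsFinExt A B (maximalIdeal A))
    [hloc : ∀ q : MaximalSpectrum B,
      IsLocalHom (algebraMap A (Localization.AtPrime q.asIdeal))]
    (F : ∀ q : MaximalSpectrum B, LocFac (Localization.AtPrime q.asIdeal)
      (algebraMap A _ a₁) (algebraMap A _ a₂)) :
    tameSymbol A a₁ a₂ =
      ∏ᶠ q : MaximalSpectrum B, Algebra.norm (ResidueField A) (F q).sym := by
  rw [tameSymbol_eq_value hA h₁ h₂ (mkData B hB hloc F)]
  exact finprod_congr (fun q => localFactor_eq (mkData B hB hloc F) q)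

/-- common factorization data for three elements -/
theorem exists_common (hA : ringKrullDim A = 1) (a b c : A) (ha : a ∈ nonZeroDivisors A)
    (hb : b ∈ nonZeroDivisors A) (hc : c ∈ nonZeroDivisors A)
    (hnu : ¬ (IsUnit a ∧ IsUnit b ∧ IsUnit c)) :
    ∃ (B : Type u) (_ : CommRing B) (_ : Algebra A B), IsFinExt A B (maximalIdeal A) ∧
      ∃ π : ∀ q : MaximalSpectrum B, Localization.AtPrime q.asIdeal,
        (∀ q, π q ∈ nonZeroDivisors (Localization.AtPrime q.asIdeal)) ∧
        ∀ q, Nonempty (Mono (Localization.AtPrime q.asIdeal) (π q) (algebraMap A _ a)) ∧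
          Nonempty (Mono (Localization.AtPrime q.asIdeal) (π q) (algebraMap A _ b)) ∧
          Nonempty (Mono (Localization.AtPrime q.asIdeal) (π q) (algebraMap A _ c)) := by
  have hna : ∃ i, ¬ IsUnit ((![a, b, c] : Fin 3 → A) i) := by
    by_contra hcon
    push_neg at hcon
    exact hnu ⟨hcon 0, hcon 1, hcon 2⟩
  have hnz : ∀ i, (![a, b, c] : Fin 3 → A) i ∈ nonZeroDivisors A := by
    intro i
    fin_cases i
    · exact ha
    · exact hb
    · exact hc
  obtain ⟨B, iCR, iAlg, hB, h⟩ := Groth.Agent.S1836.result A hA 3 (by norm_num) ![a, b, c] hnz hna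
  choose π hπ hfac using h
  refine ⟨B, iCR, iAlg, hB, π, hπ, fun q => ⟨?_, ?_, ?_⟩⟩
  · obtain ⟨v, e, hve⟩ := hfac q 0
    exact ⟨⟨v, e, hve⟩⟩
  · obtain ⟨v, e, hve⟩ := hfac q 1
    exact ⟨⟨v, e, hve⟩⟩
  · obtain ⟨v, e, hve⟩ := hfac q 2
    exact ⟨⟨v, e, hve⟩⟩

end glob

end Groth.Agent.Lib.Helper29.Tame
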