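import Groth.Agent.Lib.Helper29.BcL
import Groth.Agent.Lib.Helper29.TameN

/-!
# Base change of tame symbols, part M: assembly
-/

set_option autoImplicit false

namespace Groth.Agent.Lib.Helper29.Bc

universe u

open IsLocalRing TensorProduct Groth.Agent.Lib.Helper29.LengthFormula CycAlg Groth.Agent.Lib.Helper29.Tame

section main

variable {A : Type u} [CommRing A] [IsNoetherianRing A] [IsLocalRing A]
  (A' : Type u) [CommRing A'] [IsNoetherianRing A'] [IsLocalRing A'] [Algebra A A']
  [IsLocalHom (algebraMap A A')] [Module.Flat A A']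

theorem main_of_data (hA : ringKrullDim A = 1) (hA' : ringKrullDim A' = 1) {a₁ a₂ : A}
    (h₁ : a₁ ∈ nonZeroDivisors A) (h₂ : a₂ ∈ nonZeroDivisors A)
    (hpow : ∃ N : ℕ, maximalIdeal A' ^ N ≤ (maximalIdeal A).map (algebraMap A A'))
    (B : Type u) [CommRing B] [Algebra A B] (hB : IsFinExt A B (maximalIdeal A))
    (F : ∀ q : MaximalSpectrum B, LocFac (Localization.AtPrime q.asIdeal)
      (algebraMap A _ a₁) (algebraMap A _ a₂)) :
    ResidueField.map (algebraMap A A') (tameSymbol A a₁ a₂) ^
      (Module.length A' (A' ⧸ (maximalIdeal A).map (algebraMap A A'))).toNat =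
        tameSymbol A' (algebraMap A A' a₁) (algebraMap A A' a₂) := by
  haveI : Module.Finite A B := hB.2.1
  haveI hloc : ∀ q : MaximalSpectrum B,
      IsLocalHom (algebraMap A (Localization.AtPrime q.asIdeal)) := Tame.isLocalHom_of_finite
  haveI hloc' : ∀ q' : MaximalSpectrum (A' ⊗[A] B),
      IsLocalHom (algebraMap A' (Localization.AtPrime q'.asIdeal)) := Tame.isLocalHom_of_finite
  have hB' := isFinExt_baseChange A' hB hpow
  have hfl := isFiniteLength_quot_map (A := A) A' hpow
  let F' : ∀ q' : MaximalSpectrum (A' ⊗[A] B), LocFac (Localization.AtPrime q'.asIdeal)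
      (algebraMap A' _ (algebraMap A A' a₁)) (algebraMap A' _ (algebraMap A A' a₂)) := fun q' =>
    (F (sig A' q')).map (phi A' q') (nzd_of_flat' _ (flat_phi A' q') (F (sig A' q')).π_mem)
      (phi_algebraMap_base A' q' a₁) (phi_algebraMap_base A' q' a₂)
  rw [Tame.tameSymbol_eq_finprod hA h₁ h₂ B hB F,
    Tame.tameSymbol_eq_finprod hA' (nzd_of_flat h₁) (nzd_of_flat h₂) (A' ⊗[A] B) hB' F']
  haveI : Finite (MaximalSpectrum B) := Tame.finite_maximalSpectrum A
  haveI : Finite (MaximalSpectrum (A' ⊗[A] B)) := Tame.finite_maximalSpectrum A'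
  choose b hb using fun n : MaximalSpectrum B => resB_surjective (A := A) n (F n).base
  have hlf : ∀ q', Algebra.norm (ResidueField A') (F' q').sym =
      (dfac A' ((1 : A') ⊗ₜ[A] b (sig A' q')) q' ^
        (lam ((A' ⊗[A] B) ⧸ extI A' (sig A' q')) q'.asIdeal).toNat) ^
          (Ring.ord _ (F (sig A' q')).π).toNat := by
    intro q'
    have hbase : (F' q').base = residue _ (algebraMap (A' ⊗[A] B)
        (Localization.AtPrime q'.asIdeal) ((1 : A') ⊗ₜ[A] b (sig A' q'))) := by
      rw [← residue_phi, ← resB_apply (A := A), hb]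
      exact LocFac.map_base _ _ _ _ _
    have hord : Ring.ord (Localization.AtPrime q'.asIdeal) (F' q').π =
        Ring.ord _ (F (sig A' q')).π * lam ((A' ⊗[A] B) ⧸ extI A' (sig A' q')) q'.asIdeal :=
      ord_phi A' q' _
    unfold LocFac.sym
    rw [hord, hbase, map_pow, ENat.toNat_mul, mul_comm, pow_mul]
    rfl
  classical
  letI := Fintype.ofFinite (MaximalSpectrum B)
  letI := Fintype.ofFinite (MaximalSpectrum (A' ⊗[A] B))
  rw [finprod_eq_prod_of_fintype, finprod_eq_prod_of_fintype, map_prod, ← Finset.prod_pow]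
  have key : ∀ n : MaximalSpectrum B,
      (ResidueField.map (algebraMap A A') (Algebra.norm (ResidueField A) (F n).sym)) ^
        (Module.length A' (A' ⧸ (maximalIdeal A).map (algebraMap A A'))).toNat =
      ∏ q' : MaximalSpectrum (A' ⊗[A] B), (dfac A' ((1 : A') ⊗ₜ[A] b n) q' ^
        (lam ((A' ⊗[A] B) ⧸ extI A' n) q'.asIdeal).toNat) ^ (Ring.ord _ (F n).π).toNat := by
    intro n
    rw [Finset.prod_pow, ← finprod_eq_prod_of_fintype, norm_identity A' n (b n) hfl, hb n]
    unfold LocFac.sym
    rw [map_pow, map_pow, ← pow_mul, ← pow_mul, mul_comm]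
    rfl
  rw [Finset.prod_congr rfl (fun n _ => key n), Finset.prod_comm]
  refine Finset.prod_congr rfl (fun q' _ => ?_)
  rw [hlf q']
  rw [Finset.prod_eq_single (sig A' q')]
  · intro n _ hn
    rw [lam_eq_zero_of_ne A' n q' hn]
    simp
  · simp

end main

end Groth.Agent.Lib.Helper29.Bc
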