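import Groth.Agent.S6480

/-!
# Tools for making a two-generated ideal principal in a finite extension (dimension one)

* `exists_relation`: in a one-dimensional Noetherian local ring, the monomials `a^i b^(N-i)` satisfy a
  homogeneous relation with a unit coefficient (bounded number of generators of `(a,b)^N`).
* `U`, `isIntegral_U`: Horner partial sums of a polynomial relation are integral (Stacks 00GJ).
* `exists_pair_span_eq_top`: invertible => principal in a semilocal ring, in elementary form.
-/

set_option autoImplicit false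
universe u

namespace Groth.Agent.Lib.Helper29.BlowupDimOne

open IsLocalRing
open scoped Pointwise

section Length

variable {R : Type u} [CommRing R] {M : Type u} [AddCommGroup M] [Module R M]

/-- a strict inclusion of submodules drops the length of the quotient -/
theorem length_succ_le_of_lt {J₁ J₂ : Submodule R M} (h : J₁ < J₂) :
    Module.length R (M ⧸ J₂) + 1 ≤ Module.length R (M ⧸ J₁) := by
  rw [Module.length_eq_add_of_exact (LinearMap.ker (Submodule.factor h.le)).subtype
    (Submodule.factor h.le) (Submodule.subtype_injective _) (Submodule.factor_surjective h.le)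
    (by
      rw [LinearMap.exact_iff, Submodule.range_subtype]), add_comm]
  gcongr
  rw [Order.one_le_iff_pos, Module.length_pos_iff]
  obtain ⟨x, hx₂, hx₁⟩ := Set.exists_of_ssubset h
  refine ⟨⟨⟨J₁.mkQ x, ?_⟩, 0, ?_⟩⟩
  · rw [LinearMap.mem_ker, Submodule.factor_mk, Submodule.mkQ_apply, Submodule.Quotient.mk_eq_zero]
    exact hx₂
  · intro h0
    have := congrArg Subtype.val h0
    simp only [Submodule.mkQ_apply, ZeroMemClass.coe_zero, Submodule.Quotient.mk_eq_zero] at this
    exact hx₁ this

theorem length_le_of_le {J₁ J₂ : Submodule R M} (h : J₁ ≤ J₂) :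
    Module.length R (M ⧸ J₂) ≤ Module.length R (M ⧸ J₁) :=
  Module.length_le_of_surjective (Submodule.factor h) (Submodule.factor_surjective h)

/-- a strict chain of length `n` between two submodules -/
theorem length_add_le_of_chain (W : ℕ → Submodule R M) (n : ℕ)
    (h : ∀ j < n, W j < W (j + 1)) :
    Module.length R (M ⧸ W n) + n ≤ Module.length R (M ⧸ W 0) := by
  induction n with
  | zero => simp
  | succ n ih =>
    have h1 := ih (fun j hj => h j (Nat.lt_succ_of_lt hj))
    have h2 := length_succ_le_of_lt (h n (Nat.lt_succ_self n))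
    calc Module.length R (M ⧸ W (n + 1)) + ((n + 1 : ℕ) : ℕ∞)
        = (Module.length R (M ⧸ W (n + 1)) + 1) + n := by push_cast; ring
      _ ≤ Module.length R (M ⧸ W n) + n := by gcongr
      _ ≤ _ := h1

end Length

section Relation

variable {R : Type u} [CommRing R] [IsNoetherianRing R] [IsLocalRing R]

/-- representation of elements of the span of `e i`, `i < j`, as sums over `range n` -/
theorem exists_coeff_of_mem_span (e : ℕ → R) (n j : ℕ) (hj : j ≤ n) (x : R)
    (hx : x ∈ Submodule.span R (e '' {i | i < j})) :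
    ∃ d : ℕ → R, (∀ i, j ≤ i → d i = 0) ∧ x = ∑ i ∈ Finset.range n, d i * e i := by
  induction hx using Submodule.span_induction with
  | mem x hx =>
    obtain ⟨k, hk, rfl⟩ := hx
    refine ⟨fun i => if i = k then 1 else 0, fun i hi => ?_, ?_⟩
    · have : i ≠ k := by
        have hk' : k < j := hk
        omega
      simp [this]
    · have hk' : k < j := hk
      rw [Finset.sum_eq_single k]
      · simp
      · intro i _ hik
        simp [hik]
      · intro hkn
        exact absurd (Finset.mem_range.mpr (lt_of_lt_of_le hk' hj)) hkn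
  | zero => exact ⟨fun _ => 0, fun _ _ => rfl, by simp⟩
  | add x y _ _ hx hy =>
    obtain ⟨d₁, h₁, rfl⟩ := hx
    obtain ⟨d₂, h₂, rfl⟩ := hy
    refine ⟨fun i => d₁ i + d₂ i, fun i hi => by simp [h₁ i hi, h₂ i hi], ?_⟩
    rw [← Finset.sum_add_distrib]
    exact Finset.sum_congr rfl (fun i _ => by ring)
  | smul r x _ hx =>
    obtain ⟨d, h, rfl⟩ := hx
    refine ⟨fun i => r * d i, fun i hi => by simp [h i hi], ?_⟩
    rw [smul_eq_mul, Finset.mul_sum]
    exact Finset.sum_congr rfl (fun i _ => by ring)

theorem exists_coeff_of_mem_smul_span (I : Ideal R) (e : ℕ → R) (n : ℕ) (x : R)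
    (hx : x ∈ I • Submodule.span R (e '' {i | i < n})) :
    ∃ d : ℕ → R, (∀ i, d i ∈ I) ∧ x = ∑ i ∈ Finset.range n, d i * e i := by
  refine Submodule.smul_induction_on (p := fun x => ∃ d : ℕ → R, (∀ i, d i ∈ I) ∧
    x = ∑ i ∈ Finset.range n, d i * e i) hx ?_ ?_
  · intro r hr y hy
    obtain ⟨d, -, rfl⟩ := exists_coeff_of_mem_span e n n le_rfl y hy
    refine ⟨fun i => r * d i, fun i => I.mul_mem_right _ hr, ?_⟩
    rw [smul_eq_mul, Finset.mul_sum]
    exact Finset.sum_congr rfl (fun i _ => by ring)
  · rintro x y ⟨d₁, h₁, rfl⟩ ⟨d₂, h₂, rfl⟩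
    refine ⟨fun i => d₁ i + d₂ i, fun i => I.add_mem (h₁ i) (h₂ i), ?_⟩
    rw [← Finset.sum_add_distrib]
    exact Finset.sum_congr rfl (fun i _ => by ring)

/-- **A homogeneous relation with a unit coefficient** between the monomials `a^i b^(N-i)` in a
one-dimensional Noetherian local ring. -/
theorem exists_relation (hR : ringKrullDim R = 1) (a b : R) (ha : a ∈ nonZeroDivisors R) :
    ∃ (N : ℕ) (r : ℕ → R), (∃ j ≤ N, IsUnit (r j)) ∧
      ∑ i ∈ Finset.range (N + 1), r i * (a ^ i * b ^ (N - i)) = 0 := by
  by_cases ham : a ∈ maximalIdeal R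
  swap
  · have hu : IsUnit a := by
      by_contra h
      exact ham ((mem_maximalIdeal a).mpr h)
    refine ⟨1, fun i => if i = 0 then a else -b, ⟨0, Nat.zero_le _, by simpa using hu⟩, ?_⟩
    simp [Finset.sum_range_succ]
    ring
  haveI KD : Ring.KrullDimLE 1 R := Groth.Agent.S6480.krullDimLE_one_of_eq hR
  have hℓ : Module.length R (R ⧸ Ideal.span {a}) ≠ ⊤ :=
    Module.length_ne_top_iff.mpr (isFiniteLength_quotient_span_singleton R ha)
  set N := (Module.length R (R ⧸ Ideal.span {a})).toNat with hN
  by_contra hno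
  push Not at hno
  set e : ℕ → R := fun i => a ^ i * b ^ (N - i) with he
  set E : Submodule R R := Submodule.span R (e '' {i | i < N + 1}) with hE
  set W : ℕ → Submodule R R := fun j =>
    maximalIdeal R • E ⊔ Submodule.span R (e '' {i | i < j}) with hW
  have key : ∀ j < N + 1, e j ∉ W j := by
    intro j hj hmem
    obtain ⟨x, hx, y, hy, hxy⟩ := Submodule.mem_sup.mp hmem
    obtain ⟨d₁, h₁, rfl⟩ := exists_coeff_of_mem_smul_span _ e (N + 1) x hx
    obtain ⟨d₂, h₂, rfl⟩ := exists_coeff_of_mem_span e (N + 1) j hj.le y hy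
    apply hno N (fun i => (if i = j then 1 else 0) - d₁ i - d₂ i)
    · refine ⟨j, Nat.lt_succ_iff.mp hj, ?_⟩
      simp only [if_true, h₂ j le_rfl, sub_zero]
      exact isUnit_one_sub_self_of_mem_nonunits _ ((mem_maximalIdeal _).mp (h₁ j))
    · have h3 : ∑ i ∈ Finset.range (N + 1), (if i = j then (1 : R) else 0) * e i = e j := by
        rw [Finset.sum_eq_single j]
        · simp
        · intro i _ hij
          simp [hij]
        · intro hjn
          exact absurd (Finset.mem_range.mpr hj) hjn
      calc ∑ i ∈ Finset.range (N + 1),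
            ((if i = j then 1 else 0) - d₁ i - d₂ i) * (a ^ i * b ^ (N - i))
          = ∑ i ∈ Finset.range (N + 1), (if i = j then (1 : R) else 0) * e i
            - ∑ i ∈ Finset.range (N + 1), d₁ i * e i
            - ∑ i ∈ Finset.range (N + 1), d₂ i * e i := by
            rw [← Finset.sum_sub_distrib, ← Finset.sum_sub_distrib]
            exact Finset.sum_congr rfl (fun i _ => by simp only [he]; ring)
        _ = 0 := by rw [h3, ← hxy]; ring
  have hchain : ∀ j < N + 1, W j < W (j + 1) := by
    intro j hj
    refine lt_of_le_of_ne ?_ ?_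
    · apply sup_le_sup_left
      apply Submodule.span_mono
      apply Set.image_mono
      intro i hi
      exact Nat.lt_succ_of_lt hi
    · intro heq
      apply key j hj
      rw [heq]
      exact Submodule.mem_sup_right (Submodule.subset_span ⟨j, Nat.lt_succ_self j, rfl⟩)
  have h1 := length_add_le_of_chain W (N + 1) hchain
  have hWtop : W (N + 1) = E := sup_eq_right.mpr Submodule.smul_le_right
  have hW0 : W 0 = maximalIdeal R • E := by
    simp only [hW]
    have : {i : ℕ | i < 0} = ∅ := by
      ext i
      simp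
    rw [this, Set.image_empty, Submodule.span_empty, sup_bot_eq]
  rw [hWtop, hW0] at h1
  have h2 : a • E ≤ maximalIdeal R • E := by
    intro x hx
    obtain ⟨n, hn, rfl⟩ := (Submodule.mem_smul_pointwise_iff_exists _ _ _).mp hx
    exact Submodule.smul_mem_smul ham hn
  have h3 := length_le_of_le h2
  have hainj : Function.Injective (LinearMap.lsmul R R a) := by
    intro x y hxy
    exact (mul_cancel_left_mem_nonZeroDivisors ha).mp hxy
  have h4 := Groth.Agent.S6480.length_quot_smul a hainj E
  have hspan : Ideal.span {a} = a • (⊤ : Submodule R R) := by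
    rw [← Submodule.ideal_span_singleton_smul, Ideal.smul_top_eq_map, Algebra.algebraMap_self,
      Ideal.map_id]
    rfl
  have h5 : Module.length R (R ⧸ a • (⊤ : Submodule R R)) = (N : ℕ∞) := by
    rw [← (Submodule.quotEquivOfEq _ _ hspan).length_eq, hN, ENat.coe_toNat hℓ]
  have h6 : Module.length R (R ⧸ E) ≠ ⊤ := by
    have hle : Ideal.span {a ^ N} ≤ E := by
      rw [Ideal.span_le, Set.singleton_subset_iff]
      apply Submodule.subset_span
      refine ⟨N, Nat.lt_succ_self N, ?_⟩
      simp [he]
    have hfin : Module.length R (R ⧸ Ideal.span {a ^ N}) ≠ ⊤ :=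
      Module.length_ne_top_iff.mpr (isFiniteLength_quotient_span_singleton R (pow_mem ha N))
    exact ne_top_of_le_ne_top hfin (length_le_of_le hle)
  rw [h4, h5] at h3
  have h7 : Module.length R (R ⧸ E) + ((N + 1 : ℕ) : ℕ∞) ≤ Module.length R (R ⧸ E) + (N : ℕ∞) :=
    h1.trans h3
  obtain ⟨k, hk⟩ := ENat.ne_top_iff_exists.mp h6
  rw [← hk, ← Nat.cast_add, ← Nat.cast_add, Nat.cast_le] at h7
  omega

end Relation


section Horner

variable {S : Type u} [CommRing S]

/-- Horner partial sums from the top: `U c s n k = c n * s^k + c (n-1) * s^(k-1) + … + c (n-k)` -/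
def U (c : ℕ → S) (s : S) (n : ℕ) : ℕ → S
  | 0 => c n
  | k + 1 => U c s n k * s + c (n - (k + 1))

@[simp] theorem U_zero (c : ℕ → S) (s : S) (n : ℕ) : U c s n 0 = c n := rfl

theorem U_succ (c : ℕ → S) (s : S) (n k : ℕ) :
    U c s n (k + 1) = U c s n k * s + c (n - (k + 1)) := rfl

theorem U_eq_sum (c : ℕ → S) (s : S) (n k : ℕ) (hk : k ≤ n) :
    U c s n k = ∑ i ∈ Finset.range (k + 1), c (n - k + i) * s ^ i := by
  induction k with
  | zero => simp
  | succ k ih =>
    rw [U_succ, ih (Nat.le_of_succ_le hk), Finset.sum_range_succ' _ (k + 1), Finset.sum_mul]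
    congr 1
    · apply Finset.sum_congr rfl
      intro i hi
      have : n - k + i = n - (k + 1) + (i + 1) := by omega
      rw [this, pow_succ]
      ring
    · simp

theorem U_top (c : ℕ → S) (s : S) (n : ℕ) :
    U c s n n = ∑ i ∈ Finset.range (n + 1), c i * s ^ i := by
  rw [U_eq_sum c s n n le_rfl]
  apply Finset.sum_congr rfl
  intro i _
  simp

/-- the shifted coefficient function after absorbing the top coefficient -/
def shiftCoeff (c : ℕ → S) (s : S) (n : ℕ) : ℕ → S :=
  fun i => if i = n then c (n + 1) * s + c n else c i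

theorem U_shift (c : ℕ → S) (s : S) (n k : ℕ) (hk : k ≤ n) :
    U (shiftCoeff c s n) s n k = U c s (n + 1) (k + 1) := by
  induction k with
  | zero =>
    simp [U_succ, shiftCoeff]
  | succ k ih =>
    rw [U_succ, ih (Nat.le_of_succ_le hk), U_succ c s (n + 1) (k + 1)]
    congr 1
    have h1 : n - (k + 1) ≠ n := by omega
    have h2 : n + 1 - (k + 1 + 1) = n - (k + 1) := by omega
    simp [shiftCoeff, h1, h2]

end Horner

section Integral

variable {R : Type u} [CommRing R] {S : Type u} [CommRing S] [Algebra R S]

/-- a root of a monic relation with integral coefficients is integral -/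
theorem isIntegral_of_monic_relation (y : S) (n : ℕ) (d : Fin n → S)
    (hd : ∀ i, IsIntegral R (d i)) (h : y ^ n + ∑ i : Fin n, d i * y ^ (i : ℕ) = 0) :
    IsIntegral R y := by
  let A := integralClosure R S
  let d' : Fin n → A := fun i => ⟨d i, hd i⟩
  have hA : IsIntegral A y := by
    refine ⟨Polynomial.X ^ n + ∑ i : Fin n, Polynomial.C (d' i) * Polynomial.X ^ (i : ℕ),
      Polynomial.monic_X_pow_add (Polynomial.degree_sum_fin_lt d'), ?_⟩
    rw [← Polynomial.aeval_def]
    simp only [map_add, map_pow, Polynomial.aeval_X, map_sum, map_mul, Polynomial.aeval_C]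
    exact h
  exact isIntegral_trans y hA

/-- the top coefficient times the root is integral -/
theorem isIntegral_lead_mul (c : ℕ → S) (s : S) (n : ℕ)
    (hc : ∀ i ≤ n + 1, IsIntegral R (c i))
    (h : ∑ i ∈ Finset.range (n + 2), c i * s ^ i = 0) : IsIntegral R (c (n + 1) * s) := by
  apply isIntegral_of_monic_relation (c (n + 1) * s) (n + 1)
    (fun i : Fin (n + 1) => c i * c (n + 1) ^ (n - i))
  · intro i
    exact (hc i (by omega)).mul ((hc (n + 1) le_rfl).pow _)
  · rw [Fin.sum_univ_eq_sum_range (fun i => c i * c (n + 1) ^ (n - i) * (c (n + 1) * s) ^ i) (n + 1)]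
    have h2 : c (n + 1) ^ n * ∑ i ∈ Finset.range (n + 2), c i * s ^ i = 0 := by rw [h, mul_zero]
    rw [Finset.sum_range_succ _ (n + 1), mul_add, Finset.mul_sum] at h2
    rw [← h2, add_comm]
    congr 1
    · apply Finset.sum_congr rfl
      intro i hi
      have hi' : i ≤ n := Nat.lt_succ_iff.mp (Finset.mem_range.mp hi)
      have : c (n + 1) ^ n = c (n + 1) ^ (n - i) * c (n + 1) ^ i := by
        rw [← pow_add]
        congr 1
        omega
      rw [this, mul_pow]
      ring
    · rw [mul_pow, pow_succ (c (n + 1)) n]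
      ring

/-- **Integrality of the Horner partial sums** of a polynomial relation with integral
coefficients (Stacks 00GJ-type lemma). -/
theorem isIntegral_U (s : S) (n : ℕ) : ∀ (c : ℕ → S), (∀ i ≤ n, IsIntegral R (c i)) →
    U c s n n = 0 → ∀ k ≤ n, IsIntegral R (U c s n k) := by
  induction n with
  | zero =>
    intro c hc _ k hk
    obtain rfl : k = 0 := Nat.le_zero.mp hk
    exact hc 0 le_rfl
  | succ n ih =>
    intro c hc h0 k hk
    rcases k with _ | k
    · exact hc (n + 1) le_rfl
    · have hlead : IsIntegral R (c (n + 1) * s) := by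
        apply isIntegral_lead_mul c s n hc
        rw [← U_top]
        exact h0
      have hc' : ∀ i ≤ n, IsIntegral R (shiftCoeff c s n i) := by
        intro i hi
        unfold shiftCoeff
        split_ifs with h
        · exact hlead.add (hc n (Nat.le_succ n))
        · exact hc i (Nat.le_succ_of_le hi)
      have h0' : U (shiftCoeff c s n) s n n = 0 := by
        rw [U_shift c s n n le_rfl]
        exact h0
      have := ih (shiftCoeff c s n) hc' h0' k (Nat.le_of_succ_le_succ hk)
      rwa [U_shift c s n k (Nat.le_of_succ_le_succ hk)] at this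

end Integral


section Semilocal

variable {T : Type u} [CommRing T] [Finite (MaximalSpectrum T)]

/-- for each maximal ideal an element outside it lying in all other maximal ideals -/
theorem exists_sep (j : MaximalSpectrum T) :
    ∃ E : T, E ∉ j.asIdeal ∧ ∀ j' : MaximalSpectrum T, j' ≠ j → E ∈ j'.asIdeal := by
  classical
  haveI := Fintype.ofFinite (MaximalSpectrum T)
  have hx : ∀ j' : MaximalSpectrum T, j' ≠ j → ∃ x : T, x ∈ j'.asIdeal ∧ x ∉ j.asIdeal := by
    intro j' hne
    by_contra hcon
    push Not at hcon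
    have hle : j'.asIdeal ≤ j.asIdeal := fun x hx => hcon x hx
    exact hne (MaximalSpectrum.ext (j'.isMaximal.eq_of_le j.isMaximal.ne_top hle))
  choose! x hx1 hx2 using hx
  refine ⟨∏ j' ∈ Finset.univ.erase j, x j', ?_, ?_⟩
  · intro hmem
    obtain ⟨j', hj', hmem'⟩ := (j.isMaximal.isPrime.prod_mem_iff).mp hmem
    exact hx2 j' (Finset.ne_of_mem_erase hj') hmem'
  · intro j' hne
    exact Ideal.mem_of_dvd _
      (Finset.dvd_prod_of_mem _ (Finset.mem_erase.mpr ⟨hne, Finset.mem_univ _⟩)) (hx1 j' hne)

/-- in a semilocal ring, if the `u i, v i` generate the unit ideal then some linear combination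
`(w, w')` of the pairs `(u i, v i)` already generates the unit ideal -/
theorem exists_pair_span_eq_top {ι : Type*} (u v : ι → T)
    (h : Ideal.span (Set.range u ∪ Set.range v) = ⊤) :
    ∃ p ∈ Submodule.span T (Set.range fun i => (u i, v i)), Ideal.span {p.1, p.2} = ⊤ := by
  classical
  haveI := Fintype.ofFinite (MaximalSpectrum T)
  have hE := fun j : MaximalSpectrum T => exists_sep j
  choose E hE1 hE2 using hE
  have hk : ∀ j : MaximalSpectrum T, ∃ i : ι, u i ∉ j.asIdeal ∨ v i ∉ j.asIdeal := by
    intro j
    by_contra hcon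
    push Not at hcon
    have : Ideal.span (Set.range u ∪ Set.range v) ≤ j.asIdeal := by
      rw [Ideal.span_le]
      rintro x (⟨i, rfl⟩ | ⟨i, rfl⟩)
      · exact (hcon i).1
      · exact (hcon i).2
    rw [h] at this
    exact j.isMaximal.ne_top (top_le_iff.mp this)
  choose k hk using hk
  refine ⟨∑ j, E j • (u (k j), v (k j)), ?_, ?_⟩
  · apply Submodule.sum_mem
    intro j _
    exact Submodule.smul_mem _ _ (Submodule.subset_span ⟨k j, rfl⟩)
  · by_contra hne
    obtain ⟨n, hn, hle⟩ := Ideal.exists_le_maximal _ hne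
    let j : MaximalSpectrum T := ⟨n, hn⟩
    have h1 : (∑ j, E j • (u (k j), v (k j))).1 ∈ n :=
      hle (Ideal.subset_span (Set.mem_insert _ _))
    have h2 : (∑ j, E j • (u (k j), v (k j))).2 ∈ n :=
      hle (Ideal.subset_span (Set.mem_insert_of_mem _ rfl))
    rw [Prod.fst_sum] at h1
    rw [Prod.snd_sum] at h2
    have hsplit : ∀ f : MaximalSpectrum T → T, (∑ j', E j' * f j') ∈ n → E j * f j ∈ n := by
      intro f hf
      rw [← Finset.add_sum_erase Finset.univ _ (Finset.mem_univ j)] at hf
      have hrest : ∑ j' ∈ Finset.univ.erase j, E j' * f j' ∈ n := by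
        apply Ideal.sum_mem
        intro j' hj'
        apply Ideal.mul_mem_right
        exact hE2 j' j (Finset.ne_of_mem_erase hj').symm
      exact (Ideal.add_mem_iff_left n hrest).mp hf
    have h1' := hsplit (fun j' => u (k j')) (by simpa using h1)
    have h2' := hsplit (fun j' => v (k j')) (by simpa using h2)
    have hu : u (k j) ∈ n := (hn.isPrime.mem_or_mem h1').resolve_left (hE1 j)
    have hv : v (k j) ∈ n := (hn.isPrime.mem_or_mem h2').resolve_left (hE1 j)
    rcases hk j with h | h
    · exact h hu
    · exact h hv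

end Semilocal

end Groth.Agent.Lib.Helper29.BlowupDimOne
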