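import Groth.Prelude.Def_CycAlg
import Groth.Agent.Lib.Helper87.DimOne

/-!
# The hexagon of a short exact sequence of 2-periodic complexes and Herbrand quotients
-/

set_option autoImplicit false
universe u v

namespace Groth.Agent.Lib.Helper29.Herbrand

open CycAlg Function Groth.Agent.Lib.Helper87

variable {R : Type u} [CommRing R]

section Single

variable {M N : Type v} [AddCommGroup M] [Module R M] [AddCommGroup N] [Module R N]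
  (φ : M →ₗ[R] N) (ψ : N →ₗ[R] M)

/-- `φ̄ : M / im ψ → ker ψ` -/
noncomputable def phiBar (h : IsPeriodic φ ψ) : (M ⧸ LinearMap.range ψ) →ₗ[R] LinearMap.ker ψ :=
  (LinearMap.range ψ).liftQ (LinearMap.codRestrict (LinearMap.ker ψ) φ (fun m => by
      rw [LinearMap.mem_ker, ← LinearMap.comp_apply, h.2, LinearMap.zero_apply]))
    (by
      rintro _ ⟨n, rfl⟩
      rw [LinearMap.mem_ker]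
      apply Subtype.ext
      simp only [LinearMap.codRestrict_apply, ZeroMemClass.coe_zero]
      rw [← LinearMap.comp_apply, h.1, LinearMap.zero_apply])

@[simp] theorem phiBar_mk (h : IsPeriodic φ ψ) (m : M) :
    ((phiBar φ ψ h (Submodule.Quotient.mk m) : LinearMap.ker ψ) : N) = φ m := rfl

/-- `H⁰ = ker φ / (im ψ ∩ ker φ) → M / im ψ` -/
noncomputable def iotaH : perH φ ψ →ₗ[R] (M ⧸ LinearMap.range ψ) :=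
  Submodule.mapQ _ _ (LinearMap.ker φ).subtype (fun _ hx => hx)

theorem iotaH_mk (m : LinearMap.ker φ) :
    iotaH φ ψ (Submodule.Quotient.mk m) = Submodule.Quotient.mk (m : M) := rfl

theorem iotaH_injective : Injective (iotaH φ ψ) := by
  rw [← LinearMap.ker_eq_bot, eq_bot_iff]
  intro q hq
  obtain ⟨m, rfl⟩ := Submodule.mkQ_surjective _ q
  rw [LinearMap.mem_ker, Submodule.mkQ_apply, iotaH_mk, Submodule.Quotient.mk_eq_zero] at hq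
  rw [Submodule.mem_bot, Submodule.mkQ_apply, Submodule.Quotient.mk_eq_zero]
  exact hq

theorem exact_iotaH_phiBar (h : IsPeriodic φ ψ) : Exact (iotaH φ ψ) (phiBar φ ψ h) := by
  intro y
  obtain ⟨m, rfl⟩ := Submodule.mkQ_surjective _ y
  rw [Submodule.mkQ_apply]
  constructor
  · intro hy
    have hm : φ m = 0 := by
      have := congrArg Subtype.val hy
      simpa using this
    exact ⟨Submodule.Quotient.mk ⟨m, hm⟩, rfl⟩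
  · rintro ⟨z, hz⟩
    obtain ⟨m', rfl⟩ := Submodule.mkQ_surjective _ z
    rw [Submodule.mkQ_apply, iotaH_mk] at hz
    rw [← hz]
    apply Subtype.ext
    rw [phiBar_mk]
    exact m'.2

/-- `ker ψ → H¹ = ker ψ / (im φ ∩ ker ψ)` -/
noncomputable def piH : LinearMap.ker ψ →ₗ[R] perH ψ φ :=
  ((LinearMap.range φ).submoduleOf (LinearMap.ker ψ)).mkQ

theorem piH_surjective : Surjective (piH φ ψ) := Submodule.mkQ_surjective _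

theorem exact_phiBar_piH (h : IsPeriodic φ ψ) : Exact (phiBar φ ψ h) (piH φ ψ) := by
  intro k
  unfold piH
  rw [Submodule.mkQ_apply, Submodule.Quotient.mk_eq_zero]
  constructor
  · rintro ⟨m, hm⟩
    refine ⟨Submodule.Quotient.mk m, ?_⟩
    apply Subtype.ext
    rw [phiBar_mk]
    exact hm
  · rintro ⟨y, rfl⟩
    obtain ⟨m, rfl⟩ := Submodule.mkQ_surjective _ y
    exact ⟨m, rfl⟩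

end Single

section Map

variable {M N M' N' : Type v} [AddCommGroup M] [Module R M] [AddCommGroup N] [Module R N]
  [AddCommGroup M'] [Module R M'] [AddCommGroup N'] [Module R N']
  (φ : M →ₗ[R] N) (ψ : N →ₗ[R] M) (φ' : M' →ₗ[R] N') (ψ' : N' →ₗ[R] M')
  (f : M →ₗ[R] M') (g : N →ₗ[R] N')

/-- the map `M / im ψ → M' / im ψ'` -/
noncomputable def qMap (cψ : ψ' ∘ₗ g = f ∘ₗ ψ) :
    (M ⧸ LinearMap.range ψ) →ₗ[R] (M' ⧸ LinearMap.range ψ') :=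
  Submodule.mapQ _ _ f (by
    rintro _ ⟨n, rfl⟩
    exact ⟨g n, by rw [← LinearMap.comp_apply, cψ, LinearMap.comp_apply]⟩)

theorem qMap_mk (cψ : ψ' ∘ₗ g = f ∘ₗ ψ) (m : M) :
    qMap ψ ψ' f g cψ (Submodule.Quotient.mk m) = Submodule.Quotient.mk (f m) := rfl

/-- the map `ker ψ → ker ψ'` -/
noncomputable def kMap (cψ : ψ' ∘ₗ g = f ∘ₗ ψ) : LinearMap.ker ψ →ₗ[R] LinearMap.ker ψ' :=
  g.restrict (fun n hn => by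
    rw [LinearMap.mem_ker] at hn ⊢
    rw [← LinearMap.comp_apply, cψ, LinearMap.comp_apply, hn, map_zero])

theorem kMap_coe (cψ : ψ' ∘ₗ g = f ∘ₗ ψ) (n : LinearMap.ker ψ) :
    ((kMap ψ ψ' f g cψ n : LinearMap.ker ψ') : N') = g n := rfl

/-- the map on `H⁰` -/
noncomputable def hMap (cφ : φ' ∘ₗ f = g ∘ₗ φ) (cψ : ψ' ∘ₗ g = f ∘ₗ ψ) :
    perH φ ψ →ₗ[R] perH φ' ψ' :=
  Submodule.mapQ _ _ (kMap φ φ' g f cφ) (by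
    rintro m ⟨n, hn⟩
    exact ⟨g n, by
      rw [← LinearMap.comp_apply, cψ, LinearMap.comp_apply, hn]
      rfl⟩)

theorem hMap_mk (cφ : φ' ∘ₗ f = g ∘ₗ φ) (cψ : ψ' ∘ₗ g = f ∘ₗ ψ) (m : LinearMap.ker φ) :
    hMap φ ψ φ' ψ' f g cφ cψ (Submodule.Quotient.mk m) =
      Submodule.Quotient.mk (kMap φ φ' g f cφ m) := rfl

variable (h : IsPeriodic φ ψ) (h' : IsPeriodic φ' ψ')

theorem kMap_comp_phiBar (cφ : φ' ∘ₗ f = g ∘ₗ φ) (cψ : ψ' ∘ₗ g = f ∘ₗ ψ) :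
    (kMap ψ ψ' f g cψ).comp (phiBar φ ψ h) = (phiBar φ' ψ' h').comp (qMap ψ ψ' f g cψ) := by
  apply LinearMap.ext
  intro y
  obtain ⟨m, rfl⟩ := Submodule.mkQ_surjective _ y
  apply Subtype.ext
  simp only [LinearMap.comp_apply, Submodule.mkQ_apply, kMap_coe, phiBar_mk, qMap_mk]
  rw [← LinearMap.comp_apply, ← cφ, LinearMap.comp_apply]

theorem qMap_comp_iotaH (cφ : φ' ∘ₗ f = g ∘ₗ φ) (cψ : ψ' ∘ₗ g = f ∘ₗ ψ) :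
    (qMap ψ ψ' f g cψ).comp (iotaH φ ψ) = (iotaH φ' ψ').comp (hMap φ ψ φ' ψ' f g cφ cψ) := by
  apply LinearMap.ext
  intro y
  obtain ⟨m, rfl⟩ := Submodule.mkQ_surjective _ y
  rfl

theorem hMap_comp_piH (cφ : φ' ∘ₗ f = g ∘ₗ φ) (cψ : ψ' ∘ₗ g = f ∘ₗ ψ) :
    (hMap ψ φ ψ' φ' g f cψ cφ).comp (piH φ ψ) = (piH φ' ψ').comp (kMap ψ ψ' f g cψ) := by
  apply LinearMap.ext
  intro y
  rfl

end Map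

section SES

variable {M₁ N₁ M₂ N₂ M₃ N₃ : Type v} [AddCommGroup M₁] [Module R M₁] [AddCommGroup N₁] [Module R N₁]
  [AddCommGroup M₂] [Module R M₂] [AddCommGroup N₂] [Module R N₂]
  [AddCommGroup M₃] [Module R M₃] [AddCommGroup N₃] [Module R N₃]
  (φ₁ : M₁ →ₗ[R] N₁) (ψ₁ : N₁ →ₗ[R] M₁) (φ₂ : M₂ →ₗ[R] N₂) (ψ₂ : N₂ →ₗ[R] M₂)
  (φ₃ : M₃ →ₗ[R] N₃) (ψ₃ : N₃ →ₗ[R] M₃)
  (h₁ : IsPeriodic φ₁ ψ₁) (h₂ : IsPeriodic φ₂ ψ₂) (h₃ : IsPeriodic φ₃ ψ₃)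
  (f₁ : M₁ →ₗ[R] M₂) (g₁ : N₁ →ₗ[R] N₂) (f₂ : M₂ →ₗ[R] M₃) (g₂ : N₂ →ₗ[R] N₃)
  (cφ₁ : φ₂ ∘ₗ f₁ = g₁ ∘ₗ φ₁) (cψ₁ : ψ₂ ∘ₗ g₁ = f₁ ∘ₗ ψ₁)
  (cφ₂ : φ₃ ∘ₗ f₂ = g₂ ∘ₗ φ₂) (cψ₂ : ψ₃ ∘ₗ g₂ = f₂ ∘ₗ ψ₂)
  (hf₁ : Injective f₁) (hg₁ : Injective g₁) (hf₂ : Surjective f₂) (hg₂ : Surjective g₂)
  (hM : LinearMap.range f₁ = LinearMap.ker f₂) (hN : LinearMap.range g₁ = LinearMap.ker g₂)

include hg₂ hM in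
theorem exact_qMap : Exact (qMap ψ₁ ψ₂ f₁ g₁ cψ₁) (qMap ψ₂ ψ₃ f₂ g₂ cψ₂) := by
  intro y
  obtain ⟨m₂, rfl⟩ := Submodule.mkQ_surjective _ y
  rw [Submodule.mkQ_apply, qMap_mk, Submodule.Quotient.mk_eq_zero]
  constructor
  · rintro ⟨n₃, hn₃⟩
    obtain ⟨n₂, rfl⟩ := hg₂ n₃
    have hker : m₂ - ψ₂ n₂ ∈ LinearMap.ker f₂ := by
      rw [LinearMap.mem_ker, map_sub, ← hn₃, ← LinearMap.comp_apply, cψ₂, LinearMap.comp_apply,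
        sub_self]
    rw [← hM] at hker
    obtain ⟨m₁, hm₁⟩ := hker
    refine ⟨Submodule.Quotient.mk m₁, ?_⟩
    rw [qMap_mk, hm₁, Submodule.Quotient.mk_sub, sub_eq_self, Submodule.Quotient.mk_eq_zero]
    exact ⟨n₂, rfl⟩
  · rintro ⟨z, hz⟩
    obtain ⟨m₁, rfl⟩ := Submodule.mkQ_surjective _ z
    rw [Submodule.mkQ_apply, qMap_mk, Submodule.Quotient.eq] at hz
    obtain ⟨n₂, hn₂⟩ := hz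
    have h0 : f₂ (f₁ m₁) = 0 := by
      have : f₁ m₁ ∈ LinearMap.ker f₂ := hM ▸ ⟨m₁, rfl⟩
      exact this
    refine ⟨g₂ (-n₂), ?_⟩
    rw [← LinearMap.comp_apply, cψ₂, LinearMap.comp_apply, map_neg, hn₂, neg_sub, map_sub, h0,
      sub_zero]

include hf₂ in
theorem qMap_surjective : Surjective (qMap ψ₂ ψ₃ f₂ g₂ cψ₂) := by
  intro y
  obtain ⟨m₃, rfl⟩ := Submodule.mkQ_surjective _ y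
  obtain ⟨m₂, rfl⟩ := hf₂ m₃
  exact ⟨Submodule.Quotient.mk m₂, rfl⟩

include hf₁ hN in
theorem exact_kMap : Exact (kMap ψ₁ ψ₂ f₁ g₁ cψ₁) (kMap ψ₂ ψ₃ f₂ g₂ cψ₂) := by
  intro k
  constructor
  · intro hk
    have hk' : g₂ (k : N₂) = 0 := congrArg Subtype.val hk
    have hmem : (k : N₂) ∈ LinearMap.range g₁ := by
      rw [hN]
      exact hk'
    obtain ⟨n₁, hn₁⟩ := hmem
    have hn₁k : n₁ ∈ LinearMap.ker ψ₁ := by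
      rw [LinearMap.mem_ker]
      apply hf₁
      rw [map_zero, ← LinearMap.comp_apply, ← cψ₁, LinearMap.comp_apply, hn₁]
      exact k.2
    exact ⟨⟨n₁, hn₁k⟩, Subtype.ext hn₁⟩
  · rintro ⟨n₁, rfl⟩
    apply Subtype.ext
    rw [kMap_coe, kMap_coe]
    have : g₁ (n₁ : N₁) ∈ LinearMap.ker g₂ := hN ▸ ⟨_, rfl⟩
    exact this

include hg₁ in
theorem kMap_injective : Injective (kMap ψ₁ ψ₂ f₁ g₁ cψ₁) := by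
  intro a b hab
  apply Subtype.ext
  apply hg₁
  exact congrArg Subtype.val hab

include hg₁ hg₂ hM h₂ in
theorem exact_hMap : Exact (hMap φ₁ ψ₁ φ₂ ψ₂ f₁ g₁ cφ₁ cψ₁) (hMap φ₂ ψ₂ φ₃ ψ₃ f₂ g₂ cφ₂ cψ₂) := by
  intro y
  obtain ⟨m₂, rfl⟩ := Submodule.mkQ_surjective _ y
  rw [Submodule.mkQ_apply, hMap_mk, Submodule.Quotient.mk_eq_zero]
  constructor
  · rintro ⟨n₃, hn₃⟩
    replace hn₃ : ψ₃ n₃ = f₂ (m₂ : M₂) := hn₃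
    obtain ⟨n₂, rfl⟩ := hg₂ n₃
    have hker : (m₂ : M₂) - ψ₂ n₂ ∈ LinearMap.ker f₂ := by
      rw [LinearMap.mem_ker, map_sub, ← hn₃, ← LinearMap.comp_apply, cψ₂, LinearMap.comp_apply,
        sub_self]
    rw [← hM] at hker
    obtain ⟨m₁, hm₁⟩ := hker
    have hm₁k : m₁ ∈ LinearMap.ker φ₁ := by
      rw [LinearMap.mem_ker]
      apply hg₁
      rw [map_zero, ← LinearMap.comp_apply, ← cφ₁, LinearMap.comp_apply, hm₁, map_sub,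
        ← LinearMap.comp_apply, h₂.1, LinearMap.zero_apply, sub_zero]
      exact m₂.2
    refine ⟨Submodule.Quotient.mk ⟨m₁, hm₁k⟩, ?_⟩
    rw [hMap_mk, Submodule.Quotient.eq]
    refine ⟨-n₂, ?_⟩
    change ψ₂ (-n₂) = f₁ m₁ - (m₂ : M₂)
    rw [hm₁, map_neg]
    abel
  · rintro ⟨z, hz⟩
    obtain ⟨m₁, rfl⟩ := Submodule.mkQ_surjective _ z
    rw [Submodule.mkQ_apply, hMap_mk, Submodule.Quotient.eq] at hz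
    obtain ⟨n₂, hn₂⟩ := hz
    have hn₂' : ψ₂ n₂ = f₁ (m₁ : M₁) - (m₂ : M₂) := hn₂
    have h0 : f₂ (f₁ (m₁ : M₁)) = 0 := by
      have : f₁ (m₁ : M₁) ∈ LinearMap.ker f₂ := hM ▸ ⟨_, rfl⟩
      exact this
    refine ⟨g₂ (-n₂), ?_⟩
    change ψ₃ (g₂ (-n₂)) = f₂ (m₂ : M₂)
    rw [← LinearMap.comp_apply, cψ₂, LinearMap.comp_apply, map_neg, hn₂', neg_sub,
      map_sub, h0, sub_zero]

/-- the connecting homomorphism `H⁰(C₃) → H¹(C₁)` -/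
noncomputable def delta : perH φ₃ ψ₃ →ₗ[R] perH ψ₁ φ₁ :=
  SnakeLemma.δ' (phiBar φ₁ ψ₁ h₁) (phiBar φ₂ ψ₂ h₂) (phiBar φ₃ ψ₃ h₃)
    (qMap ψ₁ ψ₂ f₁ g₁ cψ₁) (qMap ψ₂ ψ₃ f₂ g₂ cψ₂)
    (exact_qMap ψ₁ ψ₂ ψ₃ f₁ g₁ f₂ g₂ cψ₁ cψ₂ hg₂ hM)
    (kMap ψ₁ ψ₂ f₁ g₁ cψ₁) (kMap ψ₂ ψ₃ f₂ g₂ cψ₂)
    (exact_kMap ψ₁ ψ₂ ψ₃ f₁ g₁ f₂ g₂ cψ₁ cψ₂ hf₁ hN)
    (kMap_comp_phiBar φ₁ ψ₁ φ₂ ψ₂ f₁ g₁ h₁ h₂ cφ₁ cψ₁)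
    (kMap_comp_phiBar φ₂ ψ₂ φ₃ ψ₃ f₂ g₂ h₂ h₃ cφ₂ cψ₂)
    (iotaH φ₃ ψ₃) (exact_iotaH_phiBar φ₃ ψ₃ h₃)
    (piH φ₁ ψ₁) (exact_phiBar_piH φ₁ ψ₁ h₁)
    (qMap_surjective ψ₂ ψ₃ f₂ g₂ cψ₂ hf₂) (kMap_injective ψ₁ ψ₂ f₁ g₁ cψ₁ hg₁)

theorem exact_hMap_delta :
    Exact (hMap φ₂ ψ₂ φ₃ ψ₃ f₂ g₂ cφ₂ cψ₂)
      (delta φ₁ ψ₁ φ₂ ψ₂ φ₃ ψ₃ h₁ h₂ h₃ f₁ g₁ f₂ g₂ cφ₁ cψ₁ cφ₂ cψ₂ hf₁ hg₁ hf₂ hg₂ hM hN) :=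
  SnakeLemma.exact_δ'_right (phiBar φ₁ ψ₁ h₁) (phiBar φ₂ ψ₂ h₂) (phiBar φ₃ ψ₃ h₃)
    (qMap ψ₁ ψ₂ f₁ g₁ cψ₁) (qMap ψ₂ ψ₃ f₂ g₂ cψ₂)
    (exact_qMap ψ₁ ψ₂ ψ₃ f₁ g₁ f₂ g₂ cψ₁ cψ₂ hg₂ hM)
    (kMap ψ₁ ψ₂ f₁ g₁ cψ₁) (kMap ψ₂ ψ₃ f₂ g₂ cψ₂)
    (exact_kMap ψ₁ ψ₂ ψ₃ f₁ g₁ f₂ g₂ cψ₁ cψ₂ hf₁ hN)
    (kMap_comp_phiBar φ₁ ψ₁ φ₂ ψ₂ f₁ g₁ h₁ h₂ cφ₁ cψ₁)
    (kMap_comp_phiBar φ₂ ψ₂ φ₃ ψ₃ f₂ g₂ h₂ h₃ cφ₂ cψ₂)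
    (iotaH φ₂ ψ₂) (exact_iotaH_phiBar φ₂ ψ₂ h₂)
    (iotaH φ₃ ψ₃) (exact_iotaH_phiBar φ₃ ψ₃ h₃)
    (piH φ₁ ψ₁) (exact_phiBar_piH φ₁ ψ₁ h₁)
    (qMap_surjective ψ₂ ψ₃ f₂ g₂ cψ₂ hf₂) (kMap_injective ψ₁ ψ₂ f₁ g₁ cψ₁ hg₁)
    (hMap φ₂ ψ₂ φ₃ ψ₃ f₂ g₂ cφ₂ cψ₂) (qMap_comp_iotaH φ₂ ψ₂ φ₃ ψ₃ f₂ g₂ cφ₂ cψ₂)
    (iotaH_injective φ₃ ψ₃)

theorem exact_delta_hMap :
    Exact (delta φ₁ ψ₁ φ₂ ψ₂ φ₃ ψ₃ h₁ h₂ h₃ f₁ g₁ f₂ g₂ cφ₁ cψ₁ cφ₂ cψ₂ hf₁ hg₁ hf₂ hg₂ hM hN)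
      (hMap ψ₁ φ₁ ψ₂ φ₂ g₁ f₁ cψ₁ cφ₁) :=
  SnakeLemma.exact_δ'_left (phiBar φ₁ ψ₁ h₁) (phiBar φ₂ ψ₂ h₂) (phiBar φ₃ ψ₃ h₃)
    (qMap ψ₁ ψ₂ f₁ g₁ cψ₁) (qMap ψ₂ ψ₃ f₂ g₂ cψ₂)
    (exact_qMap ψ₁ ψ₂ ψ₃ f₁ g₁ f₂ g₂ cψ₁ cψ₂ hg₂ hM)
    (kMap ψ₁ ψ₂ f₁ g₁ cψ₁) (kMap ψ₂ ψ₃ f₂ g₂ cψ₂)
    (exact_kMap ψ₁ ψ₂ ψ₃ f₁ g₁ f₂ g₂ cψ₁ cψ₂ hf₁ hN)
    (kMap_comp_phiBar φ₁ ψ₁ φ₂ ψ₂ f₁ g₁ h₁ h₂ cφ₁ cψ₁)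
    (kMap_comp_phiBar φ₂ ψ₂ φ₃ ψ₃ f₂ g₂ h₂ h₃ cφ₂ cψ₂)
    (iotaH φ₃ ψ₃) (exact_iotaH_phiBar φ₃ ψ₃ h₃)
    (piH φ₁ ψ₁) (exact_phiBar_piH φ₁ ψ₁ h₁)
    (piH φ₂ ψ₂) (exact_phiBar_piH φ₂ ψ₂ h₂)
    (qMap_surjective ψ₂ ψ₃ f₂ g₂ cψ₂ hf₂) (kMap_injective ψ₁ ψ₂ f₁ g₁ cψ₁ hg₁)
    (hMap ψ₁ φ₁ ψ₂ φ₂ g₁ f₁ cψ₁ cφ₁) (hMap_comp_piH φ₁ ψ₁ φ₂ ψ₂ f₁ g₁ cφ₁ cψ₁)
    (piH_surjective φ₁ ψ₁)

end SES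

end Groth.Agent.Lib.Helper29.Herbrand
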