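import Groth.Agent.Lib.Helper29.LatticeD

set_option autoImplicit false

namespace Groth.Agent.Lib.Helper29.Lattice

universe u

section main

variable {A : Type u} [CommRing A] [IsDomain A] [IsNoetherianRing A]
  {K : Type u} [Field K] [Algebra A K] [IsFractionRing A K]

theorem bijective_of_det_ne_zero {V : Type u} [AddCommGroup V] [Module K V] [FiniteDimensional K V]
    (f : V →ₗ[K] V) (h : LinearMap.det f ≠ 0) : Function.Bijective f :=
  (LinearMap.equivOfDetNeZero f h).bijective

theorem bijective_toLin' {n : ℕ} (P : Matrix (Fin n) (Fin n) K) (hP : P.det ≠ 0) :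
    Function.Bijective (Matrix.toLin' P) :=
  bijective_of_det_ne_zero _ (by rwa [LinearMap.det_toLin'])

theorem dist_diagonal (hA : ringKrullDim A = 1) {n : ℕ} (c : Fin n → K) (hc : ∀ k, c k ≠ 0)
    (M : Submodule A (Fin n → K)) [Submodule.IsLattice K M] :
    dist M (imL (Matrix.toLin' (Matrix.diagonal c)) M) =
      CycAlg.ordFrac A K (Matrix.det (Matrix.diagonal c)) := by
  haveI := krullDimLE_one hA
  haveI := stdL_isLattice (A := A) (K := K) n
  have hdet : ∀ d : Fin n → K, (∀ k, d k ≠ 0) → (Matrix.diagonal d).det ≠ 0 := by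
    intro d hd
    rw [Matrix.det_diagonal]
    exact Finset.prod_ne_zero_iff.mpr fun k _ => hd k
  rw [dist_imL_indep hA _ (bijective_toLin' _ (hdet c hc)) M (stdL A K n)]
  choose a s hs hcas using fun k => IsFractionRing.div_surjective (A := A) (c k)
  have hs0 : ∀ k, s k ≠ 0 := fun k => nonZeroDivisors.ne_zero (hs k)
  have hsK : ∀ k, algebraMap A K (s k) ≠ 0 := fun k => by
    rw [Ne, map_eq_zero_iff _ (IsFractionRing.injective A K)]; exact hs0 k
  have ha0 : ∀ k, a k ≠ 0 := by
    intro k h0
    apply hc k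
    rw [← hcas k, h0, map_zero, zero_div]
  have haK : ∀ k, algebraMap A K (a k) ≠ 0 := fun k => by
    rw [Ne, map_eq_zero_iff _ (IsFractionRing.injective A K)]; exact ha0 k
  have hmul : Matrix.toLin' (Matrix.diagonal (fun k => algebraMap A K (a k))) =
      Matrix.toLin' (Matrix.diagonal c) ∘ₗ
        Matrix.toLin' (Matrix.diagonal (fun k => algebraMap A K (s k))) := by
    rw [← Matrix.toLin'_mul, Matrix.diagonal_mul_diagonal]
    congr 2
    funext k
    rw [← hcas k, div_mul_cancel₀ _ (hsK k)]
  have h1 := dist_imL_comp hA (Matrix.toLin' (Matrix.diagonal c))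
    (Matrix.toLin' (Matrix.diagonal (fun k => algebraMap A K (s k))))
    (bijective_toLin' _ (hdet c hc)) (bijective_toLin' _ (hdet _ hsK)) (stdL A K n)
  rw [← hmul, dist_stdL_diagonal hA a ha0, dist_stdL_diagonal hA s hs0] at h1
  have h2 : dist (stdL A K n) (imL (Matrix.toLin' (Matrix.diagonal c)) (stdL A K n)) =
      ∑ k, ((Ring.ord A (a k)).toNat : ℤ) - ∑ k, ((Ring.ord A (s k)).toNat : ℤ) := by
    rw [h1]; ring
  rw [h2, Matrix.det_diagonal]
  have h3 : ∏ k, c k = algebraMap A K (∏ k, a k) / algebraMap A K (∏ k, s k) := by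
    rw [map_prod, map_prod, ← Finset.prod_div_distrib]
    exact Finset.prod_congr rfl fun k _ => (hcas k).symm
  have hpa : (∏ k, a k) ≠ 0 := Finset.prod_ne_zero_iff.mpr fun k _ => ha0 k
  have hps : (∏ k, s k) ≠ 0 := Finset.prod_ne_zero_iff.mpr fun k _ => hs0 k
  have hpaK : algebraMap A K (∏ k, a k) ≠ 0 := by
    rw [Ne, map_eq_zero_iff _ (IsFractionRing.injective A K)]; exact hpa
  have hpsK : algebraMap A K (∏ k, s k) ≠ 0 := by
    rw [Ne, map_eq_zero_iff _ (IsFractionRing.injective A K)]; exact hps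
  rw [h3, cyc_ordFrac_div hpaK hpsK, cyc_ordFrac_algebraMap hpa, cyc_ordFrac_algebraMap hps,
    ord_prod a ha0, ord_prod s hs0]
  have hfin : ∀ (b : Fin n → A), (∀ k, b k ≠ 0) →
      ((∑ k, Ring.ord A (b k)).toNat : ℤ) = ∑ k, ((Ring.ord A (b k)).toNat : ℤ) := by
    intro b hb
    have hb' : ∀ k, Ring.ord A (b k) = ((Ring.ord A (b k)).toNat : ℕ∞) := fun k =>
      (ENat.coe_toNat (Ring.ord_ne_top (mem_nonZeroDivisors_iff_ne_zero.mpr (hb k)))).symm
    rw [Finset.sum_congr rfl (fun k _ => hb' k), ← Nat.cast_sum, ENat.toNat_coe]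
    simp
  rw [hfin a ha0, hfin s hs0]

theorem dist_toLin' (hA : ringKrullDim A = 1) {n : ℕ} (P : Matrix (Fin n) (Fin n) K)
    (hP : P.det ≠ 0) :
    ∀ (M : Submodule A (Fin n → K)), Submodule.IsLattice K M →
      dist M (imL (Matrix.toLin' P) M) = CycAlg.ordFrac A K P.det := by
  haveI := krullDimLE_one hA
  refine Matrix.diagonal_transvection_induction_of_det_ne_zero
    (fun Q => ∀ (M : Submodule A (Fin n → K)), Submodule.IsLattice K M →
      dist M (imL (Matrix.toLin' Q) M) = CycAlg.ordFrac A K Q.det) P hP ?_ ?_ ?_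
  · intro D hD M hM
    have hc : ∀ k, D k ≠ 0 := by
      rw [Matrix.det_diagonal] at hD
      exact fun k => (Finset.prod_ne_zero_iff.mp hD) k (Finset.mem_univ k)
    exact dist_diagonal hA D hc M
  · intro t M hM
    have hν : Matrix.toLin' (Matrix.single t.i t.j t.c) ∘ₗ Matrix.toLin' (Matrix.single t.i t.j t.c) =
        0 := by
      rw [← Matrix.toLin'_mul, Matrix.single_mul_single_of_ne _ _ _ _ t.hij.symm, map_zero]
    have h1 : Matrix.toLin' t.toMatrix = LinearMap.id + Matrix.toLin' (Matrix.single t.i t.j t.c) := by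
      rw [Matrix.TransvectionStruct.toMatrix, Matrix.transvection, map_add, Matrix.toLin'_one]
    rw [h1, dist_imL_of_sq_zero hA _ hν M, Matrix.TransvectionStruct.det, cyc_ordFrac_one]
  · intro P Q hP hQ ihP ihQ M hM
    rw [Matrix.toLin'_mul, dist_imL_comp hA _ _ (bijective_toLin' P hP) (bijective_toLin' Q hQ) M,
      ihP M hM, ihQ M hM, Matrix.det_mul, cyc_ordFrac_mul hP hQ]

omit [IsDomain A] [IsNoetherianRing A] [IsFractionRing A K] in
theorem isLattice_map {V V' : Type u} [AddCommGroup V] [Module K V] [Module A V]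
    [IsScalarTower A K V] [AddCommGroup V'] [Module K V'] [Module A V'] [IsScalarTower A K V']
    (f : V →ₗ[K] V') (hf : Function.Surjective f) (M : Submodule A V)
    [Submodule.IsLattice K M] : Submodule.IsLattice K (M.map (f.restrictScalars A)) where
  fg := Submodule.FG.map _ Submodule.IsLattice.fg
  span_eq_top := by
    have : ((M.map (f.restrictScalars A) : Submodule A V') : Set V') = f '' (M : Set V) := rfl
    rw [this, Submodule.span_image, Submodule.IsLattice.span_eq_top, Submodule.map_top,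
      LinearMap.range_eq_top.mpr hf]

/-- the main theorem: `d(M, φ M) = ord (det φ)` -/
theorem dist_imL_eq_ordFrac_det (hA : ringKrullDim A = 1) {V : Type u} [AddCommGroup V]
    [Module K V] [Module A V] [IsScalarTower A K V] [FiniteDimensional K V]
    (φ : V ≃ₗ[K] V) (M : Submodule A V) [Submodule.IsLattice K M] :
    dist M (imL φ.toLinearMap M) = CycAlg.ordFrac A K (LinearMap.det φ.toLinearMap) := by
  set n := Module.finrank K V with hn
  let b : Module.Basis (Fin n) K V := Module.finBasis K V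
  let θ : V ≃ₗ[K] (Fin n → K) := b.equivFun
  set f' : (Fin n → K) →ₗ[K] (Fin n → K) := θ.toLinearMap ∘ₗ φ.toLinearMap ∘ₗ θ.symm.toLinearMap
    with hf'
  have hdet : LinearMap.det f' = LinearMap.det φ.toLinearMap := LinearMap.det_conj _ θ
  have hdet0 : LinearMap.det φ.toLinearMap ≠ 0 := by
    have := LinearEquiv.isUnit_det' φ
    exact this.ne_zero
  set P := LinearMap.toMatrix' f' with hP
  have hPdet : P.det = LinearMap.det φ.toLinearMap := by
    rw [hP, LinearMap.det_toMatrix', hdet]
  have hPf : Matrix.toLin' P = f' := Matrix.toLin'_toMatrix' f'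
  haveI hM' : Submodule.IsLattice K (M.map (θ.toLinearMap.restrictScalars A)) :=
    isLattice_map θ.toLinearMap θ.surjective M
  have key := dist_toLin' hA P (by rw [hPdet]; exact hdet0) _ hM'
  rw [hPf, hPdet] at key
  rw [← key, ← dist_map (θ.toLinearMap.restrictScalars A) θ.injective]
  congr 1
  unfold imL
  rw [← Submodule.map_comp, ← Submodule.map_comp]
  congr 1
  ext x
  simp [hf']

end main

end Groth.Agent.Lib.Helper29.Lattice
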