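import Groth.Prelude.Def_CycDet
import Mathlib

set_option autoImplicit false

namespace Groth.Agent.Lib.Helper29.CycDetLib

open IsLocalRing CycDet

universe u v w

section basic

variable (R : Type u) [CommRing R] [IsLocalRing R] {M : Type v} [AddCommGroup M] [Module R M]

theorem spanBefore_mono {l : ℕ} (e : Fin l → M) {a b : ℕ} (h : a ≤ b) :
    spanBefore R M e a ≤ spanBefore R M e b := by
  apply Submodule.span_mono
  apply Set.image_mono
  intro j hj
  exact lt_of_lt_of_le hj h

theorem mem_spanBefore {l : ℕ} (e : Fin l → M) {j : Fin l} {k : ℕ} (h : (j : ℕ) < k) :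
    e j ∈ spanBefore R M e k :=
  Submodule.subset_span ⟨j, h, rfl⟩

theorem spanBefore_le_iff {l : ℕ} (e : Fin l → M) (k : ℕ) (S : Submodule R M) :
    spanBefore R M e k ≤ S ↔ ∀ j : Fin l, (j : ℕ) < k → e j ∈ S := by
  unfold spanBefore
  rw [Submodule.span_le]
  constructor
  · intro h j hj
    exact h ⟨j, hj, rfl⟩
  · rintro h _ ⟨j, hj, rfl⟩
    exact h j hj

theorem spanBefore_zero {l : ℕ} (e : Fin l → M) : spanBefore R M e 0 = ⊥ := by
  rw [eq_bot_iff, spanBefore_le_iff]
  intro j hj
  exact absurd hj (Nat.not_lt_zero _)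

theorem spanBefore_succ {l : ℕ} (e : Fin l → M) (i : Fin l) :
    spanBefore R M e ((i : ℕ) + 1) = spanBefore R M e i ⊔ Submodule.span R {e i} := by
  apply le_antisymm
  · rw [spanBefore_le_iff]
    intro j hj
    rcases Nat.lt_succ_iff_lt_or_eq.mp hj with h | h
    · exact Submodule.mem_sup_left (mem_spanBefore R e h)
    · have : j = i := Fin.ext h
      subst this
      exact Submodule.mem_sup_right (Submodule.mem_span_singleton_self _)
  · apply sup_le (spanBefore_mono R e (Nat.le_succ _))
    rw [Submodule.span_singleton_le_iff_mem]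
    exact mem_spanBefore R e (Nat.lt_succ_self _)

theorem spanBefore_le_range {l : ℕ} (e : Fin l → M) (k : ℕ) :
    spanBefore R M e k ≤ Submodule.span R (Set.range e) := by
  apply Submodule.span_mono
  rintro _ ⟨j, _, rfl⟩
  exact ⟨j, rfl⟩

theorem spanBefore_of_le {l : ℕ} (e : Fin l → M) {k : ℕ} (h : l ≤ k) :
    spanBefore R M e k = Submodule.span R (Set.range e) := by
  apply le_antisymm (spanBefore_le_range R e k)
  rw [Submodule.span_le]
  rintro _ ⟨j, rfl⟩
  exact mem_spanBefore R e (lt_of_lt_of_le j.2 h)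

theorem spanBefore_comp_linear {l : ℕ} {N : Type w} [AddCommGroup N] [Module R N] (φ : M →ₗ[R] N)
    (e : Fin l → M) (k : ℕ) :
    spanBefore R N (φ ∘ e) k = (spanBefore R M e k).map φ := by
  unfold spanBefore
  rw [Submodule.map_span, Set.image_comp]

theorem spanBefore_congr {l : ℕ} (e e' : Fin l → M) (k : ℕ) (h : ∀ j : Fin l, (j : ℕ) < k → e j = e' j) :
    spanBefore R M e k = spanBefore R M e' k := by
  unfold spanBefore
  congr 1
  ext x
  constructor
  · rintro ⟨j, hj, rfl⟩
    exact ⟨j, hj, (h j hj).symm⟩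
  · rintro ⟨j, hj, rfl⟩
    exact ⟨j, hj, h j hj⟩

theorem spanBefore_comp_perm {l : ℕ} (e : Fin l → M) (σ : Equiv.Perm (Fin l)) (k : ℕ)
    (h : ∀ j : Fin l, ((σ j : Fin l) : ℕ) < k ↔ (j : ℕ) < k) :
    spanBefore R M (e ∘ σ) k = spanBefore R M e k := by
  apply le_antisymm
  · rw [spanBefore_le_iff]
    intro j hj
    exact mem_spanBefore R e ((h j).mpr hj)
  · rw [spanBefore_le_iff]
    intro j hj
    have : e j = (e ∘ σ) (σ.symm j) := by simp
    rw [this]
    apply mem_spanBefore
    rw [← h]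
    simpa using hj

theorem range_comp_perm {l : ℕ} (e : Fin l → M) (σ : Equiv.Perm (Fin l)) :
    Set.range (e ∘ σ) = Set.range e := by
  rw [Set.range_comp, σ.range_eq_univ, Set.image_univ]

/-- a "determinant function": respects the three admissible relations. -/
structure IsDetFun {n : ℕ} {V : Type w} [AddCommGroup V] [Module (ResidueField R) V]
    (Θ : (Fin n → M) → V) : Prop where
  relA : ∀ e : Fin n → M, IsAdmissible R M e → ∀ a : Fin n, e a ∈ spanBefore R M e a → Θ e = 0
  relB : ∀ e e' : Fin n → M, IsAdmissible R M e → IsAdmissible R M e' → ∀ (a : Fin n) (c : Rˣ),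
    (∀ j, j ≠ a → e j = e' j) → e a - (c : R) • e' a ∈ spanBefore R M e a →
    Θ e = residue R (c : R) • Θ e'
  relC : ∀ e : Fin n → M, ∀ a b : Fin n, IsAdmissible R M e →
    IsAdmissible R M (e ∘ Equiv.swap a b) → (b : ℕ) + 1 = (a : ℕ) →
    (∀ r ∈ maximalIdeal R, r • e a ∈ spanBefore R M e b) → Θ e + Θ (e ∘ Equiv.swap a b) = 0

/-- swap of adjacent: preserved prefix sets -/
theorem swap_lt_iff {l : ℕ} (a b : Fin l) (hab : (b : ℕ) + 1 = (a : ℕ)) (k : ℕ)
    (hk : k ≤ (b : ℕ) ∨ (a : ℕ) < k) (j : Fin l) :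
    ((Equiv.swap a b j : Fin l) : ℕ) < k ↔ (j : ℕ) < k := by
  rw [Equiv.swap_apply_def]
  split_ifs with h1 h2
  · subst h1; omega
  · subst h2; omega
  · rfl

theorem spanBefore_swap {l : ℕ} (e : Fin l → M) (a b : Fin l) (hab : (b : ℕ) + 1 = (a : ℕ)) (k : ℕ)
    (hk : k ≤ (b : ℕ) ∨ (a : ℕ) < k) :
    spanBefore R M (e ∘ Equiv.swap a b) k = spanBefore R M e k :=
  spanBefore_comp_perm R e _ k (swap_lt_iff a b hab k hk)

theorem spanBefore_swap_mid {l : ℕ} (e : Fin l → M) (a b : Fin l) (hab : (b : ℕ) + 1 = (a : ℕ)) :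
    spanBefore R M (e ∘ Equiv.swap a b) a = spanBefore R M e b ⊔ Submodule.span R {e a} := by
  have := spanBefore_succ R (e ∘ Equiv.swap a b) b
  rw [hab] at this
  rw [this, spanBefore_swap R e a b hab b (Or.inl le_rfl)]
  simp

/-- the swapped tuple is admissible -/
theorem isAdmissible_swap {l : ℕ} (e : Fin l → M) (he : IsAdmissible R M e) (a b : Fin l)
    (hab : (b : ℕ) + 1 = (a : ℕ))
    (hc : ∀ r ∈ maximalIdeal R, r • e a ∈ spanBefore R M e b) :
    IsAdmissible R M (e ∘ Equiv.swap a b) := by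
  intro j r hr
  by_cases hja : j = a
  · subst hja
    rw [spanBefore_swap_mid R e j b hab]
    simp only [Function.comp_apply, Equiv.swap_apply_left]
    exact Submodule.mem_sup_left (he b r hr)
  · by_cases hjb : j = b
    · subst hjb
      rw [spanBefore_swap R e a j hab j (Or.inl le_rfl)]
      simp only [Function.comp_apply, Equiv.swap_apply_right]
      exact hc r hr
    · rw [spanBefore_swap R e a b hab j]
      · simp only [Function.comp_apply, Equiv.swap_apply_of_ne_of_ne hja hjb]
        exact he j r hr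
      · have h1 : (j : ℕ) ≠ a := fun h => hja (Fin.ext h)
        have h2 : (j : ℕ) ≠ b := fun h => hjb (Fin.ext h)
        omega

end basic

section pivot

variable (R : Type u) [CommRing R] [IsLocalRing R] {M : Type v} [AddCommGroup M] [Module R M]
variable (f : M)

/-- `(i, c)` is a pivot of `e` for `f`: `f ∉ E_i` and `e_i ≡ c f` mod `E_i`. -/
def IsPivot {n : ℕ} (e : Fin n → M) (i : Fin n) (c : Rˣ) : Prop :=
  f ∉ spanBefore R M e i ∧ e i - (c : R) • f ∈ spanBefore R M e i

variable {R f}

theorem IsPivot.mem_succ {n : ℕ} {e : Fin n → M} {i : Fin n} {c : Rˣ} (h : IsPivot R f e i c) :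
    f ∈ spanBefore R M e ((i : ℕ) + 1) := by
  have h1 : (c : R) • f ∈ spanBefore R M e ((i : ℕ) + 1) := by
    have : (c : R) • f = e i - (e i - (c : R) • f) := by abel
    rw [this]
    exact Submodule.sub_mem _ (mem_spanBefore R e (Nat.lt_succ_self _))
      (spanBefore_mono R e (Nat.le_succ _) h.2)
  have := Submodule.smul_mem _ ((c⁻¹ : Rˣ) : R) h1
  rwa [smul_smul, Units.inv_mul, one_smul] at this

theorem IsPivot.mem_range {n : ℕ} {e : Fin n → M} {i : Fin n} {c : Rˣ} (h : IsPivot R f e i c) :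
    f ∈ Submodule.span R (Set.range e) :=
  spanBefore_le_range R e _ h.mem_succ

theorem IsPivot.index_unique {n : ℕ} {e : Fin n → M} {i i' : Fin n} {c c' : Rˣ}
    (h : IsPivot R f e i c) (h' : IsPivot R f e i' c') : i = i' := by
  rcases lt_trichotomy (i : ℕ) i' with hlt | heq | hgt
  · exact absurd (spanBefore_mono R e (Nat.succ_le_of_lt hlt) h.mem_succ) h'.1
  · exact Fin.ext heq
  · exact absurd (spanBefore_mono R e (Nat.succ_le_of_lt hgt) h'.mem_succ) h.1

theorem IsPivot.residue_unique {n : ℕ} {e : Fin n → M} {i : Fin n} {c c' : Rˣ}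
    (h : IsPivot R f e i c) (h' : IsPivot R f e i c') : residue R (c : R) = residue R (c' : R) := by
  have h1 : ((c : R) - c') • f ∈ spanBefore R M e i := by
    have : ((c : R) - c') • f = (e i - (c' : R) • f) - (e i - (c : R) • f) := by
      rw [sub_smul]; abel
    rw [this]
    exact Submodule.sub_mem _ h'.2 h.2
  have h2 : (c : R) - c' ∈ maximalIdeal R := by
    by_contra hcon
    rw [mem_maximalIdeal, mem_nonunits_iff, not_not] at hcon
    obtain ⟨d, hd⟩ := hcon
    apply h.1
    have := Submodule.smul_mem _ ((d⁻¹ : Rˣ) : R) h1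
    rwa [← hd, smul_smul, Units.inv_mul, one_smul] at this
  rw [← sub_eq_zero, ← map_sub, residue_eq_zero_iff]
  exact h2

theorem isUnit_of_smul_notMem {S : Submodule R M} {x : M} {a : R} (hx : ∀ r ∈ maximalIdeal R, r • x ∈ S)
    (h : a • x ∉ S) : IsUnit a := by
  by_contra hcon
  exact h (hx a hcon)

/-- if `f = x + a e_i` with `x ∈ E_i`, `f ∉ E_i`, then there is a pivot at `i`. -/
theorem exists_pivot_of_mem_succ {n : ℕ} {e : Fin n → M} (he : IsAdmissible R M e) {i : Fin n}
    (h1 : f ∉ spanBefore R M e i) (h2 : f ∈ spanBefore R M e ((i : ℕ) + 1)) :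
    ∃ c : Rˣ, IsPivot R f e i c := by
  rw [spanBefore_succ, Submodule.mem_sup] at h2
  obtain ⟨x, hx, y, hy, hxy⟩ := h2
  obtain ⟨a, rfl⟩ := Submodule.mem_span_singleton.mp hy
  have ha : IsUnit a := by
    apply isUnit_of_smul_notMem (he i)
    intro hcon
    apply h1
    rw [← hxy]
    exact Submodule.add_mem _ hx hcon
  obtain ⟨d, rfl⟩ := ha
  refine ⟨d⁻¹, h1, ?_⟩
  have : e i - ((d⁻¹ : Rˣ) : R) • f = - (((d⁻¹ : Rˣ) : R) • x) := by
    rw [← hxy, smul_add, smul_smul, Units.inv_mul, one_smul]; abel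
  rw [this]
  exact Submodule.neg_mem _ (Submodule.smul_mem _ _ hx)

theorem exists_pivot {n : ℕ} {e : Fin n → M} (he : IsAdmissible R M e) (hf0 : f ≠ 0)
    (hmem : f ∈ Submodule.span R (Set.range e)) : ∃ (i : Fin n) (c : Rˣ), IsPivot R f e i c := by
  classical
  have hex : ∃ k : ℕ, f ∈ spanBefore R M e k := ⟨n, by rwa [spanBefore_of_le R e le_rfl]⟩
  have hk := Nat.find_spec hex
  have hmin := fun m => Nat.find_min hex (m := m)
  set k := Nat.find hex with hkdef
  have hk0 : k ≠ 0 := by
    intro h0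
    rw [h0, spanBefore_zero] at hk
    exact hf0 hk
  obtain ⟨k', hk'⟩ := Nat.exists_eq_succ_of_ne_zero hk0
  have hk'n : k' < n := by
    by_contra hcon
    push Not at hcon
    apply hmin k' (by omega)
    rw [spanBefore_of_le R e hcon]
    exact hmem
  obtain ⟨c, hc⟩ := exists_pivot_of_mem_succ (f := f) he (i := ⟨k', hk'n⟩) (hmin k' (by omega))
    (by rw [hk'] at hk; exact hk)
  exact ⟨_, c, hc⟩

end pivot
section red

variable (R : Type u) [CommRing R] [IsLocalRing R] {M : Type v} [AddCommGroup M] [Module R M]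
variable (f : M)

theorem val_succAbove {n : ℕ} (i : Fin (n + 1)) (j : Fin n) :
    ((i.succAbove j : Fin (n + 1)) : ℕ) = if (j : ℕ) < i then (j : ℕ) else j + 1 := by
  by_cases h : (j : ℕ) < i
  · rw [if_pos h, Fin.succAbove_of_castSucc_lt _ _ (by rw [Fin.lt_def]; simpa using h)]
    rfl
  · rw [if_neg h, Fin.succAbove_of_le_castSucc _ _ (by rw [Fin.le_def]; simpa using h)]
    rfl

/-- the reduced tuple: remove index `i` and pass to the quotient by `f`. -/
def red {n : ℕ} (e : Fin (n + 1) → M) (i : Fin (n + 1)) : Fin n → M ⧸ Submodule.span R {f} :=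
  fun j => (Submodule.span R {f}).mkQ (e (i.succAbove j))

variable {R f}

theorem mkQ_self : (Submodule.span R {f}).mkQ f = 0 := by
  rw [Submodule.mkQ_apply, Submodule.Quotient.mk_eq_zero]
  exact Submodule.mem_span_singleton_self f

theorem IsPivot.mkQ_mem {n : ℕ} {e : Fin (n + 1) → M} {i : Fin (n + 1)} {c : Rˣ}
    (h : IsPivot R f e i c) :
    (Submodule.span R {f}).mkQ (e i) ∈ (spanBefore R M e i).map (Submodule.span R {f}).mkQ := by
  refine ⟨e i - (c : R) • f, h.2, ?_⟩
  rw [map_sub, map_smul, mkQ_self, smul_zero, sub_zero]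

theorem IsPivot.map_spanBefore_le {n : ℕ} {e : Fin (n + 1) → M} {i : Fin (n + 1)} {c : Rˣ}
    (_h : IsPivot R f e i c) (j : Fin n) (hij : (i : ℕ) < (i.succAbove j : Fin (n + 1))) :
    (spanBefore R M e i).map (Submodule.span R {f}).mkQ ≤ spanBefore R _ (red R f e i) j := by
  rw [Submodule.map_le_iff_le_comap, spanBefore_le_iff]
  intro k' hk'
  have hne : k' ≠ i := fun h => by rw [h] at hk'; exact lt_irrefl _ hk'
  obtain ⟨j'', rfl⟩ := Fin.exists_succAbove_eq hne
  rw [Submodule.mem_comap]
  have : (Submodule.span R {f}).mkQ (e (i.succAbove j'')) = red R f e i j'' := rfl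
  rw [this]
  apply mem_spanBefore
  have h1 : i.succAbove j'' < i.succAbove j := by
    rw [Fin.lt_def]; omega
  rw [Fin.succAbove_lt_succAbove_iff] at h1
  exact h1

theorem IsPivot.spanBefore_red {n : ℕ} {e : Fin (n + 1) → M} {i : Fin (n + 1)} {c : Rˣ}
    (h : IsPivot R f e i c) (j : Fin n) :
    spanBefore R _ (red R f e i) j =
      (spanBefore R M e (i.succAbove j : Fin (n + 1))).map (Submodule.span R {f}).mkQ := by
  apply le_antisymm
  · rw [spanBefore_le_iff]
    intro j' hj'
    refine ⟨e (i.succAbove j'), ?_, rfl⟩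
    apply mem_spanBefore
    have : i.succAbove j' < i.succAbove j := by
      rw [Fin.succAbove_lt_succAbove_iff, Fin.lt_def]; exact hj'
    exact this
  · rw [Submodule.map_le_iff_le_comap, spanBefore_le_iff]
    intro k hk
    rw [Submodule.mem_comap]
    by_cases hki : k = i
    · subst hki
      exact h.map_spanBefore_le j hk h.mkQ_mem
    · obtain ⟨j', rfl⟩ := Fin.exists_succAbove_eq hki
      have : (Submodule.span R {f}).mkQ (e (i.succAbove j')) = red R f e i j' := rfl
      rw [this]
      apply mem_spanBefore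
      have h1 : i.succAbove j' < i.succAbove j := hk
      rw [Fin.succAbove_lt_succAbove_iff] at h1
      exact h1

theorem IsPivot.span_range_red {n : ℕ} {e : Fin (n + 1) → M} {i : Fin (n + 1)} {c : Rˣ}
    (h : IsPivot R f e i c) :
    Submodule.span R (Set.range (red R f e i)) =
      (Submodule.span R (Set.range e)).map (Submodule.span R {f}).mkQ := by
  apply le_antisymm
  · rw [Submodule.span_le]
    rintro _ ⟨j, rfl⟩
    exact ⟨e (i.succAbove j), Submodule.subset_span ⟨_, rfl⟩, rfl⟩
  · rw [Submodule.map_le_iff_le_comap, Submodule.span_le]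
    rintro _ ⟨k, rfl⟩
    have key : ∀ k, k ≠ i → (Submodule.span R {f}).mkQ (e k) ∈
        Submodule.span R (Set.range (red R f e i)) := by
      intro k hki
      obtain ⟨j', rfl⟩ := Fin.exists_succAbove_eq hki
      exact Submodule.subset_span ⟨j', rfl⟩
    by_cases hki : k = i
    · subst hki
      have := h.mkQ_mem
      have hle : (spanBefore R M e k).map (Submodule.span R {f}).mkQ ≤
          Submodule.span R (Set.range (red R f e k)) := by
        rw [Submodule.map_le_iff_le_comap, spanBefore_le_iff]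
        intro k' hk'
        exact key k' (fun h => by rw [h] at hk'; exact lt_irrefl _ hk')
      exact hle this
    · exact key k hki

theorem IsPivot.isAdmissible_red {n : ℕ} {e : Fin (n + 1) → M} {i : Fin (n + 1)} {c : Rˣ}
    (h : IsPivot R f e i c) (he : IsAdmissible R M e) :
    IsAdmissible R _ (red R f e i) := by
  intro j r hr
  rw [h.spanBefore_red]
  exact ⟨r • e (i.succAbove j), he _ r hr, by simp [red]⟩

end red

end Groth.Agent.Lib.Helper29.CycDetLib
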