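import Groth.Agent.Lib.Helper29.CycDetA

set_option autoImplicit false

namespace Groth.Agent.Lib.Helper29.CycDetLib

open IsLocalRing CycDet

universe u v w

section extend

variable (R : Type u) [CommRing R] [IsLocalRing R] {M : Type v} [AddCommGroup M] [Module R M]
variable (f : M)

open Classical in
/-- extension of a determinant function on `M/f` to `M`. -/
noncomputable def extend {n : ℕ} (ΔN : (Fin n → M ⧸ Submodule.span R {f}) → ResidueField R)
    (e : Fin (n + 1) → M) : ResidueField R :=
  if h : ∃ (i : Fin (n + 1)) (c : Rˣ), IsPivot R f e i c then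
    (-1) ^ ((h.choose : Fin (n + 1)) : ℕ) * residue R (h.choose_spec.choose : R) *
      ΔN (red R f e h.choose)
  else 0

variable {R f}

theorem extend_of_pivot {n : ℕ} (ΔN : (Fin n → M ⧸ Submodule.span R {f}) → ResidueField R)
    {e : Fin (n + 1) → M} {i : Fin (n + 1)} {c : Rˣ} (h : IsPivot R f e i c) :
    extend R f ΔN e = (-1) ^ (i : ℕ) * residue R (c : R) * ΔN (red R f e i) := by
  have hex : ∃ (i : Fin (n + 1)) (c : Rˣ), IsPivot R f e i c := ⟨i, c, h⟩
  unfold extend
  rw [dif_pos hex]
  have h1 := hex.choose_spec.choose_spec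
  generalize hex.choose_spec.choose = c' at h1 ⊢
  generalize hex.choose = i' at h1 ⊢
  obtain rfl : i' = i := h1.index_unique h
  rw [h1.residue_unique h]

theorem extend_of_no_pivot {n : ℕ} (ΔN : (Fin n → M ⧸ Submodule.span R {f}) → ResidueField R)
    {e : Fin (n + 1) → M} (h : ¬ ∃ (i : Fin (n + 1)) (c : Rˣ), IsPivot R f e i c) :
    extend R f ΔN e = 0 := by
  unfold extend
  rw [dif_neg h]

theorem spanBefore_eq_of_relB {l : ℕ} (e e' : Fin l → M) (a : Fin l) (c₀ : Rˣ)
    (hdiff : ∀ j, j ≠ a → e j = e' j) (hmem : e a - (c₀ : R) • e' a ∈ spanBefore R M e a) (k : ℕ) :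
    spanBefore R M e' k = spanBefore R M e k := by
  by_cases hk : k ≤ a
  · apply spanBefore_congr
    intro j hj
    exact (hdiff j (fun h => by rw [h] at hj; omega)).symm
  · push Not at hk
    have ha : spanBefore R M e' a = spanBefore R M e a := by
      apply spanBefore_congr
      intro j hj
      exact (hdiff j (fun h => by rw [h] at hj; omega)).symm
    apply le_antisymm
    · rw [spanBefore_le_iff]
      intro j hj
      by_cases hja : j = a
      · subst hja
        have h1 : (c₀ : R) • e' j ∈ spanBefore R M e k := by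
          have : (c₀ : R) • e' j = e j - (e j - (c₀ : R) • e' j) := by abel
          rw [this]
          exact Submodule.sub_mem _ (mem_spanBefore R e hj) (spanBefore_mono R e hk.le hmem)
        have := Submodule.smul_mem _ ((c₀⁻¹ : Rˣ) : R) h1
        rwa [smul_smul, Units.inv_mul, one_smul] at this
      · rw [← hdiff j hja]
        exact mem_spanBefore R e hj
    · rw [spanBefore_le_iff]
      intro j hj
      by_cases hja : j = a
      · subst hja
        have : e j = (c₀ : R) • e' j + (e j - (c₀ : R) • e' j) := by abel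
        rw [this]
        refine Submodule.add_mem _ (Submodule.smul_mem _ _ (mem_spanBefore R e' hj)) ?_
        rw [← ha] at hmem
        exact spanBefore_mono R e' hk.le hmem
      · rw [hdiff j hja]
        exact mem_spanBefore R e' hj

theorem span_range_eq_of_relB {l : ℕ} (e e' : Fin l → M) (a : Fin l) (c₀ : Rˣ)
    (hdiff : ∀ j, j ≠ a → e j = e' j) (hmem : e a - (c₀ : R) • e' a ∈ spanBefore R M e a) :
    Submodule.span R (Set.range e') = Submodule.span R (Set.range e) := by
  rw [← spanBefore_of_le R e le_rfl, ← spanBefore_of_le R e' le_rfl]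
  exact spanBefore_eq_of_relB e e' a c₀ hdiff hmem l

theorem extend_relA {n : ℕ} {ΔN : (Fin n → M ⧸ Submodule.span R {f}) → ResidueField R}
    (hΔ : IsDetFun R ΔN) (e : Fin (n + 1) → M) (he : IsAdmissible R M e) (a : Fin (n + 1))
    (ha : e a ∈ spanBefore R M e a) : extend R f ΔN e = 0 := by
  by_cases hex : ∃ (i : Fin (n + 1)) (c : Rˣ), IsPivot R f e i c
  · obtain ⟨i, c, h⟩ := hex
    rw [extend_of_pivot ΔN h]
    have hai : a ≠ i := by
      rintro rfl
      apply h.1
      have h1 : (c : R) • f ∈ spanBefore R M e a := by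
        have : (c : R) • f = e a - (e a - (c : R) • f) := by abel
        rw [this]
        exact Submodule.sub_mem _ ha h.2
      have := Submodule.smul_mem _ ((c⁻¹ : Rˣ) : R) h1
      rwa [smul_smul, Units.inv_mul, one_smul] at this
    obtain ⟨a', rfl⟩ := Fin.exists_succAbove_eq hai
    rw [hΔ.relA (red R f e i) (h.isAdmissible_red he) a', mul_zero]
    rw [h.spanBefore_red]
    exact ⟨_, ha, rfl⟩
  · exact extend_of_no_pivot ΔN hex

theorem extend_relB {n : ℕ} {ΔN : (Fin n → M ⧸ Submodule.span R {f}) → ResidueField R}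
    (hΔ : IsDetFun R ΔN) (hf0 : f ≠ 0) (e e' : Fin (n + 1) → M) (he : IsAdmissible R M e)
    (he' : IsAdmissible R M e') (a : Fin (n + 1)) (c₀ : Rˣ)
    (hdiff : ∀ j, j ≠ a → e j = e' j) (hmem : e a - (c₀ : R) • e' a ∈ spanBefore R M e a) :
    extend R f ΔN e = residue R (c₀ : R) • extend R f ΔN e' := by
  have hsp := spanBefore_eq_of_relB e e' a c₀ hdiff hmem
  by_cases hex : ∃ (i : Fin (n + 1)) (c : Rˣ), IsPivot R f e i c
  · obtain ⟨i, c, h⟩ := hex
    by_cases hai : a = i
    · subst hai
      have h' : IsPivot R f e' a (c₀⁻¹ * c) := by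
        refine ⟨by rw [hsp]; exact h.1, ?_⟩
        rw [hsp]
        have : e' a - ((c₀⁻¹ * c : Rˣ) : R) • f =
            ((c₀⁻¹ : Rˣ) : R) • ((e a - (c : R) • f) - (e a - (c₀ : R) • e' a)) := by
          rw [Units.val_mul, smul_sub, smul_sub, smul_sub, smul_smul, smul_smul, Units.inv_mul,
            one_smul]
          abel
        rw [this]
        exact Submodule.smul_mem _ _ (Submodule.sub_mem _ h.2 hmem)
      have hred : red R f e' a = red R f e a := by
        funext j
        unfold red
        rw [hdiff _ (Fin.succAbove_ne a j)]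
      rw [extend_of_pivot ΔN h, extend_of_pivot ΔN h', hred, smul_eq_mul]
      have : residue R (c₀ : R) * residue R ((c₀⁻¹ * c : Rˣ) : R) = residue R (c : R) := by
        rw [← map_mul, Units.val_mul, ← mul_assoc, Units.mul_inv, one_mul]
      rw [← this]
      ring
    · obtain ⟨a', rfl⟩ := Fin.exists_succAbove_eq hai
      have h' : IsPivot R f e' i c := by
        refine ⟨by rw [hsp]; exact h.1, ?_⟩
        rw [hsp, ← hdiff i (Fin.succAbove_ne i a').symm]
        exact h.2
      rw [extend_of_pivot ΔN h, extend_of_pivot ΔN h']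
      rw [hΔ.relB (red R f e i) (red R f e' i) (h.isAdmissible_red he) (h'.isAdmissible_red he')
        a' c₀ ?_ ?_]
      · simp only [smul_eq_mul]; ring
      · intro j hj
        unfold red
        rw [hdiff]
        intro hcon
        exact hj (Fin.succAbove_right_injective hcon)
      · rw [h.spanBefore_red]
        exact ⟨_, hmem, by simp [red]⟩
  · have hex' : ¬ ∃ (i : Fin (n + 1)) (c : Rˣ), IsPivot R f e' i c := by
      rintro ⟨i, c, h⟩
      apply hex
      apply exists_pivot he hf0
      rw [← span_range_eq_of_relB e e' a c₀ hdiff hmem]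
      exact h.mem_range
    rw [extend_of_no_pivot ΔN hex, extend_of_no_pivot ΔN hex', smul_zero]

end extend

end Groth.Agent.Lib.Helper29.CycDetLib
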