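import Groth.Agent.Lib.Helper29.CycDetB

set_option autoImplicit false

namespace Groth.Agent.Lib.Helper29.CycDetLib

open IsLocalRing CycDet

universe u v w

section relC

variable {R : Type u} [CommRing R] [IsLocalRing R] {M : Type v} [AddCommGroup M] [Module R M]
variable {f : M}

theorem swap_succAbove {n : ℕ} (a b : Fin (n + 1)) (hab : (b : ℕ) + 1 = (a : ℕ)) (j : Fin n) :
    Equiv.swap a b (b.succAbove j) = a.succAbove j := by
  apply Fin.ext
  rw [Equiv.swap_apply_def]
  have h1 := val_succAbove a j
  have h2 := val_succAbove b j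
  split_ifs with h3 h4
  · rw [Fin.ext_iff] at h3
    split_ifs at h1 h2 <;> omega
  · rw [Fin.ext_iff] at h4
    split_ifs at h1 h2 <;> omega
  · have h3' : ((b.succAbove j : Fin (n + 1)) : ℕ) ≠ a := fun h => h3 (Fin.ext h)
    have h4' : ((b.succAbove j : Fin (n + 1)) : ℕ) ≠ b := fun h => h4 (Fin.ext h)
    split_ifs at h1 h2 <;> omega

theorem swap_succAbove' {n : ℕ} (a b : Fin (n + 1)) (hab : (b : ℕ) + 1 = (a : ℕ)) (j : Fin n) :
    Equiv.swap a b (a.succAbove j) = b.succAbove j := by
  rw [Equiv.swap_apply_eq_iff, swap_succAbove a b hab]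

theorem residue_inv_mul (d c : Rˣ) :
    residue R (d : R) * residue R ((d⁻¹ * c : Rˣ) : R) = residue R (c : R) := by
  rw [← map_mul, Units.val_mul, ← mul_assoc, Units.mul_inv, one_mul]

/-- relation (c), pivot away from the swapped positions -/
theorem extend_relC_other {n : ℕ} {ΔN : (Fin n → M ⧸ Submodule.span R {f}) → ResidueField R}
    (hΔ : IsDetFun R ΔN) (e : Fin (n + 1) → M) (a b : Fin (n + 1))
    (he : IsAdmissible R M e) (he' : IsAdmissible R M (e ∘ Equiv.swap a b))
    (hab : (b : ℕ) + 1 = (a : ℕ))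
    (hc : ∀ r ∈ maximalIdeal R, r • e a ∈ spanBefore R M e b)
    {i : Fin (n + 1)} {c : Rˣ} (h : IsPivot R f e i c) (hia : i ≠ a) (hib : i ≠ b) :
    extend R f ΔN e + extend R f ΔN (e ∘ Equiv.swap a b) = 0 := by
  have hia' : (i : ℕ) ≠ a := fun hh => hia (Fin.ext hh)
  have hib' : (i : ℕ) ≠ b := fun hh => hib (Fin.ext hh)
  have hEi : spanBefore R M (e ∘ Equiv.swap a b) i = spanBefore R M e i :=
    spanBefore_swap R e a b hab i (by omega)
  have h' : IsPivot R f (e ∘ Equiv.swap a b) i c := by
    refine ⟨by rw [hEi]; exact h.1, ?_⟩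
    rw [hEi, Function.comp_apply, Equiv.swap_apply_of_ne_of_ne hia hib]
    exact h.2
  obtain ⟨a', ha'⟩ := Fin.exists_succAbove_eq (Ne.symm hia)
  obtain ⟨b', hb'⟩ := Fin.exists_succAbove_eq (Ne.symm hib)
  have hab' : (b' : ℕ) + 1 = (a' : ℕ) := by
    have h1 := val_succAbove i a'
    have h2 := val_succAbove i b'
    rw [ha'] at h1
    rw [hb'] at h2
    split_ifs at h1 h2 <;> omega
  have hred : red R f (e ∘ Equiv.swap a b) i = red R f e i ∘ Equiv.swap a' b' := by
    funext j
    unfold red
    simp only [Function.comp_apply]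
    rw [← ha', ← hb', Fin.succAbove_right_injective.swap_apply]
  have hadm' : IsAdmissible R _ (red R f e i ∘ Equiv.swap a' b') := by
    rw [← hred]; exact h'.isAdmissible_red he'
  have key := hΔ.relC (red R f e i) a' b' (h.isAdmissible_red he) hadm' hab' (by
    intro r hr
    rw [h.spanBefore_red, hb']
    refine ⟨r • e a, hc r hr, ?_⟩
    simp only [red, map_smul, ha'])
  rw [extend_of_pivot ΔN h, extend_of_pivot ΔN h', hred, ← mul_add, key, mul_zero]

/-- relation (c), pivot at the earlier position `b` -/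
theorem extend_relC_at_b {n : ℕ} {ΔN : (Fin n → M ⧸ Submodule.span R {f}) → ResidueField R}
    (hΔ : IsDetFun R ΔN) (e : Fin (n + 1) → M) (a b : Fin (n + 1))
    (he : IsAdmissible R M e) (he' : IsAdmissible R M (e ∘ Equiv.swap a b))
    (hab : (b : ℕ) + 1 = (a : ℕ))
    {c : Rˣ} (h : IsPivot R f e b c) :
    extend R f ΔN e + extend R f ΔN (e ∘ Equiv.swap a b) = 0 := by
  have hne : a ≠ b := fun hh => by rw [hh] at hab; omega
  have hEb : spanBefore R M (e ∘ Equiv.swap a b) b = spanBefore R M e b :=
    spanBefore_swap R e a b hab b (Or.inl le_rfl)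
  have hEa := spanBefore_swap_mid R e a b hab
  have hEba : spanBefore R M e b ≤ spanBefore R M e a := spanBefore_mono R e (by omega)
  have hEba' : spanBefore R M (e ∘ Equiv.swap a b) b ≤ spanBefore R M (e ∘ Equiv.swap a b) a :=
    spanBefore_mono R _ (by omega)
  by_cases hfa : f ∈ spanBefore R M e b ⊔ Submodule.span R {e a}
  · -- both reduced tuples are degenerate
    obtain ⟨c', h'⟩ := exists_pivot_of_mem_succ (f := f) he' (i := b) (by rw [hEb]; exact h.1)
      (by rw [hab, hEa]; exact hfa)
    obtain ⟨b'', hb''⟩ := Fin.exists_succAbove_eq hne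
    have z1 : ΔN (red R f e b) = 0 := by
      apply hΔ.relA _ (h.isAdmissible_red he) b''
      rw [h.spanBefore_red, hb'']
      have h2 := h'.2
      rw [hEb, Function.comp_apply, Equiv.swap_apply_right] at h2
      refine ⟨e a - (c' : R) • f, hEba h2, ?_⟩
      simp only [red, hb'', map_sub, map_smul, mkQ_self, smul_zero, sub_zero]
    have z2 : ΔN (red R f (e ∘ Equiv.swap a b) b) = 0 := by
      apply hΔ.relA _ (h'.isAdmissible_red he') b''
      rw [h'.spanBefore_red, hb'']
      refine ⟨e b - (c : R) • f, hEba' (by rw [hEb]; exact h.2), ?_⟩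
      simp only [red, hb'', Function.comp_apply, Equiv.swap_apply_left, map_sub, map_smul,
        mkQ_self, smul_zero, sub_zero]
    rw [extend_of_pivot ΔN h, extend_of_pivot ΔN h', z1, z2, mul_zero, mul_zero, add_zero]
  · have h' : IsPivot R f (e ∘ Equiv.swap a b) a c := by
      refine ⟨by rw [hEa]; exact hfa, ?_⟩
      rw [Function.comp_apply, Equiv.swap_apply_left]
      exact hEba' (by rw [hEb]; exact h.2)
    have hred : red R f (e ∘ Equiv.swap a b) a = red R f e b := by
      funext j
      unfold red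
      rw [Function.comp_apply, swap_succAbove' a b hab]
    rw [extend_of_pivot ΔN h, extend_of_pivot ΔN h', hred, ← hab, pow_succ]
    ring

/-- relation (c), pivot at the later position `a` for both tuples -/
theorem extend_relC_at_a {n : ℕ} {ΔN : (Fin n → M ⧸ Submodule.span R {f}) → ResidueField R}
    (hΔ : IsDetFun R ΔN) (e : Fin (n + 1) → M) (a b : Fin (n + 1))
    (he : IsAdmissible R M e) (he' : IsAdmissible R M (e ∘ Equiv.swap a b))
    (hab : (b : ℕ) + 1 = (a : ℕ))
    {c : Rˣ} (h : IsPivot R f e a c)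
    (hfa : f ∉ spanBefore R M e b ⊔ Submodule.span R {e a}) :
    extend R f ΔN e + extend R f ΔN (e ∘ Equiv.swap a b) = 0 := by
  have hne : b ≠ a := fun hh => by rw [hh] at hab; omega
  have hEb : spanBefore R M (e ∘ Equiv.swap a b) b = spanBefore R M e b :=
    spanBefore_swap R e a b hab b (Or.inl le_rfl)
  have hEa := spanBefore_swap_mid R e a b hab
  have hEsucc : spanBefore R M e a = spanBefore R M e b ⊔ Submodule.span R {e b} := by
    rw [← hab]; exact spanBefore_succ R e b
  have h2 := h.2
  rw [hEsucc, Submodule.mem_sup] at h2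
  obtain ⟨z, hz, y, hy, hzy⟩ := h2
  obtain ⟨ν, rfl⟩ := Submodule.mem_span_singleton.mp hy
  have hν : IsUnit ν := by
    apply isUnit_of_smul_notMem (he b)
    intro hcon
    apply hfa
    have h1 : (c : R) • f ∈ spanBefore R M e b ⊔ Submodule.span R {e a} := by
      have : (c : R) • f = e a - (z + ν • e b) := by rw [hzy]; abel
      rw [this]
      exact Submodule.sub_mem _ (Submodule.mem_sup_right (Submodule.mem_span_singleton_self _))
        (Submodule.mem_sup_left (Submodule.add_mem _ hz hcon))
    have := Submodule.smul_mem _ ((c⁻¹ : Rˣ) : R) h1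
    rwa [smul_smul, Units.inv_mul, one_smul] at this
  obtain ⟨d, rfl⟩ := hν
  have h' : IsPivot R f (e ∘ Equiv.swap a b) a (-(d⁻¹ * c)) := by
    refine ⟨by rw [hEa]; exact hfa, ?_⟩
    rw [hEa, Function.comp_apply, Equiv.swap_apply_left]
    have : e b - ((-(d⁻¹ * c) : Rˣ) : R) • f = ((d⁻¹ : Rˣ) : R) • (e a - z) := by
      have h3 : e a = z + (d : R) • e b + (c : R) • f := by rw [hzy]; abel
      rw [h3, Units.val_neg, Units.val_mul, neg_smul, sub_neg_eq_add, smul_sub, smul_add, smul_add,
        smul_smul, smul_smul, Units.inv_mul, one_smul]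
      abel
    rw [this]
    exact Submodule.smul_mem _ _ (Submodule.sub_mem _
      (Submodule.mem_sup_right (Submodule.mem_span_singleton_self _)) (Submodule.mem_sup_left hz))
  obtain ⟨b'', hb''⟩ := Fin.exists_succAbove_eq hne
  have key := hΔ.relB (red R f (e ∘ Equiv.swap a b) a) (red R f e a) (h'.isAdmissible_red he')
    (h.isAdmissible_red he) b'' d (by
      intro j hj
      unfold red
      rw [Function.comp_apply, Equiv.swap_apply_of_ne_of_ne (Fin.succAbove_ne a j)]
      rw [← hb'']
      intro hcon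
      exact hj (Fin.succAbove_right_injective hcon)) (by
      rw [h'.spanBefore_red, hb'', hEb]
      refine ⟨z, hz, ?_⟩
      simp only [red, hb'', Function.comp_apply, Equiv.swap_apply_right]
      rw [← map_smul, ← map_sub]
      have h3 : e a = z + (d : R) • e b + (c : R) • f := by rw [hzy]; abel
      have : e a - (d : R) • e b = z + (c : R) • f := by rw [h3]; abel
      rw [this, map_add, map_smul, mkQ_self, smul_zero, add_zero])
  rw [extend_of_pivot ΔN h, extend_of_pivot ΔN h', key, smul_eq_mul, Units.val_neg, map_neg]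
  have := residue_inv_mul (R := R) d c
  linear_combination (-(-1) ^ (a : ℕ) * ΔN (red R f e a)) * this

theorem extend_relC {n : ℕ} {ΔN : (Fin n → M ⧸ Submodule.span R {f}) → ResidueField R}
    (hΔ : IsDetFun R ΔN) (hf0 : f ≠ 0) (e : Fin (n + 1) → M) (a b : Fin (n + 1))
    (he : IsAdmissible R M e) (he' : IsAdmissible R M (e ∘ Equiv.swap a b))
    (hab : (b : ℕ) + 1 = (a : ℕ))
    (hc : ∀ r ∈ maximalIdeal R, r • e a ∈ spanBefore R M e b) :
    extend R f ΔN e + extend R f ΔN (e ∘ Equiv.swap a b) = 0 := by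
  have hswap : (e ∘ Equiv.swap a b) ∘ Equiv.swap a b = e := by
    funext j; simp
  by_cases hex : ∃ (i : Fin (n + 1)) (c : Rˣ), IsPivot R f e i c
  · obtain ⟨i, c, h⟩ := hex
    by_cases hib : i = b
    · subst hib
      exact extend_relC_at_b hΔ e a i he he' hab h
    by_cases hia : i = a
    · subst hia
      by_cases hfa : f ∈ spanBefore R M e b ⊔ Submodule.span R {e i}
      · -- the swapped tuple has its pivot at `b`
        have hEb : spanBefore R M (e ∘ Equiv.swap i b) b = spanBefore R M e b :=
          spanBefore_swap R e i b hab b (Or.inl le_rfl)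
        have hEa := spanBefore_swap_mid R e i b hab
        have hfb : f ∉ spanBefore R M e b := fun hcon =>
          h.1 (spanBefore_mono R e (by omega) hcon)
        obtain ⟨c', h'⟩ := exists_pivot_of_mem_succ (f := f) he' (i := b) (by rw [hEb]; exact hfb)
          (by rw [hab, hEa]; exact hfa)
        have := extend_relC_at_b hΔ (e ∘ Equiv.swap i b) i b he' (by rw [hswap]; exact he) hab h'
        rw [hswap] at this
        rw [add_comm]; exact this
      · exact extend_relC_at_a hΔ e i b he he' hab h hfa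
    · exact extend_relC_other hΔ e a b he he' hab hc h hia hib
  · have hex' : ¬ ∃ (i : Fin (n + 1)) (c : Rˣ), IsPivot R f (e ∘ Equiv.swap a b) i c := by
      rintro ⟨i, c, h⟩
      apply hex
      apply exists_pivot he hf0
      rw [← range_comp_perm e (Equiv.swap a b)]
      exact h.mem_range
    rw [extend_of_no_pivot ΔN hex, extend_of_no_pivot ΔN hex', add_zero]

theorem extend_isDetFun {n : ℕ} {ΔN : (Fin n → M ⧸ Submodule.span R {f}) → ResidueField R}
    (hΔ : IsDetFun R ΔN) (hf0 : f ≠ 0) : IsDetFun R (extend R f ΔN) where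
  relA := fun e he a ha => extend_relA hΔ e he a ha
  relB := fun e e' he he' a c hdiff hmem => extend_relB hΔ hf0 e e' he he' a c hdiff hmem
  relC := fun e a b he he' hab hc => extend_relC hΔ hf0 e a b he he' hab hc

theorem extend_ne_zero {n : ℕ} {ΔN : (Fin n → M ⧸ Submodule.span R {f}) → ResidueField R}
    (hΔ : ∀ g, IsAdmissible R _ g → Submodule.span R (Set.range g) = ⊤ → ΔN g ≠ 0) (hf0 : f ≠ 0)
    (e : Fin (n + 1) → M) (he : IsAdmissible R M e) (hgen : Submodule.span R (Set.range e) = ⊤) :
    extend R f ΔN e ≠ 0 := by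
  obtain ⟨i, c, h⟩ := exists_pivot (f := f) he hf0 (by rw [hgen]; trivial)
  rw [extend_of_pivot ΔN h]
  have h1 : residue R (c : R) ≠ 0 := by
    rw [Ne, residue_eq_zero_iff]
    exact fun hcon => hcon c.isUnit
  have h2 := hΔ (red R f e i) (h.isAdmissible_red he) (by
    rw [h.span_range_red, hgen, Submodule.map_top, Submodule.range_mkQ])
  exact mul_ne_zero (mul_ne_zero (pow_ne_zero _ (by simp)) h1) h2

end relC

end Groth.Agent.Lib.Helper29.CycDetLib
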