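import Groth.Agent.Lib.Helper29.CycDetC

set_option autoImplicit false

namespace Groth.Agent.Lib.Helper29.CycDetLib

open IsLocalRing CycDet

universe u v w

section lengthlemmas

variable {R : Type u} [CommRing R] {M : Type v} [AddCommGroup M] [Module R M]

theorem length_succ_le_of_lt' {J₁ J₂ : Submodule R M} (h : J₁ < J₂) :
    Module.length R (M ⧸ J₂) + 1 ≤ Module.length R (M ⧸ J₁) := by
  rw [Module.length_eq_add_of_exact (LinearMap.ker (Submodule.factor h.le)).subtype
    (Submodule.factor h.le) (Submodule.subtype_injective _) (Submodule.factor_surjective h.le)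
    (by
      rw [LinearMap.exact_iff, Submodule.range_subtype]), add_comm]
  gcongr
  rw [Order.one_le_iff_pos, Module.length_pos_iff]
  obtain ⟨x, hx₂, hx₁⟩ := Set.exists_of_ssubset h
  refine ⟨⟨⟨J₁.mkQ x, ?_⟩, 0, ?_⟩⟩
  · rw [LinearMap.mem_ker, Submodule.factor_mk, Submodule.mkQ_apply, Submodule.Quotient.mk_eq_zero]
    exact hx₂
  · intro h0
    have := congrArg Subtype.val h0
    simp only [Submodule.mkQ_apply, ZeroMemClass.coe_zero, Submodule.Quotient.mk_eq_zero] at this
    exact hx₁ this

theorem length_add_le_of_chain' (W : ℕ → Submodule R M) (n : ℕ)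
    (h : ∀ j < n, W j < W (j + 1)) :
    Module.length R (M ⧸ W n) + n ≤ Module.length R (M ⧸ W 0) := by
  induction n with
  | zero => simp
  | succ k ih =>
    have h1 := ih (fun j hj => h j (Nat.lt_succ_of_lt hj))
    have h2 := length_succ_le_of_lt' (h k (Nat.lt_succ_self k))
    calc Module.length R (M ⧸ W (k + 1)) + ((k + 1 : ℕ) : ℕ∞)
        = (Module.length R (M ⧸ W (k + 1)) + 1) + (k : ℕ∞) := by push_cast; ring
      _ ≤ Module.length R (M ⧸ W k) + k := by gcongr
      _ ≤ _ := h1

end lengthlemmas

section universal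

variable {R : Type u} [CommRing R] [IsLocalRing R] {M : Type v} [AddCommGroup M] [Module R M]

theorem exists_mem_spanBefore_of_ne_top {l : ℕ} (hlen : Module.length R M = l) (e : Fin l → M)
    (hne : Submodule.span R (Set.range e) ≠ ⊤) : ∃ a : Fin l, e a ∈ spanBefore R M e a := by
  by_contra hcon
  push Not at hcon
  apply hne
  have hchain : ∀ j < l, spanBefore R M e j < spanBefore R M e (j + 1) := by
    intro j hj
    have := spanBefore_succ R e ⟨j, hj⟩
    simp only at this
    rw [this]
    apply lt_of_le_of_ne le_sup_left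
    intro heq
    apply hcon ⟨j, hj⟩
    simp only
    rw [heq]
    exact Submodule.mem_sup_right (Submodule.mem_span_singleton_self _)
  have h1 := length_add_le_of_chain' (fun k => spanBefore R M e k) l hchain
  rw [spanBefore_zero, (Submodule.quotEquivOfEqBot (⊥ : Submodule R M) rfl).length_eq, hlen,
    spanBefore_of_le R e le_rfl] at h1
  have h2 : Module.length R (M ⧸ Submodule.span R (Set.range e)) = 0 := by
    have h3 : Module.length R (M ⧸ Submodule.span R (Set.range e)) + (l : ℕ∞) ≤ 0 + l := by
      rw [zero_add]; exact h1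
    have := (ENat.add_le_add_iff_right (ENat.coe_ne_top l)).mp h3
    exact le_antisymm this zero_le
  rw [Module.length_eq_zero_iff, Submodule.Quotient.subsingleton_iff] at h2
  exact h2

theorem exists_socle_elt {n : ℕ} (hlen : Module.length R M = ((n + 1 : ℕ) : ℕ∞)) :
    ∃ f : M, f ≠ 0 ∧ (∀ r ∈ maximalIdeal R, r • f = 0) ∧
      Module.length R (M ⧸ Submodule.span R {f}) = n := by
  have hfin : IsFiniteLength R M := by
    rw [← Module.length_ne_top_iff, hlen]; exact ENat.coe_ne_top _
  rw [isFiniteLength_iff_isNoetherian_isArtinian] at hfin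
  obtain ⟨_, _⟩ := hfin
  have hnt : Nontrivial M := by
    rw [← Module.length_pos_iff (R := R), hlen]
    exact_mod_cast Nat.succ_pos n
  obtain ⟨S, hS⟩ := IsAtomic.exists_atom (Submodule R M)
  obtain ⟨f, hfS, hf0⟩ := Submodule.exists_mem_ne_zero_of_ne_bot hS.1
  have hspan : Submodule.span R {f} = S := by
    have hle : Submodule.span R {f} ≤ S := by
      rw [Submodule.span_singleton_le_iff_mem]; exact hfS
    rcases hS.le_iff.mp hle with h | h
    · exfalso; apply hf0
      rw [Submodule.span_singleton_eq_bot] at h; exact h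
    · exact h
  have hatom : IsAtom (Submodule.span R {f}) := hspan ▸ hS
  refine ⟨f, hf0, ?_, ?_⟩
  · intro r hr
    by_contra hrf
    have hle : Submodule.span R {r • f} ≤ Submodule.span R {f} := by
      rw [Submodule.span_singleton_le_iff_mem]
      exact Submodule.smul_mem _ _ (Submodule.mem_span_singleton_self _)
    rcases hatom.le_iff.mp hle with h | h
    · rw [Submodule.span_singleton_eq_bot] at h; exact hrf h
    · have hmem : f ∈ Submodule.span R {r • f} := by
        rw [h]; exact Submodule.mem_span_singleton_self _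
      obtain ⟨a, ha⟩ := Submodule.mem_span_singleton.mp hmem
      have hu : IsUnit (1 - a * r) := by
        apply isUnit_one_sub_self_of_mem_nonunits
        exact Ideal.mul_mem_left _ a hr
      apply hf0
      have h0 : (1 - a * r) • f = 0 := by
        rw [sub_smul, one_smul, mul_smul, ha, sub_self]
      obtain ⟨d, hd⟩ := hu
      have := congrArg (fun x => ((d⁻¹ : Rˣ) : R) • x) h0
      simp only [smul_zero] at this
      rwa [← hd, smul_smul, Units.inv_mul, one_smul] at this
  · have hsimple : IsSimpleModule R (Submodule.span R {f}) := isSimpleModule_iff_isAtom.mpr hatom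
    have h1 := Module.length_eq_add_of_exact (Submodule.span R {f}).subtype
      (Submodule.span R {f}).mkQ (Submodule.subtype_injective _) (Submodule.mkQ_surjective _)
      (LinearMap.exact_subtype_mkQ _)
    rw [hlen, Module.length_eq_one] at h1
    have hne : Module.length R (M ⧸ Submodule.span R {f}) ≠ ⊤ := by
      intro htop
      rw [htop, add_top] at h1
      exact ENat.coe_ne_top _ h1
    lift Module.length R (M ⧸ Submodule.span R {f}) to ℕ using hne with m hm
    norm_cast at h1 ⊢
    omega

theorem spanBefore_cons_succ {n : ℕ} (x : M) (u : Fin n → M) (k : ℕ) :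
    spanBefore R M (Fin.cons x u : Fin (n + 1) → M) (k + 1) =
      Submodule.span R {x} ⊔ spanBefore R M u k := by
  apply le_antisymm
  · rw [spanBefore_le_iff]
    intro j
    refine Fin.cases ?_ ?_ j
    · intro _
      rw [Fin.cons_zero]
      exact Submodule.mem_sup_left (Submodule.mem_span_singleton_self _)
    · intro j' hj'
      rw [Fin.cons_succ]
      rw [Fin.val_succ] at hj'
      exact Submodule.mem_sup_right (mem_spanBefore R u (by omega))
  · apply sup_le
    · rw [Submodule.span_singleton_le_iff_mem]
      have := mem_spanBefore R (Fin.cons x u : Fin (n + 1) → M) (j := 0) (k := k + 1) (by simp)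
      rwa [Fin.cons_zero] at this
    · rw [spanBefore_le_iff]
      intro j hj
      have := mem_spanBefore R (Fin.cons x u : Fin (n + 1) → M) (j := j.succ) (k := k + 1)
        (by rw [Fin.val_succ]; omega)
      rwa [Fin.cons_succ] at this

variable {f : M}

theorem spanBefore_liftT {n : ℕ} {s : M ⧸ Submodule.span R {f} → M}
    (hs : ∀ y, (Submodule.span R {f}).mkQ (s y) = y)
    (g : Fin n → M ⧸ Submodule.span R {f}) (k : ℕ) :
    spanBefore R M (Fin.cons f (s ∘ g) : Fin (n + 1) → M) (k + 1) =
      (spanBefore R _ g k).comap (Submodule.span R {f}).mkQ := by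
  rw [spanBefore_cons_succ]
  have hg : g = (Submodule.span R {f}).mkQ ∘ (s ∘ g) := by
    funext j; simp [hs]
  conv_rhs => rw [hg, spanBefore_comp_linear, Submodule.comap_map_eq, Submodule.ker_mkQ]
  rw [sup_comm]

theorem isAdmissible_liftT {n : ℕ} (hf : ∀ r ∈ maximalIdeal R, r • f = 0)
    {s : M ⧸ Submodule.span R {f} → M}
    (hs : ∀ y, (Submodule.span R {f}).mkQ (s y) = y)
    (g : Fin n → M ⧸ Submodule.span R {f}) (hg : IsAdmissible R _ g) :
    IsAdmissible R M (Fin.cons f (s ∘ g) : Fin (n + 1) → M) := by
  intro j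
  refine Fin.cases ?_ ?_ j
  · intro r hr
    rw [Fin.cons_zero, hf r hr]
    exact Submodule.zero_mem _
  · intro j' r hr
    rw [Fin.cons_succ, Fin.val_succ, spanBefore_liftT hs, Submodule.mem_comap, map_smul,
      Function.comp_apply, hs]
    exact hg j' r hr

theorem liftT_swap {n : ℕ} (s : M ⧸ Submodule.span R {f} → M)
    (g : Fin n → M ⧸ Submodule.span R {f}) (a b : Fin n) :
    (Fin.cons f (s ∘ (g ∘ Equiv.swap a b)) : Fin (n + 1) → M) =
      (Fin.cons f (s ∘ g) : Fin (n + 1) → M) ∘ Equiv.swap a.succ b.succ := by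
  funext j
  refine Fin.cases ?_ ?_ j
  · rw [Function.comp_apply, Equiv.swap_apply_of_ne_of_ne (Fin.succ_ne_zero a).symm
      (Fin.succ_ne_zero b).symm, Fin.cons_zero, Fin.cons_zero]
  · intro j'
    rw [Function.comp_apply, (Fin.succ_injective n).swap_apply, Fin.cons_succ, Fin.cons_succ]
    rfl

theorem isDetFun_liftT {n : ℕ} {V : Type w} [AddCommGroup V] [Module (ResidueField R) V]
    {Θ : (Fin (n + 1) → M) → V} (hΘ : IsDetFun R Θ)
    (hf : ∀ r ∈ maximalIdeal R, r • f = 0)
    {s : M ⧸ Submodule.span R {f} → M}
    (hs : ∀ y, (Submodule.span R {f}).mkQ (s y) = y) :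
    IsDetFun R (fun g : Fin n → M ⧸ Submodule.span R {f} => Θ (Fin.cons f (s ∘ g))) where
  relA := by
    intro g hg a ha
    apply hΘ.relA _ (isAdmissible_liftT hf hs g hg) a.succ
    rw [Fin.cons_succ, Fin.val_succ, spanBefore_liftT hs, Submodule.mem_comap, Function.comp_apply, hs]
    exact ha
  relB := by
    intro g g' hg hg' a c hdiff hmem
    apply hΘ.relB _ _ (isAdmissible_liftT hf hs g hg) (isAdmissible_liftT hf hs g' hg') a.succ c
    · intro j
      refine Fin.cases ?_ ?_ j
      · intro _; rw [Fin.cons_zero, Fin.cons_zero]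
      · intro j' hj'
        rw [Fin.cons_succ, Fin.cons_succ, Function.comp_apply, Function.comp_apply,
          hdiff j' (fun h => hj' (by rw [h]))]
    · rw [Fin.cons_succ, Fin.cons_succ, Fin.val_succ, spanBefore_liftT hs, Submodule.mem_comap,
        map_sub, map_smul, Function.comp_apply, Function.comp_apply, hs, hs]
      exact hmem
  relC := by
    intro g a b hg hg' hab hc
    have hsw := liftT_swap (f := f) s g a b
    show Θ _ + Θ _ = 0
    rw [hsw]
    apply hΘ.relC _ a.succ b.succ (isAdmissible_liftT hf hs g hg)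
    · rw [← hsw]; exact isAdmissible_liftT hf hs _ hg'
    · rw [Fin.val_succ, Fin.val_succ, hab]
    · intro r hr
      rw [Fin.cons_succ, Fin.val_succ, spanBefore_liftT hs, Submodule.mem_comap, map_smul,
        Function.comp_apply, hs]
      exact hc r hr

end universal

end Groth.Agent.Lib.Helper29.CycDetLib
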