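import Groth.Agent.Lib.Helper29.CycDetD

set_option autoImplicit false

namespace Groth.Agent.Lib.Helper29.CycDetLib

open IsLocalRing CycDet

universe u v w

section universal2

variable {R : Type u} [CommRing R] [IsLocalRing R] {M : Type v} [AddCommGroup M] [Module R M]

theorem spanBefore_eq_of_diff {n : ℕ} (e e' : Fin (n + 1) → M) (h0 : e 0 = e' 0)
    (hd : ∀ j, e j - e' j ∈ Submodule.span R {e 0}) (k : ℕ) :
    spanBefore R M e' k = spanBefore R M e k := by
  rcases Nat.eq_zero_or_pos k with hk | hk
  · rw [hk, spanBefore_zero, spanBefore_zero]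
  · have m0 : Submodule.span R {e 0} ≤ spanBefore R M e k := by
      rw [Submodule.span_singleton_le_iff_mem]
      exact mem_spanBefore R e (by simpa using hk)
    have m0' : Submodule.span R {e 0} ≤ spanBefore R M e' k := by
      rw [Submodule.span_singleton_le_iff_mem, h0]
      exact mem_spanBefore R e' (by simpa using hk)
    apply le_antisymm
    · rw [spanBefore_le_iff]
      intro j hj
      have : e' j = e j - (e j - e' j) := by abel
      rw [this]
      exact Submodule.sub_mem _ (mem_spanBefore R e hj) (m0 (hd j))
    · rw [spanBefore_le_iff]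
      intro j hj
      have : e j = e' j + (e j - e' j) := by abel
      rw [this]
      exact Submodule.add_mem _ (mem_spanBefore R e' hj) (m0' (hd j))

theorem isAdmissible_of_diff {n : ℕ} (e e' : Fin (n + 1) → M) (he : IsAdmissible R M e)
    (h0 : e 0 = e' 0) (hd : ∀ j, e j - e' j ∈ Submodule.span R {e 0}) :
    IsAdmissible R M e' := by
  intro j r hr
  rw [spanBefore_eq_of_diff e e' h0 hd]
  have : r • e' j = r • e j - r • (e j - e' j) := by rw [smul_sub]; abel
  rw [this]
  refine Submodule.sub_mem _ (he j r hr) ?_
  by_cases hj : j = 0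
  · subst hj
    rw [h0, sub_self, smul_zero]
    exact Submodule.zero_mem _
  · apply Submodule.smul_mem
    have m0 : Submodule.span R {e 0} ≤ spanBefore R M e j := by
      rw [Submodule.span_singleton_le_iff_mem]
      apply mem_spanBefore R e
      rw [Fin.val_zero]
      exact Nat.pos_of_ne_zero (fun h => hj (Fin.ext h))
    exact m0 (hd j)

variable {V : Type w} [AddCommGroup V] [Module (ResidueField R) V]

theorem hybrid {n : ℕ} {Θ : (Fin (n + 1) → M) → V} (hΘ : IsDetFun R Θ) :
    ∀ (k : ℕ), k ≤ n + 1 → ∀ (e e' : Fin (n + 1) → M), IsAdmissible R M e → IsAdmissible R M e' →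
      e 0 = e' 0 → (∀ j, e j - e' j ∈ Submodule.span R {e 0}) →
      (∀ j : Fin (n + 1), k ≤ (j : ℕ) → e j = e' j) → Θ e = Θ e' := by
  intro k
  induction k with
  | zero =>
    intro _ e e' _ _ _ _ hagree
    have : e = e' := funext fun j => hagree j (Nat.zero_le _)
    rw [this]
  | succ k ih =>
    intro hk e e' he he' h0 hd hagree
    set kk : Fin (n + 1) := ⟨k, by omega⟩ with hkk
    set e'' : Fin (n + 1) → M := Function.update e' kk (e kk) with he''
    have h0'' : e 0 = e'' 0 := by
      rw [he'']
      by_cases h : (0 : Fin (n + 1)) = kk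
      · rw [← h, Function.update_self]
      · rw [Function.update_of_ne h, h0]
    have hd'' : ∀ j, e j - e'' j ∈ Submodule.span R {e 0} := by
      intro j
      rw [he'']
      by_cases h : j = kk
      · rw [h, Function.update_self, sub_self]; exact Submodule.zero_mem _
      · rw [Function.update_of_ne h]; exact hd j
    have hadm'' : IsAdmissible R M e'' := isAdmissible_of_diff e e'' he h0'' hd''
    have hagree'' : ∀ j : Fin (n + 1), k ≤ (j : ℕ) → e j = e'' j := by
      intro j hj
      rw [he'']
      by_cases h : j = kk
      · rw [h, Function.update_self]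
      · rw [Function.update_of_ne h]
        apply hagree
        have : (j : ℕ) ≠ k := fun hh => h (Fin.ext hh)
        omega
    rw [ih (by omega) e e'' he hadm'' h0'' hd'' hagree'']
    by_cases hk0 : k = 0
    · have : e'' = e' := by
        rw [he'']
        have hkk0 : kk = 0 := Fin.ext hk0
        rw [hkk0, h0, Function.update_eq_self]
      rw [this]
    · have := hΘ.relB e'' e' hadm'' he' kk 1 (by
        intro j hj
        rw [he'', Function.update_of_ne hj]) (by
        rw [he'', Function.update_self, Units.val_one, one_smul]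
        have m0 : Submodule.span R {e 0} ≤ spanBefore R M (Function.update e' kk (e kk)) kk := by
          rw [Submodule.span_singleton_le_iff_mem, h0'']
          apply mem_spanBefore R e''
          rw [Fin.val_zero]
          exact Nat.pos_of_ne_zero hk0
        exact m0 (hd kk))
      rw [this, Units.val_one, map_one, one_smul]

theorem moveFront {n : ℕ} {Θ : (Fin (n + 1) → M) → V} (hΘ : IsDetFun R Θ) {f : M}
    (hf : ∀ r ∈ maximalIdeal R, r • f = 0) :
    ∀ (k : ℕ) (hk : k < n + 1) (e : Fin (n + 1) → M), IsAdmissible R M e → e ⟨k, hk⟩ = f →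
      Θ e = ((-1 : ResidueField R) ^ k) •
        Θ (Fin.cons f (fun j => e ((⟨k, hk⟩ : Fin (n + 1)).succAbove j))) := by
  intro k
  induction k with
  | zero =>
    intro hk e _ hef
    have : (Fin.cons f (fun j => e ((⟨0, hk⟩ : Fin (n + 1)).succAbove j)) : Fin (n + 1) → M) = e := by
      funext j
      refine Fin.cases ?_ ?_ j
      · rw [Fin.cons_zero, ← hef]; rfl
      · intro j'
        rw [Fin.cons_succ]
        rfl
    rw [this, pow_zero, one_smul]
  | succ k ih =>
    intro hk e he hef
    set a : Fin (n + 1) := ⟨k + 1, hk⟩ with ha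
    set b : Fin (n + 1) := ⟨k, by omega⟩ with hb
    have hab : (b : ℕ) + 1 = (a : ℕ) := rfl
    have hc : ∀ r ∈ maximalIdeal R, r • e a ∈ spanBefore R M e b := by
      intro r hr
      rw [hef, hf r hr]
      exact Submodule.zero_mem _
    have he' := isAdmissible_swap R e he a b hab hc
    have h1 := hΘ.relC e a b he he' hab hc
    have h2 := ih (by omega) (e ∘ Equiv.swap a b) he' (by
      rw [Function.comp_apply]
      change e (Equiv.swap a b b) = f
      rw [Equiv.swap_apply_right]
      exact hef)
    have h3 : (fun j => (e ∘ Equiv.swap a b) ((⟨k, by omega⟩ : Fin (n + 1)).succAbove j)) =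
        fun j => e (a.succAbove j) := by
      funext j
      rw [Function.comp_apply]
      change e (Equiv.swap a b (b.succAbove j)) = _
      rw [swap_succAbove a b hab]
    rw [h3] at h2
    rw [eq_neg_of_add_eq_zero_left h1, h2, pow_succ, mul_neg, mul_one, neg_smul]

end universal2

end Groth.Agent.Lib.Helper29.CycDetLib
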