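import Groth.Agent.Lib.Helper29.CycDetE

set_option autoImplicit false

namespace Groth.Agent.Lib.Helper29.CycDetLib

open IsLocalRing CycDet

universe u v w

section main

variable (R : Type u) [CommRing R] [IsLocalRing R]

/-- Main theorem: for a module of length `n` there is a nonvanishing determinant function `Δ` with
values in the residue field which is universal among all determinant functions. -/
theorem exists_universal : ∀ (n : ℕ) (M : Type v) [AddCommGroup M] [Module R M],
    Module.length R M = n →
    ∃ Δ : (Fin n → M) → ResidueField R, IsDetFun R Δ ∧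
      (∀ e, IsAdmissible R M e → Submodule.span R (Set.range e) = ⊤ → Δ e ≠ 0) ∧
      ∀ (V : Type w) [AddCommGroup V] [Module (ResidueField R) V] (Θ : (Fin n → M) → V),
        IsDetFun R Θ → ∃ w : V, ∀ e, IsAdmissible R M e → Θ e = Δ e • w := by
  intro n
  induction n with
  | zero =>
    intro M _ _ _
    refine ⟨fun _ => 1, ⟨fun e _ a => a.elim0, fun e e' _ _ a => a.elim0, fun e a => a.elim0⟩,
      fun _ _ _ => one_ne_zero, ?_⟩
    intro V _ _ Θ _
    refine ⟨Θ (fun j => j.elim0), fun e _ => ?_⟩
    rw [one_smul]
    congr 1
    funext j
    exact j.elim0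
  | succ n ih =>
    intro M _ _ hlen
    obtain ⟨f, hf0, hf, hlenN⟩ := exists_socle_elt (R := R) (M := M) hlen
    obtain ⟨ΔN, hΔN, hne, huniv⟩ := ih (M ⧸ Submodule.span R {f}) hlenN
    refine ⟨extend R f ΔN, extend_isDetFun hΔN hf0, extend_ne_zero hne hf0, ?_⟩
    intro V _ _ Θ hΘ
    have hsurj := Submodule.mkQ_surjective (Submodule.span R {f})
    set s : M ⧸ Submodule.span R {f} → M := Function.surjInv hsurj with hsdef
    have hs : ∀ y, (Submodule.span R {f}).mkQ (s y) = y := Function.surjInv_eq hsurj
    obtain ⟨w, hw⟩ := huniv V _ (isDetFun_liftT hΘ hf hs)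
    refine ⟨w, fun e he => ?_⟩
    by_cases hex : ∃ (i : Fin (n + 1)) (c : Rˣ), IsPivot R f e i c
    · obtain ⟨i, c, h⟩ := hex
      rw [extend_of_pivot ΔN h]
      -- step 1: replace `e i` by `f`
      have hdiff : ∀ j, j ≠ i → e j = Function.update e i f j := fun j hj => by
        rw [Function.update_of_ne hj]
      have hmem : e i - (c : R) • Function.update e i f i ∈ spanBefore R M e i := by
        rw [Function.update_self]; exact h.2
      have hsp := spanBefore_eq_of_relB e (Function.update e i f) i c hdiff hmem
      have hadm : IsAdmissible R M (Function.update e i f) := by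
        intro j r hr
        by_cases hj : j = i
        · rw [hj, Function.update_self, hf r hr]; exact Submodule.zero_mem _
        · rw [Function.update_of_ne hj, hsp]; exact he j r hr
      have step1 := hΘ.relB e (Function.update e i f) he hadm i c hdiff hmem
      -- step 2: move `f` to the front
      have step2 := moveFront hΘ hf i i.2 (Function.update e i f) hadm (by
        rw [Fin.eta, Function.update_self])
      have h3 : (fun j => Function.update e i f ((⟨i, i.2⟩ : Fin (n + 1)).succAbove j)) =
          fun j => e (i.succAbove j) := by
        funext j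
        rw [Fin.eta, Function.update_of_ne (Fin.succAbove_ne i j)]
      rw [h3] at step2
      -- step 3: replace the entries by the chosen lifts
      have hadm2 := isAdmissible_liftT hf hs (red R f e i) (h.isAdmissible_red he)
      have hd : ∀ j, (Fin.cons f (s ∘ red R f e i) : Fin (n + 1) → M) j -
          (Fin.cons f (fun j => e (i.succAbove j)) : Fin (n + 1) → M) j ∈
          Submodule.span R {(Fin.cons f (s ∘ red R f e i) : Fin (n + 1) → M) 0} := by
        intro j
        rw [Fin.cons_zero]
        refine Fin.cases ?_ ?_ j
        · rw [Fin.cons_zero, Fin.cons_zero, sub_self]; exact Submodule.zero_mem _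
        · intro j'
          rw [Fin.cons_succ, Fin.cons_succ, ← Submodule.Quotient.mk_eq_zero, Submodule.Quotient.mk_sub,
            ← Submodule.mkQ_apply, ← Submodule.mkQ_apply, Function.comp_apply, hs]
          exact sub_self _
      have hadm1 := isAdmissible_of_diff _ _ hadm2 (by rw [Fin.cons_zero, Fin.cons_zero]) hd
      have step3 := hybrid hΘ (n + 1) le_rfl _ _ hadm2 hadm1 (by rw [Fin.cons_zero, Fin.cons_zero])
        hd (fun j hj => absurd j.2 (by omega))
      have step4 := hw (red R f e i) (h.isAdmissible_red he)
      rw [step1, step2, ← step3, step4, smul_smul, smul_smul]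
      congr 1
      ring
    · rw [extend_of_no_pivot ΔN hex, zero_smul]
      have hne' : Submodule.span R (Set.range e) ≠ ⊤ := by
        intro htop
        apply hex
        exact exists_pivot he hf0 (by rw [htop]; trivial)
      obtain ⟨a, ha⟩ := exists_mem_spanBefore_of_ne_top hlen e hne'
      exact hΘ.relA e he a ha

end main

end Groth.Agent.Lib.Helper29.CycDetLib
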