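import Groth.Agent.Lib.Helper29.CycDetF

set_option autoImplicit false

namespace Groth.Agent.Lib.Helper29.CycDetLib

open IsLocalRing CycDet

universe u v w

section lift

variable {R : Type u} [CommRing R] [IsLocalRing R] {M : Type v} [AddCommGroup M] [Module R M]

theorem IsDetFun.lift {n : ℕ} {V : Type w} [AddCommGroup V] [Module (ResidueField R) V]
    {Θ : (Fin n → M) → V} (hΘ : IsDetFun R Θ) :
    ∃ L : DetOfLen R M n →ₗ[ResidueField R] V,
      ∀ e : Adm R M n, L (Submodule.Quotient.mk (sym R M e)) = Θ e.1 := by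
  set L₀ : Free R M n →ₗ[ResidueField R] V :=
    Finsupp.linearCombination (ResidueField R) (fun e : Adm R M n => Θ e.1) with hL₀
  have hsym : ∀ e : Adm R M n, L₀ (sym R M e) = Θ e.1 := by
    intro e
    rw [hL₀, sym, Finsupp.linearCombination_single, one_smul]
  have hker : Submodule.span (ResidueField R) (relSet R M n) ≤ LinearMap.ker L₀ := by
    rw [Submodule.span_le]
    rintro x ((⟨e, a, ha, rfl⟩ | ⟨e, e', a, c, hdiff, hmem, rfl⟩) | ⟨e, e', a, b, hab, hc, hsw, rfl⟩)
    · rw [SetLike.mem_coe, LinearMap.mem_ker, hsym]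
      exact hΘ.relA e.1 e.2 a ha
    · rw [SetLike.mem_coe, LinearMap.mem_ker, map_sub, map_smul, hsym, hsym, sub_eq_zero]
      exact hΘ.relB e.1 e'.1 e.2 e'.2 a c hdiff hmem
    · rw [SetLike.mem_coe, LinearMap.mem_ker, map_add, hsym, hsym, hsw]
      exact hΘ.relC e.1 a b e.2 (hsw ▸ e'.2) hab hc
  refine ⟨Submodule.liftQ _ L₀ hker, fun e => ?_⟩
  rw [Submodule.liftQ_apply, hsym]

variable (R M)

open Classical in
/-- the symbol, as a function on all tuples -/
noncomputable def symFun (n : ℕ) : (Fin n → M) → DetOfLen R M n := fun e =>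
  if h : IsAdmissible R M e then Submodule.Quotient.mk (sym R M ⟨e, h⟩) else 0

theorem symFun_of_adm {n : ℕ} (e : Adm R M n) :
    symFun R M n e.1 = Submodule.Quotient.mk (sym R M e) := by
  unfold symFun
  rw [dif_pos e.2]
  rfl

theorem symFun_isDetFun (n : ℕ) : IsDetFun R (symFun R M n) where
  relA := by
    intro e he a ha
    rw [symFun_of_adm R M ⟨e, he⟩, Submodule.Quotient.mk_eq_zero]
    exact Submodule.subset_span (Or.inl (Or.inl ⟨⟨e, he⟩, a, ha, rfl⟩))
  relB := by
    intro e e' he he' a c hdiff hmem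
    rw [symFun_of_adm R M ⟨e, he⟩, symFun_of_adm R M ⟨e', he'⟩, ← sub_eq_zero,
      ← Submodule.Quotient.mk_smul, ← Submodule.Quotient.mk_sub, Submodule.Quotient.mk_eq_zero]
    exact Submodule.subset_span (Or.inl (Or.inr ⟨⟨e, he⟩, ⟨e', he'⟩, a, c, hdiff, hmem, rfl⟩))
  relC := by
    intro e a b he he' hab hc
    rw [symFun_of_adm R M ⟨e, he⟩, symFun_of_adm R M ⟨_, he'⟩,
      ← Submodule.Quotient.mk_add, Submodule.Quotient.mk_eq_zero]
    exact Submodule.subset_span (Or.inr ⟨⟨e, he⟩, ⟨_, he'⟩, a, b, hab, hc, rfl, rfl⟩)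

/-- every element of `DetOfLen` is a combination of symbols: induction principle -/
theorem detOfLen_induction {n : ℕ} {P : DetOfLen R M n → Prop}
    (h0 : P 0) (hadd : ∀ x y, P x → P y → P (x + y))
    (hsmul : ∀ (t : ResidueField R) (e : Adm R M n), P (t • Submodule.Quotient.mk (sym R M e)))
    (x : DetOfLen R M n) : P x := by
  obtain ⟨y, rfl⟩ := Submodule.Quotient.mk_surjective _ x
  induction y using Finsupp.induction_linear with
  | zero => exact h0
  | add y z hy hz => exact hadd _ _ hy hz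
  | single e t =>
    have := hsmul t e
    rwa [← Submodule.Quotient.mk_smul, sym, Finsupp.smul_single_one] at this

end lift

end Groth.Agent.Lib.Helper29.CycDetLib
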