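import Groth.Agent.Lib.Helper29.CycDetG

set_option autoImplicit false

namespace Groth.Agent.Lib.Helper29.CycDetLib

open IsLocalRing CycDet

universe u v w

section tri

variable {R : Type u} [CommRing R] [IsLocalRing R] {M : Type v} [AddCommGroup M] [Module R M]

/-- unitriangular change of a tuple does not change the partial spans -/
theorem tri_span {n : ℕ} (t t' : Fin n → M) (hd : ∀ x : Fin n, t x - t' x ∈ spanBefore R M t x) (y : ℕ) :
    spanBefore R M t' y = spanBefore R M t y := by
  induction y with
  | zero => rw [spanBefore_zero, spanBefore_zero]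
  | succ y ih =>
    by_cases hy : y < n
    · have h1 := spanBefore_succ R t ⟨y, hy⟩
      have h2 := spanBefore_succ R t' ⟨y, hy⟩
      simp only at h1 h2
      rw [h1, h2, ih]
      have hdy := hd ⟨y, hy⟩
      simp only at hdy
      apply le_antisymm
      · apply sup_le le_sup_left
        rw [Submodule.span_singleton_le_iff_mem]
        have : t' ⟨y, hy⟩ = t ⟨y, hy⟩ - (t ⟨y, hy⟩ - t' ⟨y, hy⟩) := by abel
        rw [this]
        exact Submodule.sub_mem _ (Submodule.mem_sup_right (Submodule.mem_span_singleton_self _))
          (Submodule.mem_sup_left hdy)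
      · apply sup_le le_sup_left
        rw [Submodule.span_singleton_le_iff_mem]
        have : t ⟨y, hy⟩ = t' ⟨y, hy⟩ + (t ⟨y, hy⟩ - t' ⟨y, hy⟩) := by abel
        rw [this]
        exact Submodule.add_mem _ (Submodule.mem_sup_right (Submodule.mem_span_singleton_self _))
          (Submodule.mem_sup_left hdy)
    · push Not at hy
      rw [spanBefore_of_le R t (by omega), spanBefore_of_le R t' (by omega),
        ← spanBefore_of_le R t hy, ← spanBefore_of_le R t' hy, ih]

theorem tri_adm {n : ℕ} (t t' : Fin n → M) (ht : IsAdmissible R M t)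
    (hd : ∀ x : Fin n, t x - t' x ∈ spanBefore R M t x) : IsAdmissible R M t' := by
  intro x r hr
  rw [tri_span t t' hd]
  have : r • t' x = r • t x - r • (t x - t' x) := by rw [smul_sub]; abel
  rw [this]
  exact Submodule.sub_mem _ (ht x r hr) (Submodule.smul_mem _ _ (hd x))

variable {V : Type w} [AddCommGroup V] [Module (ResidueField R) V]

theorem tri_hybrid {n : ℕ} {Θ : (Fin n → M) → V} (hΘ : IsDetFun R Θ) :
    ∀ (k : ℕ), k ≤ n → ∀ (t t' : Fin n → M), IsAdmissible R M t →
      (∀ x : Fin n, t x - t' x ∈ spanBefore R M t x) →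
      (∀ x : Fin n, k ≤ (x : ℕ) → t x = t' x) → Θ t = Θ t' := by
  intro k
  induction k with
  | zero =>
    intro _ t t' _ _ hagree
    have : t = t' := funext fun j => hagree j (Nat.zero_le _)
    rw [this]
  | succ k ih =>
    intro hk t t' ht hd hagree
    set kk : Fin n := ⟨k, by omega⟩ with hkk
    set t'' : Fin n → M := Function.update t' kk (t kk) with ht''
    have hd'' : ∀ x : Fin n, t x - t'' x ∈ spanBefore R M t x := by
      intro x
      rw [ht'']
      by_cases h : x = kk
      · rw [h, Function.update_self, sub_self]; exact Submodule.zero_mem _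
      · rw [Function.update_of_ne h]; exact hd x
    have hadm'' : IsAdmissible R M t'' := tri_adm t t'' ht hd''
    have hadm' : IsAdmissible R M t' := tri_adm t t' ht hd
    have hagree'' : ∀ x : Fin n, k ≤ (x : ℕ) → t x = t'' x := by
      intro x hx
      rw [ht'']
      by_cases h : x = kk
      · rw [h, Function.update_self]
      · rw [Function.update_of_ne h]
        apply hagree
        have : (x : ℕ) ≠ k := fun hh => h (Fin.ext hh)
        omega
    rw [ih (by omega) t t'' ht hd'' hagree'']
    have := hΘ.relB t'' t' hadm'' hadm' kk 1 (by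
      intro j hj
      rw [ht'', Function.update_of_ne hj]) (by
      rw [ht'', Function.update_self, Units.val_one, one_smul, ← ht'', tri_span t t'' hd'']
      exact hd kk)
    rw [this, Units.val_one, map_one, one_smul]

theorem tri_eq {n : ℕ} {Θ : (Fin n → M) → V} (hΘ : IsDetFun R Θ) (t t' : Fin n → M)
    (ht : IsAdmissible R M t) (hd : ∀ x : Fin n, t x - t' x ∈ spanBefore R M t x) : Θ t = Θ t' :=
  tri_hybrid hΘ n le_rfl t t' ht hd (fun x hx => absurd x.2 (by omega))

end tri

section append

variable {R : Type u} [CommRing R] [IsLocalRing R] {L : Type v} [AddCommGroup L] [Module R L]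

theorem fin_add_cases {k m : ℕ} (x : Fin (k + m)) :
    (∃ i : Fin k, x = Fin.castAdd m i) ∨ (∃ j : Fin m, x = Fin.natAdd k j) :=
  Fin.addCases (motive := fun x => (∃ i : Fin k, x = Fin.castAdd m i) ∨
    (∃ j : Fin m, x = Fin.natAdd k j)) (fun i => Or.inl ⟨i, rfl⟩) (fun j => Or.inr ⟨j, rfl⟩) x

theorem spanBefore_append_le {k m : ℕ} (u : Fin k → L) (v : Fin m → L) {x : ℕ} (hx : x ≤ k) :
    spanBefore R L (Fin.append u v) x = spanBefore R L u x := by
  apply le_antisymm
  · rw [spanBefore_le_iff]
    intro j hj
    rcases fin_add_cases j with ⟨i, rfl⟩ | ⟨i, rfl⟩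
    · rw [Fin.append_left]
      exact mem_spanBefore R u (by simpa using hj)
    · rw [Fin.val_natAdd] at hj; omega
  · rw [spanBefore_le_iff]
    intro i hi
    rw [← Fin.append_left u v i]
    exact mem_spanBefore R _ (by simpa using hi)

theorem spanBefore_append_add {k m : ℕ} (u : Fin k → L) (v : Fin m → L) (y : ℕ) :
    spanBefore R L (Fin.append u v) (k + y) = Submodule.span R (Set.range u) ⊔ spanBefore R L v y := by
  apply le_antisymm
  · rw [spanBefore_le_iff]
    intro j hj
    rcases fin_add_cases j with ⟨i, rfl⟩ | ⟨i, rfl⟩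
    · rw [Fin.append_left]
      exact Submodule.mem_sup_left (Submodule.subset_span ⟨i, rfl⟩)
    · rw [Fin.append_right]
      rw [Fin.val_natAdd] at hj
      exact Submodule.mem_sup_right (mem_spanBefore R v (by omega))
  · apply sup_le
    · rw [Submodule.span_le]
      rintro _ ⟨i, rfl⟩
      rw [← Fin.append_left u v i]
      exact mem_spanBefore R _ (by rw [Fin.val_castAdd]; omega)
    · rw [spanBefore_le_iff]
      intro j hj
      rw [← Fin.append_right u v j]
      exact mem_spanBefore R _ (by rw [Fin.val_natAdd]; omega)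

theorem append_swap_right {k m : ℕ} (u : Fin k → L) (v : Fin m → L) (a b : Fin m) :
    Fin.append u (v ∘ Equiv.swap a b) =
      Fin.append u v ∘ Equiv.swap (Fin.natAdd k a) (Fin.natAdd k b) := by
  funext x
  rcases fin_add_cases x with ⟨i, rfl⟩ | ⟨i, rfl⟩
  · rw [Function.comp_apply, Equiv.swap_apply_of_ne_of_ne, Fin.append_left, Fin.append_left]
    · intro h; have := congrArg Fin.val h; simp at this; omega
    · intro h; have := congrArg Fin.val h; simp at this; omega
  · rw [Function.comp_apply, (Fin.natAdd_injective m k).swap_apply, Fin.append_right,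
      Fin.append_right]
    rfl

theorem append_swap_left {k m : ℕ} (u : Fin k → L) (v : Fin m → L) (a b : Fin k) :
    Fin.append (u ∘ Equiv.swap a b) v =
      Fin.append u v ∘ Equiv.swap (Fin.castAdd m a) (Fin.castAdd m b) := by
  funext x
  rcases fin_add_cases x with ⟨i, rfl⟩ | ⟨i, rfl⟩
  · rw [Function.comp_apply, (Fin.castAdd_injective k m).swap_apply, Fin.append_left,
      Fin.append_left]
    rfl
  · rw [Function.comp_apply, Equiv.swap_apply_of_ne_of_ne, Fin.append_right, Fin.append_right]
    · intro h; have := congrArg Fin.val h; simp at this; omega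
    · intro h; have := congrArg Fin.val h; simp at this; omega

end append

end Groth.Agent.Lib.Helper29.CycDetLib
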