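import Groth.Agent.Lib.Helper29.CycDetH

set_option autoImplicit false

namespace Groth.Agent.Lib.Helper29.CycDetLib

open IsLocalRing CycDet

universe u v w

section exact

variable {R : Type u} [CommRing R] [IsLocalRing R] {K L M : Type v}
  [AddCommGroup K] [Module R K] [AddCommGroup L] [Module R L] [AddCommGroup M] [Module R M]
  {f : K →ₗ[R] L} {g : L →ₗ[R] M} {s : M → L}

theorem spanBefore_cat_add (hs : ∀ y, g (s y) = y) {k m : ℕ} (u : Fin k → L)
    (hu : Submodule.span R (Set.range u) = LinearMap.ker g) (h : Fin m → M) (y : ℕ) :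
    spanBefore R L (Fin.append u (s ∘ h)) (k + y) = (spanBefore R M h y).comap g := by
  rw [spanBefore_append_add]
  have hh : h = g ∘ (s ∘ h) := by
    funext j; simp [hs]
  conv_rhs => rw [hh, spanBefore_comp_linear, Submodule.comap_map_eq]
  rw [hu, sup_comm]

theorem isAdmissible_cat (hs : ∀ y, g (s y) = y) {k m : ℕ} (u : Fin k → L)
    (hu : Submodule.span R (Set.range u) = LinearMap.ker g) (hua : IsAdmissible R L u)
    (h : Fin m → M) (hh : IsAdmissible R M h) :
    IsAdmissible R L (Fin.append u (s ∘ h)) := by
  intro x r hr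
  rcases fin_add_cases x with ⟨i, rfl⟩ | ⟨j, rfl⟩
  · rw [Fin.append_left, Fin.val_castAdd, spanBefore_append_le u _ i.2.le]
    exact hua i r hr
  · rw [Fin.append_right, Fin.val_natAdd, spanBefore_cat_add hs u hu, Submodule.mem_comap, map_smul,
      Function.comp_apply, hs]
    exact hh j r hr

theorem span_range_cat (hs : ∀ y, g (s y) = y) {k m : ℕ} (u : Fin k → L)
    (hu : Submodule.span R (Set.range u) = LinearMap.ker g) (h : Fin m → M)
    (hgen : Submodule.span R (Set.range h) = ⊤) :
    Submodule.span R (Set.range (Fin.append u (s ∘ h))) = ⊤ := by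
  rw [← spanBefore_of_le R _ (le_refl (k + m)), spanBefore_cat_add hs u hu,
    spanBefore_of_le R h le_rfl, hgen, Submodule.comap_top]

theorem isDetFun_cat_right {V : Type w} [AddCommGroup V] [Module (ResidueField R) V]
    (hs : ∀ y, g (s y) = y) {k m : ℕ}
    {Θ : (Fin (k + m) → L) → V} (hΘ : IsDetFun R Θ) (u : Fin k → L)
    (hu : Submodule.span R (Set.range u) = LinearMap.ker g) (hua : IsAdmissible R L u) :
    IsDetFun R (fun h : Fin m → M => Θ (Fin.append u (s ∘ h))) where
  relA := by
    intro h hh a ha
    apply hΘ.relA _ (isAdmissible_cat hs u hu hua h hh) (Fin.natAdd k a)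
    rw [Fin.append_right, Fin.val_natAdd, spanBefore_cat_add hs u hu, Submodule.mem_comap,
      Function.comp_apply, hs]
    exact ha
  relB := by
    intro h h' hh hh' a c hdiff hmem
    apply hΘ.relB _ _ (isAdmissible_cat hs u hu hua h hh) (isAdmissible_cat hs u hu hua h' hh')
      (Fin.natAdd k a) c
    · intro x hx
      rcases fin_add_cases x with ⟨i, rfl⟩ | ⟨j, rfl⟩
      · rw [Fin.append_left, Fin.append_left]
      · rw [Fin.append_right, Fin.append_right, Function.comp_apply, Function.comp_apply,
          hdiff j (fun hh => hx (by rw [hh]))]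
    · rw [Fin.append_right, Fin.append_right, Fin.val_natAdd, spanBefore_cat_add hs u hu,
        Submodule.mem_comap, map_sub, map_smul, Function.comp_apply, Function.comp_apply, hs, hs]
      exact hmem
  relC := by
    intro h a b hh hh' hab hc
    have hsw : Fin.append u (s ∘ (h ∘ Equiv.swap a b)) =
        Fin.append u (s ∘ h) ∘ Equiv.swap (Fin.natAdd k a) (Fin.natAdd k b) :=
      append_swap_right u (s ∘ h) a b
    show Θ _ + Θ _ = 0
    rw [hsw]
    apply hΘ.relC _ (Fin.natAdd k a) (Fin.natAdd k b) (isAdmissible_cat hs u hu hua h hh)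
    · rw [← hsw]; exact isAdmissible_cat hs u hu hua _ hh'
    · rw [Fin.val_natAdd, Fin.val_natAdd]; omega
    · intro r hr
      rw [Fin.append_right, Fin.val_natAdd, spanBefore_cat_add hs u hu, Submodule.mem_comap,
        map_smul, Function.comp_apply, hs]
      exact hc r hr

theorem span_range_comp {k : ℕ} (eK : Fin k → K) :
    Submodule.span R (Set.range (f ∘ eK)) = (Submodule.span R (Set.range eK)).map f := by
  rw [Submodule.map_span, Set.range_comp]

theorem span_range_comp_of_gen (hfg : LinearMap.range f = LinearMap.ker g) {k : ℕ} (eK : Fin k → K)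
    (hgen : Submodule.span R (Set.range eK) = ⊤) :
    Submodule.span R (Set.range (f ∘ eK)) = LinearMap.ker g := by
  rw [span_range_comp, hgen, Submodule.map_top, hfg]

theorem isAdmissible_comp {k : ℕ} (eK : Fin k → K) (h : IsAdmissible R K eK) :
    IsAdmissible R L (f ∘ eK) := by
  intro i r hr
  rw [spanBefore_comp_linear]
  exact ⟨r • eK i, h i r hr, by simp⟩

open Classical in
theorem isDetFun_cat_left {V : Type w} [AddCommGroup V] [Module (ResidueField R) V]
    (hs : ∀ y, g (s y) = y) (hfg : LinearMap.range f = LinearMap.ker g) {k m : ℕ}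
    {Θ : (Fin (k + m) → L) → V} (hΘ : IsDetFun R Θ) (h₀ : Fin m → M) (hh₀ : IsAdmissible R M h₀) :
    IsDetFun R (fun eK : Fin k → K => if Submodule.span R (Set.range eK) = ⊤ then
      Θ (Fin.append (f ∘ eK) (s ∘ h₀)) else 0) where
  relA := by
    intro eK he a ha
    by_cases hgen : Submodule.span R (Set.range eK) = ⊤
    · rw [if_pos hgen]
      apply hΘ.relA _ (isAdmissible_cat hs _ (span_range_comp_of_gen hfg eK hgen)
        (isAdmissible_comp eK he) h₀ hh₀) (Fin.castAdd m a)
      rw [Fin.append_left, Fin.val_castAdd, spanBefore_append_le _ _ a.2.le, spanBefore_comp_linear]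
      exact ⟨eK a, ha, rfl⟩
    · rw [if_neg hgen]
  relB := by
    intro eK eK' he he' a c hdiff hmem
    have hsp := span_range_eq_of_relB eK eK' a c hdiff hmem
    by_cases hgen : Submodule.span R (Set.range eK) = ⊤
    · have hgen' : Submodule.span R (Set.range eK') = ⊤ := by rw [hsp]; exact hgen
      rw [if_pos hgen, if_pos hgen']
      apply hΘ.relB _ _ (isAdmissible_cat hs _ (span_range_comp_of_gen hfg eK hgen)
        (isAdmissible_comp eK he) h₀ hh₀) (isAdmissible_cat hs _
        (span_range_comp_of_gen hfg eK' hgen') (isAdmissible_comp eK' he') h₀ hh₀)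
        (Fin.castAdd m a) c
      · intro x hx
        rcases fin_add_cases x with ⟨i, rfl⟩ | ⟨j, rfl⟩
        · rw [Fin.append_left, Fin.append_left, Function.comp_apply, Function.comp_apply,
            hdiff i (fun hh => hx (by rw [hh]))]
        · rw [Fin.append_right, Fin.append_right]
      · rw [Fin.append_left, Fin.append_left, Fin.val_castAdd, spanBefore_append_le _ _ a.2.le,
          spanBefore_comp_linear]
        exact ⟨eK a - (c : R) • eK' a, hmem, by simp⟩
    · have hgen' : ¬ Submodule.span R (Set.range eK') = ⊤ := by rw [hsp]; exact hgen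
      rw [if_neg hgen, if_neg hgen', smul_zero]
  relC := by
    intro eK a b he he' hab hc
    have hsp : Submodule.span R (Set.range (eK ∘ Equiv.swap a b)) = Submodule.span R (Set.range eK) := by
      rw [range_comp_perm]
    by_cases hgen : Submodule.span R (Set.range eK) = ⊤
    · have hgen' : Submodule.span R (Set.range (eK ∘ Equiv.swap a b)) = ⊤ := by rw [hsp]; exact hgen
      rw [if_pos hgen, if_pos hgen']
      have hsw : Fin.append (f ∘ (eK ∘ Equiv.swap a b)) (s ∘ h₀) =
          Fin.append (f ∘ eK) (s ∘ h₀) ∘ Equiv.swap (Fin.castAdd m a) (Fin.castAdd m b) :=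
        append_swap_left (f ∘ eK) (s ∘ h₀) a b
      rw [hsw]
      apply hΘ.relC _ (Fin.castAdd m a) (Fin.castAdd m b) (isAdmissible_cat hs _
        (span_range_comp_of_gen hfg eK hgen) (isAdmissible_comp eK he) h₀ hh₀)
      · rw [← hsw]
        exact isAdmissible_cat hs _ (span_range_comp_of_gen hfg _ hgen')
          (isAdmissible_comp _ he') h₀ hh₀
      · rw [Fin.val_castAdd, Fin.val_castAdd]; exact hab
      · intro r hr
        rw [Fin.append_left, Fin.val_castAdd, spanBefore_append_le _ _ b.2.le,
          spanBefore_comp_linear]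
        exact ⟨r • eK a, hc r hr, by simp⟩
    · have hgen' : ¬ Submodule.span R (Set.range (eK ∘ Equiv.swap a b)) = ⊤ := by
        rw [hsp]; exact hgen
      rw [if_neg hgen, if_neg hgen', add_zero]

end exact

section gen

variable (R : Type u) [CommRing R] [IsLocalRing R]

theorem exists_generating_adm : ∀ (n : ℕ) (M : Type v) [AddCommGroup M] [Module R M],
    Module.length R M = n →
    ∃ e : Fin n → M, IsAdmissible R M e ∧ Submodule.span R (Set.range e) = ⊤ := by
  intro n
  induction n with
  | zero =>
    intro M _ _ hlen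
    have : Subsingleton M := by
      rw [← Module.length_eq_zero_iff (R := R), hlen]; rfl
    exact ⟨fun j => j.elim0, fun j => j.elim0, Subsingleton.elim _ _⟩
  | succ n ih =>
    intro M _ _ hlen
    obtain ⟨f, hf0, hf, hlenN⟩ := exists_socle_elt (R := R) (M := M) hlen
    obtain ⟨eN, heN, hgen⟩ := ih (M ⧸ Submodule.span R {f}) hlenN
    have hsurj := Submodule.mkQ_surjective (Submodule.span R {f})
    have hs : ∀ y, (Submodule.span R {f}).mkQ (Function.surjInv hsurj y) = y :=
      Function.surjInv_eq hsurj
    refine ⟨Fin.cons f (Function.surjInv hsurj ∘ eN), isAdmissible_liftT hf hs eN heN, ?_⟩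
    rw [← spanBefore_of_le R _ (le_refl (n + 1)), spanBefore_liftT hs, spanBefore_of_le R eN le_rfl,
      hgen, Submodule.comap_top]

end gen

end Groth.Agent.Lib.Helper29.CycDetLib
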