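import Groth.Agent.Lib.Helper29.CycDetI

set_option autoImplicit false

namespace Groth.Agent.Lib.Helper29.CycDetLib

open IsLocalRing CycDet TensorProduct

universe u v w

section final

variable (R : Type u) [CommRing R] [IsLocalRing R]

theorem exists_detEquiv (n : ℕ) (M : Type v) [AddCommGroup M] [Module R M]
    (hlen : Module.length R M = n) :
    ∃ (Δ : (Fin n → M) → ResidueField R) (E : DetOfLen R M n ≃ₗ[ResidueField R] ResidueField R),
      IsDetFun R Δ ∧ (∀ e, IsAdmissible R M e → Submodule.span R (Set.range e) = ⊤ → Δ e ≠ 0) ∧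
      (∀ (V : Type w) [AddCommGroup V] [Module (ResidueField R) V] (Θ : (Fin n → M) → V),
        IsDetFun R Θ → ∃ w : V, ∀ e, IsAdmissible R M e → Θ e = Δ e • w) ∧
      ∀ e : Adm R M n, E (Submodule.Quotient.mk (sym R M e)) = Δ e.1 := by
  obtain ⟨Δ, hΔ, hne, huniv⟩ := exists_universal.{u, v, max u v} R n M hlen
  obtain ⟨w₀, hw₀⟩ := huniv (DetOfLen R M n) (symFun R M n) (symFun_isDetFun R M n)
  obtain ⟨L, hL⟩ := hΔ.lift
  obtain ⟨e₀, he₀, hgen₀⟩ := exists_generating_adm R n M hlen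
  have hall : ∀ x : DetOfLen R M n, ∃ t : ResidueField R, t • w₀ = x := by
    intro x
    induction x using detOfLen_induction with
    | h0 => exact ⟨0, zero_smul _ _⟩
    | hadd x y hx hy =>
      obtain ⟨r, rfl⟩ := hx
      obtain ⟨s, rfl⟩ := hy
      exact ⟨r + s, add_smul _ _ _⟩
    | hsmul t e =>
      rw [← symFun_of_adm, hw₀ e.1 e.2, smul_smul]
      exact ⟨_, rfl⟩
  have hLw : L w₀ = 1 := by
    have h1 : L (symFun R M n e₀) = Δ e₀ :=
      (congrArg L (symFun_of_adm R M ⟨e₀, he₀⟩)).trans (hL ⟨e₀, he₀⟩)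
    rw [hw₀ e₀ he₀, map_smul, smul_eq_mul] at h1
    have h2 := hne e₀ he₀ hgen₀
    exact mul_left_cancel₀ h2 (by rw [h1, mul_one])
  have hinj : Function.Injective L := by
    rw [← LinearMap.ker_eq_bot, eq_bot_iff]
    intro x hx
    obtain ⟨t, rfl⟩ := hall x
    rw [LinearMap.mem_ker, map_smul, hLw, smul_eq_mul, mul_one] at hx
    rw [hx, zero_smul]; exact Submodule.zero_mem _
  have hsurj : Function.Surjective L := by
    intro t
    exact ⟨t • w₀, by rw [map_smul, hLw, smul_eq_mul, mul_one]⟩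
  refine ⟨Δ, LinearEquiv.ofBijective L ⟨hinj, hsurj⟩, hΔ, hne, ?_, fun e => hL e⟩
  intro V _ _ Θ hΘ
  obtain ⟨LΘ, hLΘ⟩ := hΘ.lift
  refine ⟨LΘ w₀, fun e he => ?_⟩
  rw [← map_smul, ← hw₀ e he]
  exact ((congrArg LΘ (symFun_of_adm R M ⟨e, he⟩)).trans (hLΘ ⟨e, he⟩)).symm

theorem main_exact (k m : ℕ) (K L M : Type v) [AddCommGroup K] [Module R K]
    [AddCommGroup L] [Module R L] [AddCommGroup M] [Module R M]
    (f : K →ₗ[R] L) (g : L →ₗ[R] M) (hf : Function.Injective f) (hg : Function.Surjective g)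
    (hfg : LinearMap.range f = LinearMap.ker g)
    (hK : Module.length R K = k) (hM : Module.length R M = m) :
    ∃ γ : (DetOfLen R K k ⊗[ResidueField R] DetOfLen R M m) ≃ₗ[ResidueField R] DetOfLen R L (k + m),
      ∀ (eK : Adm R K k) (eM : Adm R M m) (eL : Adm R L (k + m)),
        (Submodule.Quotient.mk (sym R K eK) : DetOfLen R K k) ≠ 0 →
        (∀ i : Fin k, eL.1 (Fin.castAdd m i) = f (eK.1 i)) →
        (∀ j : Fin m, g (eL.1 (Fin.natAdd k j)) = eM.1 j) →
        γ ((Submodule.Quotient.mk (sym R K eK) : DetOfLen R K k) ⊗ₜ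
          (Submodule.Quotient.mk (sym R M eM) : DetOfLen R M m)) =
          Submodule.Quotient.mk (sym R L eL) := by
  have hL : Module.length R L = ((k + m : ℕ) : ℕ∞) := by
    rw [Module.length_eq_add_of_exact f g hf hg (LinearMap.exact_iff.mpr hfg.symm), hK, hM]
    push_cast; rfl
  obtain ⟨ΔK, EK, hΔK, hneK, hunivK, hEK⟩ := exists_detEquiv.{u, v, u} R k K hK
  obtain ⟨ΔM, EM, hΔM, hneM, hunivM, hEM⟩ := exists_detEquiv.{u, v, u} R m M hM
  obtain ⟨ΔL, EL, hΔL, hneL, hunivL, hEL⟩ := exists_detEquiv.{u, v, u} R (k + m) L hL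
  set s : M → L := Function.surjInv hg with hsdef
  have hs : ∀ y, g (s y) = y := Function.surjInv_eq hg
  obtain ⟨e₀K, he₀K, hgenK⟩ := exists_generating_adm R k K hK
  obtain ⟨h₀, hh₀, hgenM⟩ := exists_generating_adm R m M hM
  obtain ⟨b, hb⟩ := hunivK (ResidueField R) _ (isDetFun_cat_left (f := f) hs hfg hΔL h₀ hh₀)
  have hΔM0 : ΔM h₀ ≠ 0 := hneM h₀ hh₀ hgenM
  have key : ∀ eK : Fin k → K, IsAdmissible R K eK → Submodule.span R (Set.range eK) = ⊤ →
      ∀ h : Fin m → M, IsAdmissible R M h →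
      ΔL (Fin.append (f ∘ eK) (s ∘ h)) = (b / ΔM h₀) * (ΔK eK * ΔM h) := by
    intro eK he hgen h hh
    obtain ⟨a, ha⟩ := hunivM (ResidueField R) _ (isDetFun_cat_right hs hΔL (f ∘ eK)
      (span_range_comp_of_gen hfg eK hgen) (isAdmissible_comp eK he))
    have h1 := ha h₀ hh₀
    have h2 := hb eK he
    rw [if_pos hgen] at h2
    simp only [smul_eq_mul] at h1 h2 ha
    rw [ha h hh]
    have h3 : a = ΔK eK * b / ΔM h₀ := by
      rw [eq_div_iff hΔM0, mul_comm a, ← h1, h2]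
    rw [h3]
    field_simp
  have hb0 : b ≠ 0 := by
    intro hb0
    have h2 := hb e₀K he₀K
    rw [if_pos hgenK, hb0, smul_zero] at h2
    exact hneL _ (isAdmissible_cat hs _ (span_range_comp_of_gen hfg e₀K hgenK)
      (isAdmissible_comp e₀K he₀K) h₀ hh₀)
      (span_range_cat hs _ (span_range_comp_of_gen hfg e₀K hgenK) h₀ hgenM) h2
  have hc : b / ΔM h₀ ≠ 0 := div_ne_zero hb0 hΔM0
  refine ⟨(TensorProduct.congr EK EM) ≪≫ₗ (TensorProduct.lid (ResidueField R) (ResidueField R)) ≪≫ₗ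
    (LinearEquiv.smulOfUnit (Units.mk0 _ hc)) ≪≫ₗ EL.symm, ?_⟩
  intro eK eM eL hne hleft hright
  have hgen : Submodule.span R (Set.range eK.1) = ⊤ := by
    by_contra hcon
    obtain ⟨a, ha⟩ := exists_mem_spanBefore_of_ne_top hK eK.1 hcon
    apply hne
    have := (symFun_isDetFun R K k).relA eK.1 eK.2 a ha
    rwa [symFun_of_adm] at this
  have hsm : ∀ (a : (ResidueField R)ˣ) (x : ResidueField R),
      (LinearEquiv.smulOfUnit a : ResidueField R ≃ₗ[ResidueField R] ResidueField R) x =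
        (a : ResidueField R) * x := fun a x => rfl
  simp only [LinearEquiv.trans_apply, TensorProduct.congr_tmul, TensorProduct.lid_tmul,
    hsm, hEK, hEM]
  rw [LinearEquiv.symm_apply_eq, hEL]
  have hadm := isAdmissible_cat hs _ (span_range_comp_of_gen hfg eK.1 hgen)
    (isAdmissible_comp eK.1 eK.2) eM.1 eM.2
  rw [← tri_eq hΔL (Fin.append (f ∘ eK.1) (s ∘ eM.1)) eL.1 hadm ?_, key eK.1 eK.2 hgen eM.1 eM.2]
  · rfl
  · intro x
    rcases fin_add_cases x with ⟨i, rfl⟩ | ⟨j, rfl⟩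
    · rw [Fin.append_left, hleft, Function.comp_apply, sub_self]
      exact Submodule.zero_mem _
    · rw [Fin.append_right, Fin.val_natAdd, spanBefore_cat_add hs _
        (span_range_comp_of_gen hfg eK.1 hgen), Submodule.mem_comap, map_sub, Function.comp_apply,
        hs, hright, sub_self]
      exact Submodule.zero_mem _

end final

end Groth.Agent.Lib.Helper29.CycDetLib
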