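import Groth.Agent.Lib.Helper52.KrullAkizuki
import Groth.Agent.Lib.Helper29.LatticeE
import Groth.Agent.S6320
import Mathlib

/-!
# Degree inequality for generically finite extensions of one-dimensional local domains, part A
-/

set_option autoImplicit false

namespace Groth.Agent.Lib.Helper29.Deg

universe u

open IsLocalRing

section basic

variable {A B K L : Type u}
    [CommRing A] [IsDomain A] [IsNoetherianRing A] [IsLocalRing A]
    [CommRing B] [IsDomain B] [Algebra A B] [FaithfulSMul A B]
    [Field K] [Field L] [Algebra A K] [IsFractionRing A K] [Algebra B L] [IsFractionRing B L]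
    [Algebra K L] [Algebra A L] [IsScalarTower A K L] [IsScalarTower A B L] [FiniteDimensional K L]

omit [IsNoetherianRing A] [IsLocalRing A] [FaithfulSMul A B] in
include K L in
theorem isAlgebraic_of_mem (b : B) : IsAlgebraic A b := by
  have h1 : IsAlgebraic K (algebraMap B L b) := Algebra.IsAlgebraic.isAlgebraic _
  have h2 : IsAlgebraic A (algebraMap B L b) := (IsFractionRing.isAlgebraic_iff A K L).mpr h1
  exact (isAlgebraic_algebraMap_iff (IsFractionRing.injective B L)).mp h2

variable (A B L) in
/-- the embedding `B → L` as an `A`-linear map -/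
noncomputable def emb : B →ₗ[A] L := (IsScalarTower.toAlgHom A B L).toLinearMap

omit [IsDomain A] [IsNoetherianRing A] [IsLocalRing A] [FaithfulSMul A B] in
theorem emb_apply (b : B) : emb A B L b = algebraMap B L b := rfl

omit [IsDomain A] [IsNoetherianRing A] [IsLocalRing A] [FaithfulSMul A B] in
theorem emb_injective : Function.Injective (emb A B L) := IsFractionRing.injective B L

variable (A B K L) in
/-- the embedding `B → K^r` -/
noncomputable def iota : B →ₗ[A] (Fin (Module.finrank K L) → K) :=
  ((Module.finBasis K L).equivFun.restrictScalars A).toLinearMap ∘ₗ emb A B L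

omit [IsDomain A] [IsNoetherianRing A] [IsLocalRing A] [FaithfulSMul A B] [IsFractionRing A K] in
theorem iota_injective : Function.Injective (iota A B K L) := by
  unfold iota
  exact ((Module.finBasis K L).equivFun.restrictScalars A).injective.comp emb_injective

omit [IsDomain A] [IsNoetherianRing A] [IsLocalRing A] [IsDomain B] [FaithfulSMul A B] in
theorem restrictScalars_span_eq (x : A) :
    (Ideal.span {algebraMap A B x} : Ideal B).restrictScalars A =
      Ideal.span {x} • (⊤ : Submodule A B) := by
  rw [Submodule.ideal_span_singleton_smul]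
  ext b
  rw [Submodule.restrictScalars_mem, Ideal.mem_span_singleton', Submodule.mem_smul_pointwise_iff_exists]
  constructor
  · rintro ⟨c, rfl⟩
    exact ⟨c, Submodule.mem_top, by rw [Algebra.smul_def, mul_comm]⟩
  · rintro ⟨c, -, rfl⟩
    exact ⟨c, by rw [Algebra.smul_def, mul_comm]⟩

variable (A B) in
/-- `B/xB` with the quotient by an `A`-submodule -/
noncomputable def quotEquiv (x : A) :
    (B ⧸ (Ideal.span {x} • (⊤ : Submodule A B))) ≃ₗ[A] (B ⧸ (Ideal.span {algebraMap A B x} : Ideal B)) :=
  (Submodule.quotEquivOfEq _ _ (restrictScalars_span_eq x).symm).trans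
    (Submodule.Quotient.restrictScalarsEquiv A (Ideal.span {algebraMap A B x} : Ideal B))

include K L in
omit [IsLocalRing A] [FaithfulSMul A B] in
/-- Krull–Akizuki: `ℓ_A(B/xB) ≤ [L:K] ℓ_A(A/x)` -/
theorem length_quot_le (hdim : ringKrullDim A = 1) (x : A) (hx0 : x ≠ 0) :
    Module.length A (B ⧸ (Ideal.span {algebraMap A B x} : Ideal B)) ≤
      (Module.finrank K L : ℕ∞) * Module.length A (A ⧸ Ideal.span ({x} : Set A)) := by
  haveI := Lattice.krullDimLE_one hdim
  rw [← (quotEquiv A B x).length_eq]
  exact Groth.Agent.Lib.Helper52.KA.length_quot_smul_le _ B (iota A B K L) iota_injective x hx0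

omit [IsLocalRing A] [FaithfulSMul A B] [IsDomain B] in
theorem length_quot_base_ne_top (hdim : ringKrullDim A = 1) (x : A) (hx0 : x ≠ 0) :
    Module.length A (A ⧸ Ideal.span ({x} : Set A)) ≠ ⊤ := by
  haveI := Lattice.krullDimLE_one hdim
  exact Groth.Agent.Lib.Helper52.KA.length_quotient_ne_top _
    (by rwa [Ne, Ideal.span_singleton_eq_bot])

include K L in
omit [IsLocalRing A] [FaithfulSMul A B] in
theorem length_quot_ne_top (hdim : ringKrullDim A = 1) (x : A) (hx0 : x ≠ 0) :
    Module.length A (B ⧸ (Ideal.span {algebraMap A B x} : Ideal B)) ≠ ⊤ := by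
  refine ne_top_of_le_ne_top ?_ (length_quot_le (K := K) (L := L) hdim x hx0)
  exact WithTop.mul_ne_top (ENat.coe_ne_top _) (length_quot_base_ne_top hdim x hx0)

include K L in
omit [IsLocalRing A] [FaithfulSMul A B] in
theorem isFiniteLength_quot (hdim : ringKrullDim A = 1) (x : A) (hx0 : x ≠ 0) :
    IsFiniteLength B (B ⧸ (Ideal.span {algebraMap A B x} : Ideal B)) := by
  have h := Module.length_ne_top_iff.mp (length_quot_ne_top (K := K) (L := L) (B := B) hdim x hx0)
  rw [isFiniteLength_iff_isNoetherian_isArtinian] at h ⊢
  exact h.imp (fun h => isNoetherian_of_tower A h) (fun h => isArtinian_of_tower A h)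

end basic

end Groth.Agent.Lib.Helper29.Deg
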