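import Groth.Agent.Lib.Helper29.TameB

/-!
# Tame symbols, part C: the length formula in residue-field form
-/

set_option autoImplicit false

namespace Groth.Agent.Lib.Helper29.Tame

universe u

open IsLocalRing

section formula

variable {A : Type u} [CommRing A] [IsLocalRing A] {R : Type u} [CommRing R] [Algebra A R]
  [Module.Finite A R]
  [hloc : ∀ n : MaximalSpectrum R, IsLocalHom (algebraMap A (Localization.AtPrime n.asIdeal))]

/-- `R/n ≃ κ(R_n)` as `A`-modules -/
noncomputable def quotEquivResidue (n : MaximalSpectrum R) :
    (R ⧸ n.asIdeal) ≃ₗ[A] ResidueField (Localization.AtPrime n.asIdeal) :=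
  haveI := n.isMaximal
  { (IsLocalization.AtPrime.equivQuotMaximalIdeal n.asIdeal
      (Localization.AtPrime n.asIdeal)).toAddEquiv with
    map_smul' := by
      intro a y
      obtain ⟨x, rfl⟩ := Ideal.Quotient.mk_surjective y
      show IsLocalization.AtPrime.equivQuotMaximalIdeal n.asIdeal
          (Localization.AtPrime n.asIdeal) (a • Ideal.Quotient.mk _ x) =
        a • IsLocalization.AtPrime.equivQuotMaximalIdeal n.asIdeal
          (Localization.AtPrime n.asIdeal) (Ideal.Quotient.mk _ x)
      have e1 : a • (Ideal.Quotient.mk n.asIdeal x) = Ideal.Quotient.mk n.asIdeal (a • x) := rfl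
      rw [e1, IsLocalization.AtPrime.equivQuotMaximalIdeal_apply_mk,
        IsLocalization.AtPrime.equivQuotMaximalIdeal_apply_mk]
      have e2 : algebraMap R (Localization.AtPrime n.asIdeal) (a • x) =
          a • algebraMap R (Localization.AtPrime n.asIdeal) x := by
        rw [Algebra.smul_def, map_mul, ← IsScalarTower.algebraMap_apply, ← Algebra.smul_def]
      rw [e2]
      rfl }

theorem finrank_quot_eq (n : MaximalSpectrum R) :
    Module.finrank (A ⧸ n.asIdeal.comap (algebraMap A R)) (R ⧸ n.asIdeal) =
      Module.finrank (ResidueField A) (ResidueField (Localization.AtPrime n.asIdeal)) := by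
  haveI := n.isMaximal
  haveI hmax : (n.asIdeal.comap (algebraMap A R)).IsMaximal := by
    rw [comap_maximal n]; infer_instance
  haveI : Module.Finite (A ⧸ n.asIdeal.comap (algebraMap A R)) (R ⧸ n.asIdeal) :=
    Module.Finite.of_restrictScalars_finite A _ _
  have h1 := Groth.Agent.S6320.length_quotient_eq_finrank (A := A) n.asIdeal
  have h2 := (quotEquivResidue (A := A) n).length_eq
  haveI : Module.Finite A (ResidueField (Localization.AtPrime n.asIdeal)) :=
    Module.Finite.equiv (quotEquivResidue (A := A) n)
  haveI : Module.Finite (ResidueField A) (ResidueField (Localization.AtPrime n.asIdeal)) :=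
    Module.Finite.of_restrictScalars_finite A _ _
  have h3 : Module.length A (ResidueField (Localization.AtPrime n.asIdeal)) =
      (Module.finrank (ResidueField A) (ResidueField (Localization.AtPrime n.asIdeal)) : ℕ∞) := by
    rw [Module.length_eq_of_surjective (S := A) (R := ResidueField A)
      (M := ResidueField (Localization.AtPrime n.asIdeal)) residue_surjective]
    exact Module.length_eq_finrank _ _
  rw [h1, h3] at h2
  exact_mod_cast h2

/-- `ℓ_A(R/x) = Σ_n [κ(R_n):κ(A)] · ord_{R_n}(x)` -/
theorem length_quot_span_eq_sum (x : R) (hx : IsFiniteLength R (R ⧸ Ideal.span {x})) :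
    Module.length A (R ⧸ Ideal.span {x}) =
      ∑ᶠ n : MaximalSpectrum R,
        (Module.finrank (ResidueField A) (ResidueField (Localization.AtPrime n.asIdeal)) : ℕ∞) *
          Ring.ord (Localization.AtPrime n.asIdeal)
            (algebraMap R (Localization.AtPrime n.asIdeal) x) := by
  haveI := finite_maximalSpectrum A (R := R)
  have hover : ∀ n : MaximalSpectrum R,
      n.asIdeal.comap (algebraMap A R) = maximalIdeal A := comap_maximal
  have hfin : ∀ n : MaximalSpectrum R,
      Module.Finite (A ⧸ n.asIdeal.comap (algebraMap A R)) (R ⧸ n.asIdeal) := fun n =>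
    Module.Finite.of_restrictScalars_finite A _ _
  rw [Groth.Agent.S6320.result hover hfin (R ⧸ Ideal.span {x}) hx]
  apply finsum_congr
  intro n
  rw [finrank_quot_eq (A := A) n, length_localized_quot_span]

end formula

end Groth.Agent.Lib.Helper29.Tame
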