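import Groth.Agent.Lib.Helper29.DegA
import Groth.Agent.Lib.Helper29.TameC

/-!
# Degree inequality, part B: maximal ideals of `B` and the sum formula
-/

set_option autoImplicit false

namespace Groth.Agent.Lib.Helper29.Deg

universe u

open IsLocalRing

section maxIdeals

variable {A B K L : Type u}
    [CommRing A] [IsDomain A] [IsNoetherianRing A] [IsLocalRing A]
    [CommRing B] [IsDomain B] [Algebra A B] [FaithfulSMul A B]
    [Field K] [Field L] [Algebra A K] [IsFractionRing A K] [Algebra B L] [IsFractionRing B L]
    [Algebra K L] [Algebra A L] [IsScalarTower A K L] [IsScalarTower A B L] [FiniteDimensional K L]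

omit [IsNoetherianRing A] [FaithfulSMul A B] [IsDomain B] in
theorem comap_eq_maximalIdeal (hdim : ringKrullDim A = 1) {x : A} (hx0 : x ≠ 0)
    (m : Ideal B) [m.IsPrime] (hxm : algebraMap A B x ∈ m) :
    m.comap (algebraMap A B) = maximalIdeal A := by
  haveI := Lattice.krullDimLE_one hdim
  have hp : (m.comap (algebraMap A B)).IsPrime := inferInstance
  have hne : m.comap (algebraMap A B) ≠ ⊥ := by
    intro h
    have : x ∈ m.comap (algebraMap A B) := hxm
    rw [h] at this
    exact hx0 this
  exact IsLocalRing.eq_maximalIdeal (hp.isMaximal_of_ne_bot hne)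

include K L in
omit [IsNoetherianRing A] [FaithfulSMul A B] in
/-- a maximal ideal of `B` not containing `x` is zero -/
theorem eq_bot_of_not_mem (hdim : ringKrullDim A = 1) {x : A} (hx : x ∈ maximalIdeal A)
    (m : Ideal B) [hm : m.IsMaximal] (hxm : algebraMap A B x ∉ m) : m = ⊥ := by
  haveI := Lattice.krullDimLE_one hdim
  have hp : (m.comap (algebraMap A B)).IsPrime := inferInstance
  have hbot : m.comap (algebraMap A B) = ⊥ := by
    by_contra hne
    have := IsLocalRing.eq_maximalIdeal (hp.isMaximal_of_ne_bot hne)
    apply hxm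
    have hx' : x ∈ m.comap (algebraMap A B) := by rw [this]; exact hx
    exact hx'
  rw [eq_bot_iff]
  intro b hb
  rw [Ideal.mem_bot]
  by_contra hb0
  obtain ⟨r, hr0, hr⟩ := (isAlgebraic_of_mem (K := K) (L := L) (A := A) b).exists_nonzero_dvd
    (mem_nonZeroDivisors_of_ne_zero hb0)
  have : r ∈ m.comap (algebraMap A B) := Ideal.mem_of_dvd m hr hb
  rw [hbot] at this
  exact hr0 this

omit [IsDomain A] [IsNoetherianRing A] [IsLocalRing A] [IsDomain B] [FaithfulSMul A B] in
/-- the local term at a prime not containing `x` vanishes -/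
theorem term_eq_zero_of_not_mem {x : A} (m : Ideal B) [m.IsPrime] (hxm : algebraMap A B x ∉ m) :
    Module.length (Localization.AtPrime m)
      (Localization.AtPrime m ⧸
        Ideal.span ({algebraMap A (Localization.AtPrime m) x} : Set _)) = 0 := by
  have hu : IsUnit (algebraMap A (Localization.AtPrime m) x) := by
    rw [IsScalarTower.algebraMap_apply A B (Localization.AtPrime m),
      IsLocalization.AtPrime.isUnit_to_map_iff _ m]
    exact hxm
  rw [Module.length_eq_zero_iff, Submodule.Quotient.subsingleton_iff]
  exact Ideal.span_singleton_eq_top.mpr hu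

omit [IsDomain B] in
/-- finitely many maximal ideals, if they all contain an ideal with Artinian quotient -/
theorem finite_maximalSpectrum_of (I : Ideal B) [IsArtinianRing (B ⧸ I)]
    (h : ∀ m : MaximalSpectrum B, I ≤ m.asIdeal) : Finite (MaximalSpectrum B) := by
  let f : MaximalSpectrum B → PrimeSpectrum (B ⧸ I) := fun m =>
    haveI := m.isMaximal
    ⟨m.asIdeal.map (Ideal.Quotient.mk I),
      Ideal.map_isPrime_of_surjective Ideal.Quotient.mk_surjective (by
        rw [Ideal.mk_ker]; exact h m)⟩
  refine Finite.of_injective f ?_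
  intro m m' hmm
  have h1 : m.asIdeal.map (Ideal.Quotient.mk I) = m'.asIdeal.map (Ideal.Quotient.mk I) :=
    congrArg PrimeSpectrum.asIdeal hmm
  have h2 := congrArg (Ideal.comap (Ideal.Quotient.mk I)) h1
  rw [Ideal.comap_map_mk (h m), Ideal.comap_map_mk (h m')] at h2
  exact MaximalSpectrum.ext h2

include K L in
omit [IsLocalRing A] [FaithfulSMul A B] in
theorem isArtinianRing_quot (hdim : ringKrullDim A = 1) (x : A) (hx0 : x ≠ 0) :
    IsArtinianRing (B ⧸ (Ideal.span {algebraMap A B x} : Ideal B)) := by
  have h := isFiniteLength_quot (K := K) (L := L) (B := B) hdim x hx0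
  rw [isFiniteLength_iff_isNoetherian_isArtinian] at h
  exact isArtinian_of_tower B h.2

end maxIdeals

end Groth.Agent.Lib.Helper29.Deg
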