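import Groth.Agent.Lib.Helper29.DegB

/-!
# Degree inequality, part C: the sum formula
-/

set_option autoImplicit false

namespace Groth.Agent.Lib.Helper29.Deg

universe u

open IsLocalRing

section sumFormula

variable {A B K L : Type u}
    [CommRing A] [IsDomain A] [IsNoetherianRing A] [IsLocalRing A]
    [CommRing B] [IsDomain B] [Algebra A B] [FaithfulSMul A B]
    [Field K] [Field L] [Algebra A K] [IsFractionRing A K] [Algebra B L] [IsFractionRing B L]
    [Algebra K L] [Algebra A L] [IsScalarTower A K L] [IsScalarTower A B L] [FiniteDimensional K L]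

include K L in
omit [IsLocalRing A] [FaithfulSMul A B] in
theorem finite_quot_maximal (hdim : ringKrullDim A = 1) {x : A} (hx0 : x ≠ 0)
    (n : Ideal B) (hn : algebraMap A B x ∈ n) : Module.Finite A (B ⧸ n) := by
  have h := Module.length_ne_top_iff.mp (length_quot_ne_top (K := K) (L := L) (B := B) hdim x hx0)
  rw [isFiniteLength_iff_isNoetherian_isArtinian] at h
  haveI := h.1
  have hle : (Ideal.span {algebraMap A B x} : Ideal B) ≤ n := by
    rw [Ideal.span_le, Set.singleton_subset_iff]; exact hn
  exact Module.Finite.of_surjective (Ideal.Quotient.factorₐ A hle).toLinearMap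
    (Ideal.Quotient.factor_surjective hle)

include K L in
omit [FaithfulSMul A B] in
theorem sum_eq_length (hdim : ringKrullDim A = 1) {x : A} (hx0 : x ≠ 0)
    (hall : ∀ n : MaximalSpectrum B, algebraMap A B x ∈ n.asIdeal) :
    (∑ᶠ m : MaximalSpectrum B,
          Module.length A (B ⧸ m.asIdeal) *
            Module.length (Localization.AtPrime m.asIdeal)
              (Localization.AtPrime m.asIdeal ⧸
                Ideal.span ({algebraMap A (Localization.AtPrime m.asIdeal) x} : Set _))) =
    Module.length A (B ⧸ (Ideal.span {algebraMap A B x} : Ideal B)) := by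
  haveI := isArtinianRing_quot (K := K) (L := L) (B := B) hdim x hx0
  have hle : ∀ m : MaximalSpectrum B, (Ideal.span {algebraMap A B x} : Ideal B) ≤ m.asIdeal := by
    intro m
    rw [Ideal.span_le, Set.singleton_subset_iff]; exact hall m
  haveI : Finite (MaximalSpectrum B) := finite_maximalSpectrum_of _ hle
  have hover : ∀ n : MaximalSpectrum B,
      n.asIdeal.comap (algebraMap A B) = maximalIdeal A := fun n =>
    haveI := n.isMaximal
    comap_eq_maximalIdeal hdim hx0 n.asIdeal (hall n)
  have hfinA : ∀ n : MaximalSpectrum B, Module.Finite A (B ⧸ n.asIdeal) := fun n =>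
    finite_quot_maximal (K := K) (L := L) hdim hx0 n.asIdeal (hall n)
  have hfin : ∀ n : MaximalSpectrum B,
      Module.Finite (A ⧸ n.asIdeal.comap (algebraMap A B)) (B ⧸ n.asIdeal) := fun n =>
    haveI := hfinA n
    Module.Finite.of_restrictScalars_finite A _ _
  rw [Groth.Agent.S6320.result hover hfin (B ⧸ (Ideal.span {algebraMap A B x} : Ideal B))
    (isFiniteLength_quot (K := K) (L := L) hdim x hx0)]
  apply finsum_congr
  intro n
  haveI := n.isMaximal
  congr 1
  · -- residue degree
    haveI : (n.asIdeal.comap (algebraMap A B)).IsMaximal := by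
      rw [hover n]; infer_instance
    letI : Field (A ⧸ n.asIdeal.comap (algebraMap A B)) := Ideal.Quotient.field _
    haveI := hfin n
    rw [Module.length_eq_of_surjective (S := A) (R := A ⧸ n.asIdeal.comap (algebraMap A B))
      (M := B ⧸ n.asIdeal) Ideal.Quotient.mk_surjective]
    exact Module.length_eq_finrank _ _
  · rw [Tame.length_localized_quot_span, Ring.ord,
      IsScalarTower.algebraMap_apply A B (Localization.AtPrime n.asIdeal)]

end sumFormula

end Groth.Agent.Lib.Helper29.Deg
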