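import Groth.Agent.Lib.Helper29.TameD

/-!
# Tame symbols, part E: global representatives of local parameters
-/

set_option autoImplicit false

namespace Groth.Agent.Lib.Helper29.Tame

universe u

open IsLocalRing

section powle

variable {C : Type u} [CommRing C] [IsLocalRing C] [IsNoetherianRing C] [Ring.KrullDimLE 1 C]

/-- in a Noetherian local ring of dimension `≤ 1` a power of the maximal ideal lies in the ideal
generated by a non-zero-divisor -/
theorem exists_maximalIdeal_pow_le (π : C) (hπ : π ∈ nonZeroDivisors C) :
    ∃ k : ℕ, maximalIdeal C ^ k ≤ Ideal.span {π} := by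
  apply Ideal.exists_pow_le_of_le_radical_of_fg _ (IsNoetherian.noetherian _)
  rw [Ideal.radical_eq_sInf]
  refine le_sInf ?_
  rintro P ⟨hP1, hP2⟩
  rcases Ring.krullDimLE_one_iff.mp inferInstance P hP2 with hmin | hmax
  · exfalso
    exact notMem_nonZeroDivisors_of_mem_mem_minimalPrimes
      (hP1 (Ideal.mem_span_singleton_self π)) hmin hπ
  · rw [IsLocalRing.eq_maximalIdeal hmax]

end powle

section crt

variable {R : Type u} [CommRing R] [IsNoetherianRing R] [Ring.KrullDimLE 1 R]
  [Finite (MaximalSpectrum R)]

/-- a non-zero-divisor of `R_q` is, up to a unit, the image of an element of `R` lying in no other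
maximal ideal -/
theorem exists_global_associate (q : MaximalSpectrum R) (π : Localization.AtPrime q.asIdeal)
    (hπ : π ∈ nonZeroDivisors (Localization.AtPrime q.asIdeal)) :
    ∃ p : R, Associated (algebraMap R (Localization.AtPrime q.asIdeal) p) π ∧
      ∀ q' : MaximalSpectrum R, q' ≠ q → p ∉ q'.asIdeal := by
  classical
  haveI := q.isMaximal
  haveI : Ring.KrullDimLE 1 (Localization.AtPrime q.asIdeal) :=
    krullDimLE_one_localization q.asIdeal
  haveI : IsNoetherianRing (Localization.AtPrime q.asIdeal) :=
    IsLocalization.isNoetherianRing q.asIdeal.primeCompl _ inferInstance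
  obtain ⟨k, hk⟩ := exists_maximalIdeal_pow_le π hπ
  obtain ⟨p₀, s, hps⟩ := IsLocalization.exists_mk'_eq q.asIdeal.primeCompl π
  -- CRT
  let I : MaximalSpectrum R → Ideal R := fun q' => if q' = q then q.asIdeal ^ (k + 1) else q'.asIdeal
  let x : MaximalSpectrum R → R := fun q' => if q' = q then p₀ else 1
  have hI : Pairwise (Function.onFun IsCoprime I) := by
    intro q₁ q₂ h12
    haveI := q₁.isMaximal
    haveI := q₂.isMaximal
    show IsCoprime (I q₁) (I q₂)
    by_cases h1 : q₁ = q
    · have h2 : q₂ ≠ q := fun h => h12 (h1.trans h.symm)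
      simp only [I, h1, h2, if_true, if_false]
      apply IsCoprime.pow_left
      exact Ideal.isCoprime_of_isMaximal (fun h => h2 (MaximalSpectrum.ext h.symm))
    · by_cases h2 : q₂ = q
      · simp only [I, h1, h2, if_true, if_false]
        apply IsCoprime.pow_right
        exact Ideal.isCoprime_of_isMaximal (fun h => h1 (MaximalSpectrum.ext h))
      · simp only [I, h1, h2, if_false]
        exact Ideal.isCoprime_of_isMaximal (fun h => h12 (MaximalSpectrum.ext h))
  obtain ⟨p, hp⟩ := Ideal.exists_forall_sub_mem_ideal hI x
  refine ⟨p, ?_, ?_⟩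
  · -- at `q`
    have h1 : p - p₀ ∈ q.asIdeal ^ (k + 1) := by
      have := hp q
      simpa only [I, x, if_true] using this
    have h2 : algebraMap R (Localization.AtPrime q.asIdeal) (p - p₀) ∈
        maximalIdeal (Localization.AtPrime q.asIdeal) * Ideal.span {π} := by
      have h3 : algebraMap R (Localization.AtPrime q.asIdeal) (p - p₀) ∈
          (q.asIdeal ^ (k + 1)).map (algebraMap R (Localization.AtPrime q.asIdeal)) :=
        Ideal.mem_map_of_mem _ h1
      rw [Ideal.map_pow, IsLocalization.AtPrime.map_eq_maximalIdeal, pow_succ'] at h3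
      exact Ideal.mul_mono_right hk h3
    obtain ⟨t, ht, hteq⟩ := Ideal.mem_mul_span_singleton.mp h2
    have hs : π * algebraMap R (Localization.AtPrime q.asIdeal) (s : R) =
        algebraMap R (Localization.AtPrime q.asIdeal) p₀ := by
      rw [← hps]
      exact IsLocalization.mk'_spec _ _ _
    have hsu : IsUnit (algebraMap R (Localization.AtPrime q.asIdeal) (s : R)) :=
      IsLocalization.map_units _ s
    have hu : IsUnit (algebraMap R (Localization.AtPrime q.asIdeal) (s : R) + t) := by
      by_contra hnu
      have hm : algebraMap R (Localization.AtPrime q.asIdeal) (s : R) + t ∈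
          maximalIdeal (Localization.AtPrime q.asIdeal) := (IsLocalRing.mem_maximalIdeal _).mpr hnu
      have := (Ideal.add_mem_iff_left _ ht).mp hm
      exact ((IsLocalRing.mem_maximalIdeal _).mp this) hsu
    obtain ⟨v, hv⟩ := hu
    refine Associated.symm ⟨v, ?_⟩
    rw [hv, mul_add, hs, mul_comm π t, hteq, map_sub]
    ring
  · intro q' hq'
    have h1 : p - 1 ∈ q'.asIdeal := by
      have := hp q'
      simpa only [I, x, hq', if_false] using this
    intro hpq
    have : (1 : R) ∈ q'.asIdeal := by
      have := Ideal.sub_mem _ hpq h1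
      simpa using this
    exact q'.isMaximal.ne_top ((Ideal.eq_top_iff_one _).mpr this)

end crt

end Groth.Agent.Lib.Helper29.Tame
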