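import Groth.Agent.Lib.Helper29.DegC
import Groth.Agent.Lib.Helper29.TameE

/-!
# Degree inequality, part D: equality forces finiteness
-/

set_option autoImplicit false

namespace Groth.Agent.Lib.Helper29.Deg

universe u

open IsLocalRing

section converse

variable {A B K L : Type u}
    [CommRing A] [IsDomain A] [IsNoetherianRing A] [IsLocalRing A]
    [CommRing B] [IsDomain B] [Algebra A B] [FaithfulSMul A B]
    [Field K] [Field L] [Algebra A K] [IsFractionRing A K] [Algebra B L] [IsFractionRing B L]
    [Algebra K L] [Algebra A L] [IsScalarTower A K L] [IsScalarTower A B L] [FiniteDimensional K L]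

include K in
omit [IsNoetherianRing A] [IsLocalRing A] [FaithfulSMul A B] in
/-- every element of `L` has a nonzero `A`-multiple in `B` -/
theorem exists_smul_eq (l : L) : ∃ d : A, d ≠ 0 ∧ ∃ c : B, d • l = algebraMap B L c := by
  obtain ⟨b, s, hs, rfl⟩ := IsFractionRing.div_surjective (A := B) l
  obtain ⟨c, d, hd, h⟩ :=
    (isAlgebraic_of_mem (K := K) (L := L) (A := A) s).exists_smul_eq_mul b hs
  refine ⟨d, hd, c, ?_⟩
  have hs0 : algebraMap B L s ≠ 0 := by
    rw [Ne, map_eq_zero_iff _ (IsFractionRing.injective B L)]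
    exact nonZeroDivisors.ne_zero hs
  have h' := congrArg (algebraMap B L) h
  rw [map_mul] at h'
  have h'' : algebraMap B L (d • b) = d • algebraMap B L b :=
    (IsScalarTower.toAlgHom A B L).toLinearMap.map_smul d b
  rw [h''] at h'
  rw [← smul_div_assoc, h', mul_comm, mul_div_assoc, div_self hs0, mul_one]

include K L in
omit [IsLocalRing A] [FaithfulSMul A B] in
/-- a finite `A`-submodule `M'` of `B` of full rank with `M' + xB = B` -/
theorem exists_good_submodule (hdim : ringKrullDim A = 1) (x : A) (hx0 : x ≠ 0) :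
    ∃ M' : Submodule A B, M'.FG ∧ Submodule.IsLattice K (M'.map (emb A B L)) ∧
      ∀ b : B, ∃ m ∈ M', ∃ c : B, b = m + x • c := by
  have h := Module.length_ne_top_iff.mp (length_quot_ne_top (K := K) (L := L) (B := B) hdim x hx0)
  rw [isFiniteLength_iff_isNoetherian_isArtinian] at h
  haveI := h.1
  obtain ⟨n, s, hs⟩ := Module.Finite.exists_fin (R := A)
    (M := B ⧸ (Ideal.span {algebraMap A B x} : Ideal B))
  choose t ht using fun i => Ideal.Quotient.mk_surjective (s i)
  let e := Module.finBasis K L
  choose d hd c hc using fun i => exists_smul_eq (K := K) (A := A) (B := B) (e i)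
  refine ⟨Submodule.span A (Set.range t ∪ Set.range c),
    Submodule.fg_span ((Set.finite_range t).union (Set.finite_range c)), ⟨?_, ?_⟩, ?_⟩
  · exact Submodule.FG.map _ (Submodule.fg_span ((Set.finite_range t).union (Set.finite_range c)))
  · rw [eq_top_iff, ← e.span_eq, Submodule.span_le]
    rintro _ ⟨i, rfl⟩
    have hK : algebraMap A K (d i) ≠ 0 := by
      rw [Ne, map_eq_zero_iff _ (IsFractionRing.injective A K)]; exact hd i
    have h1 : e i = (algebraMap A K (d i))⁻¹ • (d i • e i) := by
      rw [← algebraMap_smul K (d i), smul_smul, inv_mul_cancel₀ hK, one_smul]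
    rw [h1]
    refine Submodule.smul_mem _ _ (Submodule.subset_span ?_)
    rw [hc i]
    exact Submodule.mem_map.mpr ⟨c i, Submodule.subset_span (Or.inr ⟨i, rfl⟩), rfl⟩
  · intro b
    let q : B →ₗ[A] B ⧸ (Ideal.span {algebraMap A B x} : Ideal B) :=
      (Ideal.Quotient.mkₐ A (Ideal.span {algebraMap A B x} : Ideal B)).toLinearMap
    have hq : ∀ y, q y = Ideal.Quotient.mk _ y := fun y => rfl
    have h1 : (Submodule.span A (Set.range t)).map q = ⊤ := by
      rw [Submodule.map_span, ← Set.range_comp, ← hs]
      congr 2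
      funext i
      exact ht i
    have h2 : q b ∈ (Submodule.span A (Set.range t)).map q := by rw [h1]; trivial
    obtain ⟨m, hm, hmb⟩ := Submodule.mem_map.mp h2
    have h3 : b - m ∈ (Ideal.span {algebraMap A B x} : Ideal B) := by
      rw [← Ideal.Quotient.eq_zero_iff_mem, map_sub, ← hq, ← hq, hmb, sub_self]
    obtain ⟨c', hc'⟩ := Ideal.mem_span_singleton'.mp h3
    refine ⟨m, Submodule.span_mono Set.subset_union_left hm, c', ?_⟩
    rw [Algebra.smul_def, mul_comm, hc']
    ring

end converse

end Groth.Agent.Lib.Helper29.Deg
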