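import Groth.Agent.Lib.Helper29.DegD

/-!
# Degree inequality, part E: equality forces finiteness (main argument)
-/

set_option autoImplicit false

namespace Groth.Agent.Lib.Helper29.Deg

universe u

open IsLocalRing

section converse

variable {A B K L : Type u}
    [CommRing A] [IsDomain A] [IsNoetherianRing A] [IsLocalRing A]
    [CommRing B] [IsDomain B] [Algebra A B] [FaithfulSMul A B]
    [Field K] [Field L] [Algebra A K] [IsFractionRing A K] [Algebra B L] [IsFractionRing B L]
    [Algebra K L] [Algebra A L] [IsScalarTower A K L] [IsScalarTower A B L] [FiniteDimensional K L]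

include K L in
theorem finite_of_length_eq (hdim : ringKrullDim A = 1) (x : A) (hx : x ∈ maximalIdeal A)
    (hx0 : x ≠ 0)
    (heq : Module.length A (B ⧸ (Ideal.span {algebraMap A B x} : Ideal B)) =
      (Module.finrank K L : ℕ∞) * Module.length A (A ⧸ Ideal.span ({x} : Set A))) :
    Module.Finite A B := by
  haveI := Lattice.krullDimLE_one hdim
  obtain ⟨M', hfg, hlat, hgen⟩ := exists_good_submodule (K := K) (L := L) (B := B) hdim x hx0
  set N : ℕ∞ := (Module.finrank K L : ℕ∞) * Module.length A (A ⧸ Ideal.span ({x} : Set A)) with hN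
  have hNtop : N ≠ ⊤ :=
    WithTop.mul_ne_top (ENat.coe_ne_top _) (length_quot_base_ne_top hdim x hx0)
  have hxB : algebraMap A B x ≠ 0 := by
    rw [Ne, map_eq_zero_iff _ (FaithfulSMul.algebraMap_injective A B)]; exact hx0
  -- Krull–Akizuki for `M'`
  have hKA : Module.length A (M' ⧸ (Ideal.span {x} • (⊤ : Submodule A M'))) ≤ N :=
    Groth.Agent.Lib.Helper52.KA.length_quot_smul_le _ M' (iota A B K L ∘ₗ M'.subtype)
      (iota_injective.comp (Submodule.subtype_injective _)) x hx0
  -- the comparison map
  let φ : (M' ⧸ (Ideal.span {x} • (⊤ : Submodule A M'))) →ₗ[A]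
      (B ⧸ (Ideal.span {x} • (⊤ : Submodule A B))) :=
    Submodule.mapQ _ _ M'.subtype (Submodule.smul_top_le_comap_smul_top _ _)
  have hφsurj : Function.Surjective φ := by
    intro y
    obtain ⟨b, rfl⟩ := Submodule.Quotient.mk_surjective _ y
    obtain ⟨m, hm, c, rfl⟩ := hgen b
    refine ⟨Submodule.Quotient.mk ⟨m, hm⟩, ?_⟩
    show Submodule.Quotient.mk (M'.subtype ⟨m, hm⟩) = _
    rw [Submodule.Quotient.eq]
    have : M'.subtype ⟨m, hm⟩ - (m + x • c) = - (x • c) := by
      simp
    rw [this]
    exact Submodule.neg_mem _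
      (Submodule.smul_mem_smul (Ideal.mem_span_singleton_self x) Submodule.mem_top)
  have htarget : Module.length A (B ⧸ (Ideal.span {x} • (⊤ : Submodule A B))) = N := by
    rw [(quotEquiv A B x).length_eq]; exact heq
  have hadd := Module.length_eq_add_of_exact (LinearMap.ker φ).subtype φ
    (Submodule.subtype_injective _) hφsurj (LinearMap.exact_subtype_ker_map φ)
  have hker0 : Module.length A (LinearMap.ker φ) = 0 := by
    rw [hadd, htarget] at hKA
    have h1 : Module.length A (LinearMap.ker φ) + N ≤ 0 + N := by rwa [zero_add]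
    exact le_antisymm ((ENat.add_le_add_iff_right hNtop).mp h1) zero_le
  have hφinj : Function.Injective φ := by
    rw [← LinearMap.ker_eq_bot]
    rw [Module.length_eq_zero_iff] at hker0
    exact (Submodule.subsingleton_iff_eq_bot).mp hker0
  -- the key divisibility property
  have hstar : ∀ b : B, x • b ∈ M' → b ∈ M' := by
    intro b hb
    have h0 : φ (Submodule.Quotient.mk ⟨x • b, hb⟩) = 0 := by
      show Submodule.Quotient.mk (M'.subtype ⟨x • b, hb⟩) = _
      rw [Submodule.Quotient.mk_eq_zero]
      exact Submodule.smul_mem_smul (Ideal.mem_span_singleton_self x) Submodule.mem_top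
    have h1 : (Submodule.Quotient.mk ⟨x • b, hb⟩ :
        M' ⧸ (Ideal.span {x} • (⊤ : Submodule A M'))) = 0 := hφinj (by rw [h0, map_zero])
    rw [Submodule.Quotient.mk_eq_zero, Submodule.ideal_span_singleton_smul,
      Submodule.mem_smul_pointwise_iff_exists] at h1
    obtain ⟨m', -, hm'⟩ := h1
    have h2 : x • (m' : B) = x • b := congrArg Subtype.val hm'
    rw [Algebra.smul_def, Algebra.smul_def] at h2
    have h3 : (m' : B) = b := mul_left_cancel₀ hxB h2
    rw [← h3]; exact m'.2
  have hpow : ∀ (n : ℕ) (b : B), x ^ n • b ∈ M' → b ∈ M' := by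
    intro n
    induction n with
    | zero => intro b hb; rwa [pow_zero, one_smul] at hb
    | succ n ih =>
      intro b hb
      rw [pow_succ', mul_smul] at hb
      exact ih b (hstar _ hb)
  have htop : M' = ⊤ := by
    rw [eq_top_iff]
    intro b _
    obtain ⟨d, hd0, hd⟩ := Lattice.exists_smul_mem (K := K) (M'.map (emb A B L)) (emb A B L b)
    obtain ⟨m, hm, hmb⟩ := Submodule.mem_map.mp hd
    rw [← map_smul] at hmb
    have hdb : d • b ∈ M' := by
      rw [← emb_injective hmb]; exact hm
    obtain ⟨k, hk⟩ := Tame.exists_maximalIdeal_pow_le d (mem_nonZeroDivisors_of_ne_zero hd0)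
    obtain ⟨a', ha'⟩ := Ideal.mem_span_singleton'.mp (hk (Ideal.pow_mem_pow hx k))
    apply hpow k b
    rw [← ha', mul_smul]
    exact Submodule.smul_mem _ _ hdb
  exact ⟨by rw [← htop]; exact hfg⟩

end converse

end Groth.Agent.Lib.Helper29.Deg
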