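import Groth.Agent.Lib.Helper29.DegE

/-!
# Degree inequality, part F: the finite case
-/

set_option autoImplicit false

namespace Groth.Agent.Lib.Helper29.Deg

universe u

open IsLocalRing

section mulE

variable {K L : Type u} [Field K] [AddCommGroup L] [Module K L]

/-- multiplication by a nonzero scalar as a linear equivalence -/
noncomputable def mulEquiv (a : K) (ha : a ≠ 0) : L ≃ₗ[K] L :=
  LinearEquiv.ofLinear (a • LinearMap.id) (a⁻¹ • LinearMap.id)
    (by ext v; simp [smul_smul, ha]) (by ext v; simp [smul_smul, ha])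

theorem mulEquiv_apply (a : K) (ha : a ≠ 0) (v : L) : mulEquiv a ha v = a • v := rfl

theorem mulEquiv_toLinearMap (a : K) (ha : a ≠ 0) :
    (mulEquiv (L := L) a ha).toLinearMap = a • LinearMap.id := rfl

end mulE

section qlrange

variable {A : Type u} [CommRing A] {V W : Type u} [AddCommGroup V] [Module A V]
  [AddCommGroup W] [Module A W]

theorem ql_range (f : W →ₗ[A] V) (hf : Function.Injective f) (P : Submodule A W) :
    Lattice.ql (LinearMap.range f) (P.map f) = Module.length A (W ⧸ P) := by
  unfold Lattice.ql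
  symm
  apply LinearEquiv.length_eq
  refine Submodule.Quotient.equiv _ _ (LinearEquiv.ofInjective f hf) ?_
  ext ⟨v, hv⟩
  simp only [Submodule.mem_map, Submodule.submoduleOf, Submodule.mem_comap,
    Submodule.subtype_apply]
  constructor
  · rintro ⟨w, hw, hwv⟩
    refine ⟨w, hw, ?_⟩
    have := congrArg Subtype.val hwv
    simpa using this
  · rintro ⟨w, hw, hwv⟩
    refine ⟨w, hw, ?_⟩
    apply Subtype.ext
    simpa using hwv

end qlrange

section finiteCase

variable {A K L : Type u}
    [CommRing A] [IsDomain A] [IsNoetherianRing A]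
    [Field K] [Field L] [Algebra A K] [IsFractionRing A K]
    [Algebra K L] [Algebra A L] [IsScalarTower A K L] [FiniteDimensional K L]

/-- `ℓ(M/xM) = r · ord x` for a lattice `M` in an `r`-dimensional space -/
theorem ql_smul_lattice (hdim : ringKrullDim A = 1) (x : A) (hx0 : x ≠ 0)
    (ha : algebraMap A K x ≠ 0) (M : Submodule A L) [Submodule.IsLattice K M] :
    Lattice.ql M (Lattice.imL (mulEquiv (L := L) (algebraMap A K x) ha).toLinearMap M) =
      (Module.finrank K L : ℕ∞) * Ring.ord A x := by
  haveI := Lattice.krullDimLE_one hdim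
  set φ := mulEquiv (L := L) (algebraMap A K x) ha with hφ
  have hle : Lattice.imL φ.toLinearMap M ≤ M := by
    rintro _ ⟨m, hm, rfl⟩
    show φ m ∈ M
    rw [hφ, mulEquiv_apply, algebraMap_smul]
    exact Submodule.smul_mem _ _ hm
  haveI := Lattice.isLattice_imL φ.toLinearMap φ.surjective M
  have key := Lattice.dist_imL_eq_ordFrac_det hdim φ M
  have hdet : LinearMap.det φ.toLinearMap = algebraMap A K (x ^ Module.finrank K L) := by
    rw [hφ, mulEquiv_toLinearMap, LinearMap.det_smul, LinearMap.det_id, mul_one, map_pow]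
  have hxnzd : x ∈ nonZeroDivisors A := mem_nonZeroDivisors_of_ne_zero hx0
  rw [hdet, Lattice.cyc_ordFrac_algebraMap (pow_ne_zero _ hx0), Ring.ord_pow hxnzd] at key
  unfold Lattice.dist at key
  rw [inf_eq_right.mpr hle, Lattice.ql_self, ENat.toNat_zero, Nat.cast_zero, sub_zero] at key
  have key' : (Lattice.ql M (Lattice.imL φ.toLinearMap M)).toNat =
      (Module.finrank K L • Ring.ord A x).toNat := by exact_mod_cast key
  have h1 : Lattice.ql M (Lattice.imL φ.toLinearMap M) ≠ ⊤ :=
    (Lattice.ql_lt_top (K := K) hdim M _).ne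
  have h2 : Module.finrank K L • Ring.ord A x ≠ ⊤ := by
    rw [nsmul_eq_mul]
    exact WithTop.mul_ne_top (ENat.coe_ne_top _) (Ring.ord_ne_top hxnzd)
  rw [← ENat.coe_toNat h1, key', ENat.coe_toNat h2, nsmul_eq_mul]

end finiteCase

end Groth.Agent.Lib.Helper29.Deg
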