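import Groth.Agent.Lib.Helper29.DegF

/-!
# Degree inequality, part G: the finite case for `B`
-/

set_option autoImplicit false

namespace Groth.Agent.Lib.Helper29.Deg

universe u

open IsLocalRing

section finiteB

variable {A B K L : Type u}
    [CommRing A] [IsDomain A] [IsNoetherianRing A] [IsLocalRing A]
    [CommRing B] [IsDomain B] [Algebra A B] [FaithfulSMul A B]
    [Field K] [Field L] [Algebra A K] [IsFractionRing A K] [Algebra B L] [IsFractionRing B L]
    [Algebra K L] [Algebra A L] [IsScalarTower A K L] [IsScalarTower A B L] [FiniteDimensional K L]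

include K in
omit [IsNoetherianRing A] [IsLocalRing A] [FaithfulSMul A B] in
theorem isLattice_range [Module.Finite A B] :
    Submodule.IsLattice K (LinearMap.range (emb A B L)) where
  fg := by
    rw [LinearMap.range_eq_map]
    exact Submodule.FG.map _ Module.Finite.fg_top
  span_eq_top := by
    rw [eq_top_iff]
    intro l _
    obtain ⟨d, hd, c, hc⟩ := exists_smul_eq (K := K) (A := A) (B := B) l
    have hK : algebraMap A K d ≠ 0 := by
      rw [Ne, map_eq_zero_iff _ (IsFractionRing.injective A K)]; exact hd
    have h1 : l = (algebraMap A K d)⁻¹ • (d • l) := by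
      rw [← algebraMap_smul K d, smul_smul, inv_mul_cancel₀ hK, one_smul]
    rw [h1, hc]
    exact Submodule.smul_mem _ _ (Submodule.subset_span ⟨c, rfl⟩)

include K in
omit [IsLocalRing A] [FaithfulSMul A B] in
theorem length_quot_eq_of_finite (hdim : ringKrullDim A = 1) (x : A) (hx0 : x ≠ 0)
    [Module.Finite A B] :
    Module.length A (B ⧸ (Ideal.span {algebraMap A B x} : Ideal B)) =
      (Module.finrank K L : ℕ∞) * Module.length A (A ⧸ Ideal.span ({x} : Set A)) := by
  have ha : algebraMap A K x ≠ 0 := by
    rw [Ne, map_eq_zero_iff _ (IsFractionRing.injective A K)]; exact hx0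
  haveI := isLattice_range (A := A) (B := B) (K := K) (L := L)
  have h1 := ql_smul_lattice (K := K) (L := L) hdim x hx0 ha (LinearMap.range (emb A B L))
  have h2 := ql_range (emb A B L) emb_injective (Ideal.span {x} • ⊤ : Submodule A B)
  have h3 : (Ideal.span {x} • ⊤ : Submodule A B).map (emb A B L) =
      Lattice.imL (mulEquiv (L := L) (algebraMap A K x) ha).toLinearMap
        (LinearMap.range (emb A B L)) := by
    rw [Submodule.ideal_span_singleton_smul]
    ext l
    constructor
    · rintro ⟨b, hb, rfl⟩
      obtain ⟨b', -, rfl⟩ := (Submodule.mem_smul_pointwise_iff_exists _ _ _).mp hb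
      refine ⟨emb A B L b', ⟨b', rfl⟩, ?_⟩
      show mulEquiv (L := L) (algebraMap A K x) ha (emb A B L b') = _
      rw [mulEquiv_apply, algebraMap_smul, map_smul]
    · rintro ⟨_, ⟨b', rfl⟩, rfl⟩
      refine ⟨x • b', Submodule.smul_mem_pointwise_smul _ _ _ Submodule.mem_top, ?_⟩
      show _ = mulEquiv (L := L) (algebraMap A K x) ha (emb A B L b')
      rw [mulEquiv_apply, algebraMap_smul, map_smul]
  rw [← (quotEquiv A B x).length_eq, ← h2, h3, h1]
  rfl

end finiteB

end Groth.Agent.Lib.Helper29.Deg
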