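import Groth.Agent.Lib.Helper29.LengthFormula6
import Mathlib.RingTheory.KrullDimension.Module

set_option autoImplicit false
universe u

namespace Groth.Agent.Lib.Helper29.LengthFormula

open IsLocalRing Groth.Agent.Lib.Helper87 Function

variable {B : Type u} [CommRing B] [IsNoetherianRing B] [IsLocalRing B] (t : B)

section Reindex

omit [IsNoetherianRing B] in
/-- `m/p = (t mod p)` iff `p + tB = m` -/
theorem map_maximalIdeal_eq_span_iff (p : Ideal B) (hp : p ≠ ⊤) :
    Ideal.map (Ideal.Quotient.mk p) (maximalIdeal B) = Ideal.span {Ideal.Quotient.mk p t} ↔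
      p ⊔ Ideal.span {t} = maximalIdeal B := by
  have hπ : Function.Surjective (Ideal.Quotient.mk p) := Ideal.Quotient.mk_surjective
  have hcomap : ∀ J : Ideal B, Ideal.comap (Ideal.Quotient.mk p) (Ideal.map (Ideal.Quotient.mk p) J)
      = J ⊔ p := by
    intro J
    rw [Ideal.comap_map_of_surjective _ hπ, ← RingHom.ker_eq_comap_bot, Ideal.mk_ker]
  have hspan : Ideal.span {Ideal.Quotient.mk p t} =
      Ideal.map (Ideal.Quotient.mk p) (Ideal.span {t}) := by
    rw [Ideal.map_span, Set.image_singleton]
  rw [hspan]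
  have hm : maximalIdeal B ⊔ p = maximalIdeal B := sup_eq_left.mpr (le_maximalIdeal hp)
  constructor
  · intro h
    have := congrArg (Ideal.comap (Ideal.Quotient.mk p)) h
    rw [hcomap, hcomap, hm] at this
    rw [sup_comm, ← this]
  · intro h
    rw [← h, Ideal.map_sup, Ideal.map_quotient_self, bot_sup_eq]

variable (M : Type u) [AddCommGroup M] [Module B M] [Module.Finite B M]

omit [IsNoetherianRing B] [IsLocalRing B] in
theorem lam_ne_zero_of_annihilator_le (p : Ideal B) [hp : p.IsPrime]
    (h : Module.annihilator B M ≤ p) : lam M p ≠ 0 :=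
  (lam_ne_zero_iff M p).mpr (Module.mem_support_iff_of_finite.mpr h)

omit [IsNoetherianRing B] [IsLocalRing B] in
theorem annihilator_le_of_lam_ne_zero (p : Ideal B) [hp : p.IsPrime]
    (h : lam M p ≠ 0) : Module.annihilator B M ≤ p :=
  Module.mem_support_iff_of_finite.mp ((lam_ne_zero_iff M p).mp h)

/-- the non-maximal primes of the support are minimal over the annihilator -/
theorem mem_minimalPrimes_of_mem_G (ht : t ∈ maximalIdeal B)
    (hb : Module.length B (QuotSMulTop t M) ≠ ⊤) (p : Ideal B) (hpG : p ∈ G B)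
    (hlam : lam M p ≠ 0) : p ∈ (Module.annihilator B M).minimalPrimes := by
  have hp : p.IsPrime := hpG.1
  refine ⟨⟨hp, annihilator_le_of_lam_ne_zero M p hlam⟩, ?_⟩
  rintro q ⟨hq, hqann⟩ hqp
  have hc := cst_ne_top t M hb q (lam_ne_zero_of_annihilator_le M q hqann)
  rw [eq_of_le_of_ne_maximalIdeal t ht q hc p hqp hpG.2]

omit [IsNoetherianRing B] in
/-- when the support has positive dimension, the primes minimal over the annihilator are
not maximal -/
theorem mem_G_of_mem_minimalPrimes (hdim : 0 < Module.supportDim B M) (p : Ideal B)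
    (hp : p ∈ (Module.annihilator B M).minimalPrimes) : p ∈ G B := by
  refine ⟨hp.1.1, ?_⟩
  rintro rfl
  unfold Module.supportDim at hdim
  obtain ⟨x, y, hxy⟩ := Order.krullDim_pos_iff.mp hdim
  have hx : Module.annihilator B M ≤ x.1.asIdeal := Module.mem_support_iff_of_finite.mp x.2
  have hxm : x.1.asIdeal ≤ maximalIdeal B := le_maximalIdeal x.1.2.ne_top
  have hym : y.1.asIdeal ≤ maximalIdeal B := le_maximalIdeal y.1.2.ne_top
  have hmx : maximalIdeal B ≤ x.1.asIdeal := hp.2 ⟨x.1.2, hx⟩ hxm
  have hlt : x.1.asIdeal < y.1.asIdeal := hxy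
  exact absurd (hym.trans hmx) (not_le_of_gt hlt)

theorem minimalPrimes_inter_support_eq (ht : t ∈ maximalIdeal B)
    (hb : Module.length B (QuotSMulTop t M) ≠ ⊤) (hdim : 0 < Module.supportDim B M) :
    (Module.annihilator B M).minimalPrimes ∩ Function.support (lam M) =
      G B ∩ Function.support (lam M) := by
  ext p
  simp only [Set.mem_inter_iff, Function.mem_support]
  constructor
  · rintro ⟨hp, hne⟩
    exact ⟨mem_G_of_mem_minimalPrimes M hdim p hp, hne⟩
  · rintro ⟨hpG, hne⟩
    exact ⟨mem_minimalPrimes_of_mem_G t M ht hb p hpG hne, hne⟩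

/-- the sum over the primes minimal over the annihilator is `lamSum` -/
theorem finsum_minimalPrimes_annihilator_eq (ht : t ∈ maximalIdeal B)
    (hb : Module.length B (QuotSMulTop t M) ≠ ⊤) (hdim : 0 < Module.supportDim B M) :
    (∑ᶠ p : (Module.annihilator B M).minimalPrimes,
        haveI : p.1.IsPrime := p.2.1.1
        Module.length (Localization.AtPrime p.1) (LocalizedModule p.1.primeCompl M)) =
      lamSum (B := B) M := by
  have h1 : (fun p : (Module.annihilator B M).minimalPrimes =>
      haveI : p.1.IsPrime := p.2.1.1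
      Module.length (Localization.AtPrime p.1) (LocalizedModule p.1.primeCompl M)) =
      fun p : (Module.annihilator B M).minimalPrimes => lam M p.1 := by
    funext p
    have : p.1.IsPrime := p.2.1.1
    exact (lam_of_isPrime M p.1).symm
  rw [h1, finsum_set_coe_eq_finsum_mem (f := lam M)]
  unfold lamSum
  exact finsum_mem_inter_support_eq _ _ _ (minimalPrimes_inter_support_eq t M ht hb hdim)

end Reindex

section DimOne

variable {A : Type u} [CommRing A] [IsNoetherianRing A] [IsLocalRing A] (t : A)

/-- in a Noetherian local ring of positive dimension with `A/tA` artinian, the minimal primes are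
the non-maximal primes -/
theorem minimalPrimes_eq_G (ht : t ∈ maximalIdeal A) (hdim : 0 < ringKrullDim A)
    [hart : IsArtinianRing (A ⧸ Ideal.span {t})] : minimalPrimes A = G A := by
  have hbA : Module.length A (QuotSMulTop t A) ≠ ⊤ := (length_quot_lt_top t A).ne
  ext p
  constructor
  · intro hp
    refine ⟨hp.1.1, ?_⟩
    rintro rfl
    unfold ringKrullDim at hdim
    obtain ⟨x, y, hxy⟩ := Order.krullDim_pos_iff.mp hdim
    have hxm : x.asIdeal ≤ maximalIdeal A := le_maximalIdeal x.2.ne_top
    have hym : y.asIdeal ≤ maximalIdeal A := le_maximalIdeal y.2.ne_top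
    have hmx : maximalIdeal A ≤ x.asIdeal := hp.2 ⟨x.2, bot_le⟩ hxm
    have hlt : x.asIdeal < y.asIdeal := hxy
    exact absurd (hym.trans hmx) (not_le_of_gt hlt)
  · rintro ⟨hp, hpm⟩
    obtain ⟨q, hq, hqp⟩ := Ideal.exists_minimalPrimes_le (I := ⊥) (J := p) bot_le
    have hqprime : q.IsPrime := hq.1.1
    have hlamq : lam A q ≠ 0 := lam_ne_zero_of_annihilator_le A q (by
      rw [Module.annihilator_eq_bot.mpr inferInstance]
      exact bot_le)
    have hc := cst_ne_top t A hbA q hlamq
    rw [eq_of_le_of_ne_maximalIdeal t ht q hc p hqp hpm]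
    exact hq

theorem finsum_minimalPrimes_eq (ht : t ∈ maximalIdeal A) (hdim : 0 < ringKrullDim A)
    [hart : IsArtinianRing (A ⧸ Ideal.span {t})]
    (M : Type u) [AddCommGroup M] [Module A M] :
    (∑ᶠ p : minimalPrimes A,
        haveI : p.1.IsPrime := p.2.1.1
        Module.length (Localization.AtPrime p.1) (LocalizedModule p.1.primeCompl M)) =
      lamSum (B := A) M := by
  have h1 : (fun p : minimalPrimes A =>
      haveI : p.1.IsPrime := p.2.1.1
      Module.length (Localization.AtPrime p.1) (LocalizedModule p.1.primeCompl M)) =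
      fun p : minimalPrimes A => lam M p.1 := by
    funext p
    have : p.1.IsPrime := p.2.1.1
    exact (lam_of_isPrime M p.1).symm
  rw [h1, finsum_set_coe_eq_finsum_mem (f := lam M)]
  unfold lamSum
  exact finsum_mem_congr (minimalPrimes_eq_G t ht hdim) (fun _ _ => rfl)

end DimOne

end Groth.Agent.Lib.Helper29.LengthFormula
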