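import Groth.Agent.Lib.Helper29.SemilocalBlowup
import Groth.Agent.Lib.Helper87.DimOne
import Mathlib

set_option autoImplicit false

namespace Groth.Agent.Lib.Helper29.Lattice

open Groth.Agent.Lib.Helper29.SemilocalBlowup

universe u v w

section ql

variable {A : Type u} [CommRing A] {V : Type v} [AddCommGroup V] [Module A V]

/-- relative length `ℓ(M / (M ∩ N))` -/
noncomputable def ql (M N : Submodule A V) : ℕ∞ := Module.length A (↥M ⧸ N.submoduleOf M)

theorem ql_self (M : Submodule A V) : ql M M = 0 := by
  unfold ql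
  rw [Module.length_eq_zero_iff, Submodule.Quotient.subsingleton_iff, Submodule.submoduleOf_self]

theorem ql_of_le {M N : Submodule A V} (h : M ≤ N) : ql M N = 0 := by
  unfold ql
  rw [Module.length_eq_zero_iff, Submodule.Quotient.subsingleton_iff, eq_top_iff]
  intro x _
  exact h x.2

theorem ql_inf (M N : Submodule A V) : ql M (M ⊓ N) = ql M N := by
  unfold ql
  have : (M ⊓ N).submoduleOf M = N.submoduleOf M := by
    ext x
    simp only [Submodule.submoduleOf, Submodule.mem_comap, Submodule.subtype_apply,
      Submodule.mem_inf]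
    exact ⟨fun h => h.2, fun h => ⟨x.2, h⟩⟩
  rw [this]

theorem ql_inf' (M N : Submodule A V) : ql N (M ⊓ N) = ql N M := by
  rw [inf_comm, ql_inf]

/-- additivity along a chain `N ≤ P ≤ M` -/
theorem ql_add {N P M : Submodule A V} (hNP : N ≤ P) (hPM : P ≤ M) :
    ql M N = ql M P + ql P N := by
  unfold ql
  have key := length_quot_map_of_injective (Submodule.inclusion hPM)
    (Submodule.inclusion_injective hPM) (N.submoduleOf P)
  have h1 : (N.submoduleOf P).map (Submodule.inclusion hPM) = N.submoduleOf M := by
    ext x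
    simp only [Submodule.mem_map, Submodule.submoduleOf, Submodule.mem_comap,
      Submodule.subtype_apply]
    constructor
    · rintro ⟨y, hy, rfl⟩
      exact hy
    · intro hx
      exact ⟨⟨x.1, hNP hx⟩, hx, rfl⟩
  have h2 : LinearMap.range (Submodule.inclusion hPM) = P.submoduleOf M := by
    rw [Submodule.range_inclusion]
    rfl
  rw [h1, h2] at key
  rw [key, add_comm]

theorem ql_map {V' : Type w} [AddCommGroup V'] [Module A V'] (θ : V →ₗ[A] V')
    (hθ : Function.Injective θ) (M N : Submodule A V) :
    ql (M.map θ) (N.map θ) = ql M N := by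
  unfold ql
  let e : ↥M ≃ₗ[A] ↥(M.map θ) := Submodule.equivMapOfInjective θ hθ M
  symm
  apply LinearEquiv.length_eq
  refine Submodule.Quotient.equiv _ _ e ?_
  ext x
  simp only [Submodule.mem_map, Submodule.submoduleOf, Submodule.mem_comap,
    Submodule.subtype_apply]
  constructor
  · rintro ⟨y, hy, rfl⟩
    exact ⟨y.1, hy, rfl⟩
  · rintro ⟨y, hy, hyx⟩
    have hyM : y ∈ M := by
      obtain ⟨z, hz, hzx⟩ := x.2
      have : y = z := hθ (hyx.trans hzx.symm)
      rw [this]; exact hz
    refine ⟨⟨y, hyM⟩, hy, ?_⟩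
    apply Subtype.ext
    exact hyx

end ql

end Groth.Agent.Lib.Helper29.Lattice
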