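import Groth.Agent.Lib.Helper29.CycDetJ
import Groth.Agent.Lib.Helper29.LatticeA

/-!
# Good tuples (successive quotients `R/q`), part A: basics
-/

set_option autoImplicit false

namespace Groth.Agent.Lib.Helper29.Gd

open IsLocalRing CycDet Groth.Agent.Lib.Helper29.CycDetLib Groth.Agent.Lib.Helper29.Lattice

universe u v

section good

variable {R : Type u} [CommRing R] [IsLocalRing R] (q : Ideal R)
  {V : Type v} [AddCommGroup V] [Module R V]

/-- a tuple all of whose successive quotients are `R/q` via the generator -/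
def Good {n : ℕ} (e : Fin n → V) : Prop :=
  ∀ (j : Fin n) (r : R), r • e j ∈ spanBefore R V e j ↔ r ∈ q

variable {q}

theorem Good.sat [hq : q.IsPrime] {n : ℕ} {e : Fin n → V} (he : Good q e) {s : R} (hs : s ∉ q)
    (j : ℕ) : ∀ m : ℕ, ∀ v ∈ spanBefore R V e m, s • v ∈ spanBefore R V e j →
      v ∈ spanBefore R V e j := by
  intro m
  induction m with
  | zero =>
    intro v hv _
    rw [spanBefore_zero] at hv
    rw [(Submodule.mem_bot R).mp hv]
    exact Submodule.zero_mem _
  | succ m ih =>
    intro v hv hsv
    by_cases hmn : m < n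
    · by_cases hmj : m < j
      · exact spanBefore_mono R e hmj hv
      · push Not at hmj
        have h1 := spanBefore_succ R e ⟨m, hmn⟩
        simp only at h1
        rw [h1] at hv
        obtain ⟨w, hw, z, hz, rfl⟩ := Submodule.mem_sup.mp hv
        obtain ⟨r, rfl⟩ := Submodule.mem_span_singleton.mp hz
        have h2 : (s * r) • e ⟨m, hmn⟩ ∈ spanBefore R V e m := by
          have : (s * r) • e ⟨m, hmn⟩ = s • (w + r • e ⟨m, hmn⟩) - s • w := by
            rw [smul_add, mul_smul]; abel
          rw [this]
          exact Submodule.sub_mem _ (spanBefore_mono R e hmj hsv) (Submodule.smul_mem _ _ hw)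
        have h3 : s * r ∈ q := (he ⟨m, hmn⟩ (s * r)).mp h2
        have h4 : r ∈ q := (hq.mem_or_mem h3).resolve_left hs
        have h5 : r • e ⟨m, hmn⟩ ∈ spanBefore R V e m := (he ⟨m, hmn⟩ r).mpr h4
        exact ih _ (Submodule.add_mem _ hw h5) hsv
    · push Not at hmn
      rw [spanBefore_of_le R e (by omega), ← spanBefore_of_le R e hmn] at hv
      exact ih v hv hsv

theorem Good.sat' [hq : q.IsPrime] {n : ℕ} {e : Fin n → V} (he : Good q e) {s : R} (hs : s ∉ q)
    (j : ℕ) (v : V) (hv : v ∈ Submodule.span R (Set.range e)) (hsv : s • v ∈ spanBefore R V e j) :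
    v ∈ spanBefore R V e j := by
  rw [← spanBefore_of_le R e le_rfl] at hv
  exact he.sat hs j n v hv hsv

/-- goodness is invariant under unitriangular changes -/
theorem good_tri {n : ℕ} {e e' : Fin n → V} (he : Good q e)
    (hd : ∀ x : Fin n, e x - e' x ∈ spanBefore R V e x) : Good q e' := by
  intro j r
  rw [tri_span e e' hd, ← he j r]
  have h1 : r • e j - r • e' j ∈ spanBefore R V e j := by
    rw [← smul_sub]
    exact Submodule.smul_mem _ _ (hd j)
  constructor
  · intro h
    have : r • e j = r • e' j + (r • e j - r • e' j) := by abel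
    rw [this]
    exact Submodule.add_mem _ h h1
  · intro h
    have : r • e' j = r • e j - (r • e j - r • e' j) := by abel
    rw [this]
    exact Submodule.sub_mem _ h h1

theorem span_tri {n : ℕ} {e e' : Fin n → V}
    (hd : ∀ x : Fin n, e x - e' x ∈ spanBefore R V e x) :
    Submodule.span R (Set.range e') = Submodule.span R (Set.range e) := by
  rw [← spanBefore_of_le R e le_rfl, ← spanBefore_of_le R e' le_rfl]
  exact tri_span e e' hd n

theorem Good.smul_zero_iff {n : ℕ} {e : Fin (n + 1) → V} (he : Good q e) (r : R) :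
    r • e 0 = 0 ↔ r ∈ q := by
  rw [← he 0 r, Fin.val_zero, spanBefore_zero, Submodule.mem_bot]

end good

end Groth.Agent.Lib.Helper29.Gd
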