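import Groth.Agent.Lib.Helper29.GdA

/-!
# Good tuples, part B: scaling the tail of a tuple
-/

set_option autoImplicit false

namespace Groth.Agent.Lib.Helper29.Gd

open IsLocalRing CycDet Groth.Agent.Lib.Helper29.CycDetLib Groth.Agent.Lib.Helper29.Lattice

universe u v

section scale

variable {R : Type u} [CommRing R] [IsLocalRing R] {q : Ideal R}
  {V : Type v} [AddCommGroup V] [Module R V]

/-- scale the entries from position `k` on by `a` -/
def sc {n : ℕ} (k : ℕ) (a : R) (e : Fin n → V) : Fin n → V :=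
  fun j => if (j : ℕ) < k then e j else a • e j

theorem sc_of_lt {n : ℕ} {k : ℕ} (a : R) (e : Fin n → V) {j : Fin n} (h : (j : ℕ) < k) :
    sc k a e j = e j := by
  unfold sc; rw [if_pos h]

theorem sc_of_le {n : ℕ} {k : ℕ} (a : R) (e : Fin n → V) {j : Fin n} (h : k ≤ (j : ℕ)) :
    sc k a e j = a • e j := by
  unfold sc; rw [if_neg (by omega)]

theorem sc_top {n : ℕ} {k : ℕ} (hk : n ≤ k) (a : R) (e : Fin n → V) : sc k a e = e := by
  funext j
  exact sc_of_lt a e (lt_of_lt_of_le j.2 hk)

theorem spanBefore_sc_le {n : ℕ} (k : ℕ) (a : R) (e : Fin n → V) (m : ℕ) :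
    spanBefore R V (sc k a e) m ≤ spanBefore R V e m := by
  rw [spanBefore_le_iff]
  intro j hj
  by_cases h : (j : ℕ) < k
  · rw [sc_of_lt a e h]; exact mem_spanBefore R e hj
  · rw [sc_of_le a e (by omega)]
    exact Submodule.smul_mem _ _ (mem_spanBefore R e hj)

theorem span_sc_le {n : ℕ} (k : ℕ) (a : R) (e : Fin n → V) :
    Submodule.span R (Set.range (sc k a e)) ≤ Submodule.span R (Set.range e) := by
  rw [← spanBefore_of_le R e le_rfl, ← spanBefore_of_le R (sc k a e) le_rfl]
  exact spanBefore_sc_le k a e n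

theorem spanBefore_sc_of_le {n : ℕ} {k : ℕ} (a : R) (e : Fin n → V) {m : ℕ} (h : m ≤ k) :
    spanBefore R V (sc k a e) m = spanBefore R V e m := by
  apply spanBefore_congr
  intro j hj
  exact sc_of_lt a e (lt_of_lt_of_le hj h)

theorem smul_mem_spanBefore_sc {n : ℕ} (k : ℕ) (a : R) (e : Fin n → V) (m : ℕ) (v : V)
    (hv : v ∈ spanBefore R V e m) : a • v ∈ spanBefore R V (sc k a e) m := by
  have : spanBefore R V e m ≤ (spanBefore R V (sc k a e) m).comap (LinearMap.lsmul R V a) := by
    rw [spanBefore_le_iff]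
    intro j hj
    rw [Submodule.mem_comap, LinearMap.lsmul_apply]
    by_cases h : (j : ℕ) < k
    · have := mem_spanBefore R (sc k a e) hj
      rw [sc_of_lt a e h] at this
      exact Submodule.smul_mem _ _ this
    · have := mem_spanBefore R (sc k a e) hj
      rwa [sc_of_le a e (by omega)] at this
  exact this hv

theorem good_sc [hq : q.IsPrime] {n : ℕ} (k : ℕ) {a : R} (ha : a ∉ q) {e : Fin n → V}
    (he : Good q e) : Good q (sc k a e) := by
  intro j r
  by_cases h : (j : ℕ) < k
  · rw [sc_of_lt a e h, spanBefore_sc_of_le a e h.le]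
    exact he j r
  · push Not at h
    rw [sc_of_le a e h]
    constructor
    · intro hm
      have h1 := spanBefore_sc_le k a e j hm
      rw [smul_smul] at h1
      have h2 := (he j (r * a)).mp h1
      exact (hq.mem_or_mem h2).resolve_right ha
    · intro hr
      rw [smul_comm]
      exact smul_mem_spanBefore_sc k a e j _ ((he j r).mpr hr)

theorem span_sc_succ_le {n : ℕ} (k : ℕ) (a : R) (e : Fin n → V) :
    Submodule.span R (Set.range (sc k a e)) ≤ Submodule.span R (Set.range (sc (k + 1) a e)) := by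
  rw [Submodule.span_le]
  rintro _ ⟨j, rfl⟩
  by_cases h : (j : ℕ) < k
  · rw [sc_of_lt a e h, ← sc_of_lt (k := k + 1) a e (by omega)]
    exact Submodule.subset_span ⟨j, rfl⟩
  · push Not at h
    rw [sc_of_le a e h]
    by_cases h' : (j : ℕ) < k + 1
    · apply Submodule.smul_mem
      rw [← sc_of_lt (k := k + 1) a e h']
      exact Submodule.subset_span ⟨j, rfl⟩
    · rw [← sc_of_le (k := k + 1) a e (by omega)]
      exact Submodule.subset_span ⟨j, rfl⟩

theorem span_sc_succ_eq {n : ℕ} (k : ℕ) (hk : k < n) (a : R) (e : Fin n → V) :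
    Submodule.span R (Set.range (sc (k + 1) a e)) =
      Submodule.span R (Set.range (sc k a e)) ⊔ Submodule.span R {e ⟨k, hk⟩} := by
  apply le_antisymm
  · rw [Submodule.span_le]
    rintro _ ⟨j, rfl⟩
    by_cases h : (j : ℕ) < k
    · rw [sc_of_lt a e (by omega), ← sc_of_lt (k := k) a e h]
      exact Submodule.mem_sup_left (Submodule.subset_span ⟨j, rfl⟩)
    · push Not at h
      by_cases h' : (j : ℕ) = k
      · have : j = ⟨k, hk⟩ := Fin.ext h'
        rw [sc_of_lt a e (by omega), this]
        exact Submodule.mem_sup_right (Submodule.mem_span_singleton_self _)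
      · rw [sc_of_le a e (by omega), ← sc_of_le (k := k) a e h]
        exact Submodule.mem_sup_left (Submodule.subset_span ⟨j, rfl⟩)
  · apply sup_le (span_sc_succ_le k a e)
    rw [Submodule.span_singleton_le_iff_mem, ← sc_of_lt (k := k + 1) a e (j := ⟨k, hk⟩) (by simp)]
    exact Submodule.subset_span ⟨_, rfl⟩

end scale

end Groth.Agent.Lib.Helper29.Gd
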