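import Groth.Agent.Lib.Helper29.GdB

/-!
# Good tuples, part C: the length of `L(e) / L(sc k a e)`
-/

set_option autoImplicit false

namespace Groth.Agent.Lib.Helper29.Gd

open IsLocalRing CycDet Groth.Agent.Lib.Helper29.CycDetLib Groth.Agent.Lib.Helper29.Lattice

universe u v

section scale

variable {R : Type u} [CommRing R] [IsLocalRing R] {q : Ideal R}
  {V : Type v} [AddCommGroup V] [Module R V]

theorem mem_span_sc_iff [hq : q.IsPrime] {n : ℕ} (k : ℕ) (hk : k < n) {a : R} (ha : a ∉ q)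
    {e : Fin n → V} (he : Good q e) (r : R) :
    r • e ⟨k, hk⟩ ∈ Submodule.span R (Set.range (sc k a e)) ↔ r ∈ q ⊔ Ideal.span {a} := by
  have hS := good_sc (q := q) k ha he
  have hSk : sc k a e ⟨k, hk⟩ = a • e ⟨k, hk⟩ := sc_of_le a e (le_refl _)
  constructor
  · intro h
    have h1 : a • (r • e ⟨k, hk⟩) ∈ spanBefore R V (sc k a e) (k + 1) := by
      rw [smul_comm, ← hSk]
      exact Submodule.smul_mem _ _ (mem_spanBefore R (sc k a e) (j := ⟨k, hk⟩) (by simp))
    have h2 := hS.sat' ha (k + 1) _ h h1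
    have h3 := spanBefore_succ R (sc k a e) ⟨k, hk⟩
    simp only at h3
    rw [h3, spanBefore_sc_of_le a e (le_refl k), hSk] at h2
    obtain ⟨w, hw, z, hz, hwz⟩ := Submodule.mem_sup.mp h2
    obtain ⟨t, rfl⟩ := Submodule.mem_span_singleton.mp hz
    have h4 : (r - t * a) • e ⟨k, hk⟩ ∈ spanBefore R V e k := by
      have : (r - t * a) • e ⟨k, hk⟩ = w := by
        rw [sub_smul, ← hwz, mul_smul]; abel
      rw [this]; exact hw
    have h5 := (he ⟨k, hk⟩ _).mp h4
    have : r = (r - t * a) + t * a := by ring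
    rw [this]
    exact Submodule.add_mem _ (Submodule.mem_sup_left h5)
      (Submodule.mem_sup_right (Ideal.mul_mem_left _ _ (Ideal.mem_span_singleton_self a)))
  · intro h
    obtain ⟨x, hx, y, hy, rfl⟩ := Submodule.mem_sup.mp h
    obtain ⟨t, rfl⟩ := Ideal.mem_span_singleton'.mp hy
    rw [add_smul]
    apply Submodule.add_mem
    · have := (he ⟨k, hk⟩ x).mpr hx
      rw [← spanBefore_sc_of_le (k := k) a e (le_refl k)] at this
      exact spanBefore_le_range R _ _ this
    · rw [mul_smul, ← hSk]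
      exact Submodule.smul_mem _ _ (Submodule.subset_span ⟨_, rfl⟩)

theorem ql_sc_step [hq : q.IsPrime] {n : ℕ} (k : ℕ) (hk : k < n) {a : R} (ha : a ∉ q)
    {e : Fin n → V} (he : Good q e) :
    ql (Submodule.span R (Set.range (sc (k + 1) a e))) (Submodule.span R (Set.range (sc k a e))) =
      Module.length R (R ⧸ (q ⊔ Ideal.span {a})) := by
  unfold ql
  set T := Submodule.span R (Set.range (sc (k + 1) a e)) with hT
  set S := Submodule.span R (Set.range (sc k a e)) with hS
  have hek : e ⟨k, hk⟩ ∈ T := by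
    rw [hT, span_sc_succ_eq k hk a e]
    exact Submodule.mem_sup_right (Submodule.mem_span_singleton_self _)
  let ψ : R →ₗ[R] (↥T ⧸ S.submoduleOf T) :=
    (S.submoduleOf T).mkQ ∘ₗ LinearMap.toSpanSingleton R ↥T ⟨e ⟨k, hk⟩, hek⟩
  have hψ : ∀ r : R, ψ r = (S.submoduleOf T).mkQ ⟨r • e ⟨k, hk⟩, T.smul_mem r hek⟩ := fun r => rfl
  have hsurj : Function.Surjective ψ := by
    intro x
    obtain ⟨⟨x, hx⟩, rfl⟩ := Submodule.mkQ_surjective _ x
    have hx' := hx
    rw [hT, span_sc_succ_eq k hk a e] at hx'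
    obtain ⟨y, hy, z, hz, hyz⟩ := Submodule.mem_sup.mp hx'
    obtain ⟨r, rfl⟩ := Submodule.mem_span_singleton.mp hz
    refine ⟨r, ?_⟩
    rw [hψ]
    symm
    rw [Submodule.mkQ_apply, Submodule.mkQ_apply, Submodule.Quotient.eq]
    show (⟨x, hx⟩ - ⟨r • e ⟨k, hk⟩, _⟩ : ↥T).1 ∈ S
    show x - r • e ⟨k, hk⟩ ∈ S
    rw [← hyz, add_sub_cancel_right]
    exact hy
  have hker : LinearMap.ker ψ = q ⊔ Ideal.span {a} := by
    ext r
    rw [LinearMap.mem_ker, hψ, Submodule.mkQ_apply, Submodule.Quotient.mk_eq_zero]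
    show r • e ⟨k, hk⟩ ∈ S ↔ _
    exact mem_span_sc_iff k hk ha he r
  have e1 := ψ.quotKerEquivOfSurjective hsurj
  rw [← e1.length_eq]
  exact (Submodule.quotEquivOfEq _ _ hker).length_eq

theorem ql_sc [hq : q.IsPrime] {n : ℕ} {a : R} (ha : a ∉ q) {e : Fin n → V} (he : Good q e) :
    ∀ d : ℕ, d ≤ n →
    ql (Submodule.span R (Set.range e)) (Submodule.span R (Set.range (sc (n - d) a e))) =
      d • Module.length R (R ⧸ (q ⊔ Ideal.span {a})) := by
  intro d
  induction d with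
  | zero =>
    intro _
    rw [Nat.sub_zero, sc_top (le_refl n), ql_self, zero_smul]
  | succ d ih =>
    intro hd
    have h1 : n - d = (n - (d + 1)) + 1 := by omega
    rw [ql_add (span_sc_succ_le (n - (d + 1)) a e) (span_sc_le (n - (d + 1) + 1) a e), ← h1,
      ih (by omega), h1, ql_sc_step (n - (d + 1)) (by omega) ha he, succ_nsmul]

end scale

end Groth.Agent.Lib.Helper29.Gd
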