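import Groth.Agent.Lib.Helper29.GdC

/-!
# Good tuples, part D: moving an entry to the front; admissibility over the localization
-/

set_option autoImplicit false

namespace Groth.Agent.Lib.Helper29.Gd

open IsLocalRing CycDet Groth.Agent.Lib.Helper29.CycDetLib Groth.Agent.Lib.Helper29.Lattice

universe u v w

section front

variable {R : Type u} [CommRing R] [IsLocalRing R] {q : Ideal R}
  {V : Type v} [AddCommGroup V] [Module R V]

theorem good_swap {l : ℕ} {e : Fin l → V} (he : Good q e) (a b : Fin l)
    (hab : (b : ℕ) + 1 = (a : ℕ))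
    (hc : ∀ r ∈ q, r • e a ∈ spanBefore R V e b) :
    Good q (e ∘ Equiv.swap a b) := by
  intro j r
  by_cases hja : j = a
  · subst hja
    rw [spanBefore_swap_mid R e j b hab]
    simp only [Function.comp_apply, Equiv.swap_apply_left]
    constructor
    · intro h
      obtain ⟨w, hw, z, hz, hwz⟩ := Submodule.mem_sup.mp h
      obtain ⟨s, rfl⟩ := Submodule.mem_span_singleton.mp hz
      have h1 : s • e j ∈ spanBefore R V e j := by
        have : s • e j = r • e b - w := by rw [← hwz]; abel
        rw [this]
        refine Submodule.sub_mem _ ?_ (spanBefore_mono R e (by omega) hw)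
        exact Submodule.smul_mem _ _ (mem_spanBefore R e (by omega))
      have h2 := (he j s).mp h1
      have h3 := hc s h2
      have h4 : r • e b ∈ spanBefore R V e b := by
        rw [← hwz]; exact Submodule.add_mem _ hw h3
      exact (he b r).mp h4
    · intro h
      exact Submodule.mem_sup_left ((he b r).mpr h)
  · by_cases hjb : j = b
    · subst hjb
      rw [spanBefore_swap R e a j hab j (Or.inl le_rfl)]
      simp only [Function.comp_apply, Equiv.swap_apply_right]
      constructor
      · intro h
        exact (he a r).mp (spanBefore_mono R e (by omega) h)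
      · intro h
        exact hc r h
    · rw [spanBefore_swap R e a b hab j]
      · simp only [Function.comp_apply, Equiv.swap_apply_of_ne_of_ne hja hjb]
        exact he j r
      · have h1 : (j : ℕ) ≠ a := fun h => hja (Fin.ext h)
        have h2 : (j : ℕ) ≠ b := fun h => hjb (Fin.ext h)
        omega

theorem good_front {n : ℕ} :
    ∀ (k : ℕ) (hk : k < n + 1) (e : Fin (n + 1) → V), Good q e →
      (∀ r ∈ q, r • e ⟨k, hk⟩ = 0) →
      Good q (Fin.cons (e ⟨k, hk⟩)
        (fun j => e ((⟨k, hk⟩ : Fin (n + 1)).succAbove j)) : Fin (n + 1) → V) := by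
  intro k
  induction k with
  | zero =>
    intro hk e he _
    have : (Fin.cons (e ⟨0, hk⟩) (fun j => e ((⟨0, hk⟩ : Fin (n + 1)).succAbove j)) :
        Fin (n + 1) → V) = e := by
      funext j
      refine Fin.cases ?_ ?_ j
      · rw [Fin.cons_zero]; rfl
      · intro j'
        rw [Fin.cons_succ]
        rfl
    rw [this]
    exact he
  | succ k ih =>
    intro hk e he hef
    set a : Fin (n + 1) := ⟨k + 1, hk⟩ with ha
    set b : Fin (n + 1) := ⟨k, by omega⟩ with hb
    have hab : (b : ℕ) + 1 = (a : ℕ) := rfl
    have hc : ∀ r ∈ q, r • e a ∈ spanBefore R V e b := by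
      intro r hr
      rw [hef r hr]
      exact Submodule.zero_mem _
    have he' := good_swap he a b hab hc
    have hval : (e ∘ Equiv.swap a b) ⟨k, by omega⟩ = e a := by
      rw [Function.comp_apply]
      change e (Equiv.swap a b b) = _
      rw [Equiv.swap_apply_right]
    have h2 := ih (by omega) (e ∘ Equiv.swap a b) he' (by
      intro r hr
      rw [hval]
      exact hef r hr)
    have h3 : (fun j => (e ∘ Equiv.swap a b) ((⟨k, by omega⟩ : Fin (n + 1)).succAbove j)) =
        fun j => e (a.succAbove j) := by
      funext j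
      rw [Function.comp_apply]
      change e (Equiv.swap a b (b.succAbove j)) = _
      rw [swap_succAbove a b hab]
    rw [h3, hval] at h2
    exact h2

theorem span_front {n : ℕ} (i : Fin (n + 1)) (e : Fin (n + 1) → V) :
    Submodule.span R (Set.range (Fin.cons (e i) (fun j => e (i.succAbove j)) :
      Fin (n + 1) → V)) = Submodule.span R (Set.range e) := by
  apply le_antisymm
  · rw [Submodule.span_le]
    rintro _ ⟨j, rfl⟩
    refine Fin.cases ?_ ?_ j
    · rw [Fin.cons_zero]; exact Submodule.subset_span ⟨i, rfl⟩
    · intro j'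
      rw [Fin.cons_succ]; exact Submodule.subset_span ⟨_, rfl⟩
  · rw [Submodule.span_le]
    rintro _ ⟨j, rfl⟩
    by_cases hj : j = i
    · subst hj
      exact Submodule.subset_span ⟨0, by rw [Fin.cons_zero]⟩
    · obtain ⟨j', rfl⟩ := Fin.exists_succAbove_eq hj
      exact Submodule.subset_span ⟨j'.succ, by rw [Fin.cons_succ]⟩

end front

section loc

variable {R : Type u} [CommRing R] [IsLocalRing R] {q : Ideal R} [hq : q.IsPrime]
  {V : Type v} [AddCommGroup V] [Module R V] [Module (Localization.AtPrime q) V]
  [IsScalarTower R (Localization.AtPrime q) V]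

theorem spanBefore_le_restrict {n : ℕ} (e : Fin n → V) (k : ℕ) :
    spanBefore R V e k ≤ (spanBefore (Localization.AtPrime q) V e k).restrictScalars R := by
  rw [spanBefore_le_iff]
  intro j hj
  exact mem_spanBefore (Localization.AtPrime q) e hj

theorem Good.adm {n : ℕ} {e : Fin n → V} (he : Good q e) :
    IsAdmissible (Localization.AtPrime q) V e := by
  intro i m hm
  obtain ⟨r, s, rfl⟩ := IsLocalization.exists_mk'_eq q.primeCompl m
  have hr : r ∈ q := (IsLocalization.AtPrime.mk'_mem_maximal_iff (Localization.AtPrime q) q r s).mp hm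
  have h1 : r • e i ∈ spanBefore (Localization.AtPrime q) V e i :=
    spanBefore_le_restrict e i ((he i r).mpr hr)
  have h2 : IsLocalization.mk' (Localization.AtPrime q) r s • e i =
      IsLocalization.mk' (Localization.AtPrime q) 1 s • (r • e i) := by
    rw [IsLocalization.mk'_eq_mul_mk'_one, mul_comm, mul_smul, algebraMap_smul]
  rw [h2]
  exact Submodule.smul_mem _ _ h1

variable {W : Type w} [AddCommGroup W] [Module (ResidueField (Localization.AtPrime q)) W]

/-- the residue of `a ∉ q` -/
noncomputable def abar (a : R) : ResidueField (Localization.AtPrime q) :=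
  residue _ (algebraMap R (Localization.AtPrime q) a)

theorem theta_sc {n : ℕ} {Θ : (Fin n → V) → W} (hΘ : IsDetFun (Localization.AtPrime q) Θ)
    {a : R} (ha : a ∉ q) {e : Fin n → V} (he : Good q e) :
    ∀ d : ℕ, d ≤ n → Θ (sc (n - d) a e) = (abar (q := q) a) ^ d • Θ e := by
  intro d
  induction d with
  | zero =>
    intro _
    rw [Nat.sub_zero, sc_top (le_refl n), pow_zero, one_smul]
  | succ d ih =>
    intro hd
    have hu : IsUnit (algebraMap R (Localization.AtPrime q) a) :=
      (IsLocalization.AtPrime.isUnit_to_map_iff (Localization.AtPrime q) q a).mpr ha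
    have h1 : n - d = (n - (d + 1)) + 1 := by omega
    have hk : n - (d + 1) < n := by omega
    have key := hΘ.relB (sc (n - (d + 1)) a e) (sc (n - (d + 1) + 1) a e)
      (good_sc (q := q) _ ha he).adm (good_sc (q := q) _ ha he).adm ⟨n - (d + 1), hk⟩ hu.unit
      (by
        intro j hj
        have hj' : (j : ℕ) ≠ n - (d + 1) := fun h => hj (Fin.ext h)
        by_cases hlt : (j : ℕ) < n - (d + 1)
        · rw [sc_of_lt a e hlt, sc_of_lt a e (by omega)]
        · rw [sc_of_le a e (by omega), sc_of_le a e (by omega)])
      (by
        rw [sc_of_le a e (j := ⟨n - (d + 1), hk⟩) (le_refl _),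
          sc_of_lt a e (j := ⟨n - (d + 1), hk⟩) (by simp), IsUnit.unit_spec, algebraMap_smul,
          sub_self]
        exact Submodule.zero_mem _)
    rw [key, ← h1, ih (by omega), IsUnit.unit_spec, pow_succ, mul_smul, smul_comm]
    rfl

end loc

end Groth.Agent.Lib.Helper29.Gd
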