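import Groth.Agent.Lib.Helper29.GdD

/-!
# Good tuples, part E: dividing out the first entry
-/

set_option autoImplicit false

namespace Groth.Agent.Lib.Helper29.Gd

open IsLocalRing CycDet Groth.Agent.Lib.Helper29.CycDetLib Groth.Agent.Lib.Helper29.Lattice

universe u v w

section qlmap

variable {R : Type u} [CommRing R] {V : Type v} [AddCommGroup V] [Module R V]
  {V' : Type w} [AddCommGroup V'] [Module R V']

theorem ql_map_of_ker (θ : V →ₗ[R] V') {M N : Submodule R V} (hNM : N ≤ M)
    (hker : ∀ x ∈ M, θ x = 0 → x ∈ N) :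
    ql (M.map θ) (N.map θ) = ql M N := by
  unfold ql
  let g : ↥M →ₗ[R] (↥(M.map θ) ⧸ (N.map θ).submoduleOf (M.map θ)) :=
    ((N.map θ).submoduleOf (M.map θ)).mkQ ∘ₗ θ.submoduleMap M
  have hg : ∀ x : ↥M, g x = ((N.map θ).submoduleOf (M.map θ)).mkQ (θ.submoduleMap M x) :=
    fun x => rfl
  have hsurj : Function.Surjective g :=
    (Submodule.mkQ_surjective _).comp (θ.submoduleMap_surjective M)
  have hkerg : LinearMap.ker g = N.submoduleOf M := by
    ext x
    rw [LinearMap.mem_ker, hg, Submodule.mkQ_apply, Submodule.Quotient.mk_eq_zero]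
    show θ x.1 ∈ N.map θ ↔ x.1 ∈ N
    constructor
    · rintro ⟨y, hy, hyx⟩
      have h1 : x.1 - y ∈ N := by
        apply hker
        · exact Submodule.sub_mem _ x.2 (hNM hy)
        · rw [map_sub, hyx, sub_self]
      have : x.1 = (x.1 - y) + y := by abel
      rw [this]
      exact Submodule.add_mem _ h1 hy
    · intro hx
      exact ⟨x.1, hx, rfl⟩
  have e1 := g.quotKerEquivOfSurjective hsurj
  rw [← e1.length_eq]
  exact (Submodule.quotEquivOfEq _ _ hkerg).length_eq

end qlmap

section quot

variable {R : Type u} [CommRing R] [IsLocalRing R] {q : Ideal R} [hq : q.IsPrime]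
  {V : Type v} [AddCommGroup V] [Module R V] [Module (Localization.AtPrime q) V]
  [IsScalarTower R (Localization.AtPrime q) V]

/-- the quotient map, as an `R`-linear map -/
noncomputable def piR (v : V) : V →ₗ[R] V ⧸ Submodule.span (Localization.AtPrime q) {v} :=
  (Submodule.span (Localization.AtPrime q) {v}).mkQ.restrictScalars R

theorem piR_apply (v x : V) :
    piR (q := q) v x = (Submodule.span (Localization.AtPrime q) {v}).mkQ x := rfl

theorem piR_eq_zero_iff (v x : V) :
    piR (q := q) v x = 0 ↔ x ∈ Submodule.span (Localization.AtPrime q) {v} := by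
  rw [piR_apply, Submodule.mkQ_apply, Submodule.Quotient.mk_eq_zero]

theorem piR_self (v : V) : piR (q := q) v v = 0 :=
  (piR_eq_zero_iff v v).mpr (Submodule.mem_span_singleton_self v)

/-- a good lattice meets `R' v` in `R v` -/
theorem Good.mem_span_first {n : ℕ} {t : Fin (n + 1) → V} (ht : Good q t) (x : V)
    (hx : x ∈ Submodule.span R (Set.range t))
    (hxv : x ∈ Submodule.span (Localization.AtPrime q) {t 0}) :
    x ∈ Submodule.span R {t 0} := by
  obtain ⟨ρ, rfl⟩ := Submodule.mem_span_singleton.mp hxv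
  obtain ⟨b, s, rfl⟩ := IsLocalization.exists_mk'_eq q.primeCompl ρ
  have h1 : spanBefore R V t 1 = Submodule.span R {t 0} := by
    have := spanBefore_succ R t 0
    rw [Fin.val_zero, spanBefore_zero, bot_sup_eq] at this
    exact this
  rw [← h1]
  apply ht.sat' s.2 1 _ hx
  rw [h1]
  have : (s : R) • (IsLocalization.mk' (Localization.AtPrime q) b s • t 0) = b • t 0 := by
    rw [← algebraMap_smul (Localization.AtPrime q) (s : R), smul_smul,
      IsLocalization.mk'_spec', algebraMap_smul]
  rw [this]
  exact Submodule.smul_mem _ _ (Submodule.mem_span_singleton_self _)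

theorem spanBefore_succ_eq_tail {n : ℕ} (t : Fin (n + 1) → V) (k : ℕ) :
    spanBefore R V t (k + 1) = Submodule.span R {t 0} ⊔ spanBefore R V (Fin.tail t) k := by
  conv_lhs => rw [← Fin.cons_self_tail t]
  exact spanBefore_cons_succ (t 0) (Fin.tail t) k

theorem good_quot {n : ℕ} {t : Fin (n + 1) → V} (ht : Good q t) :
    Good q (piR (q := q) (t 0) ∘ Fin.tail t) := by
  intro j r
  rw [spanBefore_comp_linear, ← ht j.succ r, Fin.val_succ, spanBefore_succ_eq_tail,
    Function.comp_apply, ← map_smul]
  constructor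
  · rintro ⟨w, hw, hwr⟩
    have h0 : piR (q := q) (t 0) (r • Fin.tail t j - w) = 0 := by
      rw [map_sub, hwr, sub_self]
    have h1 := (piR_eq_zero_iff _ _).mp h0
    have h2 : r • Fin.tail t j - w ∈ Submodule.span R (Set.range t) := by
      apply Submodule.sub_mem
      · exact Submodule.smul_mem _ _ (Submodule.subset_span ⟨j.succ, rfl⟩)
      · have := spanBefore_le_range R t (j + 1)
        rw [spanBefore_succ_eq_tail] at this
        exact this (Submodule.mem_sup_right hw)
    have h3 := ht.mem_span_first _ h2 h1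
    have : r • t j.succ = (r • Fin.tail t j - w) + w := by
      show r • Fin.tail t j = _
      abel
    rw [this]
    exact Submodule.add_mem _ (Submodule.mem_sup_left h3) (Submodule.mem_sup_right hw)
  · intro h
    obtain ⟨y, hy, w, hw, hyw⟩ := Submodule.mem_sup.mp h
    obtain ⟨c, rfl⟩ := Submodule.mem_span_singleton.mp hy
    refine ⟨w, hw, ?_⟩
    show _ = piR (q := q) (t 0) (r • t j.succ)
    rw [← hyw, map_add, map_smul, piR_self, smul_zero, zero_add]

theorem span_quot {n : ℕ} (t : Fin (n + 1) → V) :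
    Submodule.span R (Set.range (piR (q := q) (t 0) ∘ Fin.tail t)) =
      (Submodule.span R (Set.range t)).map (piR (q := q) (t 0)) := by
  rw [Submodule.map_span]
  apply le_antisymm
  · rw [Submodule.span_le]
    rintro _ ⟨j, rfl⟩
    exact Submodule.subset_span ⟨t j.succ, ⟨j.succ, rfl⟩, rfl⟩
  · rw [Submodule.span_le]
    rintro _ ⟨_, ⟨j, rfl⟩, rfl⟩
    refine Fin.cases ?_ ?_ j
    · rw [piR_self]; exact Submodule.zero_mem _
    · intro j'
      exact Submodule.subset_span ⟨j', rfl⟩

theorem ql_quot {n : ℕ} {t t' : Fin (n + 1) → V} (ht' : Good q t') (h0 : t 0 = t' 0)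
    (hle : Submodule.span R (Set.range t) ≤ Submodule.span R (Set.range t')) :
    ql (Submodule.span R (Set.range (piR (q := q) (t' 0) ∘ Fin.tail t')))
      (Submodule.span R (Set.range (piR (q := q) (t' 0) ∘ Fin.tail t))) =
    ql (Submodule.span R (Set.range t')) (Submodule.span R (Set.range t)) := by
  rw [span_quot t']
  have h1 := span_quot (q := q) t
  rw [h0] at h1
  rw [h1]
  apply ql_map_of_ker _ hle
  intro x hx hx0
  have h2 := ht'.mem_span_first x hx ((piR_eq_zero_iff _ _).mp hx0)
  obtain ⟨c, rfl⟩ := Submodule.mem_span_singleton.mp h2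
  rw [← h0]
  exact Submodule.smul_mem _ _ (Submodule.subset_span ⟨0, rfl⟩)

variable {W : Type w} [AddCommGroup W] [Module (ResidueField (Localization.AtPrime q)) W]

theorem theta_quot {n : ℕ} {Θ : (Fin (n + 1) → V) → W} (hΘ : IsDetFun (Localization.AtPrime q) Θ)
    {t : Fin (n + 1) → V} (ht : Good q t)
    {s : V ⧸ Submodule.span (Localization.AtPrime q) {t 0} → V}
    (hs : ∀ y, (Submodule.span (Localization.AtPrime q) {t 0}).mkQ (s y) = y) :
    Θ (Fin.cons (t 0) (s ∘ (piR (q := q) (t 0) ∘ Fin.tail t))) = Θ t := by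
  symm
  apply tri_eq hΘ t _ ht.adm
  intro x
  refine Fin.cases ?_ ?_ x
  · rw [Fin.cons_zero, sub_self]; exact Submodule.zero_mem _
  · intro j
    rw [Fin.cons_succ]
    have h1 : t j.succ - (s ∘ (piR (q := q) (t 0) ∘ Fin.tail t)) j ∈
        Submodule.span (Localization.AtPrime q) {t 0} := by
      rw [← piR_eq_zero_iff, map_sub, sub_eq_zero]
      simp only [Function.comp_apply]
      rw [piR_apply, piR_apply, hs]
      rfl
    have h2 : Submodule.span (Localization.AtPrime q) {t 0} ≤
        spanBefore (Localization.AtPrime q) V t (j.succ : Fin (n + 1)) := by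
      rw [Submodule.span_singleton_le_iff_mem]
      exact mem_spanBefore _ t (by simp)
    exact h2 h1

end quot

end Groth.Agent.Lib.Helper29.Gd
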