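import Groth.Agent.Lib.Helper29.LatticeC
import Groth.Prelude.Def_Tame

set_option autoImplicit false

namespace Groth.Agent.Lib.Helper29.Lattice

universe u

section ordfrac

variable {A : Type u} [CommRing A] [IsDomain A] [IsNoetherianRing A]
  {K : Type u} [Field K] [Algebra A K] [IsFractionRing A K]

omit [IsDomain A] [IsNoetherianRing A] in
theorem krullDimLE_one (hA : ringKrullDim A = 1) : Ring.KrullDimLE 1 A := by
  rw [Ring.krullDimLE_iff, hA]; rfl

theorem cyc_ordFrac_eq [Ring.KrullDimLE 1 A] (f : K) :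
    CycAlg.ordFrac A K f = WithZero.recZeroCoe (motive := fun _ => ℤ) 0
      (fun z => Multiplicative.toAdd z) (Ring.ordFrac A f) := by
  unfold CycAlg.ordFrac
  rw [dif_pos ⟨inferInstance, inferInstance, inferInstance, inferInstance⟩]

theorem cyc_ordFrac_mul [Ring.KrullDimLE 1 A] {f g : K} (hf : f ≠ 0) (hg : g ≠ 0) :
    CycAlg.ordFrac A K (f * g) = CycAlg.ordFrac A K f + CycAlg.ordFrac A K g := by
  rw [cyc_ordFrac_eq, cyc_ordFrac_eq, cyc_ordFrac_eq, map_mul]
  obtain ⟨x, hx⟩ := WithZero.ne_zero_iff_exists.mp ((map_ne_zero (Ring.ordFrac A (K := K))).mpr hf)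
  obtain ⟨y, hy⟩ := WithZero.ne_zero_iff_exists.mp ((map_ne_zero (Ring.ordFrac A (K := K))).mpr hg)
  rw [← hx, ← hy, ← WithZero.coe_mul, WithZero.recZeroCoe_coe, WithZero.recZeroCoe_coe,
    WithZero.recZeroCoe_coe, toAdd_mul]

theorem cyc_ordFrac_algebraMap [Ring.KrullDimLE 1 A] {a : A} (ha : a ≠ 0) :
    CycAlg.ordFrac A K (algebraMap A K a) = ((Ring.ord A a).toNat : ℤ) := by
  rw [cyc_ordFrac_eq]
  have ha1 : a ∈ nonZeroDivisors A := mem_nonZeroDivisors_iff_ne_zero.mpr ha
  have hna : Ring.ord A a = ((Ring.ord A a).toNat : ℕ∞) :=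
    (ENat.coe_toNat (Ring.ord_ne_top ha1)).symm
  rw [Ring.ordFrac_eq_ord A ha, Ring.ordMonoidWithZeroHom_eq_coe A ha1 hna,
    WithZero.recZeroCoe_coe, toAdd_ofAdd]

theorem cyc_ordFrac_one [Ring.KrullDimLE 1 A] : CycAlg.ordFrac A K (1 : K) = 0 := by
  have := cyc_ordFrac_algebraMap (A := A) (K := K) (one_ne_zero (α := A))
  rw [map_one, Ring.ord_one] at this
  simpa using this

theorem cyc_ordFrac_div [Ring.KrullDimLE 1 A] {f g : K} (hf : f ≠ 0) (hg : g ≠ 0) :
    CycAlg.ordFrac A K (f / g) = CycAlg.ordFrac A K f - CycAlg.ordFrac A K g := by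
  have h := cyc_ordFrac_mul (A := A) (div_ne_zero hf hg) hg
  rw [div_mul_cancel₀ f hg] at h
  rw [h]; ring

omit [IsNoetherianRing A] in
theorem ord_prod {n : ℕ} (a : Fin n → A) (ha : ∀ k, a k ≠ 0) :
    Ring.ord A (∏ k, a k) = ∑ k, Ring.ord A (a k) := by
  have : ∀ S : Finset (Fin n), Ring.ord A (∏ k ∈ S, a k) = ∑ k ∈ S, Ring.ord A (a k) := by
    intro S
    classical
    induction S using Finset.induction_on with
    | empty => simp [Ring.ord_one]
    | insert x S hx ih =>
      rw [Finset.prod_insert hx, Finset.sum_insert hx, Ring.ord_mul _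
        (mem_nonZeroDivisors_iff_ne_zero.mpr (Finset.prod_ne_zero_iff.mpr fun k _ => ha k)), ih]
  exact this Finset.univ

end ordfrac

section std

variable {A : Type u} [CommRing A] [IsDomain A] [IsNoetherianRing A]
  {K : Type u} [Field K] [Algebra A K] [IsFractionRing A K]

variable (A K) in
/-- the standard lattice `Aⁿ ⊆ Kⁿ` -/
def stdL (n : ℕ) : Submodule A (Fin n → K) :=
  LinearMap.range ((Algebra.linearMap A K).compLeft (Fin n))

omit [IsDomain A] [IsNoetherianRing A] [IsFractionRing A K] in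
theorem stdL_isLattice (n : ℕ) : Submodule.IsLattice K (stdL A K n) where
  fg := by
    unfold stdL
    rw [LinearMap.range_eq_map]
    exact Submodule.FG.map _ (Module.Finite.fg_top)
  span_eq_top := by
    rw [eq_top_iff, ← (Pi.basisFun K (Fin n)).span_eq, Submodule.span_le]
    rintro _ ⟨k, rfl⟩
    apply Submodule.subset_span
    refine ⟨Pi.single k 1, ?_⟩
    ext j
    simp only [LinearMap.compLeft_apply, Function.comp_apply, Algebra.linearMap_apply,
      Pi.basisFun_apply]
    by_cases h : j = k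
    · subst h; simp
    · simp [Pi.single_eq_of_ne h]

omit [IsNoetherianRing A] in
theorem compLeft_injective (n : ℕ) :
    Function.Injective ((Algebra.linearMap A K).compLeft (Fin n)) := by
  intro v w h
  funext k
  have := congrFun h k
  simp only [LinearMap.compLeft_apply, Function.comp_apply, Algebra.linearMap_apply] at this
  exact IsFractionRing.injective A K this

theorem ql_top_range_diagonal {n : ℕ} (a : Fin n → A) :
    ql (⊤ : Submodule A (Fin n → A)) (LinearMap.range (Matrix.toLin' (Matrix.diagonal a))) =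
      ∑ k, Ring.ord A (a k) := by
  unfold ql
  have e1 : (↥(⊤ : Submodule A (Fin n → A)) ⧸
      (LinearMap.range (Matrix.toLin' (Matrix.diagonal a))).submoduleOf ⊤) ≃ₗ[A]
      ((Fin n → A) ⧸ LinearMap.range (Matrix.toLin' (Matrix.diagonal a))) :=
    Submodule.Quotient.equiv _ _ Submodule.topEquiv (by
      ext x
      simp only [Submodule.mem_map, Submodule.submoduleOf, Submodule.mem_comap,
        Submodule.subtype_apply]
      constructor
      · rintro ⟨y, hy, rfl⟩
        exact hy
      · intro hx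
        exact ⟨⟨x, trivial⟩, hx, rfl⟩)
  have hpi : LinearMap.range (Matrix.toLin' (Matrix.diagonal a)) =
      Submodule.pi Set.univ (fun k => (Ideal.span {a k} : Submodule A A)) := by
    ext v
    simp only [LinearMap.mem_range, Submodule.mem_pi, Set.mem_univ, forall_true_left]
    constructor
    · rintro ⟨w, rfl⟩ k
      rw [Matrix.toLin'_apply, Matrix.mulVec_diagonal]
      exact Ideal.mul_mem_right _ _ (Ideal.mem_span_singleton_self _)
    · intro h
      choose w hw using fun k => Ideal.mem_span_singleton'.mp (h k)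
      refine ⟨w, ?_⟩
      funext k
      rw [Matrix.toLin'_apply, Matrix.mulVec_diagonal, ← hw k, mul_comm]
  rw [e1.length_eq, hpi, (Submodule.quotientPi _).length_eq, Module.length_pi_of_fintype]
  rfl

theorem dist_stdL_diagonal (hA : ringKrullDim A = 1) {n : ℕ} (a : Fin n → A) (ha : ∀ k, a k ≠ 0) :
    dist (stdL A K n)
      (imL (Matrix.toLin' (Matrix.diagonal (fun k => algebraMap A K (a k)))) (stdL A K n)) =
      ∑ k, ((Ring.ord A (a k)).toNat : ℤ) := by
  haveI := krullDimLE_one hA
  set ι := (Algebra.linearMap A K).compLeft (Fin n) with hι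
  have hcomm : ∀ v, Matrix.toLin' (Matrix.diagonal (fun k => algebraMap A K (a k))) (ι v) =
      ι (Matrix.toLin' (Matrix.diagonal a) v) := by
    intro v
    funext k
    rw [Matrix.toLin'_apply, Matrix.mulVec_diagonal]
    simp only [hι, LinearMap.compLeft_apply, Function.comp_apply, Algebra.linearMap_apply,
      Matrix.toLin'_apply, Matrix.mulVec_diagonal, map_mul]
  have h1 : stdL A K n = (⊤ : Submodule A (Fin n → A)).map ι := by
    unfold stdL; rw [Submodule.map_top]
  have h2 : imL (Matrix.toLin' (Matrix.diagonal (fun k => algebraMap A K (a k)))) (stdL A K n) =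
      (LinearMap.range (Matrix.toLin' (Matrix.diagonal a))).map ι := by
    ext x
    simp only [imL, stdL, Submodule.mem_map, LinearMap.mem_range]
    constructor
    · rintro ⟨_, ⟨v, rfl⟩, rfl⟩
      exact ⟨_, ⟨v, rfl⟩, (hcomm v).symm⟩
    · rintro ⟨_, ⟨v, rfl⟩, rfl⟩
      exact ⟨_, ⟨v, rfl⟩, hcomm v⟩
  rw [h2, h1, dist_map ι (compLeft_injective n)]
  unfold dist
  rw [top_inf_eq, ql_self, ql_top_range_diagonal]
  have hfin : ∀ k, Ring.ord A (a k) = ((Ring.ord A (a k)).toNat : ℕ∞) := fun k =>
    (ENat.coe_toNat (Ring.ord_ne_top (mem_nonZeroDivisors_iff_ne_zero.mpr (ha k)))).symm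
  rw [Finset.sum_congr rfl (fun k _ => hfin k), ← Nat.cast_sum, ENat.toNat_coe]
  simp

end std

end Groth.Agent.Lib.Helper29.Lattice
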