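import Groth.Agent.Lib.Helper29.GdE
import Groth.Agent.Lib.Helper29.LatticeD

/-!
# Good tuples, part F: the reduction step
-/

set_option autoImplicit false

namespace Groth.Agent.Lib.Helper29.Gd

open IsLocalRing CycDet Groth.Agent.Lib.Helper29.CycDetLib Groth.Agent.Lib.Helper29.Lattice

universe u v w

section step

variable {R : Type u} [CommRing R] [IsLocalRing R] {q : Ideal R} [hq : q.IsPrime]
  {V : Type v} [AddCommGroup V] [Module R V] [Module (Localization.AtPrime q) V]
  [IsScalarTower R (Localization.AtPrime q) V]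

theorem good_quot' {n : ℕ} {t : Fin (n + 1) → V} (ht : Good q t) {v : V} (hv : t 0 = v) :
    Good q (piR (q := q) v ∘ Fin.tail t) := by
  subst hv; exact good_quot ht

theorem ql_quot' {n : ℕ} {t t' : Fin (n + 1) → V} (ht' : Good q t') {v : V} (hv : t 0 = v)
    (hv' : t' 0 = v)
    (hle : Submodule.span R (Set.range t) ≤ Submodule.span R (Set.range t')) :
    ql (Submodule.span R (Set.range (piR (q := q) v ∘ Fin.tail t')))
      (Submodule.span R (Set.range (piR (q := q) v ∘ Fin.tail t))) =
    ql (Submodule.span R (Set.range t')) (Submodule.span R (Set.range t)) := by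
  subst hv'; exact ql_quot ht' hv hle

theorem span_quot_le' {n : ℕ} {t t' : Fin (n + 1) → V} {v : V} (hv : t 0 = v)
    (hv' : t' 0 = v)
    (hle : Submodule.span R (Set.range t) ≤ Submodule.span R (Set.range t')) :
    Submodule.span R (Set.range (piR (q := q) v ∘ Fin.tail t)) ≤
      Submodule.span R (Set.range (piR (q := q) v ∘ Fin.tail t')) := by
  subst hv'
  have h1 := span_quot (q := q) t
  rw [hv] at h1
  rw [h1, span_quot t']
  exact Submodule.map_mono hle

variable {W : Type w} [AddCommGroup W] [Module (ResidueField (Localization.AtPrime q)) W]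

theorem theta_quot' {n : ℕ} {Θ : (Fin (n + 1) → V) → W}
    (hΘ : IsDetFun (Localization.AtPrime q) Θ)
    {t : Fin (n + 1) → V} (ht : Good q t) {v : V} (hv : t 0 = v)
    {s : V ⧸ Submodule.span (Localization.AtPrime q) {v} → V}
    (hs : ∀ y, (Submodule.span (Localization.AtPrime q) {v}).mkQ (s y) = y) :
    Θ (Fin.cons v (s ∘ (piR (q := q) v ∘ Fin.tail t))) = Θ t := by
  subst hv; exact theta_quot hΘ ht hs

theorem Good.first_ne_zero {n : ℕ} {e : Fin (n + 1) → V} (he : Good q e) : e 0 ≠ 0 := by
  intro h
  have := (he.smul_zero_iff 1).mp (by rw [h, smul_zero])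
  exact hq.ne_top ((Ideal.eq_top_iff_one _).mpr this)

theorem Good.max_smul_first {n : ℕ} {e : Fin (n + 1) → V} (he : Good q e) :
    ∀ r ∈ maximalIdeal (Localization.AtPrime q), r • e 0 = 0 := by
  intro r hr
  have := he.adm 0 r hr
  rwa [Fin.val_zero, spanBefore_zero, Submodule.mem_bot] at this

/-- the reduction step: the data -/
theorem exists_step {n : ℕ} {e e' : Fin (n + 1) → V} (he : Good q e) (he' : Good q e')
    (hle : Submodule.span R (Set.range e) ≤ Submodule.span R (Set.range e')) :
    ∃ (a : R) (i : ℕ) (t t' : Fin (n + 1) → V), a ∉ q ∧ i ≤ n ∧ Good q t ∧ Good q t' ∧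
      t 0 = e 0 ∧ t' 0 = e 0 ∧
      Submodule.span R (Set.range t) ≤ Submodule.span R (Set.range t') ∧
      Submodule.span R (Set.range t) ≤ Submodule.span R (Set.range e) ∧
      Submodule.span R (Set.range t') ≤ Submodule.span R (Set.range e') ∧
      ql (Submodule.span R (Set.range e)) (Submodule.span R (Set.range t)) =
        n • Module.length R (R ⧸ (q ⊔ Ideal.span {a})) ∧
      ql (Submodule.span R (Set.range e')) (Submodule.span R (Set.range t')) =
        (n + 1 - i) • Module.length R (R ⧸ (q ⊔ Ideal.span {a})) ∧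
      ∀ (Θ : (Fin (n + 1) → V) → W), IsDetFun (Localization.AtPrime q) Θ →
        Θ t = (abar (q := q) a) ^ n • Θ e ∧
        (abar (q := q) a) ^ (n + 1 - i) • Θ e' =
          ((-1 : ResidueField (Localization.AtPrime q)) ^ i) • Θ t' := by
  classical
  set v := e 0 with hv
  have hvmem : v ∈ Submodule.span R (Set.range e') := hle (Submodule.subset_span ⟨0, rfl⟩)
  have hex : ∃ k, v ∈ spanBefore R V e' k := ⟨n + 1, by rwa [spanBefore_of_le R e' le_rfl]⟩
  have hk0 : Nat.find hex ≠ 0 := by
    intro h0
    have := Nat.find_spec hex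
    rw [h0, spanBefore_zero, Submodule.mem_bot] at this
    exact he.first_ne_zero this
  obtain ⟨i, hi⟩ := Nat.exists_eq_succ_of_ne_zero hk0
  have hin : i < n + 1 := by
    have : Nat.find hex ≤ n + 1 := Nat.find_min' hex (by rwa [spanBefore_of_le R e' le_rfl])
    omega
  have hvi : v ∈ spanBefore R V e' (i + 1) := by
    have := Nat.find_spec hex
    rwa [hi] at this
  have hvni : v ∉ spanBefore R V e' i := by
    apply Nat.find_min hex
    omega
  have h1 := spanBefore_succ R e' ⟨i, hin⟩
  simp only at h1
  rw [h1] at hvi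
  obtain ⟨w, hw, z, hz, hwz⟩ := Submodule.mem_sup.mp hvi
  obtain ⟨a, rfl⟩ := Submodule.mem_span_singleton.mp hz
  have ha : a ∉ q := by
    intro haq
    apply hvni
    rw [← hwz]
    exact Submodule.add_mem _ hw ((he' ⟨i, hin⟩ a).mpr haq)
  -- the new tuples
  have hS' : Good q (sc i a e') := good_sc i ha he'
  set eh : Fin (n + 1) → V := Function.update (sc i a e') ⟨i, hin⟩ v with heh
  have hd : ∀ x : Fin (n + 1), sc i a e' x - eh x ∈ spanBefore R V (sc i a e') x := by
    intro x
    by_cases hx : x = ⟨i, hin⟩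
    · subst hx
      rw [heh, Function.update_self, sc_of_le a e' (j := ⟨i, hin⟩) (le_refl _)]
      show _ ∈ spanBefore R V (sc i a e') i
      rw [spanBefore_sc_of_le a e' (le_refl _)]
      have : a • e' ⟨i, hin⟩ - v = - w := by rw [← hwz]; abel
      rw [this]
      exact Submodule.neg_mem _ hw
    · rw [heh, Function.update_of_ne hx, sub_self]
      exact Submodule.zero_mem _
  have hehG : Good q eh := good_tri hS' hd
  have hehi : eh ⟨i, hin⟩ = v := by rw [heh, Function.update_self]
  have hqv : ∀ r ∈ q, r • eh ⟨i, hin⟩ = 0 := by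
    intro r hr
    rw [hehi]
    exact (he.smul_zero_iff r).mpr hr
  have ht'G := good_front i hin eh hehG hqv
  have hspan' : Submodule.span R (Set.range (Fin.cons (eh ⟨i, hin⟩)
      (fun j => eh ((⟨i, hin⟩ : Fin (n + 1)).succAbove j)) : Fin (n + 1) → V)) =
      Submodule.span R (Set.range (sc i a e')) := by
    rw [span_front, span_tri hd]
  refine ⟨a, i, sc 1 a e, Fin.cons (eh ⟨i, hin⟩)
    (fun j => eh ((⟨i, hin⟩ : Fin (n + 1)).succAbove j)), ha, by omega, good_sc 1 ha he, ht'G,
    sc_of_lt a e (by simp), by rw [Fin.cons_zero, hehi], ?_, span_sc_le 1 a e, ?_, ?_, ?_, ?_⟩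
  · rw [hspan', Submodule.span_le]
    rintro _ ⟨j, rfl⟩
    by_cases hj : (j : ℕ) < 1
    · rw [sc_of_lt a e hj]
      have hj0 : j = 0 := Fin.ext (by simpa using hj)
      rw [hj0, ← hspan']
      refine Submodule.subset_span ⟨0, ?_⟩
      rw [Fin.cons_zero, hehi]
    · rw [sc_of_le a e (by omega), ← spanBefore_of_le R (sc i a e') le_rfl]
      apply smul_mem_spanBefore_sc
      rw [spanBefore_of_le R e' le_rfl]
      exact hle (Submodule.subset_span ⟨j, rfl⟩)
  · rw [hspan']
    exact span_sc_le i a e'
  · have := ql_sc ha he n (by omega)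
    rwa [Nat.add_sub_cancel_left] at this
  · rw [hspan']
    have := ql_sc ha he' (n + 1 - i) (by omega)
    have h2 : n + 1 - (n + 1 - i) = i := by omega
    rwa [h2] at this
  · intro Θ hΘ
    constructor
    · have := theta_sc hΘ ha he n (by omega)
      rwa [Nat.add_sub_cancel_left] at this
    · have h3 := theta_sc hΘ ha he' (n + 1 - i) (by omega)
      have h2 : n + 1 - (n + 1 - i) = i := by omega
      rw [h2] at h3
      rw [← h3, tri_eq hΘ (sc i a e') eh hS'.adm (by
        intro x
        exact spanBefore_le_restrict _ _ (hd x))]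
      exact moveFront hΘ (by
        intro r hr
        rw [hehi]
        exact he.max_smul_first r hr) i hin eh hehG.adm rfl

end step

end Groth.Agent.Lib.Helper29.Gd
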