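import Groth.Agent.Lib.Helper29.GdF
import Groth.Agent.S1833

/-!
# Good tuples, part G: lengths and determinants (the main induction)
-/

set_option autoImplicit false

namespace Groth.Agent.Lib.Helper29.Gd

open IsLocalRing CycDet Groth.Agent.Lib.Helper29.CycDetLib Groth.Agent.Lib.Helper29.Lattice

universe u v w

section nu

variable {A : Type u} [CommRing A] [IsDomain A] [IsNoetherianRing A]
  {K : Type u} [Field K] [Algebra A K] [IsFractionRing A K] [Ring.KrullDimLE 1 A]

theorem nu_pow {x : K} (hx : x ≠ 0) (m : ℕ) :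
    CycAlg.ordFrac A K (x ^ m) = m * CycAlg.ordFrac A K x := by
  induction m with
  | zero => rw [pow_zero, cyc_ordFrac_one]; simp
  | succ m ih =>
    rw [pow_succ, cyc_ordFrac_mul (pow_ne_zero m hx) hx, ih]
    push_cast; ring

theorem nu_neg_one_pow (i : ℕ) : CycAlg.ordFrac A K ((-1 : K) ^ i) = 0 := by
  have h1 : ((-1 : K) ^ i) * ((-1 : K) ^ i) = 1 := by
    rw [← pow_add, ← two_mul, pow_mul]; simp
  have hne : ((-1 : K) ^ i) ≠ 0 := pow_ne_zero _ (neg_ne_zero.mpr one_ne_zero)
  have h2 := cyc_ordFrac_mul (A := A) hne hne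
  rw [h1, cyc_ordFrac_one] at h2
  omega

end nu

section main

variable {R : Type u} [CommRing R] [IsLocalRing R] [IsNoetherianRing R] {q : Ideal R}
  [hq : q.IsPrime] [hdim : Ring.KrullDimLE 1 (R ⧸ q)]

omit [IsNoetherianRing R] hdim in
theorem abar_ne_zero {a : R} (ha : a ∉ q) : abar (q := q) a ≠ 0 := by
  unfold abar
  rw [residue_ne_zero_iff_isUnit]
  exact (IsLocalization.AtPrime.isUnit_to_map_iff (Localization.AtPrime q) q a).mpr ha

omit [IsNoetherianRing R] hdim in
theorem abar_eq (a : R) :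
    abar (q := q) a = algebraMap (R ⧸ q) q.ResidueField (Ideal.Quotient.mk q a) := by
  have : algebraMap R q.ResidueField a =
      algebraMap (R ⧸ q) q.ResidueField (Ideal.Quotient.mk q a) := by
    rw [IsScalarTower.algebraMap_apply R (R ⧸ q) q.ResidueField]
    rfl
  rw [← this]
  rfl

theorem length_ne_top {a : R} (ha : a ∉ q) :
    Module.length R (R ⧸ (q ⊔ Ideal.span {a})) ≠ ⊤ := by
  have h1 := Groth.Agent.S1833.ord_quotient_eq_cst a q
  unfold Groth.Agent.Lib.Helper29.LengthFormula.cst at h1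
  rw [← h1]
  apply Ring.ord_ne_top
  rw [mem_nonZeroDivisors_iff_ne_zero]
  intro h
  exact ha (Ideal.Quotient.eq_zero_iff_mem.mp h)

theorem nu_abar {a : R} (ha : a ∉ q) :
    CycAlg.ordFrac (R ⧸ q) q.ResidueField (abar (q := q) a) =
      ((Module.length R (R ⧸ (q ⊔ Ideal.span {a}))).toNat : ℤ) := by
  have h1 := Groth.Agent.S1833.ord_quotient_eq_cst a q
  unfold Groth.Agent.Lib.Helper29.LengthFormula.cst at h1
  rw [abar_eq, cyc_ordFrac_algebraMap, h1]
  intro h
  exact ha (Ideal.Quotient.eq_zero_iff_mem.mp h)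

theorem main_len : ∀ (n : ℕ) (V : Type v) [AddCommGroup V] [Module R V]
    [Module (Localization.AtPrime q) V] [IsScalarTower R (Localization.AtPrime q) V]
    (Θ : (Fin n → V) → q.ResidueField) (_ : IsDetFun (Localization.AtPrime q) Θ)
    (e e' : Fin n → V), Good q e → Good q e' →
    Submodule.span R (Set.range e) ≤ Submodule.span R (Set.range e') → Θ e ≠ 0 → Θ e' ≠ 0 →
    ∃ c : ℕ, ql (Submodule.span R (Set.range e')) (Submodule.span R (Set.range e)) = c ∧
      (c : ℤ) = CycAlg.ordFrac (R ⧸ q) q.ResidueField (Θ e / Θ e') := by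
  intro n
  induction n with
  | zero =>
    intro V _ _ _ _ Θ _ e e' _ _ _ h1 _
    have hee : e = e' := funext (fun j => Fin.elim0 j)
    subst hee
    refine ⟨0, by rw [ql_self]; rfl, ?_⟩
    rw [div_self h1, cyc_ordFrac_one]
    rfl
  | succ n ih =>
    intro V _ _ _ _ Θ hΘ e e' he he' hle hne hne'
    obtain ⟨a, i, t, t', ha, hi, htG, ht'G, ht0, ht'0, hle', hte, ht'e', hql1, hql2, hΘ'⟩ :=
      exists_step (W := q.ResidueField) he he' hle
    obtain ⟨hΘt, hΘt'⟩ := hΘ' Θ hΘ
    rw [smul_eq_mul] at hΘt hΘt'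
    rw [smul_eq_mul] at hΘt'
    have hab := abar_ne_zero (q := q) ha
    have hnt : Θ t ≠ 0 := by rw [hΘt]; exact mul_ne_zero (pow_ne_zero _ hab) hne
    have hnt' : Θ t' ≠ 0 := by
      intro h0
      rw [h0, mul_zero] at hΘt'
      exact mul_ne_zero (pow_ne_zero _ hab) hne' hΘt'
    -- the quotient
    have hs := Function.surjInv_eq
      (Submodule.mkQ_surjective (Submodule.span (Localization.AtPrime q) {e 0}))
    have hΘbar := isDetFun_liftT hΘ he.max_smul_first hs
    have hb1 := theta_quot' hΘ htG ht0 hs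
    have hb2 := theta_quot' hΘ ht'G ht'0 hs
    obtain ⟨c₁, hc₁, hc₁'⟩ := ih (V ⧸ Submodule.span (Localization.AtPrime q) {e 0}) _ hΘbar
      (piR (q := q) (e 0) ∘ Fin.tail t) (piR (q := q) (e 0) ∘ Fin.tail t')
      (good_quot' htG ht0) (good_quot' ht'G ht'0) (span_quot_le' ht0 ht'0 hle')
      (by rw [hb1]; exact hnt) (by rw [hb2]; exact hnt')
    rw [hb1, hb2] at hc₁'
    rw [ql_quot' ht'G ht0 ht'0 hle'] at hc₁
    -- lengths
    obtain ⟨o, ho⟩ := ENat.ne_top_iff_exists.mp (length_ne_top (q := q) ha)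
    have A1 := ql_add hte hle
    have A2 := ql_add hle' ht'e'
    rw [A2, hql1, hql2, hc₁, ← ho] at A1
    have hX : ql (Submodule.span R (Set.range e')) (Submodule.span R (Set.range e)) ≠ ⊤ := by
      intro htop
      rw [htop, top_add] at A1
      simp only [nsmul_eq_mul] at A1
      exact ENat.coe_ne_top _ (by exact_mod_cast A1)
    obtain ⟨c, hc⟩ := ENat.ne_top_iff_exists.mp hX
    refine ⟨c, hc.symm, ?_⟩
    rw [← hc] at A1
    simp only [nsmul_eq_mul] at A1
    have A3 : (n + 1 - i) * o + c₁ = c + n * o := by exact_mod_cast A1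
    -- orders
    have N1 := nu_abar (q := q) ha
    rw [← ho, ENat.toNat_coe] at N1
    have N2 : CycAlg.ordFrac (R ⧸ q) q.ResidueField (Θ t) =
        n * o + CycAlg.ordFrac (R ⧸ q) q.ResidueField (Θ e) := by
      rw [hΘt, cyc_ordFrac_mul (pow_ne_zero _ hab) hne, nu_pow hab, N1]
    have N3 : (↑(n + 1 - i) : ℤ) * o + CycAlg.ordFrac (R ⧸ q) q.ResidueField (Θ e') =
        CycAlg.ordFrac (R ⧸ q) q.ResidueField (Θ t') := by
      have := congrArg (CycAlg.ordFrac (R ⧸ q) q.ResidueField) hΘt'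
      rw [cyc_ordFrac_mul (pow_ne_zero _ hab) hne', nu_pow hab, N1,
        cyc_ordFrac_mul (pow_ne_zero _ (neg_ne_zero.mpr one_ne_zero)) hnt', nu_neg_one_pow,
        zero_add] at this
      exact this
    rw [cyc_ordFrac_div hnt hnt', N2, ← N3] at hc₁'
    rw [cyc_ordFrac_div hne hne']
    have A4 : ((n + 1 - i : ℕ) : ℤ) * o + c₁ = c + n * o := by exact_mod_cast A3
    linarith

end main

end Groth.Agent.Lib.Helper29.Gd
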