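import Groth.Agent.Lib.Helper29.GdG
import Groth.Agent.S1852

/-!
# Good tuples, part H: from filtrations with quotients `R/q` to good tuples; localization
-/

set_option autoImplicit false

namespace Groth.Agent.Lib.Helper29.Gd

open IsLocalRing CycDet Groth.Agent.Lib.Helper29.CycDetLib Groth.Agent.Lib.Helper29.Lattice
  Groth.Agent.Lib.Helper29.LengthFormula

universe u v w

section iso

variable {R : Type u} [CommRing R] [IsLocalRing R] {q : Ideal R}
  {M : Type u} [AddCommGroup M] [Module R M]

theorem good_of_iso {l : ℕ} (x : Fin l → M)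
    (hxq : ∀ i : Fin l, Nonempty ((↥(spanBefore R M x (i + 1)) ⧸
      (spanBefore R M x i).submoduleOf (spanBefore R M x (i + 1))) ≃ₗ[R] (R ⧸ q))) :
    Good q x := by
  intro i r
  obtain ⟨ε⟩ := hxq i
  have hmem : x i ∈ spanBefore R M x (i + 1) := mem_spanBefore R x (Nat.lt_succ_self _)
  set xb : ↥(spanBefore R M x (i + 1)) ⧸
      (spanBefore R M x i).submoduleOf (spanBefore R M x (i + 1)) :=
    Submodule.Quotient.mk ⟨x i, hmem⟩ with hxb
  have h1 : r • xb = 0 ↔ r • x i ∈ spanBefore R M x i := by
    rw [hxb, ← Submodule.Quotient.mk_smul, Submodule.Quotient.mk_eq_zero]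
    rfl
  rw [← h1]
  constructor
  · intro h
    -- r kills the whole quotient
    have hall : ∀ z : ↥(spanBefore R M x (i + 1)) ⧸
        (spanBefore R M x i).submoduleOf (spanBefore R M x (i + 1)), r • z = 0 := by
      intro z
      obtain ⟨⟨z, hz⟩, rfl⟩ := Submodule.Quotient.mk_surjective _ z
      have hz' := hz
      rw [spanBefore_succ R x i] at hz'
      obtain ⟨w, hw, y, hy, hwy⟩ := Submodule.mem_sup.mp hz'
      obtain ⟨c, rfl⟩ := Submodule.mem_span_singleton.mp hy
      have : (Submodule.Quotient.mk ⟨z, hz⟩ : ↥(spanBefore R M x (i + 1)) ⧸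
          (spanBefore R M x i).submoduleOf (spanBefore R M x (i + 1))) = c • xb := by
        rw [hxb, ← Submodule.Quotient.mk_smul, Submodule.Quotient.eq]
        show z - c • x i ∈ spanBefore R M x i
        rw [← hwy, add_sub_cancel_right]
        exact hw
      rw [this, smul_comm, h, smul_zero]
    have h2 : r • (1 : R ⧸ q) = 0 := by
      have := hall (ε.symm 1)
      rw [← map_smul, LinearEquiv.map_eq_zero_iff] at this
      exact this
    rw [← Ideal.Quotient.eq_zero_iff_mem]
    rw [Algebra.smul_def, mul_one] at h2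
    exact h2
  · intro hr
    apply ε.injective
    rw [map_smul, map_zero]
    obtain ⟨c, hc⟩ := Ideal.Quotient.mk_surjective (ε xb)
    rw [← hc, Algebra.smul_def, Ideal.Quotient.algebraMap_eq, ← map_mul,
      Ideal.Quotient.eq_zero_iff_mem]
    exact Ideal.mul_mem_right _ _ hr

theorem good_comp_injective {N : Type v} [AddCommGroup N] [Module R N] (θ : M →ₗ[R] N)
    (hθ : Function.Injective θ) {l : ℕ} {x : Fin l → M} (hx : Good q x) : Good q (θ ∘ x) := by
  intro j r
  rw [spanBefore_comp_linear, ← hx j r, Function.comp_apply, ← map_smul]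
  constructor
  · rintro ⟨w, hw, hwr⟩
    rw [← hθ hwr]; exact hw
  · intro h
    exact ⟨_, h, rfl⟩

end iso

section loc

variable {R : Type u} [CommRing R] [IsLocalRing R] {q : Ideal R} [hq : q.IsPrime]
  {M : Type u} [AddCommGroup M] [Module R M]

theorem mk_injective_of_good {l : ℕ} {x : Fin l → M} (hx : Good q x)
    (hspan : Submodule.span R (Set.range x) = ⊤) :
    Function.Injective (LocalizedModule.mkLinearMap q.primeCompl M) := by
  rw [← LinearMap.ker_eq_bot, eq_bot_iff]
  intro m hm
  rw [LinearMap.mem_ker, IsLocalizedModule.eq_zero_iff q.primeCompl] at hm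
  obtain ⟨s, hs⟩ := hm
  have h1 : m ∈ spanBefore R M x 0 := by
    apply hx.sat' s.2 0 m (by rw [hspan]; trivial)
    rw [spanBefore_zero, Submodule.mem_bot]
    exact hs
  rwa [spanBefore_zero] at h1

theorem length_loc_of_iso {l : ℕ} (x : Fin l → M)
    (hiso : ∀ i : Fin l, Nonempty ((↥(spanBefore R M x (i + 1)) ⧸
      (spanBefore R M x i).submoduleOf (spanBefore R M x (i + 1))) ≃ₗ[R] (R ⧸ q)))
    (hspan : Submodule.span R (Set.range x) = ⊤) :
    Module.length (Localization.AtPrime q) (LocalizedModule q.primeCompl M) = l := by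
  have hmono : ∀ k : ℕ, spanBefore R M x k ≤ spanBefore R M x (k+1) :=
    fun k => spanBefore_mono R x (Nat.le_succ k)
  have hind : ∀ k : ℕ, k ≤ l → lam ↥(spanBefore R M x k) q = (k : ℕ∞) := by
    intro k
    induction k with
    | zero =>
      intro _
      rw [spanBefore_zero, Nat.cast_zero]
      apply lam_eq_zero_of_smul_eq_zero _ q 1
        (fun h => hq.ne_top ((Ideal.eq_top_iff_one _).mpr h))
      intro z
      rw [one_smul]
      exact Subtype.ext ((Submodule.mem_bot R).mp z.2)
    | succ k ih =>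
      intro hk
      obtain ⟨e⟩ := hiso ⟨k, hk⟩
      rw [Groth.Agent.S1852.lam_succ_of_iso q _ _ (hmono k) e, ih (Nat.le_of_succ_le hk),
        Nat.cast_succ]
  have h1 := hind l le_rfl
  rw [spanBefore_of_le R x le_rfl, hspan] at h1
  rw [← lam_of_isPrime, ← h1]
  exact (lam_congr (Submodule.topEquiv (R := R) (M := M)) q).symm

end loc

end Groth.Agent.Lib.Helper29.Gd
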