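import Groth.Agent.Lib.Helper29.GdH

/-!
# Good tuples, part I: assembly (lengths and determinants for filtered modules)
-/

set_option autoImplicit false

namespace Groth.Agent.Lib.Helper29.Gd

open IsLocalRing CycDet Groth.Agent.Lib.Helper29.CycDetLib Groth.Agent.Lib.Helper29.Lattice
  Groth.Agent.Lib.Helper29.LengthFormula

universe u v w

section misc

variable {R : Type u} [CommRing R] {N : Type v} [AddCommGroup N] [Module R N]

theorem ql_top (P : Submodule R N) : ql (⊤ : Submodule R N) P = Module.length R (N ⧸ P) := by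
  unfold ql
  apply LinearEquiv.length_eq
  refine Submodule.Quotient.equiv _ _ Submodule.topEquiv ?_
  ext z
  constructor
  · rintro ⟨y, hy, rfl⟩
    exact hy
  · intro hz
    exact ⟨⟨z, trivial⟩, hz, rfl⟩

/-- an injective map between modules of the same finite length is surjective -/
theorem surjective_of_length_eq {A B : Type v} [AddCommGroup A] [Module R A] [AddCommGroup B]
    [Module R B] (g : A →ₗ[R] B) (hg : Function.Injective g) (l : ℕ)
    (hA : Module.length R A = l) (hB : Module.length R B = l) : Function.Surjective g := by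
  have h1 := Module.length_eq_add_of_exact g (LinearMap.range g).mkQ hg
    (Submodule.mkQ_surjective _) (by
      rw [LinearMap.exact_iff, Submodule.ker_mkQ])
  rw [hA, hB] at h1
  have h2 : Module.length R (B ⧸ LinearMap.range g) = 0 := by
    by_contra hne
    have hpos : 1 ≤ Module.length R (B ⧸ LinearMap.range g) := ENat.one_le_iff_ne_zero.mpr hne
    have : (l : ℕ∞) + 1 ≤ l := by
      calc (l : ℕ∞) + 1 ≤ l + Module.length R (B ⧸ LinearMap.range g) := by gcongr
        _ = l := h1.symm
    have h3 : ((l + 1 : ℕ) : ℕ∞) ≤ (l : ℕ∞) := by exact_mod_cast this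
    have := Nat.cast_le.mp h3
    omega
  rw [Module.length_eq_zero_iff, Submodule.Quotient.subsingleton_iff] at h2
  exact LinearMap.range_eq_top.mp h2

end misc

section final

variable (R : Type u) [CommRing R] [IsNoetherianRing R] [IsLocalRing R] (q : PrimeSpectrum R)
  (M N : Type u) [AddCommGroup M] [Module R M] [AddCommGroup N] [Module R N]

theorem partA (φ : M →ₗ[R] N) (l : ℕ) (x : Fin l → M) (y : Fin l → N)
    (hx : Submodule.span R (Set.range x) = ⊤) (hy : Submodule.span R (Set.range y) = ⊤)
    (hxq : ∀ i : Fin l, Nonempty ((↥(spanBefore R M x (i + 1)) ⧸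
      (spanBefore R M x i).submoduleOf (spanBefore R M x (i + 1))) ≃ₗ[R] (R ⧸ q.asIdeal)))
    (hyq : ∀ i : Fin l, Nonempty ((↥(spanBefore R N y (i + 1)) ⧸
      (spanBefore R N y i).submoduleOf (spanBefore R N y (i + 1))) ≃ₗ[R] (R ⧸ q.asIdeal))) :
    Function.Injective φ ↔ Function.Bijective (LocalizedModule.map q.asIdeal.primeCompl φ) := by
  haveI : q.asIdeal.IsPrime := q.2
  have hGx : Good q.asIdeal x := good_of_iso x hxq
  have hιM := mk_injective_of_good hGx hx
  have hlM := length_loc_of_iso x hxq hx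
  have hlN := length_loc_of_iso y hyq hy
  have hcomm : ∀ m, LocalizedModule.map q.asIdeal.primeCompl φ
      (LocalizedModule.mkLinearMap q.asIdeal.primeCompl M m) =
      LocalizedModule.mkLinearMap q.asIdeal.primeCompl N (φ m) := by
    intro m
    rw [LocalizedModule.mkLinearMap_apply, LocalizedModule.map_mk,
      LocalizedModule.mkLinearMap_apply]
  constructor
  · intro hinj
    have h1 := LocalizedModule.map_injective q.asIdeal.primeCompl φ hinj
    exact ⟨h1, surjective_of_length_eq _ h1 l hlM hlN⟩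
  · intro hb m₁ m₂ h
    apply hιM
    apply hb.1
    rw [hcomm, hcomm, h]

theorem partB (hq : ringKrullDim (R ⧸ q.asIdeal) = 1) [Module.Finite R M] [Module.Finite R N]
    (φ : M →ₗ[R] N) (l : ℕ) (x : Fin l → M) (y : Fin l → N)
    (hx : Submodule.span R (Set.range x) = ⊤) (hy : Submodule.span R (Set.range y) = ⊤)
    (hxq : ∀ i : Fin l, Nonempty ((↥(spanBefore R M x (i + 1)) ⧸
      (spanBefore R M x i).submoduleOf (spanBefore R M x (i + 1))) ≃ₗ[R] (R ⧸ q.asIdeal)))
    (hyq : ∀ i : Fin l, Nonempty ((↥(spanBefore R N y (i + 1)) ⧸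
      (spanBefore R N y i).submoduleOf (spanBefore R N y (i + 1))) ≃ₗ[R] (R ⧸ q.asIdeal)))
    (hinj : Function.Injective φ)
    (hl : (Module.length (Localization.AtPrime q.asIdeal)
      (LocalizedModule q.asIdeal.primeCompl N)).toNat = l)
    (ex ey : CycDet.Adm (Localization.AtPrime q.asIdeal) (LocalizedModule q.asIdeal.primeCompl N)
      (Module.length (Localization.AtPrime q.asIdeal)
        (LocalizedModule q.asIdeal.primeCompl N)).toNat)
    (f : q.asIdeal.ResidueField)
    (hex : ex.1 = fun i => LocalizedModule.mkLinearMap q.asIdeal.primeCompl N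
      (φ (x (Fin.cast hl i))))
    (hey : ey.1 = fun i => LocalizedModule.mkLinearMap q.asIdeal.primeCompl N
      (y (Fin.cast hl i)))
    (hsym : CycDet.symbol (Localization.AtPrime q.asIdeal)
        (LocalizedModule q.asIdeal.primeCompl N) ex =
      f • CycDet.symbol (Localization.AtPrime q.asIdeal)
        (LocalizedModule q.asIdeal.primeCompl N) ey) :
    ∃ n : ℕ, Module.length R (N ⧸ LinearMap.range φ) = n ∧
      (n : ℤ) = CycAlg.ordFrac (R ⧸ q.asIdeal) q.asIdeal.ResidueField f := by
  haveI : q.asIdeal.IsPrime := q.2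
  haveI : Ring.KrullDimLE 1 (R ⧸ q.asIdeal) := Lattice.krullDimLE_one hq
  have hGx : Good q.asIdeal x := good_of_iso x hxq
  have hGy : Good q.asIdeal y := good_of_iso y hyq
  have hιM := mk_injective_of_good hGx hx
  have hιN := mk_injective_of_good hGy hy
  have hlN := length_loc_of_iso y hyq hy
  have hbij := (partA R q M N φ l x y hx hy hxq hyq).mp hinj
  subst hl
  set ιN := LocalizedModule.mkLinearMap q.asIdeal.primeCompl N with hιNdef
  set ιM := LocalizedModule.mkLinearMap q.asIdeal.primeCompl M with hιMdef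
  obtain ⟨Δ, E, hΔ, hΔne, -, hE⟩ := exists_detEquiv.{u, u, u} (Localization.AtPrime q.asIdeal) _
    (LocalizedModule q.asIdeal.primeCompl N) hlN
  have hex' : ex.1 = (ιN ∘ₗ φ) ∘ x := by
    rw [hex]; funext i; rfl
  have hey' : ey.1 = ιN ∘ y := by
    rw [hey]; funext i; rfl
  have hGe : Good q.asIdeal ((ιN ∘ₗ φ) ∘ x) :=
    good_comp_injective (ιN ∘ₗ φ) (hιN.comp hinj) hGx
  have hGe' : Good q.asIdeal (ιN ∘ y) := good_comp_injective ιN hιN hGy
  have hLe' : Submodule.span R (Set.range (ιN ∘ y)) = (⊤ : Submodule R N).map ιN := by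
    rw [Set.range_comp, ← Submodule.map_span, hy]
  have hLe : Submodule.span R (Set.range ((ιN ∘ₗ φ) ∘ x)) = (LinearMap.range φ).map ιN := by
    rw [Set.range_comp, ← Submodule.map_span, hx, Submodule.map_comp, Submodule.map_top]
  have hle : Submodule.span R (Set.range ((ιN ∘ₗ φ) ∘ x)) ≤
      Submodule.span R (Set.range (ιN ∘ y)) := by
    rw [hLe, hLe']
    exact Submodule.map_mono le_top
  have hsp' : Submodule.span (Localization.AtPrime q.asIdeal) (Set.range (ιN ∘ y)) = ⊤ := by
    rw [Set.range_comp]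
    exact span_eq_top_of_isLocalizedModule (Localization.AtPrime q.asIdeal) q.asIdeal.primeCompl
      ιN hy
  have hsp : Submodule.span (Localization.AtPrime q.asIdeal) (Set.range ((ιN ∘ₗ φ) ∘ x)) = ⊤ := by
    have h1 : ((ιN ∘ₗ φ) ∘ x) = (LocalizedModule.map q.asIdeal.primeCompl φ) ∘ (ιM ∘ x) := by
      funext i
      simp only [Function.comp_apply, LinearMap.comp_apply]
      rw [hιMdef, hιNdef, LocalizedModule.mkLinearMap_apply, LocalizedModule.mkLinearMap_apply,
        LocalizedModule.map_mk]
    have h2 : Submodule.span (Localization.AtPrime q.asIdeal) (Set.range (ιM ∘ x)) = ⊤ := by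
      rw [Set.range_comp]
      exact span_eq_top_of_isLocalizedModule (Localization.AtPrime q.asIdeal)
        q.asIdeal.primeCompl ιM hx
    rw [h1, Set.range_comp, ← Submodule.map_span, h2, Submodule.map_top,
      LinearMap.range_eq_top]
    exact hbij.2
  have hne : Δ ((ιN ∘ₗ φ) ∘ x) ≠ 0 := hΔne _ hGe.adm hsp
  have hne' : Δ (ιN ∘ y) ≠ 0 := hΔne _ hGe'.adm hsp'
  obtain ⟨c, hc, hc'⟩ := main_len _ (LocalizedModule q.asIdeal.primeCompl N) Δ hΔ _ _ hGe hGe' hle
    hne hne'
  refine ⟨c, ?_, ?_⟩
  · rw [hLe, hLe', ql_map ιN hιN, ql_top] at hc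
    exact hc
  · rw [hc']
    congr 1
    have h1 := congrArg E hsym
    rw [map_smul] at h1
    unfold CycDet.symbol at h1
    rw [hE ex, hE ey, hex', hey', smul_eq_mul] at h1
    rw [h1, mul_div_assoc, div_self hne', mul_one]

end final

end Groth.Agent.Lib.Helper29.Gd
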