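import Groth.Agent.Lib.Helper29.KeyR

/-!
# Gluing finite extensions at height one primes, part A: embedding a finite extension with
`t`-power torsion cokernel into the total ring of fractions
-/

set_option autoImplicit false

namespace Groth.Agent.Lib.Helper29.Key

universe u

open IsLocalRing CycAlg

section embed

variable {R : Type u} [CommRing R] (B : Type u) [CommRing B] [Algebra R B] {s : R}
  (hs : s ∈ nonZeroDivisors R) (hinj : Function.Injective (algebraMap R B)) (n : ℕ)
  (hn : ∀ b : B, ∃ x : R, algebraMap R B x = s ^ n • b) (hreg : IsSMulRegular B s)

/-- numerator of `b` with respect to the denominator `s ^ n` -/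
noncomputable def num (b : B) : R := (hn b).choose

theorem num_spec (b : B) : algebraMap R B (num B n hn b) = s ^ n • b := (hn b).choose_spec

include hinj in
theorem num_unique {b : B} {x : R} (hx : algebraMap R B x = s ^ n • b) : x = num B n hn b :=
  hinj (hx.trans (num_spec B n hn b).symm)

/-- the embedding of `B` into the total ring of fractions of `R` -/
noncomputable def emb : B →ₐ[R] FractionRing R :=
  have hu : IsUnit (algebraMap R (FractionRing R) s ^ n) := (isUnit_algebraMap_of_nzd hs).pow n
  { toFun := fun b => algebraMap R (FractionRing R) (num B n hn b) * ((hu.unit⁻¹ : (FractionRing R)ˣ) : FractionRing R)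
    map_one' := by
      have h1 : num B n hn 1 = s ^ n := (num_unique B hinj n hn (by
        rw [Algebra.smul_def, mul_one])).symm
      rw [h1, map_pow]
      exact hu.mul_val_inv
    map_mul' := by
      intro b b'
      have h1 : num B n hn (b * b') * s ^ n = num B n hn b * num B n hn b' := by
        apply hinj
        rw [map_mul, map_mul, num_spec, num_spec, num_spec, map_pow, Algebra.smul_def,
          Algebra.smul_def, Algebra.smul_def, map_pow]
        ring
      have h2 : algebraMap R (FractionRing R) (num B n hn (b * b')) =
          algebraMap R (FractionRing R) (num B n hn b) *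
            algebraMap R (FractionRing R) (num B n hn b') *
              ((hu.unit⁻¹ : (FractionRing R)ˣ) : FractionRing R) := by
        rw [← map_mul, ← h1, map_mul, map_pow, mul_assoc]
        rw [hu.mul_val_inv, mul_one]
      rw [h2]
      ring
    map_zero' := by
      have h1 : num B n hn 0 = 0 := (num_unique B hinj n hn (by rw [map_zero, smul_zero])).symm
      rw [h1, map_zero, zero_mul]
    map_add' := by
      intro b b'
      have h1 : num B n hn (b + b') = num B n hn b + num B n hn b' :=
        (num_unique B hinj n hn (by rw [map_add, num_spec, num_spec, smul_add])).symm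
      rw [h1, map_add, add_mul]
    commutes' := by
      intro r
      have h1 : num B n hn (algebraMap R B r) = s ^ n * r :=
        (num_unique B hinj n hn (by rw [map_mul, map_pow, Algebra.smul_def, map_pow])).symm
      rw [h1, map_mul, map_pow, mul_comm (algebraMap R (FractionRing R) s ^ n), mul_assoc,
        hu.mul_val_inv, mul_one] }

theorem emb_apply_mul (b : B) :
    algebraMap R (FractionRing R) s ^ n * emb B hs hinj n hn b =
      algebraMap R (FractionRing R) (num B n hn b) := by
  have hu : IsUnit (algebraMap R (FractionRing R) s ^ n) := (isUnit_algebraMap_of_nzd hs).pow n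
  change algebraMap R (FractionRing R) s ^ n * (algebraMap R (FractionRing R) (num B n hn b) *
    ((hu.unit⁻¹ : (FractionRing R)ˣ) : FractionRing R)) = _
  rw [mul_left_comm, hu.mul_val_inv, mul_one]

include hreg in
theorem emb_injective : Function.Injective (emb B hs hinj n hn) := by
  rw [injective_iff_map_eq_zero]
  intro b hb
  have h1 := emb_apply_mul B hs hinj n hn b
  rw [hb, mul_zero] at h1
  have h2 : num B n hn b = 0 :=
    IsFractionRing.injective R (FractionRing R) (by rw [← h1, map_zero])
  have h3 := num_spec B n hn b
  rw [h2, map_zero] at h3
  exact (hreg.pow n) (by simp only [smul_zero]; exact h3.symm)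

end embed

end Groth.Agent.Lib.Helper29.Key
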