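import Groth.Agent.Lib.Helper29.GlueA

/-!
# Gluing finite extensions at height one primes, part B: the localizations of `Bsub`
-/

set_option autoImplicit false

namespace Groth.Agent.Lib.Helper29.Key

universe u

open IsLocalRing CycAlg TensorProduct

section glob6

variable {A : Type u} [CommRing A] [IsNoetherianRing A] [IsLocalRing A]
  (hA : ringKrullDim A ≤ 2) {t : A} (ht : t ∈ nonZeroDivisors A)
  (E : ∀ q : PP A t, Subalgebra (Localization.AtPrime q.1) (FractionRing (Localization.AtPrime q.1)))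
  (N₀ : ℕ) (hN₀ : 1 ≤ N₀)
  (hcond : ∀ (q : PP A t) (y : E q), ∃ w : Localization.AtPrime q.1,
    algebraMap (Localization.AtPrime q.1) (FractionRing (Localization.AtPrime q.1)) w =
      iq q.1 t ^ N₀ * (y : FractionRing (Localization.AtPrime q.1)))
  (c : ℕ) (hc : ∀ r ∈ maximalIdeal A ^ c, ∀ z ∈ Mk E (N₀ + N₀), r • z ∈ Mk E N₀)

/-- the map `Bsub → Frac A_q` -/
noncomputable def gB (q₀ : PP A t) : Bsub E N₀ c hc →+* FractionRing (Localization.AtPrime q₀.1) :=
  (rho q₀.1).comp (algebraMap (Bsub E N₀ c hc) (FractionRing A))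

theorem gB_apply (q₀ : PP A t) (x : Bsub E N₀ c hc) :
    gB E N₀ c hc q₀ x = rho q₀.1 (x : FractionRing A) := rfl

theorem gB_algebraMap (q₀ : PP A t) (a : A) :
    gB E N₀ c hc q₀ (algebraMap A (Bsub E N₀ c hc) a) = iq q₀.1 a := by
  rw [gB_apply, Subalgebra.coe_algebraMap, rho_algebraMap]

theorem isUnit_gB (q₀ : PP A t)
    (y : Algebra.algebraMapSubmonoid (Bsub E N₀ c hc) q₀.1.primeCompl) :
    IsUnit (gB E N₀ c hc q₀ y) := by
  obtain ⟨τ, hτ, e⟩ := y.2
  rw [← e, gB_algebraMap]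
  exact isUnit_iq q₀.1 hτ

/-- the map from the localization of `Bsub` to `Frac A_q` -/
noncomputable def PsiB (q₀ : PP A t) :
    El q₀.1 (Bsub E N₀ c hc) →+* FractionRing (Localization.AtPrime q₀.1) :=
  IsLocalization.lift (M := Algebra.algebraMapSubmonoid (Bsub E N₀ c hc) q₀.1.primeCompl)
    (isUnit_gB E N₀ c hc q₀)

theorem PsiB_algebraMap (q₀ : PP A t) (x : Localization.AtPrime q₀.1) :
    PsiB E N₀ c hc q₀ (algebraMap (Localization.AtPrime q₀.1) (El q₀.1 (Bsub E N₀ c hc)) x) =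
      algebraMap (Localization.AtPrime q₀.1) (FractionRing (Localization.AtPrime q₀.1)) x := by
  have h : (PsiB E N₀ c hc q₀).comp
      (algebraMap (Localization.AtPrime q₀.1) (El q₀.1 (Bsub E N₀ c hc))) =
      algebraMap (Localization.AtPrime q₀.1) (FractionRing (Localization.AtPrime q₀.1)) := by
    apply IsLocalization.ringHom_ext q₀.1.primeCompl
    ext a
    simp only [RingHom.comp_apply]
    rw [← IsScalarTower.algebraMap_apply A (Localization.AtPrime q₀.1)
      (El q₀.1 (Bsub E N₀ c hc)),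
      IsScalarTower.algebraMap_apply A (Bsub E N₀ c hc) (El q₀.1 (Bsub E N₀ c hc))]
    unfold PsiB
    rw [IsLocalization.lift_eq, gB_algebraMap, iq_apply]
  exact congrFun (congrArg DFunLike.coe h) x

include ht in
theorem PsiB_injective (q₀ : PP A t) : Function.Injective (PsiB E N₀ c hc q₀) := by
  unfold PsiB
  rw [IsLocalization.lift_injective_iff]
  intro x y
  constructor
  · intro h
    have := congrArg (IsLocalization.lift
      (M := Algebra.algebraMapSubmonoid (Bsub E N₀ c hc) q₀.1.primeCompl)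
      (isUnit_gB E N₀ c hc q₀)) h
    rwa [IsLocalization.lift_eq, IsLocalization.lift_eq] at this
  · intro h
    rw [IsLocalization.eq_iff_exists
      (Algebra.algebraMapSubmonoid (Bsub E N₀ c hc) q₀.1.primeCompl)]
    have h0 : rho q₀.1 ((x - y : Bsub E N₀ c hc) : FractionRing A) = 0 := by
      rw [Subalgebra.coe_sub, map_sub, ← gB_apply, ← gB_apply, h, sub_self]
    obtain ⟨⟨r, hr⟩, -⟩ := Bsub_le_Mk E N₀ c hc (x - y).2
    obtain ⟨τ, hτ, h1⟩ := exists_mul_eq_zero_of_rho_eq_zero q₀.1 ht _ N₀ r hr h0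
    refine ⟨⟨algebraMap A (Bsub E N₀ c hc) τ, τ, hτ, rfl⟩, ?_⟩
    simp only
    have h2 : algebraMap A (Bsub E N₀ c hc) τ * (x - y) = 0 := by
      apply Subtype.ext
      simpa using h1
    linear_combination h2

include hA ht hN₀ hcond in
theorem range_PsiB [Fintype (PP A t)] (q₀ : PP A t)
    (z : FractionRing (Localization.AtPrime q₀.1)) :
    z ∈ (PsiB E N₀ c hc q₀).range ↔ z ∈ E q₀ := by
  constructor
  · rintro ⟨w, rfl⟩
    obtain ⟨x, s, rfl⟩ := IsLocalization.exists_mk'_eq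
      (Algebra.algebraMapSubmonoid (Bsub E N₀ c hc) q₀.1.primeCompl) w
    obtain ⟨τ, hτ, e⟩ := s.2
    set v : FractionRing (Localization.AtPrime q₀.1) :=
      algebraMap (Localization.AtPrime q₀.1) (FractionRing (Localization.AtPrime q₀.1))
        (IsLocalization.mk' (Localization.AtPrime q₀.1) (1 : A) (⟨τ, hτ⟩ : q₀.1.primeCompl))
      with hv
    have hv1 : iq q₀.1 τ * v = 1 := by
      rw [hv, iq_apply, ← map_mul, mul_comm, IsLocalization.mk'_spec, map_one, map_one]
    have h1 : PsiB E N₀ c hc q₀ (IsLocalization.mk' _ x s) = gB E N₀ c hc q₀ x * v := by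
      unfold PsiB
      rw [IsLocalization.lift_mk'_spec]
      rw [← e, gB_algebraMap, ← mul_assoc, mul_comm (iq q₀.1 τ), mul_assoc, hv1, mul_one]
    rw [h1]
    exact (E q₀).mul_mem ((Bsub_le_Mk E N₀ c hc x.2).2 q₀) ((E q₀).algebraMap_mem _)
  · intro hz
    obtain ⟨x, hx, τ, hτ, h⟩ := surj_Bsub hA ht E N₀ hN₀ hcond c hc q₀ z hz
    refine ⟨IsLocalization.mk' _ (⟨x, hx⟩ : Bsub E N₀ c hc)
      (⟨algebraMap A (Bsub E N₀ c hc) τ, τ, hτ, rfl⟩ :
        Algebra.algebraMapSubmonoid (Bsub E N₀ c hc) q₀.1.primeCompl), ?_⟩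
    unfold PsiB
    rw [IsLocalization.lift_mk'_spec]
    simp only
    rw [gB_algebraMap, h]
    rfl

include hA ht hN₀ hcond in
/-- the localization of `Bsub` at `q` is `E q` -/
theorem nonempty_tensor_equiv [Fintype (PP A t)] (q₀ : PP A t) :
    Nonempty ((Localization.AtPrime q₀.1 ⊗[A] Bsub E N₀ c hc) ≃ₐ[Localization.AtPrime q₀.1]
      E q₀) := by
  let Ψ : El q₀.1 (Bsub E N₀ c hc) →ₐ[Localization.AtPrime q₀.1]
      FractionRing (Localization.AtPrime q₀.1) :=
    { PsiB E N₀ c hc q₀ with commutes' := PsiB_algebraMap E N₀ c hc q₀ }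
  have hΨ : ∀ w, Ψ w = PsiB E N₀ c hc q₀ w := fun w => rfl
  have hmem : ∀ w, Ψ w ∈ E q₀ := fun w =>
    (range_PsiB hA ht E N₀ hN₀ hcond c hc q₀ _).mp ⟨w, rfl⟩
  let Ψ' : El q₀.1 (Bsub E N₀ c hc) →ₐ[Localization.AtPrime q₀.1] E q₀ := Ψ.codRestrict (E q₀) hmem
  have hbij : Function.Bijective Ψ' := by
    constructor
    · intro x y hxy
      apply PsiB_injective ht E N₀ c hc q₀
      have := congrArg Subtype.val hxy
      exact this
    · intro z
      obtain ⟨w, hw⟩ := (range_PsiB hA ht E N₀ hN₀ hcond c hc q₀ _).mpr z.2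
      exact ⟨w, Subtype.ext hw⟩
  exact ⟨(Localization.tensorRightAlgEquiv q₀.1.primeCompl (Bsub E N₀ c hc)).trans
    (AlgEquiv.ofBijective Ψ' hbij)⟩

end glob6

end Groth.Agent.Lib.Helper29.Key
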