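import Mathlib.RingTheory.Length
import Mathlib.Algebra.Module.Submodule.Range
import Mathlib.LinearAlgebra.Isomorphisms

/-!
# Index calculus for submodules: `idx L K = length (L / (K ∩ L))`
-/

set_option autoImplicit false

namespace Groth.Agent.Lib.Helper29.Idx

variable {R : Type*} [Ring R] {M M' : Type*} [AddCommGroup M] [Module R M]
  [AddCommGroup M'] [Module R M']

/-- the length of `L / (K ∩ L)` -/
noncomputable def idx (L K : Submodule R M) : ℕ∞ := Module.length R (↥L ⧸ K.submoduleOf L)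

theorem mem_submoduleOf' {L K : Submodule R M} (x : L) : x ∈ K.submoduleOf L ↔ (x : M) ∈ K :=
  Iff.rfl

theorem idx_eq_of_map (f : M →ₗ[R] M') (L K : Submodule R M) (L' K' : Submodule R M')
    (h1 : ∀ x ∈ L, f x ∈ L') (h2 : ∀ y ∈ L', ∃ x ∈ L, y - f x ∈ K')
    (h3 : ∀ x ∈ L, f x ∈ K' ↔ x ∈ K) : idx L K = idx L' K' := by
  let g : ↥L →ₗ[R] (↥L' ⧸ K'.submoduleOf L') :=
    (K'.submoduleOf L').mkQ ∘ₗ (f.restrict h1)
  have hsurj : Function.Surjective g := by
    intro z
    obtain ⟨y, rfl⟩ := Submodule.mkQ_surjective _ z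
    obtain ⟨x, hx, hxy⟩ := h2 y.1 y.2
    refine ⟨⟨x, hx⟩, ?_⟩
    simp only [g, LinearMap.comp_apply, Submodule.mkQ_apply]
    rw [eq_comm, Submodule.Quotient.eq, mem_submoduleOf']
    exact hxy
  have hker : LinearMap.ker g = K.submoduleOf L := by
    ext x
    rw [LinearMap.mem_ker, mem_submoduleOf']
    simp only [g, LinearMap.comp_apply, Submodule.mkQ_apply]
    rw [Submodule.Quotient.mk_eq_zero, mem_submoduleOf']
    exact h3 x.1 x.2
  unfold idx
  exact ((Submodule.quotEquivOfEq _ _ hker.symm).trans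
    (g.quotKerEquivOfSurjective hsurj)).length_eq

theorem idx_chain {K L N : Submodule R M} (hKL : K ≤ L) (hLN : L ≤ N) :
    idx N K = idx L K + idx N L := by
  unfold idx
  let f : (↥L ⧸ K.submoduleOf L) →ₗ[R] (↥N ⧸ K.submoduleOf N) :=
    Submodule.mapQ _ _ (Submodule.inclusion hLN) (by intro x hx; exact hx)
  let g : (↥N ⧸ K.submoduleOf N) →ₗ[R] (↥N ⧸ L.submoduleOf N) :=
    Submodule.mapQ _ _ LinearMap.id (by intro x hx; exact hKL hx)
  refine Module.length_eq_add_of_exact f g ?_ ?_ ?_
  · rw [← LinearMap.ker_eq_bot, LinearMap.ker_eq_bot']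
    intro z hz
    obtain ⟨y, rfl⟩ := Submodule.mkQ_surjective _ z
    simp only [f, Submodule.mkQ_apply, Submodule.mapQ_apply] at hz ⊢
    rw [Submodule.Quotient.mk_eq_zero] at hz ⊢
    exact hz
  · intro z
    obtain ⟨y, rfl⟩ := Submodule.mkQ_surjective _ z
    exact ⟨Submodule.Quotient.mk y, by simp [g]⟩
  · intro z
    constructor
    · intro hz
      obtain ⟨y, rfl⟩ := Submodule.mkQ_surjective _ z
      simp only [g, Submodule.mkQ_apply, Submodule.mapQ_apply, LinearMap.id_apply] at hz
      rw [Submodule.Quotient.mk_eq_zero] at hz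
      refine ⟨Submodule.Quotient.mk ⟨y.1, hz⟩, ?_⟩
      simp only [f, Submodule.mkQ_apply, Submodule.mapQ_apply]
      rfl
    · rintro ⟨w, rfl⟩
      obtain ⟨y, rfl⟩ := Submodule.mkQ_surjective _ w
      simp only [f, g, Submodule.mkQ_apply, Submodule.mapQ_apply, LinearMap.id_apply]
      rw [Submodule.Quotient.mk_eq_zero]
      exact y.2

theorem idx_eq_zero {L K : Submodule R M} (h : L ≤ K) : idx L K = 0 := by
  unfold idx
  rw [Module.length_eq_zero_iff, Submodule.Quotient.subsingleton_iff,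
    Submodule.submoduleOf_eq_top]
  exact h

theorem idx_self (L : Submodule R M) : idx L L = 0 := idx_eq_zero le_rfl

theorem idx_inf_right (L K : Submodule R M) : idx L (K ⊓ L) = idx L K :=
  idx_eq_of_map LinearMap.id L (K ⊓ L) L K (fun x hx => hx)
    (fun y hy => ⟨y, hy, by simp⟩) (fun x hx => by simp [hx])

/-- `idx L K` is antitone in `K` -/
theorem idx_anti_right {K K' : Submodule R M} (L : Submodule R M) (h : K ≤ K') :
    idx L K' ≤ idx L K := by
  unfold idx
  exact Module.length_le_of_surjective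
    (Submodule.mapQ (K.submoduleOf L) (K'.submoduleOf L) LinearMap.id (by intro x hx; exact h hx))
    (by
      intro z
      obtain ⟨y, rfl⟩ := Submodule.mkQ_surjective _ z
      exact ⟨Submodule.Quotient.mk y, by simp⟩)

/-- image under a linear map whose kernel (within `L`) lies in `K` -/
theorem idx_map (f : M →ₗ[R] M') {L K : Submodule R M} (hKL : K ≤ L)
    (hker : LinearMap.ker f ⊓ L ≤ K) : idx (L.map f) (K.map f) = idx L K := by
  symm
  refine idx_eq_of_map f L K _ _ (fun x hx => Submodule.mem_map_of_mem hx) ?_ ?_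
  · rintro y ⟨x, hx, rfl⟩
    exact ⟨x, hx, by simp⟩
  · intro x hx
    constructor
    · rintro ⟨k, hk, hkx⟩
      have : x - k ∈ K := hker ⟨by simp [LinearMap.mem_ker, hkx], L.sub_mem hx (hKL hk)⟩
      simpa using K.add_mem this hk
    · intro h
      exact Submodule.mem_map_of_mem h

/-- second isomorphism theorem -/
theorem idx_sup_left (A B : Submodule R M) : idx (A ⊔ B) B = idx A B := by
  symm
  refine idx_eq_of_map LinearMap.id A B _ _ (fun x hx => Submodule.mem_sup_left hx) ?_
    (fun x _ => Iff.rfl)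
  intro y hy
  obtain ⟨a, ha, b, hb, rfl⟩ := Submodule.mem_sup.mp hy
  exact ⟨a, ha, by simpa using hb⟩

end Groth.Agent.Lib.Helper29.Idx
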