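import Groth.Agent.Lib.Helper29.TameS

/-!
# Tame symbols, part T: compatibility of the tame symbol with finite extensions (norms)
-/

set_option autoImplicit false

namespace Groth.Agent.Lib.Helper29.Tame

universe u

open IsLocalRing CycAlg TensorProduct

section final

variable {A : Type u} [CommRing A] [IsNoetherianRing A] [IsLocalRing A]

theorem glue_algebraMap_eq (f : A) (B B' : Type u) [CommRing B] [CommRing B'] [Algebra A B]
    [Algebra A B'] (b : B) : algebraMap B (Glue f B B') b = glueL f B B' b := rfl

theorem tameSymbol_eq_finprod_norm_of_nonunit (hA : ringKrullDim A = 1) (B : Type u) [CommRing B]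
    [Algebra A B] (hB : IsFinExt A B (maximalIdeal A))
    (hass : maximalIdeal A ∉ associatedPrimes A B)
    [hloc : ∀ q : MaximalSpectrum B,
      IsLocalHom (algebraMap A (Localization.AtPrime q.asIdeal))]
    (a b : A) (ha : a ∈ nonZeroDivisors A) (hb : b ∈ nonZeroDivisors A)
    (f : A) (hf : ¬ IsUnit f) (hfA : f ∈ nonZeroDivisors A)
    (B' : Type u) [CommRing B'] [Algebra A B'] (hB' : IsFinExt A B' (maximalIdeal A))
    [hloc' : ∀ q : MaximalSpectrum B',
      IsLocalHom (algebraMap A (Localization.AtPrime q.asIdeal))]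
    (F' : ∀ q' : MaximalSpectrum B', LocFac (Localization.AtPrime q'.asIdeal)
      (algebraMap A _ a) (algebraMap A _ b))
    (hfB' : ∀ q : MaximalSpectrum B', algebraMap A (Localization.AtPrime q.asIdeal) f ∈
      nonZeroDivisors (Localization.AtPrime q.asIdeal)) :
    tameSymbol A a b = ∏ᶠ q : MaximalSpectrum B, Algebra.norm (ResidueField A)
      (tameSymbol (Localization.AtPrime q.asIdeal) (algebraMap A _ a) (algebraMap A _ b)) := by
  classical
  haveI : Ring.KrullDimLE 1 A := Ring.krullDimLE_iff.mpr hA.le
  haveI : Module.Finite A B := hB.2.1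
  haveI : Module.Finite A B' := hB'.2.1
  have hfm : f ∈ maximalIdeal A := (mem_maximalIdeal f).mpr hf
  have hfB : algebraMap A B f ∈ nonZeroDivisors B :=
    nzd_of_notMem_associatedPrimes hB hass f hfA
  have hfB'' : algebraMap A B' f ∈ nonZeroDivisors B' := by
    apply mem_nonZeroDivisors_of_localization
    intro n
    rw [← IsScalarTower.algebraMap_apply]
    exact hfB' n
  obtain ⟨N, hN⟩ := hB.2.2
  obtain ⟨N', hN'⟩ := hB'.2.2
  have hN1 : ∀ b : B, f ^ N • b ∈ (algebraMap A B).range :=
    fun b => hN (f ^ N) (Ideal.pow_mem_pow hfm N) b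
  have hN1' : ∀ b : B', f ^ N' • b ∈ (algebraMap A B').range :=
    fun b => hN' (f ^ N') (Ideal.pow_mem_pow hfm N') b
  haveI hlocC : ∀ n : MaximalSpectrum (Glue f B B'),
      IsLocalHom (algebraMap A (Localization.AtPrime n.asIdeal)) :=
    fun n => isLocalHom_of_finite n
  have hg : Function.Injective (glueL f B B') := glueL_injective f hfB hB'.1 N' hN1'
  have hg' : Function.Injective (glueR f B B') := glueR_injective f hfB'' hB.1 N hN1
  have hcoker' : Module.length A
      (Glue f B B' ⧸ LinearMap.range (glueR f B B').toLinearMap) < ⊤ := by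
    haveI := Groth.Agent.Lib.Helper87.artinian_quot hA (f ^ N) (pow_mem hfA N)
    apply Groth.Agent.Lib.Helper87.length_lt_top_of_smul_eq_zero (f ^ N)
    intro x
    obtain ⟨y, rfl⟩ := Submodule.Quotient.mk_surjective _ x
    rw [← Submodule.Quotient.mk_smul, Submodule.Quotient.mk_eq_zero]
    exact glueR_coker f N hN1 y
  have hf'' : ∀ q'' : MaximalSpectrum (Glue f B B'),
      algebraMap A (Localization.AtPrime q''.asIdeal) f ∈
        nonZeroDivisors (Localization.AtPrime q''.asIdeal) := by
    intro q''
    rw [IsScalarTower.algebraMap_apply A (Glue f B B') (Localization.AtPrime q''.asIdeal)]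
    exact IsLocalization.map_nonZeroDivisors_le q''.asIdeal.primeCompl _
      (Submonoid.mem_map_of_mem _ (glue_nonZeroDivisor f B B'))
  have hpush' : ∀ q'' : MaximalSpectrum (Glue f B B'),
      phi (glueR f B B') q'' (F' (sigma (glueR f B B') q'')).π ∈
        nonZeroDivisors (Localization.AtPrime q''.asIdeal) := by
    intro q''
    obtain ⟨hN, hK⟩ := instances_localization' A (sigma (glueR f B B') q'')
    refine push_mem_nonZeroDivisors (phi (glueR f B B') q'') (algebraMap A _ f) ?_ ?_ _
      (F' _).π_mem
    · rw [mem_maximalIdeal]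
      intro hu
      exact hf (isUnit_of_map_unit (algebraMap A _) f hu)
    · rw [phi_algebraMap_base]
      exact hf'' q''
  have e2 := prod_norm_sym_eq F' (glueR f B B') hg' hcoker' hpush'
  rw [tameSymbol_eq_finprod hA ha hb B' hB' F', ← e2]
  -- the local computations
  have hinj : Function.Injective (algebraMap B (Glue f B B')) := hg
  have hNC : ∀ c : Glue f B B', f ^ N' • c ∈ (algebraMap B (Glue f B B')).range := by
    intro c
    obtain ⟨y, hy⟩ := glueL_coker f N' hN1' c
    exact ⟨y, hy⟩
  have hloc_eq := fun q : MaximalSpectrum B =>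
    norm_tameSymbol_loc (C := Glue f B B') hA q f hf (glue_nonZeroDivisor f B B') hinj N' hNC a b
      (fun q'' => (F' (sigma (glueR f B B') q'')).map (phi (glueR f B B') q'') (hpush' q'')
        (phi_algebraMap_base (glueR f B B') q'' a) (phi_algebraMap_base (glueR f B B') q'' b))
  rw [finprod_congr hloc_eq]
  haveI := finite_maximalSpectrum A (R := B)
  haveI := finite_maximalSpectrum A (R := Glue f B B')
  letI := Fintype.ofFinite (MaximalSpectrum B)
  letI := Fintype.ofFinite (MaximalSpectrum (Glue f B B'))
  rw [finprod_eq_prod_of_fintype, finprod_eq_prod_of_fintype,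
    ← Finset.prod_fiberwise Finset.univ (sigma (IsScalarTower.toAlgHom A B (Glue f B B')))]
  apply Finset.prod_congr rfl
  intro q _
  rw [finprod_mem_eq_finite_toFinset_prod _ (Set.toFinite _)]
  apply Finset.prod_congr _ (fun _ _ => rfl)
  ext q''
  simp only [Set.Finite.mem_toFinset, Set.mem_setOf_eq, Finset.mem_filter, Finset.mem_univ,
    true_and, MaximalSpectrum.ext_iff]
  rfl

end final

end Groth.Agent.Lib.Helper29.Tame
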