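import Groth.Agent.S1832
import Groth.Agent.Lib.Helper29.TameT
import Groth.Agent.Lib.Helper29.LengthFormula7
import Mathlib.RingTheory.Ideal.KrullsHeightTheorem

/-!
# Key lemma, part A: primes of a two-dimensional local ring, finite length criteria, the ideals `Jid`
-/

set_option autoImplicit false

namespace Groth.Agent.Lib.Helper29.Key

universe u v

open IsLocalRing

section spec2

variable {R : Type u} [CommRing R] [IsNoetherianRing R] [IsLocalRing R]

omit [IsNoetherianRing R] [IsLocalRing R] in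
theorem one_le_height_of_nzd_mem {t : R} (ht : t ∈ nonZeroDivisors R) (Q : Ideal R) [Q.IsPrime]
    (htQ : t ∈ Q) : 1 ≤ Q.height := by
  rw [Order.one_le_iff_pos, pos_iff_ne_zero, Ne, Ideal.height_eq_zero_iff]
  intro hmin
  exact notMem_nonZeroDivisors_of_mem_mem_minimalPrimes htQ hmin ht

/-- in a two-dimensional local ring, a non-maximal prime above a prime containing a
non-zero-divisor equals it -/
theorem eq_of_le_of_ne_max (hR : ringKrullDim R ≤ 2) {t : R} (ht : t ∈ nonZeroDivisors R)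
    (Q p : Ideal R) [Q.IsPrime] [p.IsPrime] (htQ : t ∈ Q) (hle : Q ≤ p)
    (hp : p ≠ maximalIdeal R) : p = Q := by
  by_contra hne
  have hlt : Q < p := lt_of_le_of_ne hle (Ne.symm hne)
  have hlt2 : p < maximalIdeal R := lt_of_le_of_ne (le_maximalIdeal Ideal.IsPrime.ne_top') hp
  have h1 := one_le_height_of_nzd_mem ht Q htQ
  have h2 := Ideal.height_strict_mono_of_isPrime_of_isPrime hlt
  have h3 := Ideal.height_strict_mono_of_isPrime_of_isPrime hlt2
  have h4 : ((maximalIdeal R).height : WithBot ℕ∞) ≤ ringKrullDim R :=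
    Ideal.height_le_ringKrullDim_of_isPrime
  replace h4 := h4.trans hR
  have h5 : (maximalIdeal R).height ≤ 2 := by
    have e2 : ((2 : ℕ∞) : WithBot ℕ∞) = 2 := rfl
    rw [← e2] at h4
    exact WithBot.coe_le_coe.mp h4
  have h6 : (2 : ℕ∞) ≤ p.height := by
    have := Order.add_one_le_of_lt (lt_of_le_of_lt h1 h2)
    simpa [one_add_one_eq_two] using this
  have h7 : (3 : ℕ∞) ≤ (maximalIdeal R).height := by
    have := Order.add_one_le_of_lt (lt_of_le_of_lt h6 h3)
    have e : (2 : ℕ∞) + 1 = 3 := by norm_num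
    rwa [e] at this
  have : (3 : ℕ∞) ≤ 2 := h7.trans h5
  exact absurd this (by norm_num)

/-- the height of such a prime is at most one -/
theorem height_le_one (hR : ringKrullDim R ≤ 2) (Q : Ideal R) [Q.IsPrime]
    (hQ : Q ≠ maximalIdeal R) : Q.height ≤ 1 := by
  have hlt2 : Q < maximalIdeal R := lt_of_le_of_ne (le_maximalIdeal Ideal.IsPrime.ne_top') hQ
  have h3 := Ideal.height_strict_mono_of_isPrime_of_isPrime hlt2
  have h4 : ((maximalIdeal R).height : WithBot ℕ∞) ≤ ringKrullDim R :=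
    Ideal.height_le_ringKrullDim_of_isPrime
  replace h4 := h4.trans hR
  have h5 : (maximalIdeal R).height ≤ 2 := by
    have e2 : ((2 : ℕ∞) : WithBot ℕ∞) = 2 := rfl
    rw [← e2] at h4
    exact WithBot.coe_le_coe.mp h4
  have h6 : Q.height < 2 := lt_of_lt_of_le h3 h5
  have e : (2 : ℕ∞) = 1 + 1 := by norm_num
  rw [e] at h6
  exact Order.le_of_lt_add_one h6

theorem krullDimLE_one_localization (hR : ringKrullDim R ≤ 2) (Q : Ideal R) [Q.IsPrime]
    (hQ : Q ≠ maximalIdeal R) : Ring.KrullDimLE 1 (Localization.AtPrime Q) := by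
  rw [Ring.krullDimLE_iff, IsLocalization.AtPrime.ringKrullDim_eq_height Q]
  exact_mod_cast height_le_one hR Q hQ

/-- a finite module all of whose elements are killed locally at every non-maximal prime has
support of dimension `≤ 0` -/
theorem supportDim_le_zero_of_locally_zero {N : Type v} [AddCommGroup N] [Module R N]
    (h : ∀ p : Ideal R, p.IsPrime → p ≠ maximalIdeal R → ∀ z : N, ∃ s ∉ p, s • z = 0) :
    Module.supportDim R N ≤ 0 := by
  unfold Module.supportDim
  have hsupp : ∀ x ∈ Module.support R N, x = closedPoint R := by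
    intro x hx
    by_contra hne
    rw [Module.mem_support_iff'] at hx
    obtain ⟨z, hz⟩ := hx
    obtain ⟨s, hs, hsz⟩ := h x.asIdeal x.2 (fun e => hne (PrimeSpectrum.ext e)) z
    exact hz s hs hsz
  haveI : Subsingleton (Module.support R N) :=
    ⟨fun x y => Subtype.ext ((hsupp x.1 x.2).trans (hsupp y.1 y.2).symm)⟩
  exact Order.krullDim_nonpos_of_subsingleton

/-- ... and finite length -/
theorem length_lt_top_of_locally_zero {N : Type v} [AddCommGroup N] [Module R N]
    [Module.Finite R N]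
    (h : ∀ p : Ideal R, p.IsPrime → p ≠ maximalIdeal R → ∀ z : N, ∃ s ∉ p, s • z = 0) :
    Module.length R N < ⊤ := by
  rw [lt_top_iff_ne_top]
  exact Groth.Agent.S1832.length_ne_top_of_supportDim_le_zero' N
    (supportDim_le_zero_of_locally_zero h)

end spec2

section jid

variable {R : Type u} [CommRing R]

/-- the kernel of `R → R_Q/(t)`: elements `z` with `s z ∈ (t)` for some `s ∉ Q` -/
def Jid (Q : Ideal R) [Q.IsPrime] (t : R) : Ideal R where
  carrier := {z | ∃ s ∉ Q, s * z ∈ Ideal.span {t}}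
  add_mem' := by
    rintro z z' ⟨s, hs, h⟩ ⟨s', hs', h'⟩
    refine ⟨s * s', fun hmem => ?_, ?_⟩
    · rcases Ideal.IsPrime.mem_or_mem inferInstance hmem with h1 | h1
      · exact hs h1
      · exact hs' h1
    · have : s * s' * (z + z') = s' * (s * z) + s * (s' * z') := by ring
      rw [this]
      exact Ideal.add_mem _ (Ideal.mul_mem_left _ _ h) (Ideal.mul_mem_left _ _ h')
  zero_mem' := ⟨1, fun h => Ideal.IsPrime.ne_top inferInstance ((Ideal.eq_top_iff_one Q).mpr h),
    by simp⟩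
  smul_mem' := by
    rintro c z ⟨s, hs, h⟩
    refine ⟨s, hs, ?_⟩
    have : s * (c • z) = c * (s * z) := by simp only [smul_eq_mul]; ring
    rw [this]
    exact Ideal.mul_mem_left _ _ h

variable (Q : Ideal R) [Q.IsPrime] (t : R)

theorem mem_Jid {z : R} : z ∈ Jid Q t ↔ ∃ s ∉ Q, s * z ∈ Ideal.span {t} := Iff.rfl

theorem one_notMem : (1 : R) ∉ Q :=
  fun h => Ideal.IsPrime.ne_top inferInstance ((Ideal.eq_top_iff_one Q).mpr h)

theorem span_le_Jid : Ideal.span {t} ≤ Jid Q t := by
  intro z hz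
  exact ⟨1, one_notMem Q, by simpa using hz⟩

theorem self_mem_Jid : t ∈ Jid Q t := span_le_Jid Q t (Ideal.mem_span_singleton_self t)

theorem mul_notMem {s s' : R} (hs : s ∉ Q) (hs' : s' ∉ Q) : s * s' ∉ Q := by
  intro hmem
  rcases Ideal.IsPrime.mem_or_mem inferInstance hmem with h1 | h1
  · exact hs h1
  · exact hs' h1

theorem pow_notMem {s : R} (hs : s ∉ Q) (n : ℕ) : s ^ n ∉ Q :=
  fun h => hs (Ideal.IsPrime.mem_of_pow_mem inferInstance n h)

/-- `Jid` is saturated -/
theorem Jid_saturated {s z : R} (hs : s ∉ Q) (h : s * z ∈ Jid Q t) : z ∈ Jid Q t := by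
  obtain ⟨s', hs', h'⟩ := h
  exact ⟨s' * s, mul_notMem Q hs' hs, by rwa [mul_assoc]⟩

theorem Jid_le (ht : t ∈ Q) : Jid Q t ≤ Q := by
  rintro z ⟨s, hs, h⟩
  have : s * z ∈ Q := (Ideal.span_singleton_le_iff_mem Q |>.mpr ht) h
  rcases Ideal.IsPrime.mem_or_mem inferInstance this with h1 | h1
  · exact absurd h1 hs
  · exact h1

end jid

section jid2

variable {R : Type u} [CommRing R] [IsNoetherianRing R] [IsLocalRing R]

/-- a power of `Q` lies in `Jid Q t` -/
theorem exists_pow_le_Jid (hR : ringKrullDim R ≤ 2) {t : R} (ht : t ∈ nonZeroDivisors R)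
    (Q : Ideal R) [Q.IsPrime] (hQ : Q ≠ maximalIdeal R) : ∃ N : ℕ, Q ^ N ≤ Jid Q t := by
  haveI := krullDimLE_one_localization hR Q hQ
  have htn : algebraMap R (Localization.AtPrime Q) t ∈ nonZeroDivisors (Localization.AtPrime Q) :=
    IsLocalization.map_nonZeroDivisors_le Q.primeCompl (Localization.AtPrime Q)
      (Submonoid.mem_map_of_mem _ ht)
  obtain ⟨N, hN⟩ := Tame.exists_maximalIdeal_pow_le (algebraMap R (Localization.AtPrime Q) t) htn
  refine ⟨N, fun z hz => ?_⟩
  have h1 : algebraMap R (Localization.AtPrime Q) z ∈ maximalIdeal (Localization.AtPrime Q) ^ N := by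
    rw [← Localization.AtPrime.map_eq_maximalIdeal, ← Ideal.map_pow]
    exact Ideal.mem_map_of_mem _ hz
  have h2 := hN h1
  rw [Ideal.mem_span_singleton'] at h2
  obtain ⟨w, hw⟩ := h2
  obtain ⟨⟨c, s⟩, hcs⟩ := IsLocalization.surj Q.primeCompl w
  simp only at hcs
  have h3 : algebraMap R (Localization.AtPrime Q) (s * z) =
      algebraMap R (Localization.AtPrime Q) (c * t) := by
    rw [map_mul, map_mul, ← hw, ← hcs]; ring
  obtain ⟨s', hs'⟩ := (IsLocalization.eq_iff_exists Q.primeCompl _).mp h3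
  refine ⟨s' * s, mul_notMem Q s'.2 s.2, ?_⟩
  rw [mul_assoc, hs', Ideal.mem_span_singleton']
  exact ⟨s' * c, by ring⟩

/-- `Jid Q t` is not contained in any other non-maximal prime -/
theorem exists_mem_Jid_notMem (hR : ringKrullDim R ≤ 2) {t : R} (ht : t ∈ nonZeroDivisors R)
    (Q : Ideal R) [Q.IsPrime] (hQ : Q ≠ maximalIdeal R) (htQ : t ∈ Q) (p : Ideal R) [p.IsPrime]
    (hp : p ≠ maximalIdeal R) (hpQ : p ≠ Q) : ∃ s ∈ Jid Q t, s ∉ p := by
  obtain ⟨N, hN⟩ := exists_pow_le_Jid hR ht Q hQ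
  have hnle : ¬ Q ≤ p := fun hle => hpQ (eq_of_le_of_ne_max hR ht Q p htQ hle hp)
  obtain ⟨s, hsQ, hsp⟩ := Set.not_subset.mp hnle
  exact ⟨s ^ N, hN (Ideal.pow_mem_pow hsQ N), pow_notMem p hsp N⟩

end jid2

end Groth.Agent.Lib.Helper29.Key
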