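import Groth.Agent.Lib.Helper29.KeyA

/-!
# Key lemma, part B: the cyclic modules `R ⧸ Jid Q t` and multiplication maps
-/

set_option autoImplicit false

namespace Groth.Agent.Lib.Helper29.Key

universe u

open IsLocalRing CycAlg

section mods

variable {R : Type u} [CommRing R] (Q : Ideal R) [Q.IsPrime] (t : R)

/-- multiplication by `c` on `R ⧸ Jid Q t` -/
noncomputable def mu (c : R) : (R ⧸ Jid Q t) →ₗ[R] (R ⧸ Jid Q t) :=
  LinearMap.lsmul R (R ⧸ Jid Q t) c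

theorem mu_apply (c : R) (z : R ⧸ Jid Q t) : mu Q t c z = c • z := rfl

theorem mu_mk (c z : R) : mu Q t c (Ideal.Quotient.mk _ z) = Ideal.Quotient.mk _ (c * z) := rfl

theorem smul_mu (x c : R) : x • mu Q t c = mu Q t (x * c) := by
  refine LinearMap.ext fun z => ?_
  simp [mu_apply, mul_smul]

theorem mu_comp (c d : R) : mu Q t c ∘ₗ mu Q t d = mu Q t (c * d) := by
  refine LinearMap.ext fun z => ?_
  rw [LinearMap.comp_apply, mu_apply, mu_apply, mu_apply, mul_smul]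

theorem mu_pow (c : R) (n : ℕ) : (mu Q t c) ^ n = mu Q t (c ^ n) := by
  induction n with
  | zero =>
    refine LinearMap.ext fun z => ?_
    simp [mu_apply]
  | succ n ih =>
    rw [pow_succ, ih, pow_succ]
    exact mu_comp Q t _ _

theorem mu_eq_zero {c : R} (hc : c ∈ Jid Q t) : mu Q t c = 0 := by
  refine LinearMap.ext fun z => ?_
  obtain ⟨z, rfl⟩ := Ideal.Quotient.mk_surjective z
  rw [mu_mk, LinearMap.zero_apply, Ideal.Quotient.eq_zero_iff_mem]
  exact Ideal.mul_mem_right _ _ hc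

variable {Q t}

theorem mem_Jid_of_rel {c w w' : R} (hw : w ∉ Q) (h : w * c = w' * t) : c ∈ Jid Q t :=
  ⟨w, hw, by rw [h]; exact Ideal.mul_mem_left _ _ (Ideal.mem_span_singleton_self t)⟩

theorem isPeriodic_mu {c₁ c₂ w w' : R} (hw : w ∉ Q) (h : w * (c₁ * c₂) = w' * t) :
    IsPeriodic (mu Q t c₁) (mu Q t c₂) := by
  constructor
  · rw [mu_comp]
    exact mu_eq_zero Q t (mem_Jid_of_rel hw h)
  · rw [mu_comp, mul_comm]
    exact mu_eq_zero Q t (mem_Jid_of_rel hw h)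

/-- local exactness at `Q` -/
theorem local_exact (ht : t ∈ nonZeroDivisors R) {c₁ c₂ w w' : R} (hw' : w' ∉ Q)
    (h : w * (c₁ * c₂) = w' * t) (z : R) (hz : c₁ * z ∈ Jid Q t) :
    ∃ s ∉ Q, s * z ∈ Ideal.span {c₂} := by
  obtain ⟨s, hs, hsz⟩ := hz
  obtain ⟨r, hr⟩ := Ideal.mem_span_singleton'.mp hsz
  -- r * t = s * (c₁ * z)
  have h1 : c₁ * (w' * s * z - w * c₂ * r) = 0 := by
    have : c₁ * (w' * s * z - w * c₂ * r) = w' * (s * (c₁ * z)) - (w * (c₁ * c₂)) * r := by ring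
    rw [this, ← hr, h]; ring
  have h2 : t * (w' * (w' * s * z - w * c₂ * r)) = 0 := by
    have : t * (w' * (w' * s * z - w * c₂ * r)) =
        (w' * t) * (w' * s * z - w * c₂ * r) := by ring
    rw [this, ← h]
    have : w * (c₁ * c₂) * (w' * s * z - w * c₂ * r) =
        w * c₂ * (c₁ * (w' * s * z - w * c₂ * r)) := by ring
    rw [this, h1, mul_zero]
  have h3 : w' * (w' * s * z - w * c₂ * r) = 0 := by
    have := (mem_nonZeroDivisors_iff.mp ht).1 (w' * (w' * s * z - w * c₂ * r))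
    apply (mem_nonZeroDivisors_iff.mp ht).2
    rw [mul_comm]; exact h2
  refine ⟨w' * w' * s, mul_notMem Q (mul_notMem Q hw' hw') hs, ?_⟩
  rw [Ideal.mem_span_singleton']
  refine ⟨w' * w * r, ?_⟩
  linear_combination (-1 : R) * h3

theorem smul_injective_of_notMem {y : R} (hy : y ∉ Q) (z : R ⧸ Jid Q t) (h : y • z = 0) :
    z = 0 := by
  obtain ⟨z, rfl⟩ := Ideal.Quotient.mk_surjective z
  rw [Ideal.Quotient.eq_zero_iff_mem]
  have h' : Ideal.Quotient.mk (Jid Q t) (y * z) = 0 := h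
  rw [Ideal.Quotient.eq_zero_iff_mem] at h'
  exact Jid_saturated Q t hy h'

end mods

section fin

variable {R : Type u} [CommRing R] [IsNoetherianRing R] [IsLocalRing R]
  (hR : ringKrullDim R ≤ 2) {t : R} (ht : t ∈ nonZeroDivisors R)
  (Q : Ideal R) [Q.IsPrime] (hQ : Q ≠ maximalIdeal R) (htQ : t ∈ Q)

include hR ht hQ htQ

/-- away from `Q` the module `R ⧸ Jid Q t` is killed by a single element -/
theorem exists_kill (p : Ideal R) [p.IsPrime] (hp : p ≠ maximalIdeal R) (hpQ : p ≠ Q) :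
    ∃ s ∉ p, ∀ z : R ⧸ Jid Q t, s • z = 0 := by
  obtain ⟨s, hsJ, hsp⟩ := exists_mem_Jid_notMem hR ht Q hQ htQ p hp hpQ
  refine ⟨s, hsp, fun z => ?_⟩
  obtain ⟨z, rfl⟩ := Ideal.Quotient.mk_surjective z
  change Ideal.Quotient.mk (Jid Q t) (s * z) = 0
  rw [Ideal.Quotient.eq_zero_iff_mem]
  exact Ideal.mul_mem_right _ _ hsJ

theorem length_perH_mu_lt_top {c₁ c₂ w w' : R} (hw' : w' ∉ Q)
    (h : w * (c₁ * c₂) = w' * t) : Module.length R (perH (mu Q t c₁) (mu Q t c₂)) < ⊤ := by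
  apply length_lt_top_of_locally_zero
  intro p hp hpm x
  obtain ⟨⟨z, hz⟩, rfl⟩ := Submodule.mkQ_surjective _ x
  by_cases hpQ : p = Q
  · subst hpQ
    obtain ⟨z, rfl⟩ := Ideal.Quotient.mk_surjective z
    rw [LinearMap.mem_ker, mu_mk, Ideal.Quotient.eq_zero_iff_mem] at hz
    obtain ⟨s, hs, hsz⟩ := local_exact ht hw' h z hz
    obtain ⟨r, hr⟩ := Ideal.mem_span_singleton'.mp hsz
    refine ⟨s, hs, ?_⟩
    rw [← map_smul, Submodule.mkQ_apply, Submodule.Quotient.mk_eq_zero]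
    refine ⟨Ideal.Quotient.mk _ r, ?_⟩
    rw [mu_mk, mul_comm, hr]
    rfl
  · haveI := hp
    obtain ⟨s, hs, hkill⟩ := exists_kill hR ht Q hQ htQ p hpm hpQ
    refine ⟨s, hs, ?_⟩
    rw [← map_smul]
    have : s • (⟨z, hz⟩ : LinearMap.ker (mu Q t c₁)) = 0 := Subtype.ext (hkill z)
    rw [this, map_zero]

theorem finCoh_mu {c₁ c₂ w w' : R} (hw' : w' ∉ Q) (h : w * (c₁ * c₂) = w' * t) :
    FinCoh R (mu Q t c₁) (mu Q t c₂) :=
  ⟨length_perH_mu_lt_top hR ht Q hQ htQ hw' h,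
    length_perH_mu_lt_top hR ht Q hQ htQ hw' (by rw [mul_comm c₂ c₁]; exact h)⟩

open Pointwise in
theorem supportDim_quot_le {y : R} (hy : y ∉ Q) :
    Module.supportDim R ((R ⧸ Jid Q t) ⧸ y • (⊤ : Submodule R (R ⧸ Jid Q t))) ≤ 0 := by
  apply supportDim_le_zero_of_locally_zero
  intro p hp hpm x
  obtain ⟨z, rfl⟩ := Submodule.mkQ_surjective _ x
  by_cases hpQ : p = Q
  · subst hpQ
    refine ⟨y, hy, ?_⟩
    rw [← map_smul, Submodule.mkQ_apply, Submodule.Quotient.mk_eq_zero]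
    exact Submodule.smul_mem_pointwise_smul _ _ _ Submodule.mem_top
  · haveI := hp
    obtain ⟨s, hs, hkill⟩ := exists_kill hR ht Q hQ htQ p hpm hpQ
    refine ⟨s, hs, ?_⟩
    rw [← map_smul, hkill, map_zero]

end fin

end Groth.Agent.Lib.Helper29.Key
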