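import Groth.Agent.Lib.Helper29.KeyB

/-!
# Key lemma, part C: evaluation of the correction terms `e(cM, 0, y)`
-/

set_option autoImplicit false

namespace Groth.Agent.Lib.Helper29.Key

universe u

open IsLocalRing CycAlg Groth.Agent.Lib.Helper29.LengthFormula Groth.Agent.Lib.Helper87
open Groth.Agent.Lib.Helper29.Idx

section lamzero

variable {R : Type u} [CommRing R]

theorem lam_eq_zero_of_locally_zero (N : Type u) [AddCommGroup N] [Module R N] (p : Ideal R)
    (h : ∀ z : N, ∃ s ∉ p, s • z = 0) : lam N p = 0 := by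
  by_cases hp : p.IsPrime
  · rw [lam_of_isPrime, Module.length_eq_zero_iff]
    have h0 : ∀ a : LocalizedModule p.primeCompl N, a = 0 := by
      intro a
      induction a using LocalizedModule.induction_on with
      | h x u =>
        obtain ⟨s, hs, hsx⟩ := h x
        rw [← LocalizedModule.zero_mk 1, LocalizedModule.mk_eq]
        exact ⟨⟨s, hs⟩, by simp [Submonoid.smul_def, hsx]⟩
    exact ⟨fun a b => (h0 a).trans (h0 b).symm⟩
  · exact lam_of_not_isPrime _ _ hp

end lamzero

section general

variable {R : Type u} [CommRing R] {N : Type u} [AddCommGroup N] [Module R N]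

open Pointwise in
/-- `perH 0 (y • id)` is `N / yN` -/
theorem length_perH_zero_smul (y : R) :
    Module.length R (perH (0 : N →ₗ[R] N) (y • LinearMap.id)) =
      Module.length R (QuotSMulTop y N) := by
  have hle : (LinearMap.range (y • LinearMap.id : N →ₗ[R] N)).submoduleOf
      (LinearMap.ker (0 : N →ₗ[R] N)) ≤
      (y • (⊤ : Submodule R N)).comap (LinearMap.ker (0 : N →ₗ[R] N)).subtype := by
    rintro ⟨z, hz⟩ ⟨w, hw⟩
    change z ∈ y • (⊤ : Submodule R N)
    have hw' : y • w = z := hw
    rw [← hw']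
    exact Submodule.smul_mem_pointwise_smul _ _ _ Submodule.mem_top
  let g : perH (0 : N →ₗ[R] N) (y • LinearMap.id) →ₗ[R] QuotSMulTop y N :=
    Submodule.mapQ _ _ (LinearMap.ker (0 : N →ₗ[R] N)).subtype hle
  have hbij : Function.Bijective g := by
    constructor
    · rw [← LinearMap.ker_eq_bot, LinearMap.ker_eq_bot']
      intro x hx
      obtain ⟨⟨z, hz⟩, rfl⟩ := Submodule.mkQ_surjective _ x
      simp only [g, Submodule.mkQ_apply, Submodule.mapQ_apply, Submodule.subtype_apply] at hx
      rw [Submodule.Quotient.mk_eq_zero] at hx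
      obtain ⟨w, -, hw⟩ := hx
      rw [Submodule.mkQ_apply, Submodule.Quotient.mk_eq_zero]
      exact ⟨w, hw⟩
    · intro x
      obtain ⟨z, rfl⟩ := Submodule.mkQ_surjective _ x
      exact ⟨Submodule.Quotient.mk ⟨z, by simp⟩, rfl⟩
  exact (LinearEquiv.ofBijective g hbij).length_eq

/-- `perH (y • id) 0` vanishes when `y` acts injectively -/
theorem length_perH_smul_zero (y : R) (hy : ∀ z : N, y • z = 0 → z = 0) :
    Module.length R (perH (y • LinearMap.id : N →ₗ[R] N) 0) = 0 := by
  rw [Module.length_eq_zero_iff]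
  have h0 : ∀ a : perH (y • LinearMap.id : N →ₗ[R] N) 0, a = 0 := by
    intro a
    obtain ⟨⟨z, hz⟩, rfl⟩ := Submodule.mkQ_surjective _ a
    have : z = 0 := hy z (by simpa using hz)
    subst this
    exact map_zero _
  exact ⟨fun a b => (h0 a).trans (h0 b).symm⟩

end general

section eval

variable {R : Type u} [CommRing R] [IsNoetherianRing R] [IsLocalRing R]
  (hR : ringKrullDim R ≤ 2) {t : R} (ht : t ∈ nonZeroDivisors R)
  (Q : Ideal R) [Q.IsPrime] (hQ : Q ≠ maximalIdeal R) (htQ : t ∈ Q)

include hR ht hQ htQ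

/-- the localization of `c (R/J)` at `Q` has length `ord_{R_Q}(c')` when `c c' ~ t` -/
theorem lam_range_mu {c c' w w' : R} (hw : w ∉ Q) (hw' : w' ∉ Q)
    (h : w * (c * c') = w' * t) :
    lam (↥(LinearMap.range (mu Q t c))) Q =
      Ring.ord (Localization.AtPrime Q) (algebraMap R (Localization.AtPrime Q) c') := by
  have hcc : c * c' ∈ Jid Q t := mem_Jid_of_rel hw h
  have hle : (Ideal.span {c'} : Submodule R R) ≤
      LinearMap.ker ((mu Q t c).rangeRestrict ∘ₗ (Jid Q t).mkQ) := by
    intro z hz
    obtain ⟨r, rfl⟩ := Ideal.mem_span_singleton'.mp hz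
    rw [LinearMap.mem_ker]
    apply Subtype.ext
    change mu Q t c (Ideal.Quotient.mk _ (r * c')) = 0
    rw [mu_mk, Ideal.Quotient.eq_zero_iff_mem]
    have : c * (r * c') = r * (c * c') := by ring
    rw [this]
    exact Ideal.mul_mem_left _ _ hcc
  let g : (R ⧸ (Ideal.span {c'} : Ideal R)) →ₗ[R] ↥(LinearMap.range (mu Q t c)) :=
    Submodule.liftQ _ ((mu Q t c).rangeRestrict ∘ₗ (Jid Q t).mkQ) hle
  have hg : Function.Surjective g := by
    rintro ⟨_, z, rfl⟩
    obtain ⟨z, rfl⟩ := Ideal.Quotient.mk_surjective z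
    exact ⟨Submodule.Quotient.mk z, rfl⟩
  have hadd := lam_add (LinearMap.ker g).subtype g (Submodule.subtype_injective _) hg
    (LinearMap.exact_subtype_ker_map g) Q
  have hK : lam (↥(LinearMap.ker g)) Q = 0 := by
    apply lam_eq_zero_of_locally_zero
    rintro ⟨x, hx⟩
    obtain ⟨z, rfl⟩ := Submodule.mkQ_surjective _ x
    rw [LinearMap.mem_ker] at hx
    have hx' : mu Q t c (Ideal.Quotient.mk _ z) = 0 := congrArg Subtype.val hx
    rw [mu_mk, Ideal.Quotient.eq_zero_iff_mem] at hx'
    obtain ⟨s, hs, hsz⟩ := local_exact ht hw' h z hx'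
    refine ⟨s, hs, ?_⟩
    apply Subtype.ext
    change s • Submodule.Quotient.mk z = 0
    rw [← Submodule.Quotient.mk_smul, Submodule.Quotient.mk_eq_zero]
    exact hsz
  rw [hK, zero_add] at hadd
  rw [← hadd, lam_of_isPrime]
  exact Tame.length_localized_quot_span Q c'

/-- away from `Q` the localizations vanish -/
theorem lam_range_mu_of_ne (c : R) (p : Ideal R) (hp : p ∈ G R) (hpQ : p ≠ Q) :
    lam (↥(LinearMap.range (mu Q t c))) p = 0 := by
  haveI := hp.1
  obtain ⟨s, hs, hkill⟩ := exists_kill hR ht Q hQ htQ p hp.2 hpQ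
  exact lam_eq_zero_of_smul_eq_zero _ p s hs (fun x => Subtype.ext (hkill x.1))

open Pointwise in
theorem length_quotSMulTop_range_lt_top (c : R) {y : R} (hy : y ∉ Q) :
    Module.length R (QuotSMulTop y ↥(LinearMap.range (mu Q t c))) < ⊤ := by
  apply length_lt_top_of_locally_zero
  intro p hp hpm x
  obtain ⟨z, rfl⟩ := Submodule.mkQ_surjective _ x
  by_cases hpQ : p = Q
  · subst hpQ
    refine ⟨y, hy, ?_⟩
    rw [← map_smul, Submodule.mkQ_apply, Submodule.Quotient.mk_eq_zero]
    exact Submodule.smul_mem_pointwise_smul _ _ _ Submodule.mem_top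
  · haveI := hp
    obtain ⟨s, hs, hkill⟩ := exists_kill hR ht Q hQ htQ p hpm hpQ
    refine ⟨s, hs, ?_⟩
    rw [← map_smul]
    have : s • z = 0 := Subtype.ext (hkill z.1)
    rw [this, map_zero]

/-- the length of `cM / y cM` -/
theorem length_quotSMulTop_range {c c' w w' : R} (hw : w ∉ Q) (hw' : w' ∉ Q)
    (h : w * (c * c') = w' * t) {y : R} (hy : y ∉ Q) :
    Module.length R (QuotSMulTop y ↥(LinearMap.range (mu Q t c))) =
      Ring.ord (Localization.AtPrime Q) (algebraMap R (Localization.AtPrime Q) c') * cst y Q := by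
  by_cases hym : y ∈ maximalIdeal R
  · have hfin := length_quotSMulTop_range_lt_top hR ht Q hQ htQ c hy
    obtain ⟨-, hform⟩ := formula y hym ↥(LinearMap.range (mu Q t c)) hfin.ne
    have hker : Module.length R (LinearMap.ker (tmul y ↥(LinearMap.range (mu Q t c)))) = 0 := by
      rw [Module.length_eq_zero_iff]
      have h0 : ∀ a : LinearMap.ker (tmul y ↥(LinearMap.range (mu Q t c))), a = 0 := by
        rintro ⟨a, ha⟩
        rw [mem_ker_tmul] at ha
        apply Subtype.ext
        apply Subtype.ext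
        exact smul_injective_of_notMem hy a.1 (congrArg Subtype.val ha)
      exact ⟨fun a b => (h0 a).trans (h0 b).symm⟩
    rw [hker, zero_add] at hform
    rw [hform]
    classical
    have hQG : Q ∈ G R := ⟨inferInstance, hQ⟩
    rw [finsum_eq_single (fun p => ∑ᶠ (_ : p ∈ G R),
      lam (↥(LinearMap.range (mu Q t c))) p * cst y p) Q]
    · rw [finsum_eq_if, if_pos hQG, lam_range_mu hR ht Q hQ htQ hw hw' h]
    · intro p hpQ
      rw [finsum_eq_if]
      split_ifs with hpG
      · rw [lam_range_mu_of_ne hR ht Q hQ htQ c p hpG hpQ, zero_mul]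
      · rfl
  · -- `y` is a unit
    have hyu : IsUnit y := by
      by_contra hnu
      exact hym ((mem_maximalIdeal y).mpr hnu)
    have h1 : Module.length R (QuotSMulTop y ↥(LinearMap.range (mu Q t c))) = 0 := by
      rw [Module.length_eq_zero_iff]
      have h0 : ∀ a : QuotSMulTop y ↥(LinearMap.range (mu Q t c)), a = 0 := by
        intro a
        obtain ⟨z, rfl⟩ := Submodule.mkQ_surjective _ a
        rw [Submodule.mkQ_apply, Submodule.Quotient.mk_eq_zero]
        obtain ⟨y', hy'⟩ := hyu.exists_left_inv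
        have : z = y • (y' • z) := by rw [smul_smul, mul_comm, hy', one_smul]
        rw [this]
        exact Submodule.smul_mem_pointwise_smul _ _ _ Submodule.mem_top
      exact ⟨fun a b => (h0 a).trans (h0 b).symm⟩
    have h2 : cst y Q = 0 := by
      unfold cst
      rw [Module.length_eq_zero_iff, Submodule.Quotient.subsingleton_iff]
      rw [eq_top_iff]
      refine le_trans ?_ le_sup_right
      rw [Ideal.span_singleton_eq_top.mpr hyu]
    rw [h1, h2, mul_zero]

/-- the Herbrand quotient of `(cM, 0, y)` -/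
theorem herbrand_range {c c' w w' : R} (hw : w ∉ Q) (hw' : w' ∉ Q)
    (h : w * (c * c') = w' * t) {y : R} (hy : y ∉ Q) :
    herbrand R (0 : ↥(LinearMap.range (mu Q t c)) →ₗ[R] ↥(LinearMap.range (mu Q t c)))
        (y • LinearMap.id) =
      ((Ring.ord (Localization.AtPrime Q) (algebraMap R (Localization.AtPrime Q) c')).toNat : ℤ) *
        ((cst y Q).toNat : ℤ) := by
  unfold herbrand
  rw [length_perH_zero_smul, length_perH_smul_zero, length_quotSMulTop_range hR ht Q hQ htQ hw hw' h hy]
  · simp
  · rintro ⟨z, hz⟩ hzero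
    apply Subtype.ext
    exact smul_injective_of_notMem hy z (congrArg Subtype.val hzero)

end eval

end Groth.Agent.Lib.Helper29.Key
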