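import Groth.Agent.Lib.Helper29.KeyC
import Groth.Agent.S1831

/-!
# Key lemma, part D: the Herbrand quotient of `(R/J_Q, a, b)` in the monomial case
-/

set_option autoImplicit false

namespace Groth.Agent.Lib.Helper29.Key

universe u

open IsLocalRing CycAlg Groth.Agent.Lib.Helper29.LengthFormula

/-- global monomial data for `a, b` at the prime `Q` -/
structure GMono (R : Type u) [CommRing R] (a b : R) (Q : Ideal R) where
  p : R
  x : R
  y₁ : R
  x' : R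
  y₂ : R
  e : ℕ
  f : ℕ
  hx : x ∉ Q
  hy₁ : y₁ ∉ Q
  hx' : x' ∉ Q
  hy₂ : y₂ ∉ Q
  h₁ : y₁ * a = x * p ^ e
  h₂ : y₂ * b = x' * p ^ f

section h2

variable {R : Type u} [CommRing R] [IsNoetherianRing R] [IsLocalRing R]
  (hR : ringKrullDim R ≤ 2) {a b : R} (ha : a ∈ nonZeroDivisors R) (hb : b ∈ nonZeroDivisors R)
  (Q : Ideal R) [Q.IsPrime] (hQ : Q ≠ maximalIdeal R) (habQ : a * b ∈ Q) (D : GMono R a b Q)

/-- the value attached to the data at `Q` -/
noncomputable def GMono.val {a b : R} {Q : Ideal R} [Q.IsPrime] (D : GMono R a b Q) : ℤ :=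
  ((Ring.ord (Localization.AtPrime Q) (algebraMap R (Localization.AtPrime Q) b)).toNat : ℤ) *
      (((cst D.y₁ Q).toNat : ℤ) - ((cst D.x Q).toNat : ℤ)) +
    ((Ring.ord (Localization.AtPrime Q) (algebraMap R (Localization.AtPrime Q) a)).toNat : ℤ) *
      (((cst D.x' Q).toNat : ℤ) - ((cst D.y₂ Q).toNat : ℤ))

include hR ha hb hQ habQ in
theorem herbrand_mu_eq :
    FinCoh R (mu Q (a * b) a) (mu Q (a * b) b) ∧
      herbrand R (mu Q (a * b) a) (mu Q (a * b) b) = D.val := by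
  have ht : a * b ∈ nonZeroDivisors R := mul_mem ha hb
  have h1Q : (1 : R) ∉ Q := one_notMem Q
  obtain ⟨p, x, y₁, x', y₂, e, f, hx, hy₁, hx', hy₂, h₁, h₂⟩ := D
  -- the relations
  have r_ab : (1 : R) * (a * b) = 1 * (a * b) := rfl
  have r_ba : (1 : R) * (b * a) = 1 * (a * b) := by ring
  have r_pb : x * (p ^ e * b) = y₁ * (a * b) := by rw [← mul_assoc, ← h₁]; ring
  have r_pa : x' * (p ^ f * a) = y₂ * (a * b) := by rw [← mul_assoc, ← h₂]; ring
  have r_pp : (x * x') * (p ^ e * p ^ f) = (y₁ * y₂) * (a * b) := by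
    have : (x * x') * (p ^ e * p ^ f) = (x * p ^ e) * (x' * p ^ f) := by ring
    rw [this, ← h₁, ← h₂]; ring
  have hxx' : x * x' ∉ Q := mul_notMem Q hx hx'
  have hyy : y₁ * y₂ ∉ Q := mul_notMem Q hy₁ hy₂
  -- positivity of e + f
  have hn : 0 < e + f := by
    by_contra hcon
    have he : e = 0 := by omega
    have hf : f = 0 := by omega
    subst he hf
    rw [pow_zero, mul_one] at h₁ h₂
    rcases Ideal.IsPrime.mem_or_mem inferInstance habQ with h | h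
    · exact hx (h₁ ▸ Ideal.mul_mem_left _ _ h)
    · exact hx' (h₂ ▸ Ideal.mul_mem_left _ _ h)
  -- periodicity and finiteness
  have per_ab : IsPeriodic (mu Q (a * b) a) (mu Q (a * b) b) := isPeriodic_mu h1Q r_ab
  have fin_ab : FinCoh R (mu Q (a * b) a) (mu Q (a * b) b) :=
    finCoh_mu hR ht Q hQ habQ h1Q r_ab
  have per_pb : IsPeriodic (mu Q (a * b) (p ^ e)) (mu Q (a * b) b) := isPeriodic_mu hx r_pb
  have fin_pb : FinCoh R (mu Q (a * b) (p ^ e)) (mu Q (a * b) b) :=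
    finCoh_mu hR ht Q hQ habQ hy₁ r_pb
  have per_pp : IsPeriodic (mu Q (a * b) (p ^ e)) (mu Q (a * b) (p ^ f)) :=
    isPeriodic_mu hxx' r_pp
  -- S1831
  have hpn : p ^ (e + f) ∈ Jid Q (a * b) := by
    rw [pow_add]; exact mem_Jid_of_rel hxx' r_pp
  have hφn : (mu Q (a * b) p) ^ (e + f) = 0 := by
    rw [mu_pow]; exact mu_eq_zero Q _ hpn
  have r_p1 : (x * x') * (p * p ^ (e + f - 1)) = (y₁ * y₂) * (a * b) := by
    rw [← pow_succ', Nat.sub_add_cancel hn, pow_add]; exact r_pp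
  have hfin1 : Module.length R (perH (mu Q (a * b) p) ((mu Q (a * b) p) ^ (e + f - 1))) < ⊤ := by
    rw [mu_pow]
    exact length_perH_mu_lt_top hR ht Q hQ habQ hyy r_p1
  obtain ⟨fin_pp', e_pp'⟩ := Groth.Agent.S1831.result (mu Q (a * b) p) (e + f) hn hφn hfin1 e
    (Nat.le_add_right e f)
  rw [Nat.add_sub_cancel_left, mu_pow, mu_pow] at fin_pp' e_pp'
  -- S1832, four times
  obtain ⟨⟨-, A1⟩, -⟩ := Groth.Agent.S1832.result (mu Q (a * b) a) (mu Q (a * b) b) per_ab fin_ab y₁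
    (supportDim_quot_le hR ht Q hQ habQ hy₁)
  obtain ⟨⟨-, A2⟩, ⟨-, A3⟩⟩ := Groth.Agent.S1832.result (mu Q (a * b) (p ^ e)) (mu Q (a * b) b)
    per_pb fin_pb x (supportDim_quot_le hR ht Q hQ habQ hx)
  obtain ⟨-, ⟨-, A3'⟩⟩ := Groth.Agent.S1832.result (mu Q (a * b) (p ^ e)) (mu Q (a * b) b)
    per_pb fin_pb y₂ (supportDim_quot_le hR ht Q hQ habQ hy₂)
  obtain ⟨-, ⟨-, A4⟩⟩ := Groth.Agent.S1832.result (mu Q (a * b) (p ^ e)) (mu Q (a * b) (p ^ f))
    per_pp fin_pp' x' (supportDim_quot_le hR ht Q hQ habQ hx')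
  have heq1 : y₁ • mu Q (a * b) a = x • mu Q (a * b) (p ^ e) := by
    rw [smul_mu, smul_mu, h₁]
  have heq2 : y₂ • mu Q (a * b) b = x' • mu Q (a * b) (p ^ f) := by
    rw [smul_mu, smul_mu, h₂]
  rw [heq1] at A1
  rw [heq2] at A3'
  -- the correction terms
  have T1 := herbrand_range hR ht Q hQ habQ h1Q h1Q r_ab hy₁
  have T2 := herbrand_range hR ht Q hQ habQ hx hy₁ r_pb hx
  have T3 := herbrand_range hR ht Q hQ habQ h1Q h1Q r_ba hy₂
  have T4 := herbrand_range hR ht Q hQ habQ hx' hy₂ r_pa hx'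
  refine ⟨fin_ab, ?_⟩
  unfold GMono.val
  simp only
  rw [T1] at A1
  rw [T2] at A2
  rw [T3] at A3'
  rw [T4, e_pp'] at A4
  linarith

end h2

end Groth.Agent.Lib.Helper29.Key
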