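import Groth.Agent.Lib.Helper29.KeyD
import Groth.Agent.S1870

/-!
# Key lemma, part E: the sum of the Herbrand quotients of `(R/J_Q, a, b)` vanishes
-/

set_option autoImplicit false

namespace Groth.Agent.Lib.Helper29.Key

universe u

open IsLocalRing CycAlg Groth.Agent.Lib.Helper29.LengthFormula Groth.Agent.Lib.Helper29.Idx

section pi

variable {R : Type u} [CommRing R] {ι : Type u} [Fintype ι]
  (M : ι → Type u) [∀ i, AddCommGroup (M i)] [∀ i, Module R (M i)]

/-- the product of a family of endomorphisms -/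
def piMap (φ : ∀ i, M i →ₗ[R] M i) : (∀ i, M i) →ₗ[R] (∀ i, M i) :=
  LinearMap.pi (fun i => φ i ∘ₗ LinearMap.proj i)

theorem piMap_apply (φ : ∀ i, M i →ₗ[R] M i) (w : ∀ i, M i) (i : ι) :
    piMap M φ w i = φ i (w i) := rfl

theorem length_perH_pi (φ ψ : ∀ i, M i →ₗ[R] M i) :
    Module.length R (perH (piMap M φ) (piMap M ψ)) =
      ∑ i, Module.length R (perH (φ i) (ψ i)) := by
  rw [← Module.length_pi_of_fintype]
  have hmem : ∀ (i : ι) (z : LinearMap.ker (piMap M φ)), z.1 i ∈ LinearMap.ker (φ i) := by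
    intro i z
    rw [LinearMap.mem_ker, ← piMap_apply M φ z.1 i, LinearMap.mem_ker.mp z.2]
    rfl
  let g₀ : LinearMap.ker (piMap M φ) →ₗ[R] (∀ i, perH (φ i) (ψ i)) :=
    LinearMap.pi (fun i => Submodule.mkQ _ ∘ₗ
      LinearMap.codRestrict (LinearMap.ker (φ i))
        (LinearMap.proj i ∘ₗ (LinearMap.ker (piMap M φ)).subtype) (hmem i))
  have hle : (LinearMap.range (piMap M ψ)).submoduleOf (LinearMap.ker (piMap M φ)) ≤
      LinearMap.ker g₀ := by
    rintro z ⟨w, hw⟩
    rw [LinearMap.mem_ker]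
    funext i
    change Submodule.Quotient.mk (⟨z.1 i, hmem i z⟩ : LinearMap.ker (φ i)) = 0
    rw [Submodule.Quotient.mk_eq_zero]
    refine ⟨w i, ?_⟩
    have := congrFun hw i
    exact this
  let g : perH (piMap M φ) (piMap M ψ) →ₗ[R] (∀ i, perH (φ i) (ψ i)) :=
    Submodule.liftQ _ g₀ hle
  have hbij : Function.Bijective g := by
    constructor
    · rw [← LinearMap.ker_eq_bot, LinearMap.ker_eq_bot']
      intro x hx
      obtain ⟨z, rfl⟩ := Submodule.mkQ_surjective _ x
      have hx' : g₀ z = 0 := hx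
      have h1 : ∀ i, ∃ w : M i, ψ i w = z.1 i := by
        intro i
        have h2 : Submodule.Quotient.mk (⟨z.1 i, hmem i z⟩ : LinearMap.ker (φ i)) =
            (0 : perH (φ i) (ψ i)) := congrFun hx' i
        rw [Submodule.Quotient.mk_eq_zero] at h2
        exact h2
      choose w hw using h1
      rw [Submodule.mkQ_apply, Submodule.Quotient.mk_eq_zero]
      exact ⟨w, funext hw⟩
    · intro x
      have h1 : ∀ i, ∃ z : LinearMap.ker (φ i), Submodule.Quotient.mk z = x i :=
        fun i => Submodule.mkQ_surjective _ (x i)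
      choose z hz using h1
      have hzk : (fun i => (z i).1) ∈ LinearMap.ker (piMap M φ) := by
        rw [LinearMap.mem_ker]
        funext i
        rw [piMap_apply]
        exact (z i).2
      refine ⟨Submodule.Quotient.mk ⟨fun i => (z i).1, hzk⟩, ?_⟩
      funext i
      rw [← hz i]
      rfl
  exact (LinearEquiv.ofBijective g hbij).length_eq

theorem finCoh_herbrand_pi (φ ψ : ∀ i, M i →ₗ[R] M i) (hfin : ∀ i, FinCoh R (φ i) (ψ i)) :
    FinCoh R (piMap M φ) (piMap M ψ) ∧
      herbrand R (piMap M φ) (piMap M ψ) = ∑ i, herbrand R (φ i) (ψ i) := by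
  have h1 := length_perH_pi M φ ψ
  have h2 := length_perH_pi M ψ φ
  have f1 : ∀ i ∈ Finset.univ, Module.length R (perH (φ i) (ψ i)) ≠ ⊤ :=
    fun i _ => (hfin i).1.ne
  have f2 : ∀ i ∈ Finset.univ, Module.length R (perH (ψ i) (φ i)) ≠ ⊤ :=
    fun i _ => (hfin i).2.ne
  refine ⟨⟨?_, ?_⟩, ?_⟩
  · rw [h1]; exact (ENat.sum_lt_top.mpr (fun i hi => lt_top_iff_ne_top.mpr (f1 i hi)))
  · rw [h2]; exact (ENat.sum_lt_top.mpr (fun i hi => lt_top_iff_ne_top.mpr (f2 i hi)))
  · unfold herbrand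
    rw [h1, h2, ENat.toNat_sum f1, ENat.toNat_sum f2]
    push_cast
    rw [Finset.sum_sub_distrib]

end pi

section h1

variable (R : Type u) [CommRing R] [IsLocalRing R]

/-- the non-maximal primes containing `t` -/
def PP (t : R) : Type u := {Q : Ideal R // Q.IsPrime ∧ Q ≠ maximalIdeal R ∧ t ∈ Q}

instance (t : R) (Q : PP R t) : Q.1.IsPrime := Q.2.1

variable {R} [IsNoetherianRing R]

theorem PP_finite (hR : ringKrullDim R ≤ 2) {t : R} (ht : t ∈ nonZeroDivisors R) :
    Finite (PP R t) := by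
  have hfin := Ideal.finite_minimalPrimes_of_isNoetherianRing R (Ideal.span {t})
  have hinj : Function.Injective (fun Q : PP R t => (⟨Q.1, by
      refine ⟨⟨Q.2.1, (Ideal.span_singleton_le_iff_mem _).mpr Q.2.2.2⟩, ?_⟩
      rintro Q' ⟨hQ', htQ'⟩ hle
      haveI := hQ'
      have := eq_of_le_of_ne_max hR ht Q' Q.1 ((Ideal.span_singleton_le_iff_mem _).mp htQ') hle
        Q.2.2.1
      exact this.le⟩ : (Ideal.span {t}).minimalPrimes)) := by
    intro Q Q' h
    have h' : Q.1 = Q'.1 := congrArg (fun z : (Ideal.span {t}).minimalPrimes => z.1) h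
    exact Subtype.ext h'
  haveI := hfin.to_subtype
  exact Finite.of_injective _ hinj

end h1

end Groth.Agent.Lib.Helper29.Key
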