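import Groth.Agent.Lib.Helper29.KeyE

/-!
# Key lemma, part F: the monomial case
-/

set_option autoImplicit false

namespace Groth.Agent.Lib.Helper29.Key

universe u

open IsLocalRing CycAlg Groth.Agent.Lib.Helper29.LengthFormula Groth.Agent.Lib.Helper29.Idx

section mu0

variable {R : Type u} [CommRing R]

/-- multiplication by `c` on `R ⧸ (t)` -/
noncomputable def mu0 (t c : R) : (R ⧸ Ideal.span {t}) →ₗ[R] (R ⧸ Ideal.span {t}) :=
  LinearMap.lsmul R (R ⧸ Ideal.span {t}) c

theorem mu0_mk (t c z : R) :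
    mu0 t c (Ideal.Quotient.mk _ z) = Ideal.Quotient.mk _ (c * z) := rfl

theorem isPeriodic_mu0 (c₁ c₂ : R) : IsPeriodic (mu0 (c₁ * c₂) c₁) (mu0 (c₁ * c₂) c₂) := by
  constructor
  · refine LinearMap.ext fun z => ?_
    obtain ⟨z, rfl⟩ := Ideal.Quotient.mk_surjective z
    rw [LinearMap.comp_apply, mu0_mk, mu0_mk, LinearMap.zero_apply,
      Ideal.Quotient.eq_zero_iff_mem, Ideal.mem_span_singleton']
    exact ⟨z, by ring⟩
  · refine LinearMap.ext fun z => ?_
    obtain ⟨z, rfl⟩ := Ideal.Quotient.mk_surjective z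
    rw [LinearMap.comp_apply, mu0_mk, mu0_mk, LinearMap.zero_apply,
      Ideal.Quotient.eq_zero_iff_mem, Ideal.mem_span_singleton']
    exact ⟨z, by ring⟩

theorem length_perH_mu0 {t c₁ c₂ : R} (h1 : c₁ ∈ nonZeroDivisors R) (ht : t = c₁ * c₂) :
    Module.length R (perH (mu0 t c₁) (mu0 t c₂)) = 0 := by
  change idx (LinearMap.ker (mu0 t c₁)) (LinearMap.range (mu0 t c₂)) = 0
  apply idx_eq_zero
  intro z hz
  obtain ⟨z, rfl⟩ := Ideal.Quotient.mk_surjective z
  rw [LinearMap.mem_ker, mu0_mk, Ideal.Quotient.eq_zero_iff_mem, Ideal.mem_span_singleton'] at hz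
  obtain ⟨r, hr⟩ := hz
  have h2 : c₁ * (z - c₂ * r) = 0 := by
    have : c₁ * (z - c₂ * r) = c₁ * z - r * (c₁ * c₂) := by ring
    rw [this, ← ht, hr, sub_self]
  have h3 : z - c₂ * r = 0 := by
    apply (mem_nonZeroDivisors_iff.mp h1).2
    rw [mul_comm]; exact h2
  refine ⟨Ideal.Quotient.mk _ r, ?_⟩
  rw [mu0_mk]
  congr 1
  exact (sub_eq_zero.mp h3).symm

end mu0

section h1main

variable {R : Type u} [CommRing R] [IsNoetherianRing R] [IsLocalRing R]
  (hR : ringKrullDim R ≤ 2) {a b : R} (ha : a ∈ nonZeroDivisors R) (hb : b ∈ nonZeroDivisors R)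

/-- the comparison map `R/(t) → ∏ R/J_Q` -/
noncomputable def cmp (t : R) : (R ⧸ Ideal.span {t}) →ₗ[R] (∀ Q : PP R t, R ⧸ Jid Q.1 t) :=
  LinearMap.pi (fun Q => Submodule.liftQ _ (Jid Q.1 t).mkQ
    (by rw [Submodule.ker_mkQ]; exact span_le_Jid Q.1 t))

theorem cmp_mk (t r : R) (Q : PP R t) :
    cmp t (Ideal.Quotient.mk _ r) Q = Ideal.Quotient.mk _ r := rfl

include hR ha hb in
theorem sum_herbrand_eq_zero {t : R} (htab : t = a * b) [Fintype (PP R t)] :
    ∑ Q : PP R t, herbrand R (mu Q.1 t a) (mu Q.1 t b) = 0 := by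
  classical
  have ht : t ∈ nonZeroDivisors R := htab ▸ mul_mem ha hb
  let M : PP R t → Type u := fun Q => R ⧸ Jid Q.1 t
  let φ : ∀ Q : PP R t, M Q →ₗ[R] M Q := fun Q => mu Q.1 t a
  let ψ : ∀ Q : PP R t, M Q →ₗ[R] M Q := fun Q => mu Q.1 t b
  have hfinQ : ∀ Q : PP R t, FinCoh R (φ Q) (ψ Q) := fun Q =>
    finCoh_mu hR ht Q.1 Q.2.2.1 Q.2.2.2 (one_notMem Q.1) (w := 1) (by rw [htab])
  have hperQ : ∀ Q : PP R t, IsPeriodic (φ Q) (ψ Q) := fun Q =>
    isPeriodic_mu (w := 1) (w' := 1) (one_notMem Q.1) (by rw [htab])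
  obtain ⟨hfinP, hsum⟩ := finCoh_herbrand_pi M φ ψ hfinQ
  have hperP : IsPeriodic (piMap M φ) (piMap M ψ) := by
    constructor
    · refine LinearMap.ext fun w => funext fun Q => ?_
      rw [LinearMap.comp_apply, piMap_apply, piMap_apply]
      exact LinearMap.congr_fun (hperQ Q).1 (w Q)
    · refine LinearMap.ext fun w => funext fun Q => ?_
      rw [LinearMap.comp_apply, piMap_apply, piMap_apply]
      exact LinearMap.congr_fun (hperQ Q).2 (w Q)
  have hper0 : IsPeriodic (mu0 t a) (mu0 t b) := by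
    rw [htab]; exact isPeriodic_mu0 a b
  have hl1 : Module.length R (perH (mu0 t a) (mu0 t b)) = 0 := length_perH_mu0 ha htab
  have hl2 : Module.length R (perH (mu0 t b) (mu0 t a)) = 0 :=
    length_perH_mu0 hb (htab.trans (mul_comm a b))
  have hfin0 : FinCoh R (mu0 t a) (mu0 t b) := by
    refine ⟨?_, ?_⟩
    · rw [hl1]; exact ENat.top_pos
    · rw [hl2]; exact ENat.top_pos
  have cφ : piMap M φ ∘ₗ cmp t = cmp t ∘ₗ mu0 t a := by
    refine LinearMap.ext fun z => funext fun Q => ?_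
    obtain ⟨z, rfl⟩ := Ideal.Quotient.mk_surjective z
    rfl
  have cψ : piMap M ψ ∘ₗ cmp t = cmp t ∘ₗ mu0 t b := by
    refine LinearMap.ext fun z => funext fun Q => ?_
    obtain ⟨z, rfl⟩ := Ideal.Quotient.mk_surjective z
    rfl
  -- the kernel has finite length
  have hker : Module.length R (LinearMap.ker (cmp t)) < ⊤ := by
    apply length_lt_top_of_locally_zero
    rintro p hp hpm ⟨z, hz⟩
    obtain ⟨r, rfl⟩ := Ideal.Quotient.mk_surjective z
    by_cases htp : t ∈ p
    · have hr : Ideal.Quotient.mk (Jid p t) r = 0 := by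
        have := congrFun (LinearMap.mem_ker.mp hz) (⟨p, hp, hpm, htp⟩ : PP R t)
        exact this
      rw [Ideal.Quotient.eq_zero_iff_mem] at hr
      obtain ⟨s, hs, hsr⟩ := hr
      refine ⟨s, hs, ?_⟩
      apply Subtype.ext
      change Ideal.Quotient.mk _ (s * r) = 0
      rw [Ideal.Quotient.eq_zero_iff_mem]
      exact hsr
    · refine ⟨t, htp, ?_⟩
      apply Subtype.ext
      change Ideal.Quotient.mk _ (t * r) = 0
      rw [Ideal.Quotient.eq_zero_iff_mem]
      exact Ideal.mul_mem_right _ _ (Ideal.mem_span_singleton_self t)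
  -- the cokernel has finite length
  have hcoker : Module.length R ((∀ Q : PP R t, M Q) ⧸ LinearMap.range (cmp t)) < ⊤ := by
    apply length_lt_top_of_locally_zero
    intro p hp hpm x
    obtain ⟨w, rfl⟩ := Submodule.mkQ_surjective _ x
    by_cases htp : t ∈ p
    · set Qp : PP R t := ⟨p, hp, hpm, htp⟩ with hQp
      have hex : ∀ Q : PP R t, Q ≠ Qp → ∃ s ∈ Jid Q.1 t, s ∉ p := by
        intro Q hQ
        haveI := hp
        refine exists_mem_Jid_notMem hR ht Q.1 Q.2.2.1 Q.2.2.2 p hpm ?_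
        intro e
        exact hQ (Subtype.ext e.symm)
      choose! s hsJ hsp using hex
      set S := ∏ Q ∈ Finset.univ.erase Qp, s Q with hS
      have hSp : S ∉ p := by
        rw [hS, hp.prod_mem_iff]
        rintro ⟨Q, hQ, hmem⟩
        exact hsp Q (Finset.ne_of_mem_erase hQ) hmem
      have hSJ : ∀ Q : PP R t, Q ≠ Qp → S ∈ Jid Q.1 t := by
        intro Q hQ
        obtain ⟨c, hc⟩ := Finset.dvd_prod_of_mem s (Finset.mem_erase.mpr ⟨hQ, Finset.mem_univ Q⟩)
        rw [hS, hc]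
        exact Ideal.mul_mem_right _ _ (hsJ Q hQ)
      obtain ⟨r, hr⟩ := Ideal.Quotient.mk_surjective (w Qp)
      refine ⟨S, hSp, ?_⟩
      rw [← map_smul, Submodule.mkQ_apply, Submodule.Quotient.mk_eq_zero]
      refine ⟨Ideal.Quotient.mk _ (S * r), ?_⟩
      funext Q
      rw [cmp_mk]
      by_cases hQ : Q = Qp
      · subst hQ
        change _ = S • w Qp
        rw [← hr]
        rfl
      · have h1 : Ideal.Quotient.mk (Jid Q.1 t) (S * r) = 0 := by
          rw [Ideal.Quotient.eq_zero_iff_mem]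
          exact Ideal.mul_mem_right _ _ (hSJ Q hQ)
        rw [h1]
        obtain ⟨r', hr'⟩ := Ideal.Quotient.mk_surjective (w Q)
        change 0 = S • w Q
        rw [← hr']
        change 0 = Ideal.Quotient.mk (Jid Q.1 t) (S * r')
        rw [eq_comm, Ideal.Quotient.eq_zero_iff_mem]
        exact Ideal.mul_mem_right _ _ (hSJ Q hQ)
    · refine ⟨t, htp, ?_⟩
      rw [← map_smul]
      have : t • w = 0 := by
        funext Q
        obtain ⟨r', hr'⟩ := Ideal.Quotient.mk_surjective (w Q)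
        change t • w Q = 0
        rw [← hr']
        change Ideal.Quotient.mk (Jid Q.1 t) (t * r') = 0
        rw [Ideal.Quotient.eq_zero_iff_mem]
        exact Ideal.mul_mem_right _ _ (self_mem_Jid Q.1 t)
      rw [this, map_zero]
  have key := Groth.Agent.S1870.result (mu0 t a) (mu0 t b) (piMap M φ) (piMap M ψ) hper0 hperP
    (cmp t) cφ cψ hfin0 hfinP hker hcoker
  rw [← hsum, ← key]
  unfold herbrand
  rw [hl1, hl2]
  simp

include hR ha hb in
/-- the monomial case of the key lemma -/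
theorem sum_val_eq_zero [Fintype (PP R (a * b))] (D : ∀ Q : PP R (a * b), GMono R a b Q.1) :
    ∑ Q : PP R (a * b), (D Q).val = 0 := by
  rw [← sum_herbrand_eq_zero hR ha hb (t := a * b) rfl]
  refine Finset.sum_congr rfl fun Q _ => ?_
  exact ((herbrand_mu_eq hR ha hb Q.1 Q.2.2.1 Q.2.2.2 (D Q)).2).symm

end h1main

end Groth.Agent.Lib.Helper29.Key
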