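import Groth.Agent.Lib.Helper29.KeyF

/-!
# Key lemma, part G: localizing a finite algebra at a prime of the base
-/

set_option autoImplicit false

namespace Groth.Agent.Lib.Helper29.Key

universe u

open IsLocalRing CycAlg

section loc

variable {A : Type u} [CommRing A] (q : Ideal A) [hq : q.IsPrime]
  (B : Type u) [CommRing B] [Algebra A B] [Module.Finite A B]

/-- the localization of `B` at the image of the complement of `q` -/
abbrev El : Type u := Localization (Algebra.algebraMapSubmonoid B q.primeCompl)

variable {B}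

/-- contraction of a maximal ideal of the localization -/
abbrev cIdeal (n : MaximalSpectrum (El q B)) : Ideal B :=
  n.asIdeal.comap (algebraMap B (El q B))

instance (n : MaximalSpectrum (El q B)) : (cIdeal q n).IsPrime :=
  haveI := n.isMaximal
  Ideal.comap_isPrime _ _

theorem cIdeal_comap (n : MaximalSpectrum (El q B)) :
    (cIdeal q n).comap (algebraMap A B) = q := by
  have h1 : (cIdeal q n).comap (algebraMap A B) =
      (n.asIdeal.comap (algebraMap (Localization.AtPrime q) (El q B))).comap
        (algebraMap A (Localization.AtPrime q)) := by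
    rw [Ideal.comap_comap, Ideal.comap_comap]
    congr 1
    rw [← IsScalarTower.algebraMap_eq, ← IsScalarTower.algebraMap_eq]
  rw [h1, Tame.comap_maximal (A := Localization.AtPrime q) n]
  exact Localization.AtPrime.under_maximalIdeal

theorem cIdeal_injective : Function.Injective (cIdeal q (B := B)) := by
  intro n₁ n₂ h
  have e1 := IsLocalization.map_under (Algebra.algebraMapSubmonoid B q.primeCompl) (El q B)
    n₁.asIdeal
  have e2 := IsLocalization.map_under (Algebra.algebraMapSubmonoid B q.primeCompl) (El q B)
    n₂.asIdeal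
  ext1
  rw [← e1, ← e2]
  exact congrArg _ h

theorem exists_cIdeal_eq (Q : Ideal B) [hQ : Q.IsPrime] (hQq : Q.comap (algebraMap A B) = q)
    (hmax : ∀ Q' : Ideal B, Q'.IsPrime → Q ≤ Q' → Q'.comap (algebraMap A B) = q → Q' = Q) :
    ∃ n : MaximalSpectrum (El q B), cIdeal q n = Q := by
  have hdisj : Disjoint (Algebra.algebraMapSubmonoid B q.primeCompl : Set B) Q := by
    rw [Set.disjoint_left]
    rintro x ⟨t, ht, rfl⟩ hx
    apply ht
    rw [← hQq]
    exact hx
  have hprime := IsLocalization.isPrime_of_isPrime_disjoint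
    (Algebra.algebraMapSubmonoid B q.primeCompl) (El q B) Q hQ hdisj
  have hunder := IsLocalization.under_map_of_isPrime_disjoint
    (Algebra.algebraMapSubmonoid B q.primeCompl) (El q B) hQ hdisj
  obtain ⟨n', hn', hle⟩ := Ideal.exists_le_maximal _ hprime.ne_top
  have h1 : Q ≤ n'.comap (algebraMap B (El q B)) := by
    rw [← hunder]
    exact Ideal.comap_mono hle
  refine ⟨⟨n', hn'⟩, ?_⟩
  exact hmax _ inferInstance h1 (cIdeal_comap q ⟨n', hn'⟩)

/-- the isomorphism of the localizations -/
noncomputable def psi' (n : MaximalSpectrum (El q B)) :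
    Localization.AtPrime (cIdeal q n) ≃ₐ[B] Localization.AtPrime n.asIdeal :=
  haveI := n.isMaximal
  IsLocalization.localizationLocalizationAtPrimeIsoLocalization
    (Algebra.algebraMapSubmonoid B q.primeCompl) n.asIdeal

theorem isFinExt_El [IsNoetherianRing (Localization.AtPrime q)]
    [Ring.KrullDimLE 1 (Localization.AtPrime q)]
    (hinj : Function.Injective (algebraMap A B)) (t : A)
    (ht : algebraMap A (Localization.AtPrime q) t ∈ nonZeroDivisors (Localization.AtPrime q))
    (N : ℕ) (hN : ∀ c : B, t ^ N • c ∈ (algebraMap A B).range) :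
    IsFinExt (Localization.AtPrime q) (El q B) (maximalIdeal (Localization.AtPrime q)) := by
  refine ⟨localizationAlgebra_injective _ _ hinj, inferInstance, ?_⟩
  obtain ⟨k, hk⟩ := Tame.exists_maximalIdeal_pow_le (algebraMap A (Localization.AtPrime q) t) ht
  refine ⟨k * N, ?_⟩
  intro r hr e
  have hr' : r ∈ Ideal.span {(algebraMap A (Localization.AtPrime q) t) ^ N} := by
    rw [← Ideal.span_singleton_pow]
    apply Ideal.pow_right_mono hk N
    rwa [← pow_mul]
  obtain ⟨r', rfl⟩ := Ideal.mem_span_singleton'.mp hr'
  obtain ⟨c, ⟨s, hs⟩, rfl⟩ := IsLocalization.exists_mk'_eq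
    (Algebra.algebraMapSubmonoid B q.primeCompl) e
  obtain ⟨s₀, hs₀, rfl⟩ := hs
  obtain ⟨b, hb⟩ := RingHom.mem_range.mp (hN c)
  have key : (algebraMap A (Localization.AtPrime q) t ^ N) •
      IsLocalization.mk' (El q B) c
        (⟨algebraMap A B s₀, Algebra.mem_algebraMapSubmonoid_of_mem ⟨s₀, hs₀⟩⟩ :
          Algebra.algebraMapSubmonoid B q.primeCompl) =
      algebraMap (Localization.AtPrime q) (El q B)
        (IsLocalization.mk' (Localization.AtPrime q) b (⟨s₀, hs₀⟩ : q.primeCompl)) := by
    rw [IsLocalization.algebraMap_mk' B (Localization.AtPrime q) (El q B), hb, Algebra.smul_def,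
      map_pow, ← IsScalarTower.algebraMap_apply A (Localization.AtPrime q) (El q B),
      IsScalarTower.algebraMap_apply A B (El q B), ← map_pow,
      IsLocalization.mul_mk'_eq_mk'_of_mul, Algebra.smul_def, map_pow]
  rw [mul_smul, key, Algebra.smul_def, ← map_mul]
  exact ⟨_, rfl⟩

end loc

end Groth.Agent.Lib.Helper29.Key
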