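import Groth.Agent.Lib.Helper29.KeyG
import Mathlib.RingTheory.SimpleModule.Basic
import Mathlib.RingTheory.KrullDimension.NonZeroDivisors

/-!
# Key lemma, part H: lengths over a local ring and over a subring with the same residue field,
and the dimension of `A ⧸ q`
-/

set_option autoImplicit false

namespace Groth.Agent.Lib.Helper29.Key

universe u v

open IsLocalRing CycAlg

section leq

variable {R S : Type u} [CommRing R] [CommRing S] [IsLocalRing S] [Algebra R S]
  (hres : ∀ s : S, ∃ r : R, s - algebraMap R S r ∈ maximalIdeal S)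

include hres in
theorem isSimpleModule_of_residue_surjective (X : Type v) [AddCommGroup X] [Module S X]
    [Module R X] [IsScalarTower R S X] [IsSimpleModule S X] : IsSimpleModule R X := by
  have hann : ∀ μ ∈ maximalIdeal S, ∀ x : X, μ • x = 0 := by
    have hmax := IsSimpleModule.annihilator_isMaximal (R := S) (M := X)
    have : Module.annihilator S X = maximalIdeal S := IsLocalRing.eq_maximalIdeal hmax
    intro μ hμ x
    rw [← this] at hμ
    exact Module.mem_annihilator.mp hμ x
  haveI : Nontrivial X := IsSimpleModule.nontrivial S X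
  rw [isSimpleModule_iff]
  refine { exists_pair_ne := ⟨⊥, ⊤, bot_ne_top⟩, eq_bot_or_eq_top := ?_ }
  intro Y
  let Y' : Submodule S X :=
    { carrier := Y
      add_mem' := Y.add_mem
      zero_mem' := Y.zero_mem
      smul_mem' := by
        intro s y hy
        obtain ⟨r, hr⟩ := hres s
        have : s • y = r • y := by
          have h1 : s = algebraMap R S r + (s - algebraMap R S r) := by ring
          rw [h1, add_smul, hann _ hr y, add_zero, algebraMap_smul]
        rw [this]
        exact Y.smul_mem r hy }
  rcases eq_bot_or_eq_top Y' with h | h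
  · left
    rw [eq_bot_iff]
    intro y hy
    have : y ∈ Y' := hy
    rw [h] at this
    exact this
  · right
    rw [eq_top_iff]
    intro y _
    have : y ∈ Y' := by rw [h]; exact Submodule.mem_top
    exact this

include hres in
theorem length_eq_of_residue_surjective_aux : ∀ (k : ℕ) (X : Type v) [AddCommGroup X]
    [Module S X] [Module R X] [IsScalarTower R S X], Module.length S X = k →
    Module.length R X = k := by
  intro k
  induction k with
  | zero =>
    intro X _ _ _ _ h
    rw [Nat.cast_zero, Module.length_eq_zero_iff] at h ⊢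
    exact h
  | succ k ih =>
    intro X _ _ _ _ h
    have hfl : IsFiniteLength S X := by
      rw [← Module.length_ne_top_iff, h]; exact ENat.coe_ne_top _
    obtain ⟨-, hart⟩ := isFiniteLength_iff_isNoetherian_isArtinian.mp hfl
    have hne : (⊤ : Submodule S X) ≠ ⊥ := by
      intro e
      have : Subsingleton X := by
        refine ⟨fun a b => ?_⟩
        have ha : a ∈ (⊤ : Submodule S X) := Submodule.mem_top
        have hb : b ∈ (⊤ : Submodule S X) := Submodule.mem_top
        rw [e, Submodule.mem_bot] at ha hb
        rw [ha, hb]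
      have h0 := Module.length_eq_zero (R := S) (M := X)
      rw [h0] at h
      exact Nat.succ_ne_zero k (by exact_mod_cast h.symm)
    obtain ⟨X₁, hX₁, -⟩ := (eq_bot_or_exists_atom_le (⊤ : Submodule S X)).resolve_left hne
    haveI : IsSimpleModule S X₁ := isSimpleModule_iff_isAtom.mpr hX₁
    haveI : IsSimpleModule R X₁ := isSimpleModule_of_residue_surjective hres X₁
    have hS := Module.length_eq_add_of_exact X₁.subtype X₁.mkQ (Submodule.subtype_injective _)
      (Submodule.mkQ_surjective _) (LinearMap.exact_subtype_mkQ X₁)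
    have hR := Module.length_eq_add_of_exact (X₁.restrictScalars R).subtype
      (X₁.restrictScalars R).mkQ (Submodule.subtype_injective _)
      (Submodule.mkQ_surjective _) (LinearMap.exact_subtype_mkQ (X₁.restrictScalars R))
    rw [Module.length_eq_one (R := S) (M := X₁), h] at hS
    have hq : Module.length S (X ⧸ X₁) = k := by
      have : ((k + 1 : ℕ) : ℕ∞) = 1 + k := by push_cast; ring
      rw [this] at hS
      exact (ENat.add_right_injective_of_ne_top ENat.one_ne_top hS).symm
    have hq' : Module.length R (X ⧸ X₁) = k := ih (X ⧸ X₁) hq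
    have h1 : Module.length R ↥(X₁.restrictScalars R) = 1 := Module.length_eq_one (R := R) (M := X₁)
    have h2 : Module.length R (X ⧸ X₁.restrictScalars R) = k := hq'
    rw [hR, h1, h2]
    push_cast; ring

include hres in
theorem length_eq_of_residue_surjective (X : Type v) [AddCommGroup X]
    [Module S X] [Module R X] [IsScalarTower R S X] (hX : Module.length R X ≠ ⊤) :
    Module.length R X = Module.length S X := by
  have hle : Module.length S X ≤ Module.length R X := by
    have := Submodule.length_le_length_restrictScalars R (⊤ : Submodule S X)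
    rwa [Module.length_top, Submodule.restrictScalars_top, Module.length_top] at this
  have hS : Module.length S X ≠ ⊤ := fun e => hX (top_le_iff.mp (e ▸ hle))
  obtain ⟨k, hk⟩ := ENat.ne_top_iff_exists.mp hS
  rw [← hk]
  exact length_eq_of_residue_surjective_aux hres k X hk.symm

end leq

section dimq

variable {A : Type u} [CommRing A] [IsNoetherianRing A] [IsLocalRing A]

theorem ringKrullDim_quotient_eq_one (hA : ringKrullDim A = 2) {t : A}
    (ht : t ∈ nonZeroDivisors A) (q : Ideal A) [q.IsPrime] (hq : q ≠ maximalIdeal A)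
    (htq : t ∈ q) : ringKrullDim (A ⧸ q) = 1 := by
  have h1 : ringKrullDim (A ⧸ Ideal.span {t}) + 1 ≤ ringKrullDim A :=
    ringKrullDim_quotient_succ_le_of_nonZeroDivisor ht
  have h2 : ringKrullDim (A ⧸ q) ≤ ringKrullDim (A ⧸ Ideal.span {t}) :=
    ringKrullDim_le_of_surjective
      (Ideal.Quotient.factor ((Ideal.span_singleton_le_iff_mem q).mpr htq))
      (Ideal.Quotient.factor_surjective _)
  have h3 : ringKrullDim (A ⧸ q) + 1 ≤ 2 := by
    rw [← hA]
    exact (by gcongr : ringKrullDim (A ⧸ q) + 1 ≤ ringKrullDim (A ⧸ Ideal.span {t}) + 1).trans h1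
  have hnot : ¬ ringKrullDim (A ⧸ q) ≤ 0 := by
    intro h0
    have hk : Ring.KrullDimLE 0 (A ⧸ q) := Ring.krullDimLE_iff.mpr h0
    have hbot : (⊥ : Ideal (A ⧸ q)).IsMaximal :=
      Ring.krullDimLE_zero_iff.mp hk ⊥ Ideal.isPrime_bot
    have hqm : q.IsMaximal := Ideal.bot_quotient_isMaximal_iff q |>.mp hbot
    exact hq (IsLocalRing.eq_maximalIdeal hqm)
  have hne : ringKrullDim (A ⧸ q) ≠ ⊥ := by
    intro e
    have := ringKrullDim_nonneg_of_nontrivial (R := A ⧸ q)
    rw [e] at this
    exact absurd this (by simp)
  obtain ⟨d, hd⟩ := WithBot.ne_bot_iff_exists.mp hne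
  rw [← hd] at h3 hnot ⊢
  have h3' : d + 1 ≤ 2 := by
    have : ((d + 1 : ℕ∞) : WithBot ℕ∞) ≤ ((2 : ℕ∞) : WithBot ℕ∞) := by simpa using h3
    exact WithBot.coe_le_coe.mp this
  have hnot' : ¬ d ≤ 0 := by
    intro h; exact hnot (by exact_mod_cast h)
  have hd1 : d = 1 := by
    have hpos : 0 < d := pos_iff_ne_zero.mpr (fun e => hnot' (le_of_eq e))
    have h1d : 1 ≤ d := Order.one_le_iff_pos.mpr hpos
    have hd2 : d ≤ 1 := by
      have e : (2 : ℕ∞) = 1 + 1 := by norm_num
      rw [e] at h3'
      exact (ENat.add_le_add_iff_right (by simp)).mp h3'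
    exact le_antisymm hd2 h1d
  rw [hd1]
  rfl

end dimq

end Groth.Agent.Lib.Helper29.Key
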