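import Groth.Agent.Lib.Helper29.KeyH
import Groth.Agent.S14503
import Groth.Agent.S1833

/-!
# Key lemma, part I: `ord_{A/q}` of the norm of the residue class of an element of `B`
-/

set_option autoImplicit false

namespace Groth.Agent.Lib.Helper29.Key

universe u

open IsLocalRing CycAlg Groth.Agent.Lib.Helper29.LengthFormula

section cz

variable {A : Type u} [CommRing A] [IsNoetherianRing A] [IsLocalRing A]
  (q : Ideal A) [q.IsPrime]
  {B : Type u} [CommRing B] [Algebra A B] [Module.Finite A B]

instance hlocEl (n : MaximalSpectrum (El q B)) :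
    IsLocalHom (algebraMap (Localization.AtPrime q) (Localization.AtPrime n.asIdeal)) :=
  Tame.isLocalHom_of_finite n

theorem algebraMap_mem_maximalIdeal_iff (n : MaximalSpectrum (El q B)) (z : B) :
    algebraMap B (Localization.AtPrime n.asIdeal) z ∈
      maximalIdeal (Localization.AtPrime n.asIdeal) ↔ z ∈ cIdeal q n := by
  haveI := n.isMaximal
  rw [IsScalarTower.algebraMap_apply B (El q B) (Localization.AtPrime n.asIdeal),
    IsLocalization.AtPrime.to_map_mem_maximal_iff _ n.asIdeal]
  rfl

theorem isUnit_algebraMap_iff (n : MaximalSpectrum (El q B)) (z : B) :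
    IsUnit (algebraMap B (Localization.AtPrime n.asIdeal) z) ↔ z ∉ cIdeal q n := by
  rw [← algebraMap_mem_maximalIdeal_iff, mem_maximalIdeal, mem_nonunits_iff, not_not]

theorem tower_eq (n : MaximalSpectrum (El q B)) (r : A) :
    algebraMap (Localization.AtPrime q) (Localization.AtPrime n.asIdeal)
        (algebraMap A (Localization.AtPrime q) r) =
      algebraMap B (Localization.AtPrime n.asIdeal) (algebraMap A B r) := by
  rw [IsScalarTower.algebraMap_apply (Localization.AtPrime q) (El q B)
      (Localization.AtPrime n.asIdeal),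
    ← IsScalarTower.algebraMap_apply A (Localization.AtPrime q) (El q B),
    IsScalarTower.algebraMap_apply A B (El q B),
    ← IsScalarTower.algebraMap_apply B (El q B) (Localization.AtPrime n.asIdeal)]

variable [IsLocalRing B] (hA : ringKrullDim A = 2) {t : A} (ht : t ∈ nonZeroDivisors A)
  (hq : q ≠ maximalIdeal A) (htq : t ∈ q)
  (hres : ∀ z : B, ∃ r : A, z - algebraMap A B r ∈ maximalIdeal B)

include hA ht hq htq hres in
theorem ordFrac_norm_residue (n : MaximalSpectrum (El q B)) (z : B) (hz : z ∉ cIdeal q n) :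
    Algebra.norm q.ResidueField (residue (Localization.AtPrime n.asIdeal)
        (algebraMap B (Localization.AtPrime n.asIdeal) z)) ≠ 0 ∧
    CycAlg.ordFrac (A ⧸ q) q.ResidueField
      (Algebra.norm q.ResidueField (residue (Localization.AtPrime n.asIdeal)
        (algebraMap B (Localization.AtPrime n.asIdeal) z))) =
      ((cst z (cIdeal q n)).toNat : ℤ) := by
  set Q := cIdeal q n with hQdef
  have hQq : Q.comap (algebraMap A B) = q := cIdeal_comap q n
  haveI hfd : Module.Finite q.ResidueField (ResidueField (Localization.AtPrime n.asIdeal)) :=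
    Tame.finite_residueField (A := Localization.AtPrime q) n
  have hzu : IsUnit (algebraMap B (Localization.AtPrime n.asIdeal) z) :=
    (isUnit_algebraMap_iff q n z).mpr hz
  have hres0 : residue (Localization.AtPrime n.asIdeal)
      (algebraMap B (Localization.AtPrime n.asIdeal) z) ≠ 0 :=
    (residue_ne_zero_iff_isUnit _).mpr hzu
  refine ⟨Algebra.norm_ne_zero_iff.mpr hres0, ?_⟩
  -- the algebra structures
  letI algQ : Algebra (A ⧸ q) (B ⧸ Q) :=
    (Ideal.quotientMap Q (algebraMap A B) (le_of_eq hQq.symm)).toAlgebra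
  have hinjQ : Function.Injective (algebraMap (A ⧸ q) (B ⧸ Q)) :=
    Ideal.quotientMap_injective' (le_of_eq hQq)
  haveI : IsScalarTower A (A ⧸ q) (B ⧸ Q) := IsScalarTower.of_algebraMap_eq (fun r => rfl)
  haveI : Module.Finite (A ⧸ q) (B ⧸ Q) := Module.Finite.of_restrictScalars_finite A _ _
  have hker : ∀ b ∈ Q, ((residue (Localization.AtPrime n.asIdeal)).comp
      (algebraMap B (Localization.AtPrime n.asIdeal))) b = 0 := by
    intro b hb
    rw [RingHom.comp_apply, residue_eq_zero_iff]
    exact (algebraMap_mem_maximalIdeal_iff q n b).mpr hb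
  letI algL : Algebra (B ⧸ Q) (ResidueField (Localization.AtPrime n.asIdeal)) :=
    (Ideal.Quotient.lift Q ((residue (Localization.AtPrime n.asIdeal)).comp
      (algebraMap B (Localization.AtPrime n.asIdeal))) hker).toAlgebra
  letI algAL : Algebra (A ⧸ q) (ResidueField (Localization.AtPrime n.asIdeal)) :=
    ((algebraMap q.ResidueField (ResidueField (Localization.AtPrime n.asIdeal))).comp
      (algebraMap (A ⧸ q) q.ResidueField)).toAlgebra
  haveI : IsScalarTower (A ⧸ q) q.ResidueField (ResidueField (Localization.AtPrime n.asIdeal)) :=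
    IsScalarTower.of_algebraMap_eq (fun _ => rfl)
  haveI : IsScalarTower (A ⧸ q) (B ⧸ Q) (ResidueField (Localization.AtPrime n.asIdeal)) := by
    apply IsScalarTower.of_algebraMap_eq
    intro x
    obtain ⟨r, rfl⟩ := Ideal.Quotient.mk_surjective x
    change algebraMap q.ResidueField (ResidueField (Localization.AtPrime n.asIdeal))
        (algebraMap (A ⧸ q) q.ResidueField (Ideal.Quotient.mk q r)) =
      residue (Localization.AtPrime n.asIdeal)
        (algebraMap B (Localization.AtPrime n.asIdeal) (algebraMap A B r))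
    rw [← tower_eq q n r, Ideal.algebraMap_quotient_residueField_mk,
      IsScalarTower.algebraMap_apply A (Localization.AtPrime q) q.ResidueField]
    rfl
  -- the fraction field property
  haveI : IsFractionRing (B ⧸ Q) (ResidueField (Localization.AtPrime n.asIdeal)) := by
    let ψ := psi' q n
    let e₀ : Q.ResidueField ≃+* ResidueField (Localization.AtPrime n.asIdeal) :=
      IsLocalRing.ResidueField.mapEquiv ψ.toRingEquiv
    have hcomm : ∀ x : B ⧸ Q, e₀ (algebraMap (B ⧸ Q) Q.ResidueField x) =
        algebraMap (B ⧸ Q) (ResidueField (Localization.AtPrime n.asIdeal)) x := by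
      intro x
      obtain ⟨b, rfl⟩ := Ideal.Quotient.mk_surjective x
      rw [Ideal.algebraMap_quotient_residueField_mk,
        IsScalarTower.algebraMap_apply B (Localization.AtPrime Q) Q.ResidueField]
      change residue _ (ψ (algebraMap B (Localization.AtPrime Q) b)) =
        residue _ (algebraMap B (Localization.AtPrime n.asIdeal) b)
      rw [ψ.commutes]
    exact IsLocalization.isLocalization_of_algEquiv (nonZeroDivisors (B ⧸ Q))
      (AlgEquiv.ofRingEquiv (f := e₀) hcomm)
  haveI : IsLocalRing (A ⧸ q) :=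
    IsLocalRing.of_surjective' (Ideal.Quotient.mk q) Ideal.Quotient.mk_surjective
  haveI : IsLocalRing (B ⧸ Q) :=
    IsLocalRing.of_surjective' (Ideal.Quotient.mk Q) Ideal.Quotient.mk_surjective
  have hdim : ringKrullDim (A ⧸ q) = 1 := ringKrullDim_quotient_eq_one hA ht q hq htq
  have hz' : Ideal.Quotient.mk Q z ≠ 0 := by
    rw [Ne, Ideal.Quotient.eq_zero_iff_mem]; exact hz
  obtain ⟨hfin, hval⟩ := Groth.Agent.S14503.result (A ⧸ q) hdim (B ⧸ Q) hinjQ q.ResidueField
    (ResidueField (Localization.AtPrime n.asIdeal)) (Ideal.Quotient.mk Q z) hz'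
  have hamap : algebraMap (B ⧸ Q) (ResidueField (Localization.AtPrime n.asIdeal))
      (Ideal.Quotient.mk Q z) = residue (Localization.AtPrime n.asIdeal)
        (algebraMap B (Localization.AtPrime n.asIdeal) z) := rfl
  rw [hamap] at hval
  rw [← hval]
  -- compare the lengths
  have hres' : ∀ s : B ⧸ Q, ∃ r : A ⧸ q, s - algebraMap (A ⧸ q) (B ⧸ Q) r ∈ maximalIdeal (B ⧸ Q) := by
    intro s
    obtain ⟨b, rfl⟩ := Ideal.Quotient.mk_surjective s
    obtain ⟨r, hr⟩ := hres b
    refine ⟨Ideal.Quotient.mk q r, ?_⟩
    have : Ideal.Quotient.mk Q b - algebraMap (A ⧸ q) (B ⧸ Q) (Ideal.Quotient.mk q r) =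
        Ideal.Quotient.mk Q (b - algebraMap A B r) := by
      rw [map_sub]; rfl
    rw [this, mem_maximalIdeal, mem_nonunits_iff]
    intro hu
    obtain ⟨v, hv⟩ := hu.exists_right_inv
    obtain ⟨v, rfl⟩ := Ideal.Quotient.mk_surjective v
    rw [← map_mul, ← map_one (Ideal.Quotient.mk Q), Ideal.Quotient.eq] at hv
    have h1 : (b - algebraMap A B r) * v - 1 ∈ maximalIdeal B :=
      le_maximalIdeal (Ideal.IsPrime.ne_top inferInstance) hv
    have h2 : (b - algebraMap A B r) * v ∈ maximalIdeal B := Ideal.mul_mem_right _ _ hr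
    have h3 : (1 : B) ∈ maximalIdeal B := by
      have := Ideal.sub_mem _ h2 h1
      simpa using this
    exact (Ideal.ne_top_iff_one _).mp (maximalIdeal.isMaximal B).ne_top h3
  have hleq := length_eq_of_residue_surjective hres'
    ((B ⧸ Q) ⧸ Ideal.span {Ideal.Quotient.mk Q z}) hfin.ne
  rw [hleq]
  have : Module.length (B ⧸ Q) ((B ⧸ Q) ⧸ Ideal.span {Ideal.Quotient.mk Q z}) = cst z Q :=
    Groth.Agent.S1833.ord_quotient_eq_cst z Q
  rw [this]

end cz

end Groth.Agent.Lib.Helper29.Key
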