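import Groth.Agent.Lib.Helper29.KeyI
import Groth.Agent.Lib.Helper29.LatticeE

/-!
# Key lemma, part J: the local factorization at a maximal ideal of `El q B` and the order of the
norm of its symbol
-/

set_option autoImplicit false

namespace Groth.Agent.Lib.Helper29.Key

universe u

open IsLocalRing CycAlg Groth.Agent.Lib.Helper29.LengthFormula Groth.Agent.Lib.Helper29.Tame
open Groth.Agent.Lib.Helper29.Lattice

section theta

variable {R : Type u} [CommRing R] [IsDomain R] [IsNoetherianRing R] [Ring.KrullDimLE 1 R]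
  {K L : Type u} [Field K] [Field L] [Algebra R K] [IsFractionRing R K] [Algebra K L]
  [FiniteDimensional K L]

variable (R K) in
/-- the order of the norm -/
noncomputable def theta (w : L) : ℤ := CycAlg.ordFrac R K (Algebra.norm K w)

theorem theta_mul {w w' : L} (hw : w ≠ 0) (hw' : w' ≠ 0) :
    theta R K (w * w') = theta R K w + theta R K w' := by
  unfold theta
  rw [map_mul, cyc_ordFrac_mul (Algebra.norm_ne_zero_iff.mpr hw) (Algebra.norm_ne_zero_iff.mpr hw')]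

theorem theta_one : theta R K (1 : L) = 0 := by
  unfold theta
  rw [map_one, cyc_ordFrac_one]

theorem theta_pow {w : L} (hw : w ≠ 0) (k : ℕ) : theta R K (w ^ k) = k * theta R K w := by
  induction k with
  | zero => simp [theta_one]
  | succ k ih =>
    rw [pow_succ, theta_mul (pow_ne_zero _ hw) hw, ih]
    push_cast; ring

theorem theta_neg_one : theta R K (-1 : L) = 0 := by
  have h := theta_mul (R := R) (K := K) (w := (-1 : L)) (w' := -1) (by simp) (by simp)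
  rw [neg_one_mul, neg_neg, theta_one] at h
  omega

/-- the order of the norm of a symbol in canonical form -/
theorem theta_symbol {X Y₁ X' Y₂ : L} (hX : X ≠ 0) (hY₁ : Y₁ ≠ 0) (hX' : X' ≠ 0) (hY₂ : Y₂ ≠ 0)
    (α β : ℕ) :
    theta R K ((-1) ^ (α * β) * (Y₁⁻¹ * X) ^ β * ((Y₂⁻¹ * X') ^ α)⁻¹) =
      β * (theta R K X - theta R K Y₁) - α * (theta R K X' - theta R K Y₂) := by
  set S := (-1 : L) ^ (α * β) * (Y₁⁻¹ * X) ^ β * ((Y₂⁻¹ * X') ^ α)⁻¹ with hS
  have hS0 : S ≠ 0 := by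
    rw [hS]
    refine mul_ne_zero (mul_ne_zero (pow_ne_zero _ (by simp)) (pow_ne_zero _ ?_))
      (inv_ne_zero (pow_ne_zero _ ?_))
    · exact mul_ne_zero (inv_ne_zero hY₁) hX
    · exact mul_ne_zero (inv_ne_zero hY₂) hX'
  have hrel : S * (Y₁ ^ β * X' ^ α) = (-1) ^ (α * β) * (X ^ β * Y₂ ^ α) := by
    rw [hS, mul_pow, mul_pow, inv_pow, inv_pow]
    field_simp
  have h1 := congrArg (theta R K) hrel
  rw [theta_mul hS0 (mul_ne_zero (pow_ne_zero _ hY₁) (pow_ne_zero _ hX')),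
    theta_mul (pow_ne_zero _ hY₁) (pow_ne_zero _ hX'),
    theta_mul (pow_ne_zero _ (by simp)) (mul_ne_zero (pow_ne_zero _ hX) (pow_ne_zero _ hY₂)),
    theta_mul (pow_ne_zero _ hX) (pow_ne_zero _ hY₂),
    theta_pow hY₁, theta_pow hX', theta_pow hX, theta_pow hY₂, theta_pow (by simp), theta_neg_one] at h1
  linarith

end theta

section locfac

variable {B C : Type u} [CommRing B] [CommRing C] [IsLocalRing C]

/-- the local factorization induced by global monomial data -/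
noncomputable def locFacOf (ι : B →+* C) {a b : B} {Q : Ideal B} (D : GMono B a b Q)
    (hu : ∀ z, z ∉ Q → IsUnit (ι z)) (hab : ι (a * b) ∈ nonZeroDivisors C) (hpos : 0 < D.e + D.f)
    (c₁ c₂ : C) (h₁ : c₁ = ι a) (h₂ : c₂ = ι b) : LocFac C c₁ c₂ where
  π := ι D.p
  π_mem := by
    have hrel : ι (D.y₁ * D.y₂) * ι (a * b) = ι (D.x * D.x') * ι D.p ^ (D.e + D.f) := by
      rw [← map_pow, ← map_mul, ← map_mul]
      congr 1
      have : D.y₁ * D.y₂ * (a * b) = (D.y₁ * a) * (D.y₂ * b) := by ring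
      rw [this, D.h₁, D.h₂, pow_add]; ring
    have h1 : ι (D.y₁ * D.y₂) * ι (a * b) ∈ nonZeroDivisors C := by
      refine mul_mem (IsUnit.mem_nonZeroDivisors ?_) hab
      rw [map_mul]
      exact (hu _ D.hy₁).mul (hu _ D.hy₂)
    rw [hrel] at h1
    have h2 := (mul_mem_nonZeroDivisors.mp h1).2
    obtain ⟨k, hk⟩ := Nat.exists_eq_succ_of_ne_zero hpos.ne'
    rw [hk, pow_succ] at h2
    exact (mul_mem_nonZeroDivisors.mp h2).2
  u₁ := (hu _ D.hy₁).unit⁻¹ * (hu _ D.hx).unit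
  u₂ := (hu _ D.hy₂).unit⁻¹ * (hu _ D.hx').unit
  e₁ := D.e
  e₂ := D.f
  fac₁ := by
    rw [h₁, Units.val_mul, mul_assoc, eq_comm, Units.inv_mul_eq_iff_eq_mul]
    simp only [IsUnit.unit_spec]
    rw [← map_pow, ← map_mul, ← map_mul, D.h₁]
  fac₂ := by
    rw [h₂, Units.val_mul, mul_assoc, eq_comm, Units.inv_mul_eq_iff_eq_mul]
    simp only [IsUnit.unit_spec]
    rw [← map_pow, ← map_mul, ← map_mul, D.h₂]

theorem locFacOf_residue_u₁ (ι : B →+* C) {a b : B} {Q : Ideal B} (D : GMono B a b Q)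
    (hu : ∀ z, z ∉ Q → IsUnit (ι z)) (hab : ι (a * b) ∈ nonZeroDivisors C) (hpos : 0 < D.e + D.f)
    (c₁ c₂ : C) (h₁ : c₁ = ι a) (h₂ : c₂ = ι b) :
    residue C ((locFacOf ι D hu hab hpos c₁ c₂ h₁ h₂).u₁ : C) =
      (residue C (ι D.y₁))⁻¹ * residue C (ι D.x) := by
  have hy : residue C (ι D.y₁) ≠ 0 := (residue_ne_zero_iff_isUnit _).mpr (hu _ D.hy₁)
  change residue C (((hu _ D.hy₁).unit⁻¹ * (hu _ D.hx).unit : Cˣ) : C) = _
  rw [Units.val_mul, map_mul, IsUnit.unit_spec, eq_comm, inv_mul_eq_iff_eq_mul₀ hy, ← mul_assoc,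
    ← map_mul]
  have : ι D.y₁ * (((hu _ D.hy₁).unit⁻¹ : Cˣ) : C) = 1 := by
    have := (hu _ D.hy₁).unit.mul_inv
    simpa using this
  rw [this, map_one, one_mul]

theorem locFacOf_residue_u₂ (ι : B →+* C) {a b : B} {Q : Ideal B} (D : GMono B a b Q)
    (hu : ∀ z, z ∉ Q → IsUnit (ι z)) (hab : ι (a * b) ∈ nonZeroDivisors C) (hpos : 0 < D.e + D.f)
    (c₁ c₂ : C) (h₁ : c₁ = ι a) (h₂ : c₂ = ι b) :
    residue C ((locFacOf ι D hu hab hpos c₁ c₂ h₁ h₂).u₂ : C) =
      (residue C (ι D.y₂))⁻¹ * residue C (ι D.x') := by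
  have hy : residue C (ι D.y₂) ≠ 0 := (residue_ne_zero_iff_isUnit _).mpr (hu _ D.hy₂)
  change residue C (((hu _ D.hy₂).unit⁻¹ * (hu _ D.hx').unit : Cˣ) : C) = _
  rw [Units.val_mul, map_mul, IsUnit.unit_spec, eq_comm, inv_mul_eq_iff_eq_mul₀ hy, ← mul_assoc,
    ← map_mul]
  have : ι D.y₂ * (((hu _ D.hy₂).unit⁻¹ : Cˣ) : C) = 1 := by
    have := (hu _ D.hy₂).unit.mul_inv
    simpa using this
  rw [this, map_one, one_mul]

end locfac

end Groth.Agent.Lib.Helper29.Key
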