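import Groth.Agent.Lib.Helper29.KeyJ

/-!
# Key lemma, part K: the order of the tame symbol at a prime of `A` in terms of the data on `B`
-/

set_option autoImplicit false

namespace Groth.Agent.Lib.Helper29.Key

universe u

open IsLocalRing CycAlg Groth.Agent.Lib.Helper29.LengthFormula Groth.Agent.Lib.Helper29.Tame
open Groth.Agent.Lib.Helper29.Lattice

theorem GMono.pos {R : Type u} [CommRing R] {a b : R} {Q : Ideal R} [Q.IsPrime]
    (D : GMono R a b Q) (hab : a * b ∈ Q) : 0 < D.e + D.f := by
  by_contra hcon
  have he : D.e = 0 := by omega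
  have hf : D.f = 0 := by omega
  have h₁ := D.h₁
  have h₂ := D.h₂
  rw [he, pow_zero, mul_one] at h₁
  rw [hf, pow_zero, mul_one] at h₂
  rcases Ideal.IsPrime.mem_or_mem inferInstance hab with h | h
  · exact D.hx (h₁ ▸ Ideal.mul_mem_left _ _ h)
  · exact D.hx' (h₂ ▸ Ideal.mul_mem_left _ _ h)

section prodlemma

variable {R : Type u} [CommRing R] [IsDomain R] [IsNoetherianRing R] [Ring.KrullDimLE 1 R]
  {K : Type u} [Field K] [Algebra R K] [IsFractionRing R K]

theorem cyc_ordFrac_prod {ι : Type*} (s : Finset ι) (f : ι → K) (hf : ∀ i ∈ s, f i ≠ 0) :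
    CycAlg.ordFrac R K (∏ i ∈ s, f i) = ∑ i ∈ s, CycAlg.ordFrac R K (f i) := by
  classical
  induction s using Finset.induction_on with
  | empty => simp [cyc_ordFrac_one]
  | insert i s hi ih =>
    rw [Finset.prod_insert hi, Finset.sum_insert hi,
      cyc_ordFrac_mul (hf i (Finset.mem_insert_self i s))
        (Finset.prod_ne_zero_iff.mpr (fun j hj => hf j (Finset.mem_insert_of_mem hj))),
      ih (fun j hj => hf j (Finset.mem_insert_of_mem hj))]

end prodlemma

section perprime

variable {A : Type u} [CommRing A] [IsNoetherianRing A] [IsLocalRing A]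
  (hA : ringKrullDim A = 2) {a b : A} (ha : a ∈ nonZeroDivisors A) (hb : b ∈ nonZeroDivisors A)
  {B : Type u} [CommRing B] [Algebra A B] [Module.Finite A B] [IsLocalRing B]
  (hinj : Function.Injective (algebraMap A B))
  (hres : ∀ z : B, ∃ r : A, z - algebraMap A B r ∈ maximalIdeal B)
  (N : ℕ) (hN : ∀ c : B, (a * b) ^ N • c ∈ (algebraMap A B).range)
  (haB : algebraMap A B a ∈ nonZeroDivisors B) (hbB : algebraMap A B b ∈ nonZeroDivisors B)
  (q : Ideal A) [q.IsPrime] (hq : q ≠ maximalIdeal A) (habq : a * b ∈ q)

include hq habq in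
/-- the contraction of a maximal ideal of `El q B` is a non-maximal prime containing `ab` -/
theorem cIdeal_mem_PP (n : MaximalSpectrum (El q B)) :
    (cIdeal q n).IsPrime ∧ cIdeal q n ≠ maximalIdeal B ∧
      algebraMap A B a * algebraMap A B b ∈ cIdeal q n := by
  refine ⟨inferInstance, ?_, ?_⟩
  · intro e
    have h1 := cIdeal_comap q n
    rw [e] at h1
    have h2 : (maximalIdeal B).comap (algebraMap A B) = maximalIdeal A :=
      Tame.comap_maximal (A := A) (R := B) ⟨maximalIdeal B, maximalIdeal.isMaximal B⟩
    exact hq (h1.symm.trans h2)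
  · have h1 : a * b ∈ (cIdeal q n).comap (algebraMap A B) := by
      rw [cIdeal_comap]; exact habq
    rw [Ideal.mem_comap, map_mul] at h1
    exact h1

include hA ha hb hq habq in
theorem ringKrullDim_localization_eq_one : ringKrullDim (Localization.AtPrime q) = 1 := by
  rw [IsLocalization.AtPrime.ringKrullDim_eq_height q]
  have h1 : q.height ≤ 1 := height_le_one hA.le q hq
  have h2 : 1 ≤ q.height := one_le_height_of_nzd_mem (mul_mem ha hb) q habq
  rw [le_antisymm h1 h2]
  rfl

include hA ha hb hinj hres hN haB hbB hq habq in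
theorem ordFrac_tameSymbol_eq [Fintype (MaximalSpectrum (El q B))]
    (D : ∀ Q : PP B (algebraMap A B a * algebraMap A B b),
      GMono B (algebraMap A B a) (algebraMap A B b) Q.1) :
    CycAlg.ordFrac (A ⧸ q) q.ResidueField
      (tameSymbol (Localization.AtPrime q) (algebraMap A (Localization.AtPrime q) a)
        (algebraMap A (Localization.AtPrime q) b)) =
      - ∑ n : MaximalSpectrum (El q B),
          (D ⟨cIdeal q n, cIdeal_mem_PP q hq habq n⟩).val := by
  classical
  have ht : a * b ∈ nonZeroDivisors A := mul_mem ha hb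
  have hAq : ringKrullDim (Localization.AtPrime q) = 1 :=
    ringKrullDim_localization_eq_one hA ha hb q hq habq
  haveI : Ring.KrullDimLE 1 (Localization.AtPrime q) := krullDimLE_one_localization hA.le q hq
  have hmapnzd : ∀ x ∈ nonZeroDivisors A,
      algebraMap A (Localization.AtPrime q) x ∈ nonZeroDivisors (Localization.AtPrime q) :=
    fun x hx => IsLocalization.map_nonZeroDivisors_le q.primeCompl (Localization.AtPrime q)
      (Submonoid.mem_map_of_mem _ hx)
  have hFE : IsFinExt (Localization.AtPrime q) (El q B) (maximalIdeal (Localization.AtPrime q)) :=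
    isFinExt_El q hinj (a * b) (hmapnzd _ ht) N hN
  -- the data at each maximal ideal
  have habB : algebraMap A B a * algebraMap A B b ∈ nonZeroDivisors B := mul_mem haB hbB
  have hnzdEn : ∀ n : MaximalSpectrum (El q B),
      algebraMap B (Localization.AtPrime n.asIdeal) (algebraMap A B a * algebraMap A B b) ∈
        nonZeroDivisors (Localization.AtPrime n.asIdeal) := by
    intro n
    haveI := n.isMaximal
    rw [IsScalarTower.algebraMap_apply B (El q B) (Localization.AtPrime n.asIdeal)]
    apply IsLocalization.map_nonZeroDivisors_le n.asIdeal.primeCompl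
      (Localization.AtPrime n.asIdeal)
    refine Submonoid.mem_map_of_mem _ ?_
    exact IsLocalization.map_nonZeroDivisors_le (Algebra.algebraMapSubmonoid B q.primeCompl)
      (El q B) (Submonoid.mem_map_of_mem _ habB)
  let Dn : ∀ n : MaximalSpectrum (El q B),
      GMono B (algebraMap A B a) (algebraMap A B b) (cIdeal q n) :=
    fun n => D ⟨cIdeal q n, cIdeal_mem_PP q hq habq n⟩
  let F : ∀ n : MaximalSpectrum (El q B), LocFac (Localization.AtPrime n.asIdeal)
      (algebraMap (Localization.AtPrime q) _ (algebraMap A (Localization.AtPrime q) a))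
      (algebraMap (Localization.AtPrime q) _ (algebraMap A (Localization.AtPrime q) b)) :=
    fun n => locFacOf (algebraMap B (Localization.AtPrime n.asIdeal)) (Dn n)
      (fun z hz => (isUnit_algebraMap_iff q n z).mpr hz) (hnzdEn n)
      ((Dn n).pos (cIdeal_mem_PP q hq habq n).2.2) _ _ (tower_eq q n a) (tower_eq q n b)
  rw [tameSymbol_eq_finprod hAq (hmapnzd a ha) (hmapnzd b hb) (El q B) hFE F,
    finprod_eq_prod_of_fintype]
  have hdim : ringKrullDim (A ⧸ q) = 1 := ringKrullDim_quotient_eq_one hA ht q hq habq
  haveI : Ring.KrullDimLE 1 (A ⧸ q) := Ring.krullDimLE_iff.mpr hdim.le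
  haveI hfd : ∀ n : MaximalSpectrum (El q B),
      Module.Finite q.ResidueField (ResidueField (Localization.AtPrime n.asIdeal)) :=
    fun n => Tame.finite_residueField (A := Localization.AtPrime q) n
  have hsym0 : ∀ n : MaximalSpectrum (El q B), (F n).sym ≠ 0 :=
    fun n => pow_ne_zero _ (LocFac.base_ne_zero _)
  rw [cyc_ordFrac_prod _ _ (fun n _ => Algebra.norm_ne_zero_iff.mpr (hsym0 n)),
    ← Finset.sum_neg_distrib]
  refine Finset.sum_congr rfl fun n _ => ?_
  -- the term at `n`
  set Q := cIdeal q n with hQ
  have hX := ordFrac_norm_residue q hA ht hq habq hres n (Dn n).x (Dn n).hx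
  have hY₁ := ordFrac_norm_residue q hA ht hq habq hres n (Dn n).y₁ (Dn n).hy₁
  have hX' := ordFrac_norm_residue q hA ht hq habq hres n (Dn n).x' (Dn n).hx'
  have hY₂ := ordFrac_norm_residue q hA ht hq habq hres n (Dn n).y₂ (Dn n).hy₂
  have hne : ∀ z, z ∉ Q → residue (Localization.AtPrime n.asIdeal)
      (algebraMap B (Localization.AtPrime n.asIdeal) z) ≠ 0 :=
    fun z hz => (residue_ne_zero_iff_isUnit _).mpr ((isUnit_algebraMap_iff q n z).mpr hz)
  have hth := theta_symbol (R := A ⧸ q) (K := q.ResidueField)
    (hne _ (Dn n).hx) (hne _ (Dn n).hy₁) (hne _ (Dn n).hx') (hne _ (Dn n).hy₂)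
    (Ring.ord (Localization.AtPrime n.asIdeal)
      (algebraMap (Localization.AtPrime q) _ (algebraMap A (Localization.AtPrime q) a))).toNat
    (Ring.ord (Localization.AtPrime n.asIdeal)
      (algebraMap (Localization.AtPrime q) _ (algebraMap A (Localization.AtPrime q) b))).toNat
  haveI : IsNoetherianRing (Localization.AtPrime n.asIdeal) :=
    (Tame.instances_localization' (Localization.AtPrime q) n).1
  haveI : Ring.KrullDimLE 1 (Localization.AtPrime n.asIdeal) :=
    (Tame.instances_localization' (Localization.AtPrime q) n).2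
  have hsym := (F n).sym_eq_canonical
  rw [locFacOf_residue_u₁, locFacOf_residue_u₂] at hsym
  change theta (A ⧸ q) q.ResidueField (F n).sym = _
  rw [hsym, hth]
  unfold theta
  rw [hX.2, hY₁.2, hX'.2, hY₂.2]
  -- identify the orders
  have hord : ∀ c : A, Ring.ord (Localization.AtPrime n.asIdeal)
      (algebraMap (Localization.AtPrime q) _ (algebraMap A (Localization.AtPrime q) c)) =
      Ring.ord (Localization.AtPrime Q) (algebraMap B (Localization.AtPrime Q) (algebraMap A B c)) := by
    intro c
    rw [tower_eq q n c, ← (psi' q n).commutes (algebraMap A B c)]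
    exact Tame.ord_ringEquiv (psi' q n).toRingEquiv _
  rw [hord a, hord b]
  unfold GMono.val
  ring

end perprime

end Groth.Agent.Lib.Helper29.Key
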