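import Groth.Agent.Lib.Helper29.KeyK

/-!
# Key lemma, part L: the key lemma follows from the existence of a suitable extension
-/

set_option autoImplicit false

namespace Groth.Agent.Lib.Helper29.Key

universe u

open IsLocalRing CycAlg Groth.Agent.Lib.Helper29.LengthFormula Groth.Agent.Lib.Helper29.Tame

theorem ordFrac_one_eq_zero (R : Type u) [CommRing R] (K : Type u) [Field K] [Algebra R K] :
    CycAlg.ordFrac R K (1 : K) = 0 := by
  unfold CycAlg.ordFrac
  split_ifs with h
  · obtain ⟨h1, h2, h3, h4⟩ := h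
    simp only [map_one]
    rfl
  · rfl

section global

variable {A : Type u} [CommRing A] [IsNoetherianRing A] [IsLocalRing A]
  (hA : ringKrullDim A = 2) {a b : A} (ha : a ∈ nonZeroDivisors A) (hb : b ∈ nonZeroDivisors A)
  (B : Type u) [CommRing B] [Algebra A B] [Module.Finite A B] [IsLocalRing B]
  (hinj : Function.Injective (algebraMap A B))
  (hres : ∀ z : B, ∃ r : A, z - algebraMap A B r ∈ maximalIdeal B)
  (N : ℕ) (hN : ∀ c : B, (a * b) ^ N • c ∈ (algebraMap A B).range)
  (haB : algebraMap A B a ∈ nonZeroDivisors B) (hbB : algebraMap A B b ∈ nonZeroDivisors B)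

include hA ha hb hinj hres hN haB hbB in
theorem key_of_extension
    (D : ∀ Q : PP B (algebraMap A B a * algebraMap A B b),
      GMono B (algebraMap A B a) (algebraMap A B b) Q.1) :
    ∑ᶠ (q : PrimeSpectrum A) (_ : q.asIdeal.height = 1),
      CycAlg.ordFrac (A ⧸ q.asIdeal) q.asIdeal.ResidueField
        (CycAlg.tameSymbol (Localization.AtPrime q.asIdeal)
          (algebraMap A (Localization.AtPrime q.asIdeal) a)
          (algebraMap A (Localization.AtPrime q.asIdeal) b)) = 0 := by
  classical
  have ht : a * b ∈ nonZeroDivisors A := mul_mem ha hb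
  have htB : algebraMap A B a * algebraMap A B b ∈ nonZeroDivisors B := mul_mem haB hbB
  have hdimB : ringKrullDim B ≤ 2 :=
    (Tame.ringKrullDim_le_of_finite (A := A) (R := B)).trans hA.le
  haveI : IsNoetherianRing B := Tame.isNoetherianRing_of_finite A
  haveI : Finite (PP A (a * b)) := PP_finite hA.le ht
  haveI : Finite (PP B (algebraMap A B a * algebraMap A B b)) := PP_finite hdimB htB
  haveI : Fintype (PP A (a * b)) := Fintype.ofFinite _
  haveI : Fintype (PP B (algebraMap A B a * algebraMap A B b)) := Fintype.ofFinite _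
  haveI : ∀ x : PP A (a * b), Finite (MaximalSpectrum (El x.1 B)) :=
    fun x => Tame.finite_maximalSpectrum (Localization.AtPrime x.1)
  haveI : ∀ x : PP A (a * b), Fintype (MaximalSpectrum (El x.1 B)) :=
    fun x => Fintype.ofFinite _
  set f : PrimeSpectrum A → ℤ := fun q =>
    CycAlg.ordFrac (A ⧸ q.asIdeal) q.asIdeal.ResidueField
      (CycAlg.tameSymbol (Localization.AtPrime q.asIdeal)
        (algebraMap A (Localization.AtPrime q.asIdeal) a)
        (algebraMap A (Localization.AtPrime q.asIdeal) b)) with hf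
  change ∑ᶠ q ∈ {q : PrimeSpectrum A | q.asIdeal.height = 1}, f q = 0
  let j : PP A (a * b) → PrimeSpectrum A := fun x => ⟨x.1, x.2.1⟩
  have hj : Function.Injective j := by
    intro x y h
    exact Subtype.ext (congrArg PrimeSpectrum.asIdeal h)
  -- vanishing away from `V(ab)`
  have hzero : ∀ q : PrimeSpectrum A, a * b ∉ q.asIdeal → f q = 0 := by
    intro q hq
    have hau : IsUnit (algebraMap A (Localization.AtPrime q.asIdeal) a) := by
      rw [IsLocalization.AtPrime.isUnit_to_map_iff _ q.asIdeal]
      exact fun h => hq (Ideal.mul_mem_right _ _ h)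
    have hbu : IsUnit (algebraMap A (Localization.AtPrime q.asIdeal) b) := by
      rw [IsLocalization.AtPrime.isUnit_to_map_iff _ q.asIdeal]
      exact fun h => hq (Ideal.mul_mem_left _ _ h)
    simp only [hf]
    rw [Tame.tameSymbol_eq_one_of_isUnit hau hbu]
    exact ordFrac_one_eq_zero _ _
  have h1 : ∑ᶠ q ∈ {q : PrimeSpectrum A | q.asIdeal.height = 1}, f q =
      ∑ᶠ q ∈ Set.range j, f q := by
    apply finsum_mem_inter_support_eq'
    intro q hq
    have hqt : a * b ∈ q.asIdeal := by
      by_contra hcon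
      exact hq (hzero q hcon)
    constructor
    · intro hht
      have hne : q.asIdeal ≠ maximalIdeal A := by
        intro e
        have h2 : ((maximalIdeal A).height : WithBot ℕ∞) = 2 := by
          rw [IsLocalRing.maximalIdeal_height_eq_ringKrullDim, hA]
        rw [Set.mem_setOf_eq, e] at hht
        rw [hht] at h2
        exact absurd h2 (by decide)
      exact ⟨⟨q.asIdeal, q.2, hne, hqt⟩, rfl⟩
    · rintro ⟨x, rfl⟩
      haveI := x.2.1
      exact le_antisymm (height_le_one hA.le x.1 x.2.2.1)
        (one_le_height_of_nzd_mem ht x.1 x.2.2.2)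
  rw [h1, finsum_mem_range hj, finsum_eq_sum_of_fintype]
  have h2 : ∀ x : PP A (a * b), f (j x) = - ∑ n : MaximalSpectrum (El x.1 B),
      (D ⟨cIdeal x.1 n, cIdeal_mem_PP x.1 x.2.2.1 x.2.2.2 n⟩).val := by
    intro x
    exact ordFrac_tameSymbol_eq hA ha hb hinj hres N hN haB hbB x.1 x.2.2.1 x.2.2.2 D
  rw [Finset.sum_congr rfl (fun x _ => h2 x), Finset.sum_neg_distrib, neg_eq_zero,
    Finset.sum_sigma', Finset.univ_sigma_univ]
  rw [← sum_val_eq_zero hdimB haB hbB D]
  let e : (Σ x : PP A (a * b), MaximalSpectrum (El x.1 B)) →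
      PP B (algebraMap A B a * algebraMap A B b) :=
    fun p => ⟨cIdeal p.1.1 p.2, cIdeal_mem_PP p.1.1 p.1.2.2.1 p.1.2.2.2 p.2⟩
  refine Fintype.sum_bijective e ?_ _ _ (fun p => rfl)
  constructor
  · rintro ⟨x, n⟩ ⟨x', n'⟩ h
    have h' : cIdeal x.1 n = cIdeal x'.1 n' := congrArg Subtype.val h
    have hx : x = x' := by
      apply Subtype.ext
      rw [← cIdeal_comap x.1 n, ← cIdeal_comap x'.1 n', h']
    subst hx
    have hn : n = n' := cIdeal_injective x.1 h'
    subst hn
    rfl
  · intro Q
    haveI := Q.2.1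
    have hqne : Q.1.comap (algebraMap A B) ≠ maximalIdeal A := by
      intro e'
      have hmax : Q.1.IsMaximal := by
        haveI : Algebra.IsIntegral A B := inferInstance
        apply Ideal.isMaximal_of_isIntegral_of_isMaximal_comap (R := A)
        rw [e']
        exact maximalIdeal.isMaximal A
      exact Q.2.2.1 (IsLocalRing.eq_maximalIdeal hmax)
    have hqt : a * b ∈ Q.1.comap (algebraMap A B) := by
      rw [Ideal.mem_comap, map_mul]; exact Q.2.2.2
    let x : PP A (a * b) := ⟨Q.1.comap (algebraMap A B), Ideal.comap_isPrime _ _, hqne, hqt⟩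
    obtain ⟨n, hn⟩ := exists_cIdeal_eq x.1 Q.1 rfl (by
      intro Q' hQ' hle hQ'q
      haveI := hQ'
      refine eq_of_le_of_ne_max hdimB htB Q.1 Q' Q.2.2.2 hle ?_
      intro e'
      apply hqne
      have h3 : Ideal.comap (algebraMap A B) Q' = Ideal.comap (algebraMap A B) Q.1 := hQ'q
      rw [← h3, e']
      exact Tame.comap_maximal (A := A) (R := B) ⟨maximalIdeal B, maximalIdeal.isMaximal B⟩)
    exact ⟨⟨x, n⟩, Subtype.ext hn⟩

end global

end Groth.Agent.Lib.Helper29.Key
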