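import Groth.Agent.Lib.Helper29.KeyL
import Groth.Agent.S1836

/-!
# Key lemma, part M: local data at a height one prime (from S1836)
-/

set_option autoImplicit false

namespace Groth.Agent.Lib.Helper29.Key

universe u

open IsLocalRing CycAlg

section locdata

variable {A : Type u} [CommRing A] [IsNoetherianRing A] [IsLocalRing A]

/-- local data at a height-one prime `q`: a finite extension `E` of `A_q` inside its total ring of
fractions in which `a, b` become monomial at every prime, together with a conductor exponent. -/
structure LocData (q : Ideal A) [q.IsPrime] (a b : A) where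
  E : Subalgebra (Localization.AtPrime q) (FractionRing (Localization.AtPrime q))
  ϖ : FractionRing (Localization.AtPrime q)
  hϖ : ϖ ∈ E
  fa : Groth.Agent.S1836.Fact E
    (algebraMap (Localization.AtPrime q) (FractionRing (Localization.AtPrime q))
      (algebraMap A (Localization.AtPrime q) a)) ϖ
  fb : Groth.Agent.S1836.Fact E
    (algebraMap (Localization.AtPrime q) (FractionRing (Localization.AtPrime q))
      (algebraMap A (Localization.AtPrime q) b)) ϖ
  n : ℕ
  hn : ∀ y : E, ∃ z : Localization.AtPrime q,
    algebraMap (Localization.AtPrime q) (FractionRing (Localization.AtPrime q)) z =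
      algebraMap (Localization.AtPrime q) (FractionRing (Localization.AtPrime q))
        (algebraMap A (Localization.AtPrime q) (a * b)) ^ n * (y : FractionRing (Localization.AtPrime q))

theorem exists_locData (hA : ringKrullDim A = 2) {a b : A} (ha : a ∈ nonZeroDivisors A)
    (hb : b ∈ nonZeroDivisors A) (q : Ideal A) [q.IsPrime] (hq : q ≠ maximalIdeal A)
    (habq : a * b ∈ q) : Nonempty (LocData q a b) := by
  classical
  have hdim : ringKrullDim (Localization.AtPrime q) = 1 :=
    ringKrullDim_localization_eq_one hA ha hb q hq habq
  have hnz : ∀ c : A, c ∈ nonZeroDivisors A →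
      algebraMap A (Localization.AtPrime q) c ∈ nonZeroDivisors (Localization.AtPrime q) :=
    fun c hc => IsLocalization.map_nonZeroDivisors_le q.primeCompl (Localization.AtPrime q)
      (Submonoid.mem_map_of_mem _ hc)
  let zz : Fin 2 → FractionRing (Localization.AtPrime q) := fun i =>
    algebraMap (Localization.AtPrime q) (FractionRing (Localization.AtPrime q))
      (algebraMap A (Localization.AtPrime q) (![a, b] i))
  obtain ⟨E, -, hEfin, ϖ, hϖ, -, hF⟩ := Groth.Agent.S1836.multi hdim 2 zz ⊥
    (Subalgebra.finite_bot) (fun i => Subalgebra.algebraMap_mem _ _)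
    (fun i => IsLocalization.map_units (FractionRing (Localization.AtPrime q))
      ⟨algebraMap A (Localization.AtPrime q) (![a, b] i), hnz _ (by
        fin_cases i
        · exact ha
        · exact hb)⟩)
  haveI := hEfin
  obtain ⟨d, hd⟩ := Groth.Agent.S1836.exists_conductor E
  haveI := krullDimLE_one_localization hA.le q hq
  obtain ⟨n, hn⟩ := Tame.exists_maximalIdeal_pow_le (d : Localization.AtPrime q) d.2
  have htm : algebraMap A (Localization.AtPrime q) (a * b) ∈
      maximalIdeal (Localization.AtPrime q) := by
    rw [← Localization.AtPrime.map_eq_maximalIdeal]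
    exact Ideal.mem_map_of_mem _ habq
  obtain ⟨w, hw⟩ := Ideal.mem_span_singleton'.mp (hn (Ideal.pow_mem_pow htm n))
  refine ⟨⟨E, ϖ, hϖ, hF 0, hF 1, n, fun y => ?_⟩⟩
  obtain ⟨z, hz⟩ := hd y
  refine ⟨w * z, ?_⟩
  rw [map_mul, hz, ← map_pow, ← hw, map_mul, Algebra.smul_def]
  ring

end locdata

end Groth.Agent.Lib.Helper29.Key
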