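import Groth.Agent.Lib.Helper29.KeyM

/-!
# Key lemma, part N: the modules `Mk E k` inside the total ring of fractions
-/

set_option autoImplicit false

namespace Groth.Agent.Lib.Helper29.Key

universe u

open IsLocalRing CycAlg

section rho

variable {A : Type u} [CommRing A] (q : Ideal A) [q.IsPrime]

theorem nzd_le_comap : nonZeroDivisors A ≤
    (nonZeroDivisors (Localization.AtPrime q)).comap (algebraMap A (Localization.AtPrime q)) :=
  fun c hc => IsLocalization.map_nonZeroDivisors_le q.primeCompl (Localization.AtPrime q)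
    (Submonoid.mem_map_of_mem _ hc)

/-- the natural map on total rings of fractions induced by `A → A_q` -/
noncomputable def rho : FractionRing A →+* FractionRing (Localization.AtPrime q) :=
  IsLocalization.map (FractionRing (Localization.AtPrime q))
    (algebraMap A (Localization.AtPrime q)) (nzd_le_comap q)

/-- the composite `A → A_q → Frac A_q` -/
noncomputable def iq : A →+* FractionRing (Localization.AtPrime q) :=
  (algebraMap (Localization.AtPrime q) (FractionRing (Localization.AtPrime q))).comp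
    (algebraMap A (Localization.AtPrime q))

theorem iq_apply (r : A) : iq q r = algebraMap (Localization.AtPrime q)
    (FractionRing (Localization.AtPrime q)) (algebraMap A (Localization.AtPrime q) r) := rfl

theorem rho_algebraMap (r : A) : rho q (algebraMap A (FractionRing A) r) = iq q r :=
  IsLocalization.map_eq _ _

theorem iq_eq_zero {r : A} (h : iq q r = 0) : ∃ τ ∉ q, τ * r = 0 := by
  rw [iq_apply] at h
  have h1 : algebraMap A (Localization.AtPrime q) r = 0 :=
    IsFractionRing.injective (Localization.AtPrime q) (FractionRing (Localization.AtPrime q))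
      (by rw [h, map_zero])
  obtain ⟨m, hm⟩ := (IsLocalization.map_eq_zero_iff q.primeCompl (Localization.AtPrime q) r).mp h1
  exact ⟨m.1, m.2, hm⟩

theorem isUnit_iq {s : A} (hs : s ∉ q) : IsUnit (iq q s) := by
  rw [iq_apply]
  exact (IsLocalization.map_units (Localization.AtPrime q) (⟨s, hs⟩ : q.primeCompl)).map
    (algebraMap (Localization.AtPrime q) (FractionRing (Localization.AtPrime q)))

theorem isUnit_algebraMap_of_nzd {t : A} (ht : t ∈ nonZeroDivisors A) :
    IsUnit (algebraMap A (FractionRing A) t) :=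
  IsLocalization.map_units (FractionRing A) (⟨t, ht⟩ : nonZeroDivisors A)

/-- (Ker) -/
theorem exists_mul_eq_zero_of_rho_eq_zero {t : A} (ht : t ∈ nonZeroDivisors A)
    (z : FractionRing A) (k : ℕ) (r : A)
    (hr : algebraMap A (FractionRing A) r = algebraMap A (FractionRing A) t ^ k * z)
    (hz : rho q z = 0) : ∃ τ ∉ q, algebraMap A (FractionRing A) τ * z = 0 := by
  have h1 : iq q r = 0 := by
    rw [← rho_algebraMap, hr, map_mul, hz, mul_zero]
  obtain ⟨τ, hτ, h2⟩ := iq_eq_zero q h1
  refine ⟨τ, hτ, ?_⟩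
  have hu : IsUnit (algebraMap A (FractionRing A) t ^ k) := (isUnit_algebraMap_of_nzd ht).pow k
  apply hu.mul_left_cancel
  rw [mul_zero, mul_left_comm, ← hr, ← map_mul, h2, map_zero]

end rho

section glob

variable {A : Type u} [CommRing A] [IsNoetherianRing A] [IsLocalRing A] {t : A}
  (E : ∀ q : PP A t, Subalgebra (Localization.AtPrime q.1) (FractionRing (Localization.AtPrime q.1)))

/-- the module `M_k`: elements `z` of `Frac A` with `t^k z ∈ A` which lie in `E_q` for all `q` -/
def Mk (k : ℕ) : Submodule A (FractionRing A) where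
  carrier := {z | (∃ r : A, algebraMap A (FractionRing A) r =
    algebraMap A (FractionRing A) t ^ k * z) ∧ ∀ q : PP A t, rho q.1 z ∈ E q}
  add_mem' := by
    rintro z z' ⟨⟨r, hr⟩, h⟩ ⟨⟨r', hr'⟩, h'⟩
    refine ⟨⟨r + r', by rw [map_add, hr, hr', mul_add]⟩, fun q => ?_⟩
    rw [map_add]
    exact (E q).add_mem (h q) (h' q)
  zero_mem' := ⟨⟨0, by simp⟩, fun q => by rw [map_zero]; exact (E q).zero_mem⟩
  smul_mem' := by
    rintro c z ⟨⟨r, hr⟩, h⟩
    refine ⟨⟨c * r, by rw [map_mul, hr, Algebra.smul_def]; ring⟩, fun q => ?_⟩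
    rw [Algebra.smul_def, map_mul, rho_algebraMap]
    exact (E q).mul_mem ((E q).algebraMap_mem _) (h q)

theorem mem_Mk {k : ℕ} {z : FractionRing A} : z ∈ Mk E k ↔
    (∃ r : A, algebraMap A (FractionRing A) r = algebraMap A (FractionRing A) t ^ k * z) ∧
      ∀ q : PP A t, rho q.1 z ∈ E q := Iff.rfl

theorem algebraMap_mem_Mk (k : ℕ) (r : A) : algebraMap A (FractionRing A) r ∈ Mk E k := by
  refine ⟨⟨t ^ k * r, by rw [map_mul, map_pow]⟩, fun q => ?_⟩
  rw [rho_algebraMap]
  exact (E q).algebraMap_mem _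

theorem Mk_mono {k k' : ℕ} (h : k ≤ k') : Mk E k ≤ Mk E k' := by
  rintro z ⟨⟨r, hr⟩, hz⟩
  refine ⟨⟨t ^ (k' - k) * r, ?_⟩, hz⟩
  rw [map_mul, map_pow, hr, ← mul_assoc, ← pow_add, Nat.sub_add_cancel h]

theorem mul_mem_Mk {k k' : ℕ} {z w : FractionRing A} (hz : z ∈ Mk E k) (hw : w ∈ Mk E k') :
    z * w ∈ Mk E (k + k') := by
  obtain ⟨⟨r, hr⟩, hz⟩ := hz
  obtain ⟨⟨r', hr'⟩, hw⟩ := hw
  refine ⟨⟨r * r', by rw [map_mul, hr, hr', pow_add]; ring⟩, fun q => ?_⟩
  rw [map_mul]
  exact (E q).mul_mem (hz q) (hw q)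

theorem pow_mul_mem_Mk {k j : ℕ} {z : FractionRing A} (hz : z ∈ Mk E (k + j)) :
    algebraMap A (FractionRing A) t ^ j * z ∈ Mk E k := by
  obtain ⟨⟨r, hr⟩, hz⟩ := hz
  refine ⟨⟨r, by rw [hr, pow_add]; ring⟩, fun q => ?_⟩
  rw [map_mul, map_pow, rho_algebraMap]
  exact (E q).mul_mem (pow_mem ((E q).algebraMap_mem _) j) (hz q)

theorem isNoetherian_Mk (ht : t ∈ nonZeroDivisors A) (k : ℕ) : IsNoetherian A (Mk E k) := by
  obtain ⟨u, hu⟩ := (isUnit_algebraMap_of_nzd ht).pow k
  have hle : Mk E k ≤ Submodule.span A {((u⁻¹ : (FractionRing A)ˣ) : FractionRing A)} := by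
    rintro z ⟨⟨r, hr⟩, -⟩
    rw [Submodule.mem_span_singleton]
    refine ⟨r, ?_⟩
    rw [Algebra.smul_def, hr, ← hu]
    rw [mul_comm, ← mul_assoc, Units.inv_mul, one_mul]
  haveI : IsNoetherian A (Submodule.span A {((u⁻¹ : (FractionRing A)ˣ) : FractionRing A)}) :=
    isNoetherian_span_of_finite A (Set.finite_singleton _)
  exact isNoetherian_of_injective (Submodule.inclusion hle) (Submodule.inclusion_injective hle)

end glob

end Groth.Agent.Lib.Helper29.Key
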