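import Groth.Agent.Lib.Helper29.KeyN

/-!
# Key lemma, part O: the finite local extension `Bsub`
-/

set_option autoImplicit false

namespace Groth.Agent.Lib.Helper29.Key

universe u

open IsLocalRing CycAlg Groth.Agent.Lib.Helper29.LengthFormula

section glob2

variable {A : Type u} [CommRing A] [IsNoetherianRing A] [IsLocalRing A]
  (hA : ringKrullDim A ≤ 2) {t : A} (ht : t ∈ nonZeroDivisors A)
  (E : ∀ q : PP A t, Subalgebra (Localization.AtPrime q.1) (FractionRing (Localization.AtPrime q.1)))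
  (N₀ : ℕ)
  (hcond : ∀ (q : PP A t) (y : E q), ∃ w : Localization.AtPrime q.1,
    algebraMap (Localization.AtPrime q.1) (FractionRing (Localization.AtPrime q.1)) w =
      iq q.1 t ^ N₀ * (y : FractionRing (Localization.AtPrime q.1)))

include ht hcond in
theorem exists_mul_mem_Mk (q₀ : PP A t) (k : ℕ) {z : FractionRing A} (hz : z ∈ Mk E k) :
    ∃ s ∉ q₀.1, algebraMap A (FractionRing A) s * z ∈ Mk E N₀ := by
  obtain ⟨⟨r', hr'⟩, hzE⟩ := hz
  obtain ⟨w, hw⟩ := hcond q₀ ⟨rho q₀.1 z, hzE q₀⟩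
  simp only at hw
  obtain ⟨⟨r, σ⟩, hrσ⟩ := IsLocalization.surj q₀.1.primeCompl w
  simp only at hrσ
  have h1 : iq q₀.1 r = iq q₀.1 t ^ N₀ * rho q₀.1 z * iq q₀.1 σ := by
    rw [iq_apply, ← hrσ, map_mul, hw, ← iq_apply]
  set y' : FractionRing A := algebraMap A (FractionRing A) σ *
    algebraMap A (FractionRing A) t ^ N₀ * z - algebraMap A (FractionRing A) r with hy'
  have h2 : algebraMap A (FractionRing A) (σ * t ^ N₀ * r' - t ^ k * r) =
      algebraMap A (FractionRing A) t ^ k * y' := by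
    rw [hy', map_sub, map_mul, map_mul, map_mul, map_pow, map_pow, hr']
    ring
  have h3 : rho q₀.1 y' = 0 := by
    rw [hy', map_sub, map_mul, map_mul, map_pow, rho_algebraMap, rho_algebraMap, rho_algebraMap, h1]
    ring
  obtain ⟨τ, hτ, h4⟩ := exists_mul_eq_zero_of_rho_eq_zero q₀.1 ht y' k _ h2 h3
  refine ⟨τ * σ, mul_notMem q₀.1 hτ σ.2, ⟨τ * r, ?_⟩, fun q => ?_⟩
  · rw [hy', mul_sub, sub_eq_zero] at h4
    rw [map_mul, ← h4, map_mul]
    ring
  · rw [map_mul, rho_algebraMap]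
    exact (E q).mul_mem ((E q).algebraMap_mem _) (hzE q)

include ht hcond in
theorem exists_pow_smul_mem (k : ℕ) (hk : N₀ ≤ k) :
    ∃ c : ℕ, ∀ r ∈ maximalIdeal A ^ c, ∀ z ∈ Mk E k, r • z ∈ Mk E N₀ := by
  haveI := isNoetherian_Mk E ht k
  set P : Submodule A (Mk E k) := (Mk E N₀).comap (Mk E k).subtype with hP
  have hloc : ∀ p : Ideal A, p.IsPrime → p ≠ maximalIdeal A → ∀ x : (Mk E k) ⧸ P,
      ∃ s ∉ p, s • x = 0 := by
    intro p hp hpm x
    obtain ⟨z, rfl⟩ := Submodule.Quotient.mk_surjective _ x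
    by_cases htp : t ∈ p
    · obtain ⟨s, hs, hsz⟩ := exists_mul_mem_Mk ht E N₀ hcond ⟨p, hp, hpm, htp⟩ k z.2
      refine ⟨s, hs, ?_⟩
      rw [← Submodule.Quotient.mk_smul, Submodule.Quotient.mk_eq_zero, hP, Submodule.mem_comap]
      simp only [Submodule.subtype_apply, Submodule.coe_smul, Algebra.smul_def]
      exact hsz
    · refine ⟨t ^ (k - N₀), pow_notMem p htp _, ?_⟩
      rw [← Submodule.Quotient.mk_smul, Submodule.Quotient.mk_eq_zero, hP, Submodule.mem_comap]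
      simp only [Submodule.subtype_apply, Submodule.coe_smul, Algebra.smul_def, map_pow]
      apply pow_mul_mem_Mk
      rw [Nat.add_sub_cancel' hk]
      exact z.2
  have hlen := length_lt_top_of_locally_zero hloc
  obtain ⟨c, hc⟩ := exists_pow_smul_eq_zero_of_isFiniteLength ((Mk E k) ⧸ P)
    (Module.length_ne_top_iff.mp hlen.ne)
  refine ⟨c, fun r hr z hz => ?_⟩
  have h1 := hc r hr (Submodule.Quotient.mk ⟨z, hz⟩)
  rw [← Submodule.Quotient.mk_smul, Submodule.Quotient.mk_eq_zero, hP, Submodule.mem_comap] at h1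
  exact h1

/-- the submodule `𝔞 = m^(c+1) M` -/
def aId (c : ℕ) : Submodule A (FractionRing A) := (maximalIdeal A) ^ (c + 1) • Mk E N₀

theorem aId_le_Mk (c : ℕ) : aId E N₀ c ≤ Mk E N₀ :=
  Submodule.smul_le.mpr (fun r _ z hz => (Mk E N₀).smul_mem r hz)

theorem smul_aId_le (c : ℕ) : maximalIdeal A • aId E N₀ c ≤ aId E N₀ c :=
  Submodule.smul_le.mpr (fun r _ z hz => (aId E N₀ c).smul_mem r hz)

theorem mul_mem_smul_aId (c : ℕ)
    (hc : ∀ r ∈ maximalIdeal A ^ c, ∀ z ∈ Mk E (N₀ + N₀), r • z ∈ Mk E N₀)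
    {y y' : FractionRing A} (hy : y ∈ aId E N₀ c) (hy' : y' ∈ aId E N₀ c) :
    y * y' ∈ maximalIdeal A • aId E N₀ c := by
  have hle : maximalIdeal A ^ c • Mk E (N₀ + N₀) ≤ Mk E N₀ := Submodule.smul_le.mpr hc
  have key : ((maximalIdeal A) ^ (c + 1) * (maximalIdeal A) ^ (c + 1)) • Mk E (N₀ + N₀) ≤
      maximalIdeal A • aId E N₀ c := by
    have e : (maximalIdeal A) ^ (c + 1) * (maximalIdeal A) ^ (c + 1) =
        maximalIdeal A * ((maximalIdeal A) ^ (c + 1) * (maximalIdeal A) ^ c) := by ring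
    rw [e, Submodule.mul_smul, Submodule.mul_smul]
    exact smul_mono_right _ (smul_mono_right _ hle)
  unfold aId at hy hy'
  refine Submodule.smul_induction_on hy (fun r hr z hz => ?_)
    (fun x y hx hy => by rw [add_mul]; exact add_mem hx hy)
  refine Submodule.smul_induction_on hy' (fun r' hr' z' hz' => ?_)
    (fun x y hx hy => by rw [mul_add]; exact add_mem hx hy)
  apply key
  have e : r • z * r' • z' = (r * r') • (z * z') := by
    rw [smul_mul_smul_comm]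
  rw [e]
  exact Submodule.smul_mem_smul (Ideal.mul_mem_mul hr hr') (mul_mem_Mk E hz hz')

/-- the subalgebra `B = A + 𝔞` -/
def Bsub (c : ℕ) (hc : ∀ r ∈ maximalIdeal A ^ c, ∀ z ∈ Mk E (N₀ + N₀), r • z ∈ Mk E N₀) :
    Subalgebra A (FractionRing A) where
  carrier := {β | ∃ r : A, ∃ y ∈ aId E N₀ c, β = algebraMap A (FractionRing A) r + y}
  mul_mem' := by
    rintro _ _ ⟨r, y, hy, rfl⟩ ⟨r', y', hy', rfl⟩
    refine ⟨r * r', r • y' + r' • y + y * y', ?_, ?_⟩
    · exact add_mem (add_mem ((aId E N₀ c).smul_mem r hy') ((aId E N₀ c).smul_mem r' hy))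
        (smul_aId_le E N₀ c (mul_mem_smul_aId E N₀ c hc hy hy'))
    · rw [map_mul, Algebra.smul_def, Algebra.smul_def]; ring
  add_mem' := by
    rintro _ _ ⟨r, y, hy, rfl⟩ ⟨r', y', hy', rfl⟩
    exact ⟨r + r', y + y', add_mem hy hy', by rw [map_add]; ring⟩
  algebraMap_mem' := fun r => ⟨r, 0, zero_mem _, by rw [add_zero]⟩

variable (c : ℕ) (hc : ∀ r ∈ maximalIdeal A ^ c, ∀ z ∈ Mk E (N₀ + N₀), r • z ∈ Mk E N₀)

theorem mem_Bsub {β : FractionRing A} : β ∈ Bsub E N₀ c hc ↔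
    ∃ r : A, ∃ y ∈ aId E N₀ c, β = algebraMap A (FractionRing A) r + y := Iff.rfl

theorem aId_le_Bsub {y : FractionRing A} (hy : y ∈ aId E N₀ c) : y ∈ Bsub E N₀ c hc :=
  ⟨0, y, hy, by rw [map_zero, zero_add]⟩

theorem Bsub_le_Mk {β : FractionRing A} (hβ : β ∈ Bsub E N₀ c hc) : β ∈ Mk E N₀ := by
  obtain ⟨r, y, hy, rfl⟩ := hβ
  exact add_mem (algebraMap_mem_Mk E N₀ r) (aId_le_Mk E N₀ c hy)

include ht in
theorem finite_Bsub : Module.Finite A (Bsub E N₀ c hc) := by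
  haveI := isNoetherian_Mk E ht N₀
  let f : (Bsub E N₀ c hc) →ₗ[A] (Mk E N₀) :=
    LinearMap.codRestrict (Mk E N₀) (Bsub E N₀ c hc).val.toLinearMap
      (fun β => Bsub_le_Mk E N₀ c hc β.2)
  refine Module.Finite.of_injective f ?_
  intro x y hxy
  apply Subtype.ext
  exact congrArg (fun w : Mk E N₀ => (w : FractionRing A)) hxy

end glob2

end Groth.Agent.Lib.Helper29.Key
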