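import Groth.Agent.Lib.Helper29.KeyO

/-!
# Key lemma, part P: `Bsub` is a local ring with the residue field of `A`
-/

set_option autoImplicit false

namespace Groth.Agent.Lib.Helper29.Key

universe u

open IsLocalRing CycAlg Groth.Agent.Lib.Helper29.LengthFormula

section glob3

variable {A : Type u} [CommRing A] [IsNoetherianRing A] [IsLocalRing A]
  {t : A} (ht : t ∈ nonZeroDivisors A)
  (E : ∀ q : PP A t, Subalgebra (Localization.AtPrime q.1) (FractionRing (Localization.AtPrime q.1)))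
  (N₀ : ℕ)
  (c : ℕ) (hc : ∀ r ∈ maximalIdeal A ^ c, ∀ z ∈ Mk E (N₀ + N₀), r • z ∈ Mk E N₀)

include ht in
theorem rad (𝔑 : Ideal (Bsub E N₀ c hc)) [h𝔑 : 𝔑.IsMaximal] :
    (∀ r ∈ maximalIdeal A, algebraMap A (Bsub E N₀ c hc) r ∈ 𝔑) ∧
      ∀ (y : FractionRing A) (hy : y ∈ aId E N₀ c),
        (⟨y, aId_le_Bsub E N₀ c hc hy⟩ : Bsub E N₀ c hc) ∈ 𝔑 := by
  haveI := finite_Bsub ht E N₀ c hc
  have hcomap : 𝔑.comap (algebraMap A (Bsub E N₀ c hc)) = maximalIdeal A :=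
    Tame.comap_maximal (A := A) (R := Bsub E N₀ c hc) ⟨𝔑, h𝔑⟩
  have first : ∀ r ∈ maximalIdeal A, algebraMap A (Bsub E N₀ c hc) r ∈ 𝔑 := by
    intro r hr
    have : r ∈ 𝔑.comap (algebraMap A (Bsub E N₀ c hc)) := hcomap ▸ hr
    exact this
  refine ⟨first, ?_⟩
  have hsm : ∀ w ∈ maximalIdeal A • aId E N₀ c,
      ∃ hw : w ∈ Bsub E N₀ c hc, (⟨w, hw⟩ : Bsub E N₀ c hc) ∈ 𝔑 := by
    intro w hw
    refine Submodule.smul_induction_on hw (fun r hr y hy => ?_) ?_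
    · refine ⟨aId_le_Bsub E N₀ c hc ((aId E N₀ c).smul_mem r hy), ?_⟩
      have e : (⟨r • y, aId_le_Bsub E N₀ c hc ((aId E N₀ c).smul_mem r hy)⟩ : Bsub E N₀ c hc) =
          algebraMap A (Bsub E N₀ c hc) r * ⟨y, aId_le_Bsub E N₀ c hc hy⟩ := by
        apply Subtype.ext
        simp [Algebra.smul_def]
      rw [e]
      exact 𝔑.mul_mem_right _ (first r hr)
    · rintro x y ⟨hx1, hx2⟩ ⟨hy1, hy2⟩
      refine ⟨add_mem hx1 hy1, ?_⟩
      have e : (⟨x + y, add_mem hx1 hy1⟩ : Bsub E N₀ c hc) = ⟨x, hx1⟩ + ⟨y, hy1⟩ := rfl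
      rw [e]
      exact 𝔑.add_mem hx2 hy2
  intro y hy
  obtain ⟨hw, hw2⟩ := hsm (y * y) (mul_mem_smul_aId E N₀ c hc hy hy)
  have e : (⟨y, aId_le_Bsub E N₀ c hc hy⟩ : Bsub E N₀ c hc) ^ 2 = ⟨y * y, hw⟩ := by
    apply Subtype.ext
    simp [pow_two]
  exact h𝔑.isPrime.mem_of_pow_mem 2 (e ▸ hw2)

/-- membership in the would-be maximal ideal of `Bsub` -/
def InM (β : FractionRing A) : Prop :=
  ∃ r ∈ maximalIdeal A, ∃ y ∈ aId E N₀ c, β = algebraMap A (FractionRing A) r + y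

instance : Nontrivial (Bsub E N₀ c hc) := by
  haveI : Nontrivial (FractionRing A) := (IsFractionRing.injective A (FractionRing A)).nontrivial
  infer_instance

include ht in
theorem mem_nonunits_iff (β : Bsub E N₀ c hc) :
    β ∈ nonunits (Bsub E N₀ c hc) ↔ InM E N₀ c (β : FractionRing A) := by
  haveI := finite_Bsub ht E N₀ c hc
  constructor
  · intro hβ
    obtain ⟨𝔑, h𝔑, hβ𝔑⟩ := exists_max_ideal_of_mem_nonunits hβ
    obtain ⟨r, y, hy, e⟩ := β.2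
    have hcomap : 𝔑.comap (algebraMap A (Bsub E N₀ c hc)) = maximalIdeal A :=
      Tame.comap_maximal (A := A) (R := Bsub E N₀ c hc) ⟨𝔑, h𝔑⟩
    have h1 := (rad ht E N₀ c hc 𝔑).2 y hy
    have h2 : algebraMap A (Bsub E N₀ c hc) r = β - ⟨y, aId_le_Bsub E N₀ c hc hy⟩ := by
      apply Subtype.ext
      simp [e]
    have h3 : algebraMap A (Bsub E N₀ c hc) r ∈ 𝔑 := h2 ▸ 𝔑.sub_mem hβ𝔑 h1
    have h4 : r ∈ 𝔑.comap (algebraMap A (Bsub E N₀ c hc)) := h3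
    rw [hcomap] at h4
    exact ⟨r, h4, y, hy, e⟩
  · rintro ⟨r, hr, y, hy, e⟩
    obtain ⟨𝔑, h𝔑⟩ := Ideal.exists_maximal (Bsub E N₀ c hc)
    have h1 := rad ht E N₀ c hc 𝔑
    have h2 : β = algebraMap A (Bsub E N₀ c hc) r + ⟨y, aId_le_Bsub E N₀ c hc hy⟩ := by
      apply Subtype.ext
      simp [e]
    have h3 : β ∈ 𝔑 := h2 ▸ 𝔑.add_mem (h1.1 r hr) (h1.2 y hy)
    intro hu
    exact h𝔑.ne_top (Ideal.eq_top_of_isUnit_mem _ h3 hu)

include ht in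
theorem isLocalRing_Bsub : IsLocalRing (Bsub E N₀ c hc) := by
  refine IsLocalRing.of_nonunits_add (fun x y hx hy => ?_)
  rw [mem_nonunits_iff ht] at hx hy ⊢
  obtain ⟨r, hr, w, hw, e⟩ := hx
  obtain ⟨r', hr', w', hw', e'⟩ := hy
  refine ⟨r + r', add_mem hr hr', w + w', add_mem hw hw', ?_⟩
  rw [Subalgebra.coe_add, e, e', map_add]
  ring

include ht in
theorem hres_Bsub [IsLocalRing (Bsub E N₀ c hc)] (β : Bsub E N₀ c hc) :
    ∃ r : A, β - algebraMap A (Bsub E N₀ c hc) r ∈ maximalIdeal (Bsub E N₀ c hc) := by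
  obtain ⟨r, y, hy, e⟩ := β.2
  refine ⟨r, ?_⟩
  rw [IsLocalRing.mem_maximalIdeal, mem_nonunits_iff ht]
  refine ⟨0, zero_mem _, y, hy, ?_⟩
  rw [Subalgebra.coe_sub, e, map_zero, zero_add]
  simp

end glob3

end Groth.Agent.Lib.Helper29.Key
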