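import Groth.Agent.Lib.Helper29.KeyP

/-!
# Key lemma, part Q: `E_q` is the localization of `Bsub` at `q`
-/

set_option autoImplicit false

namespace Groth.Agent.Lib.Helper29.Key

universe u

open IsLocalRing CycAlg Groth.Agent.Lib.Helper29.LengthFormula

section glob4

variable {A : Type u} [CommRing A] [IsNoetherianRing A] [IsLocalRing A]
  (hA : ringKrullDim A ≤ 2) {t : A} (ht : t ∈ nonZeroDivisors A)
  (E : ∀ q : PP A t, Subalgebra (Localization.AtPrime q.1) (FractionRing (Localization.AtPrime q.1)))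
  (N₀ : ℕ) (hN₀ : 1 ≤ N₀)
  (hcond : ∀ (q : PP A t) (y : E q), ∃ w : Localization.AtPrime q.1,
    algebraMap (Localization.AtPrime q.1) (FractionRing (Localization.AtPrime q.1)) w =
      iq q.1 t ^ N₀ * (y : FractionRing (Localization.AtPrime q.1)))
  (c : ℕ) (hc : ∀ r ∈ maximalIdeal A ^ c, ∀ z ∈ Mk E (N₀ + N₀), r • z ∈ Mk E N₀)

include hA ht hN₀ hcond in
/-- (Surj) -/
theorem surj_Bsub [Fintype (PP A t)] (q₀ : PP A t)
    (β' : FractionRing (Localization.AtPrime q₀.1)) (hβ' : β' ∈ E q₀) :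
    ∃ z ∈ Bsub E N₀ c hc, ∃ τ ∉ q₀.1, iq q₀.1 τ * β' = rho q₀.1 z := by
  classical
  obtain ⟨w, hw⟩ := hcond q₀ ⟨β', hβ'⟩
  simp only at hw
  obtain ⟨⟨r, σ⟩, hrσ⟩ := IsLocalization.surj q₀.1.primeCompl w
  simp only at hrσ
  have h1 : iq q₀.1 r = iq q₀.1 t ^ N₀ * β' * iq q₀.1 σ := by
    rw [iq_apply, ← hrσ, map_mul, hw, ← iq_apply]
  -- the element `σ₁`
  have htN : t ^ N₀ ∈ nonZeroDivisors A := pow_mem ht N₀
  have h : ∀ q' : PP A t, ∃ s : A, s ∉ q₀.1 ∧ (q' ≠ q₀ → s ∈ Jid q'.1 (t ^ N₀)) := by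
    intro q'
    by_cases hq' : q' = q₀
    · exact ⟨1, one_notMem q₀.1, fun h => absurd hq' h⟩
    · have hne : q₀.1 ≠ q'.1 := fun e => hq' (Subtype.ext e.symm)
      obtain ⟨s, hs1, hs2⟩ := exists_mem_Jid_notMem hA htN q'.1 q'.2.2.1
        (Ideal.pow_mem_of_mem _ q'.2.2.2 N₀ hN₀) q₀.1 q₀.2.2.1 hne
      exact ⟨s, hs2, fun _ => hs1⟩
  choose s hs1 hs2 using h
  set σ₁ : A := ∏ q' : PP A t, s q' with hσ₁
  have hσ₁q : σ₁ ∉ q₀.1 := by
    rw [hσ₁, Ideal.IsPrime.prod_mem_iff]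
    rintro ⟨q', -, hq'⟩
    exact hs1 q' hq'
  have hσ₁J : ∀ q' : PP A t, q' ≠ q₀ → σ₁ ∈ Jid q'.1 (t ^ N₀) := fun q' hq' =>
    Ideal.mem_of_dvd _ (Finset.dvd_prod_of_mem s (Finset.mem_univ q')) (hs2 q' hq')
  -- the element `μ`
  have hlt : q₀.1 < maximalIdeal A :=
    lt_of_le_of_ne (IsLocalRing.le_maximalIdeal q₀.2.1.ne_top) q₀.2.2.1
  obtain ⟨x, hxm, hxq⟩ := SetLike.exists_of_lt hlt
  -- the inverse of `t ^ N₀`
  obtain ⟨u, hu⟩ := (isUnit_algebraMap_of_nzd ht).pow N₀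
  set uinv : FractionRing A := ((u⁻¹ : (FractionRing A)ˣ) : FractionRing A) with huinv
  have hu1 : algebraMap A (FractionRing A) t ^ N₀ * uinv = 1 := by
    rw [← hu, huinv, Units.mul_inv]
  have hu2 : ∀ q : PP A t, iq q.1 t ^ N₀ * rho q.1 uinv = 1 := by
    intro q
    rw [← rho_algebraMap, ← map_pow, ← map_mul, hu1, map_one]
  set z₀ : FractionRing A := algebraMap A (FractionRing A) (σ₁ * r) * uinv with hz₀
  have hz₀M : z₀ ∈ Mk E N₀ := by
    refine ⟨⟨σ₁ * r, ?_⟩, fun q => ?_⟩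
    · rw [hz₀, mul_left_comm, hu1, mul_one]
    · by_cases hq : q = q₀
      · subst hq
        have e : rho q.1 z₀ = iq q.1 (σ₁ * σ) * β' := by
          rw [hz₀, map_mul, rho_algebraMap, map_mul, h1, map_mul]
          have := hu2 q
          linear_combination (iq q.1 σ₁ * β' * iq q.1 σ) * this
        rw [e]
        exact (E q).mul_mem ((E q).algebraMap_mem _) hβ'
      · obtain ⟨s', hs', hmem⟩ := hσ₁J q hq
        obtain ⟨r'', hr''⟩ := Ideal.mem_span_singleton'.mp hmem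
        have hunit : IsUnit (iq q.1 s') := isUnit_iq q.1 hs'
        have e : rho q.1 z₀ = algebraMap (Localization.AtPrime q.1)
            (FractionRing (Localization.AtPrime q.1))
            (IsLocalization.mk' (Localization.AtPrime q.1) (r'' * r)
              (⟨s', hs'⟩ : q.1.primeCompl)) := by
          apply hunit.mul_left_cancel
          have e1 : iq q.1 s' * algebraMap (Localization.AtPrime q.1)
              (FractionRing (Localization.AtPrime q.1))
              (IsLocalization.mk' (Localization.AtPrime q.1) (r'' * r)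
                (⟨s', hs'⟩ : q.1.primeCompl)) = iq q.1 (r'' * r) := by
            rw [iq_apply, ← map_mul, mul_comm, IsLocalization.mk'_spec, ← iq_apply]
          rw [e1, hz₀, map_mul, rho_algebraMap, ← mul_assoc, ← map_mul, ← mul_assoc, ← hr'']
          rw [map_mul, map_mul, map_mul, map_pow]
          have := hu2 q
          linear_combination (iq q.1 r'' * iq q.1 r) * this
        rw [e]
        exact (E q).algebraMap_mem _
  refine ⟨x ^ (c + 1) • z₀, aId_le_Bsub E N₀ c hc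
    (Submodule.smul_mem_smul (Ideal.pow_mem_pow hxm (c + 1)) hz₀M), x ^ (c + 1) * (σ₁ * σ),
    mul_notMem q₀.1 (pow_notMem q₀.1 hxq _) (mul_notMem q₀.1 hσ₁q σ.2), ?_⟩
  have e : rho q₀.1 (x ^ (c + 1) • z₀) =
      iq q₀.1 (x ^ (c + 1)) * (iq q₀.1 σ₁ * iq q₀.1 r * rho q₀.1 uinv) := by
    rw [Algebra.smul_def, map_mul (rho q₀.1), rho_algebraMap, hz₀, map_mul (rho q₀.1),
      rho_algebraMap, map_mul (iq q₀.1)]
  rw [e, map_mul (iq q₀.1), map_mul (iq q₀.1), h1]
  have := hu2 q₀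
  linear_combination (-(iq q₀.1 (x ^ (c + 1)) * iq q₀.1 σ₁ * β' * iq q₀.1 σ)) * this

end glob4

end Groth.Agent.Lib.Helper29.Key
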