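import Groth.Agent.Lib.Helper29.KeyQ

/-!
# Key lemma, part R: the global monomial data on `Bsub`
-/

set_option autoImplicit false

namespace Groth.Agent.Lib.Helper29.Key

universe u

open IsLocalRing CycAlg Groth.Agent.Lib.Helper29.LengthFormula

section glob5

variable {A : Type u} [CommRing A] [IsNoetherianRing A] [IsLocalRing A]
  (hA : ringKrullDim A ≤ 2) {t : A} (ht : t ∈ nonZeroDivisors A)
  (E : ∀ q : PP A t, Subalgebra (Localization.AtPrime q.1) (FractionRing (Localization.AtPrime q.1)))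
  (N₀ : ℕ) (hN₀ : 1 ≤ N₀)
  (hcond : ∀ (q : PP A t) (y : E q), ∃ w : Localization.AtPrime q.1,
    algebraMap (Localization.AtPrime q.1) (FractionRing (Localization.AtPrime q.1)) w =
      iq q.1 t ^ N₀ * (y : FractionRing (Localization.AtPrime q.1)))
  (c : ℕ) (hc : ∀ r ∈ maximalIdeal A ^ c, ∀ z ∈ Mk E (N₀ + N₀), r • z ∈ Mk E N₀)
  {a b : A} (ϖ : ∀ q : PP A t, FractionRing (Localization.AtPrime q.1)) (hϖ : ∀ q, ϖ q ∈ E q)
  (fa : ∀ q : PP A t, Groth.Agent.S1836.Fact (E q) (iq q.1 a) (ϖ q))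
  (fb : ∀ q : PP A t, Groth.Agent.S1836.Fact (E q) (iq q.1 b) (ϖ q))

include hA ht hN₀ hcond hϖ fa fb in
theorem exists_gmono [Fintype (PP A t)] [IsLocalRing (Bsub E N₀ c hc)]
    (Q : Ideal (Bsub E N₀ c hc)) [hQp : Q.IsPrime] (hQ : Q ≠ maximalIdeal (Bsub E N₀ c hc))
    (hQt : algebraMap A (Bsub E N₀ c hc) t ∈ Q) :
    Nonempty (GMono (Bsub E N₀ c hc) (algebraMap A (Bsub E N₀ c hc) a)
      (algebraMap A (Bsub E N₀ c hc) b) Q) := by
  classical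
  haveI := finite_Bsub ht E N₀ c hc
  have hqm : Q.comap (algebraMap A (Bsub E N₀ c hc)) ≠ maximalIdeal A := by
    intro e
    have hmax : (Q.comap (algebraMap A (Bsub E N₀ c hc))).IsMaximal := by
      rw [e]; exact maximalIdeal.isMaximal A
    have := Ideal.isMaximal_of_isIntegral_of_isMaximal_comap (R := A) Q hmax
    exact hQ (IsLocalRing.eq_maximalIdeal this)
  set q₀ : PP A t := ⟨Q.comap (algebraMap A (Bsub E N₀ c hc)), Ideal.comap_isPrime _ _, hqm, hQt⟩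
    with hq₀
  have hnot : ∀ τ : A, τ ∉ q₀.1 → algebraMap A (Bsub E N₀ c hc) τ ∉ Q := fun τ h h' => h h'
  -- (KerB)
  have kerB : ∀ β : Bsub E N₀ c hc, rho q₀.1 (β : FractionRing A) = 0 →
      ∃ τ ∉ q₀.1, algebraMap A (Bsub E N₀ c hc) τ * β = 0 := by
    intro β hβ
    obtain ⟨⟨r, hr⟩, -⟩ := Bsub_le_Mk E N₀ c hc β.2
    obtain ⟨τ, hτ, h⟩ := exists_mul_eq_zero_of_rho_eq_zero q₀.1 ht _ N₀ r hr hβ
    exact ⟨τ, hτ, Subtype.ext (by simpa using h)⟩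
  have hBE : ∀ β : Bsub E N₀ c hc, rho q₀.1 (β : FractionRing A) ∈ E q₀ :=
    fun β => (Bsub_le_Mk E N₀ c hc β.2).2 q₀
  -- the ideal `J = Q E_q`
  set J : Ideal (E q₀) := Ideal.span {e | ∃ β : Bsub E N₀ c hc, β ∈ Q ∧
    (e : FractionRing (Localization.AtPrime q₀.1)) = rho q₀.1 (β : FractionRing A)} with hJ
  have hJlift : ∀ y ∈ J, ∃ τ ∉ q₀.1, ∃ w : Bsub E N₀ c hc, w ∈ Q ∧
      iq q₀.1 τ * (y : FractionRing (Localization.AtPrime q₀.1)) =
        rho q₀.1 (w : FractionRing A) := by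
    intro y hy
    induction hy using Submodule.span_induction with
    | mem y hy =>
      obtain ⟨β, hβ, e⟩ := hy
      exact ⟨1, one_notMem q₀.1, β, hβ, by rw [map_one, one_mul, e]⟩
    | zero =>
      exact ⟨1, one_notMem q₀.1, 0, Q.zero_mem, by simp⟩
    | add y₁ y₂ _ _ h₁ h₂ =>
      obtain ⟨τ₁, hτ₁, w₁, hw₁, e₁⟩ := h₁
      obtain ⟨τ₂, hτ₂, w₂, hw₂, e₂⟩ := h₂
      refine ⟨τ₁ * τ₂, mul_notMem q₀.1 hτ₁ hτ₂,
        algebraMap A (Bsub E N₀ c hc) τ₂ * w₁ + algebraMap A (Bsub E N₀ c hc) τ₁ * w₂,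
        Q.add_mem (Q.mul_mem_left _ hw₁) (Q.mul_mem_left _ hw₂), ?_⟩
      simp only [Subalgebra.coe_add, Subalgebra.coe_mul, Subalgebra.coe_algebraMap, map_add,
        map_mul, rho_algebraMap]
      rw [← e₁, ← e₂]
      ring
    | smul x y _ h =>
      obtain ⟨τ, hτ, w, hw, e⟩ := h
      obtain ⟨z, hz, τ', hτ', e'⟩ := surj_Bsub hA ht E N₀ hN₀ hcond c hc q₀ x x.2
      refine ⟨τ' * τ, mul_notMem q₀.1 hτ' hτ, ⟨z, hz⟩ * w, Q.mul_mem_left _ hw, ?_⟩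
      simp only [smul_eq_mul, Subalgebra.coe_mul, map_mul]
      rw [← e, ← e']
      ring
  have hJne : J ≠ ⊤ := by
    intro e
    have h1 : (1 : E q₀) ∈ J := e ▸ Submodule.mem_top
    obtain ⟨τ, hτ, w, hw, h⟩ := hJlift 1 h1
    have h2 : rho q₀.1 ((algebraMap A (Bsub E N₀ c hc) τ - w : Bsub E N₀ c hc) :
        FractionRing A) = 0 := by
      rw [Subalgebra.coe_sub, map_sub, Subalgebra.coe_algebraMap, rho_algebraMap, ← h]
      simp
    obtain ⟨τ', hτ', h3⟩ := kerB _ h2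
    have h4 : algebraMap A (Bsub E N₀ c hc) (τ' * τ) =
        algebraMap A (Bsub E N₀ c hc) τ' * w := by
      rw [map_mul]; linear_combination h3
    have h5 : algebraMap A (Bsub E N₀ c hc) (τ' * τ) ∈ Q := h4 ▸ Q.mul_mem_left _ hw
    exact mul_notMem q₀.1 hτ' hτ h5
  obtain ⟨n, hn, hJn⟩ := Ideal.exists_le_maximal J hJne
  -- lifting elements of `E_q` to `B`
  have lift : ∀ e : E q₀, ∃ z : Bsub E N₀ c hc, ∃ τ ∉ q₀.1,
      iq q₀.1 τ * (e : FractionRing (Localization.AtPrime q₀.1)) = rho q₀.1 (z : FractionRing A) ∧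
        (e ∉ n → z ∉ Q) := by
    intro e
    obtain ⟨z, hz, τ, hτ, h⟩ := surj_Bsub hA ht E N₀ hN₀ hcond c hc q₀ e e.2
    refine ⟨⟨z, hz⟩, τ, hτ, h, fun he hzQ => he ?_⟩
    have h1 : (⟨rho q₀.1 z, hBE ⟨z, hz⟩⟩ : E q₀) ∈ J :=
      Ideal.subset_span ⟨⟨z, hz⟩, hzQ, rfl⟩
    have h2 : (⟨rho q₀.1 z, hBE ⟨z, hz⟩⟩ : E q₀) =
        algebraMap (Localization.AtPrime q₀.1) (E q₀)
          (algebraMap A (Localization.AtPrime q₀.1) τ) * e := by
      apply Subtype.ext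
      rw [Subalgebra.coe_mul, Subalgebra.coe_algebraMap, ← iq_apply, h]
    have hu : IsUnit (algebraMap (Localization.AtPrime q₀.1) (E q₀)
        (algebraMap A (Localization.AtPrime q₀.1) τ)) :=
      (IsLocalization.map_units (Localization.AtPrime q₀.1) (⟨τ, hτ⟩ : q₀.1.primeCompl)).map
        (algebraMap (Localization.AtPrime q₀.1) (E q₀))
    have h3 := hJn h1
    rw [h2] at h3
    exact (Ideal.unit_mul_mem_iff_mem n hu).mp h3
  obtain ⟨zϖ, τϖ, hτϖ, hϖeq, -⟩ := lift ⟨ϖ q₀, hϖ q₀⟩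
  simp only at hϖeq
  have half : ∀ a' : A, Groth.Agent.S1836.FactAt (E q₀) n (iq q₀.1 a') (ϖ q₀) →
      ∃ (e : ℕ) (x y : Bsub E N₀ c hc), x ∉ Q ∧ y ∉ Q ∧
        y * algebraMap A (Bsub E N₀ c hc) a' = x * zϖ ^ e := by
    rintro a' ⟨e, s, s', hs, hs', h⟩
    obtain ⟨zs, τs, hτs, hseq, hzs⟩ := lift s
    obtain ⟨zs', τs', hτs', hs'eq, hzs'⟩ := lift s'
    set Y₁ : Bsub E N₀ c hc := algebraMap A (Bsub E N₀ c hc) (τs' * τϖ ^ e) * zs with hY₁
    set X : Bsub E N₀ c hc := algebraMap A (Bsub E N₀ c hc) τs * zs' with hX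
    have h1 : rho q₀.1 ((Y₁ * algebraMap A (Bsub E N₀ c hc) a' - X * zϖ ^ e : Bsub E N₀ c hc) :
        FractionRing A) = 0 := by
      simp only [hY₁, hX, Subalgebra.coe_sub, Subalgebra.coe_mul, Subalgebra.coe_pow,
        Subalgebra.coe_algebraMap, map_sub, map_mul, map_pow, rho_algebraMap]
      rw [← hseq, ← hs'eq, ← hϖeq]
      linear_combination (iq q₀.1 τs' * iq q₀.1 τϖ ^ e * iq q₀.1 τs) * h
    obtain ⟨τ', hτ', h2⟩ := kerB _ h1
    refine ⟨e, algebraMap A (Bsub E N₀ c hc) τ' * X, algebraMap A (Bsub E N₀ c hc) τ' * Y₁,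
      ?_, ?_, ?_⟩
    · intro hmem
      rcases hQp.mem_or_mem hmem with h | h
      · exact hnot τ' hτ' h
      · rcases hQp.mem_or_mem h with h | h
        · exact hnot τs hτs h
        · exact hzs' hs' h
    · intro hmem
      rcases hQp.mem_or_mem hmem with h | h
      · exact hnot τ' hτ' h
      · rcases hQp.mem_or_mem h with h | h
        · exact hnot _ (mul_notMem q₀.1 hτs' (pow_notMem q₀.1 hτϖ e)) h
        · exact hzs hs h
    · linear_combination h2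
  obtain ⟨e, x, y₁, hx, hy₁, h₁⟩ := half a (fa q₀ n hn.isPrime)
  obtain ⟨f, x', y₂, hx', hy₂, h₂⟩ := half b (fb q₀ n hn.isPrime)
  exact ⟨⟨zϖ, x, y₁, x', y₂, e, f, hx, hy₁, hx', hy₂, h₁, h₂⟩⟩

end glob5

end Groth.Agent.Lib.Helper29.Key
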