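import Groth.Agent.Lib.Helper29.LatticeA

set_option autoImplicit false

namespace Groth.Agent.Lib.Helper29.Lattice

open Groth.Agent.Lib.Helper87

universe u

section lat

variable {A : Type u} [CommRing A] [IsDomain A] [IsNoetherianRing A]
  {K : Type u} [Field K] [Algebra A K] [IsFractionRing A K]
  {V : Type u} [AddCommGroup V] [Module K V] [Module A V] [IsScalarTower A K V]

omit [IsNoetherianRing A] in
theorem exists_smul_mem (N : Submodule A V) [Submodule.IsLattice K N] (m : V) :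
    ∃ t : A, t ≠ 0 ∧ t • m ∈ N := by
  have hm : m ∈ Submodule.span K (N : Set V) := by
    rw [Submodule.IsLattice.span_eq_top]; trivial
  induction hm using Submodule.span_induction with
  | mem x hx => exact ⟨1, one_ne_zero, by rwa [one_smul]⟩
  | zero => exact ⟨1, one_ne_zero, by rw [smul_zero]; exact N.zero_mem⟩
  | add x y _ _ hx hy =>
    obtain ⟨t₁, h₁, hx'⟩ := hx
    obtain ⟨t₂, h₂, hy'⟩ := hy
    refine ⟨t₁ * t₂, mul_ne_zero h₁ h₂, ?_⟩
    rw [smul_add]
    refine N.add_mem ?_ ?_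
    · rw [mul_comm, mul_smul]; exact N.smul_mem _ hx'
    · rw [mul_smul]; exact N.smul_mem _ hy'
  | smul c x _ hx =>
    obtain ⟨t, ht, hx'⟩ := hx
    obtain ⟨a, s, hs, rfl⟩ := IsFractionRing.div_surjective (A := A) c
    have hs0 : s ≠ 0 := nonZeroDivisors.ne_zero hs
    refine ⟨s * t, mul_ne_zero hs0 ht, ?_⟩
    have hsK : algebraMap A K s ≠ 0 := by
      rw [Ne, map_eq_zero_iff _ (IsFractionRing.injective A K)]; exact hs0
    have h3 : algebraMap A K (s * t) * (algebraMap A K a / algebraMap A K s) =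
        algebraMap A K a * algebraMap A K t := by
      rw [map_mul]; field_simp
    have : (s * t) • ((algebraMap A K a / algebraMap A K s) • x) = a • (t • x) := by
      rw [← algebraMap_smul K (s * t), smul_smul, h3, mul_smul, algebraMap_smul, algebraMap_smul]
    rw [this]
    exact N.smul_mem _ hx'

omit [IsNoetherianRing A] in
theorem exists_smul_le (M N : Submodule A V) [Submodule.IsLattice K M] [Submodule.IsLattice K N] :
    ∃ t : A, t ≠ 0 ∧ ∀ x ∈ M, t • x ∈ N := by
  obtain ⟨S, hS⟩ := Submodule.IsLattice.fg (A := K) (M := M)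
  rw [← hS]
  clear hS
  classical
  induction S using Finset.induction_on with
  | empty =>
    refine ⟨1, one_ne_zero, fun x hx => ?_⟩
    rw [Finset.coe_empty, Submodule.span_empty, Submodule.mem_bot] at hx
    rw [hx, smul_zero]; exact N.zero_mem
  | insert a S _ ih =>
    obtain ⟨t₁, h₁, ih⟩ := ih
    obtain ⟨t₂, h₂, ha⟩ := exists_smul_mem (K := K) N a
    refine ⟨t₁ * t₂, mul_ne_zero h₁ h₂, fun x hx => ?_⟩
    rw [Finset.coe_insert, Submodule.mem_span_insert] at hx
    obtain ⟨c, y, hy, rfl⟩ := hx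
    rw [smul_add]
    refine N.add_mem ?_ ?_
    · rw [smul_comm, mul_smul]
      exact N.smul_mem _ (N.smul_mem _ ha)
    · rw [mul_comm, mul_smul]
      exact N.smul_mem _ (ih y hy)

theorem isLattice_inf (M N : Submodule A V) [Submodule.IsLattice K M] [Submodule.IsLattice K N] :
    Submodule.IsLattice K (M ⊓ N) where
  fg := by
    have : IsNoetherian A ↥M := isNoetherian_of_fg_of_noetherian _ Submodule.IsLattice.fg
    have : IsNoetherian A ↥(M ⊓ N) := isNoetherian_of_le inf_le_left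
    rw [← Module.Finite.iff_fg]
    infer_instance
  span_eq_top := by
    rw [eq_top_iff]
    intro v _
    obtain ⟨t₁, h₁, hv₁⟩ := exists_smul_mem (K := K) M v
    obtain ⟨t₂, h₂, hv₂⟩ := exists_smul_mem (K := K) N v
    have hmem : (t₁ * t₂) • v ∈ M ⊓ N := by
      refine ⟨?_, ?_⟩
      · rw [mul_comm, mul_smul]; exact M.smul_mem _ hv₁
      · rw [mul_smul]; exact N.smul_mem _ hv₂
    have hK : algebraMap A K (t₁ * t₂) ≠ 0 := by
      rw [Ne, map_eq_zero_iff _ (IsFractionRing.injective A K)]; exact mul_ne_zero h₁ h₂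
    have : v = (algebraMap A K (t₁ * t₂))⁻¹ • ((t₁ * t₂) • v) := by
      rw [← algebraMap_smul K (t₁ * t₂), smul_smul, inv_mul_cancel₀ hK, one_smul]
    rw [this]
    exact Submodule.smul_mem _ _ (Submodule.subset_span hmem)

theorem ql_lt_top (hA : ringKrullDim A = 1) (M N : Submodule A V) [Submodule.IsLattice K M]
    [Submodule.IsLattice K N] : ql M N < ⊤ := by
  obtain ⟨t, ht, hle⟩ := exists_smul_le (K := K) M N
  haveI : IsArtinianRing (A ⧸ Ideal.span {t}) :=
    artinian_quot hA t (mem_nonZeroDivisors_iff_ne_zero.mpr ht)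
  unfold ql
  apply length_lt_top_of_smul_eq_zero t
  intro x
  obtain ⟨x, rfl⟩ := Submodule.Quotient.mk_surjective _ x
  rw [← Submodule.Quotient.mk_smul, Submodule.Quotient.mk_eq_zero]
  exact hle x.1 x.2

/-- the distance of two lattices -/
noncomputable def dist (M M' : Submodule A V) : ℤ :=
  ((ql M (M ⊓ M')).toNat : ℤ) - ((ql M' (M ⊓ M')).toNat : ℤ)

omit [IsDomain A] [IsNoetherianRing A] [IsFractionRing A K] in
theorem dist_self (M : Submodule A V) : dist M M = 0 := by
  unfold dist; rw [sub_self]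

omit [IsDomain A] [IsNoetherianRing A] [IsFractionRing A K] in
theorem dist_comm (M M' : Submodule A V) : dist M M' = - dist M' M := by
  unfold dist
  rw [inf_comm M' M]; ring


theorem dist_eq_of_le (hA : ringKrullDim A = 1) (M M' N : Submodule A V)
    [Submodule.IsLattice K M] [Submodule.IsLattice K M'] [Submodule.IsLattice K N]
    (h1 : N ≤ M) (h2 : N ≤ M') :
    dist M M' = ((ql M N).toNat : ℤ) - ((ql M' N).toNat : ℤ) := by
  unfold dist
  haveI := isLattice_inf (K := K) M M'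
  have hle : N ≤ M ⊓ M' := le_inf h1 h2
  have e1 := ql_add hle (inf_le_left : M ⊓ M' ≤ M)
  have e2 := ql_add hle (inf_le_right : M ⊓ M' ≤ M')
  have f1 := (ql_lt_top (K := K) hA M (M ⊓ M')).ne
  have f2 := (ql_lt_top (K := K) hA M' (M ⊓ M')).ne
  have f3 := (ql_lt_top (K := K) hA (M ⊓ M') N).ne
  rw [e1, e2, ENat.toNat_add f1 f3, ENat.toNat_add f2 f3]
  push_cast
  ring

/-- additivity of the distance -/
theorem dist_add (hA : ringKrullDim A = 1) (M₁ M₂ M₃ : Submodule A V)
    [Submodule.IsLattice K M₁] [Submodule.IsLattice K M₂] [Submodule.IsLattice K M₃] :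
    dist M₁ M₃ = dist M₁ M₂ + dist M₂ M₃ := by
  have h1 : M₁ ⊓ M₂ ⊓ M₃ ≤ M₁ := inf_le_left.trans inf_le_left
  have h2 : M₁ ⊓ M₂ ⊓ M₃ ≤ M₂ := inf_le_left.trans inf_le_right
  have h3 : M₁ ⊓ M₂ ⊓ M₃ ≤ M₃ := inf_le_right
  haveI := isLattice_inf (K := K) M₁ M₂
  haveI := isLattice_inf (K := K) (M₁ ⊓ M₂) M₃
  rw [dist_eq_of_le (K := K) hA M₁ M₃ (M₁ ⊓ M₂ ⊓ M₃) h1 h3,
    dist_eq_of_le (K := K) hA M₁ M₂ (M₁ ⊓ M₂ ⊓ M₃) h1 h2,
    dist_eq_of_le (K := K) hA M₂ M₃ (M₁ ⊓ M₂ ⊓ M₃) h2 h3]
  ring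

omit [IsDomain A] [IsNoetherianRing A] [IsFractionRing A K] in
theorem dist_map {V' : Type u} [AddCommGroup V'] [Module A V'] (θ : V →ₗ[A] V')
    (hθ : Function.Injective θ) (M M' : Submodule A V) :
    dist (M.map θ) (M'.map θ) = dist M M' := by
  unfold dist
  rw [← Submodule.map_inf θ hθ, ql_map θ hθ, ql_map θ hθ]

end lat

end Groth.Agent.Lib.Helper29.Lattice
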