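import Groth.Agent.Lib.Helper29.LatticeB

set_option autoImplicit false

namespace Groth.Agent.Lib.Helper29.Lattice

universe u

section E

variable {A : Type u} [CommRing A] [IsDomain A] [IsNoetherianRing A]
  {K : Type u} [Field K] [Algebra A K] [IsFractionRing A K]
  {V : Type u} [AddCommGroup V] [Module K V] [Module A V] [IsScalarTower A K V]

/-- image of an `A`-submodule under a `K`-linear map -/
abbrev imL (f : V →ₗ[K] V) (M : Submodule A V) : Submodule A V := M.map (f.restrictScalars A)

omit [IsDomain A] [IsNoetherianRing A] [IsFractionRing A K] in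
theorem isLattice_imL (f : V →ₗ[K] V) (hf : Function.Surjective f) (M : Submodule A V)
    [Submodule.IsLattice K M] : Submodule.IsLattice K (imL f M) where
  fg := Submodule.FG.map _ Submodule.IsLattice.fg
  span_eq_top := by
    have : ((imL f M : Submodule A V) : Set V) = f '' (M : Set V) := rfl
    rw [this, Submodule.span_image, Submodule.IsLattice.span_eq_top, Submodule.map_top,
      LinearMap.range_eq_top.mpr hf]

omit [IsDomain A] [IsNoetherianRing A] [IsFractionRing A K] in
theorem imL_comp (f g : V →ₗ[K] V) (M : Submodule A V) : imL (f ∘ₗ g) M = imL f (imL g M) := by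
  unfold imL
  rw [← Submodule.map_comp]
  rfl

/-- the `dist M (f M)` is independent of the lattice -/
theorem dist_imL_indep (hA : ringKrullDim A = 1) (f : V →ₗ[K] V) (hf : Function.Bijective f)
    (M M' : Submodule A V) [Submodule.IsLattice K M] [Submodule.IsLattice K M'] :
    dist M (imL f M) = dist M' (imL f M') := by
  haveI := isLattice_imL f hf.2 M
  haveI := isLattice_imL f hf.2 M'
  have h1 := dist_add (K := K) hA M M' (imL f M)
  have h2 := dist_add (K := K) hA M' (imL f M') (imL f M)
  have h3 : dist (imL f M') (imL f M) = dist M' M :=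
    dist_map (f.restrictScalars A) hf.1 M' M
  rw [h1, h2, h3, dist_comm M' M]
  ring

theorem dist_imL_comp (hA : ringKrullDim A = 1) (f g : V →ₗ[K] V) (hf : Function.Bijective f)
    (hg : Function.Bijective g) (M : Submodule A V) [Submodule.IsLattice K M] :
    dist M (imL (f ∘ₗ g) M) = dist M (imL f M) + dist M (imL g M) := by
  haveI := isLattice_imL f hf.2 M
  haveI := isLattice_imL g hg.2 M
  haveI := isLattice_imL f hf.2 (imL g M)
  rw [imL_comp, dist_add (K := K) hA M (imL f M) (imL f (imL g M))]
  congr 1
  exact dist_map (f.restrictScalars A) hf.1 M (imL g M)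

omit [IsDomain A] [IsNoetherianRing A] [IsFractionRing A K] in
theorem bijective_of_sq_zero (ν : V →ₗ[K] V) (hν : ν ∘ₗ ν = 0) :
    Function.Bijective (LinearMap.id + ν : V →ₗ[K] V) := by
  have hνν : ∀ x, ν (ν x) = 0 := fun x => by
    have := LinearMap.congr_fun hν x
    simpa using this
  constructor
  · intro x y hxy
    simp only [LinearMap.add_apply, LinearMap.id_coe, id_eq] at hxy
    have h1 : ν x = ν y := by
      have := congrArg ν hxy
      simpa [map_add, hνν] using this
    rw [h1] at hxy
    exact add_right_cancel hxy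
  · intro y
    refine ⟨y - ν y, ?_⟩
    simp [map_sub, hνν]

theorem dist_imL_of_sq_zero (hA : ringKrullDim A = 1) (ν : V →ₗ[K] V) (hν : ν ∘ₗ ν = 0)
    (M : Submodule A V) [Submodule.IsLattice K M] :
    dist M (imL (LinearMap.id + ν) M) = 0 := by
  have hνν : ∀ x, ν (ν x) = 0 := fun x => by
    have := LinearMap.congr_fun hν x
    simpa using this
  have hbij := bijective_of_sq_zero ν hν
  -- an adapted lattice
  set M' : Submodule A V := M ⊔ imL ν M with hM'
  haveI : Submodule.IsLattice K M' :=
    Submodule.IsLattice.of_le_of_isLattice_of_fg K (M := M) le_sup_left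
      (Submodule.FG.sup Submodule.IsLattice.fg (Submodule.FG.map _ Submodule.IsLattice.fg))
  rw [dist_imL_indep hA _ hbij M M']
  have hνM' : ∀ x ∈ M', ν x ∈ M' := by
    intro x hx
    rw [hM', Submodule.mem_sup] at hx
    obtain ⟨y, hy, z, hz, rfl⟩ := hx
    obtain ⟨w, hw, rfl⟩ := hz
    rw [map_add]
    have : ν ((ν.restrictScalars A) w) = 0 := hνν w
    rw [this, add_zero]
    exact Submodule.mem_sup_right ⟨y, hy, rfl⟩
  have heq : imL (LinearMap.id + ν) M' = M' := by
    apply le_antisymm
    · rintro _ ⟨x, hx, rfl⟩
      exact M'.add_mem hx (hνM' x hx)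
    · intro x hx
      refine ⟨x - ν x, M'.sub_mem hx (hνM' x hx), ?_⟩
      simp [map_sub, hνν]
  rw [heq, dist_self]

end E

end Groth.Agent.Lib.Helper29.Lattice
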