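import Mathlib

/-!
# Laurent-type group algebras: units over a domain are monomials; coefficient ideals
-/

set_option autoImplicit false

namespace Groth.Agent.Lib.Helper29.LaurA

open AddMonoidAlgebra

variable {R G H : Type*}

theorem exists_single_of_mul_eq_one [CommRing R] [IsDomain R] [AddMonoid G] [TwoUniqueSums G]
    (f g : AddMonoidAlgebra R G) (h : f * g = 1) : ∃ m u, u ≠ 0 ∧ f = single m u := by
  classical
  have hf : f ≠ 0 := by
    rintro rfl
    rw [zero_mul] at h
    have := congrArg (fun x => x.coeff 0) h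
    simp [one_def] at this
  have hg : g ≠ 0 := by
    rintro rfl
    rw [mul_zero] at h
    have := congrArg (fun x => x.coeff 0) h
    simp [one_def] at this
  have hfs : f.coeff.support.Nonempty := by
    rw [Finsupp.support_nonempty_iff]
    intro h0
    exact hf (coeff_injective (by simpa using h0))
  have hgs : g.coeff.support.Nonempty := by
    rw [Finsupp.support_nonempty_iff]
    intro h0
    exact hg (coeff_injective (by simpa using h0))
  by_cases hc : 1 < f.coeff.support.card * g.coeff.support.card
  · exfalso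
    obtain ⟨p1, h1, p2, h2, hne, hu1, hu2⟩ := TwoUniqueSums.uniqueAdd_of_one_lt_card hc
    have e1 := coeff_mul_add_of_uniqueAdd hu1
    have e2 := coeff_mul_add_of_uniqueAdd hu2
    rw [h] at e1 e2
    rw [Finset.mem_product] at h1 h2
    have n1 : f.coeff p1.1 * g.coeff p1.2 ≠ 0 :=
      mul_ne_zero (Finsupp.mem_support_iff.mp h1.1) (Finsupp.mem_support_iff.mp h1.2)
    have n2 : f.coeff p2.1 * g.coeff p2.2 ≠ 0 :=
      mul_ne_zero (Finsupp.mem_support_iff.mp h2.1) (Finsupp.mem_support_iff.mp h2.2)
    rw [← e1] at n1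
    rw [← e2] at n2
    have z1 : p1.1 + p1.2 = 0 := by
      by_contra hz
      apply n1
      simp [one_def, Finsupp.single_apply, Ne.symm hz]
    have z2 : p2.1 + p2.2 = 0 := by
      by_contra hz
      apply n2
      simp [one_def, Finsupp.single_apply, Ne.symm hz]
    have := hu1 h2.1 h2.2 (z2.trans z1.symm)
    exact hne (Prod.ext this.1.symm this.2.symm)
  · have hf1 : f.coeff.support.card = 1 := by
      have h1 : 0 < f.coeff.support.card := Finset.card_pos.mpr hfs
      have h2 : 0 < g.coeff.support.card := Finset.card_pos.mpr hgs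
      rw [not_lt] at hc
      nlinarith
    obtain ⟨a, ha⟩ := Finset.card_eq_one.mp hf1
    rw [Finsupp.support_eq_singleton] at ha
    refine ⟨a, f.coeff a, ha.1, ?_⟩
    apply coeff_injective
    rw [coeff_single]
    exact ha.2

section Coeff

variable [CommRing R] [AddMonoid G] [AddMonoid H]

/-- all coefficients lie in the ideal `J` -/
def InI (J : Ideal R) (f : AddMonoidAlgebra R G) : Prop := ∀ m, f.coeff m ∈ J

theorem InI.zero (J : Ideal R) : InI J (0 : AddMonoidAlgebra R G) := fun m => by simp

theorem InI.add {J : Ideal R} {f g : AddMonoidAlgebra R G} (hf : InI J f) (hg : InI J g) :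
    InI J (f + g) := fun m => by
  rw [coeff_add, Finsupp.add_apply]; exact J.add_mem (hf m) (hg m)

theorem InI.neg {J : Ideal R} {f : AddMonoidAlgebra R G} (hf : InI J f) :
    InI J (-f) := fun m => by
  rw [coeff_neg, Finsupp.neg_apply]; exact J.neg_mem (hf m)

theorem InI.sub {J : Ideal R} {f g : AddMonoidAlgebra R G} (hf : InI J f) (hg : InI J g) :
    InI J (f - g) := fun m => by
  rw [coeff_sub, Finsupp.sub_apply]; exact J.sub_mem (hf m) (hg m)

theorem InI.mono {J K : Ideal R} (h : J ≤ K) {f : AddMonoidAlgebra R G} (hf : InI J f) :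
    InI K f := fun m => h (hf m)

theorem InI.mul {J K : Ideal R} {f g : AddMonoidAlgebra R G} (hf : InI J f) (hg : InI K g) :
    InI (J * K) (f * g) := fun m => by
  classical
  rw [coeff_mul]
  refine Ideal.sum_mem _ fun a _ => Ideal.sum_mem _ fun b _ => ?_
  beta_reduce
  split_ifs
  · exact Ideal.mul_mem_mul (hf a) (hg b)
  · exact Ideal.zero_mem _

theorem InI.mul_right {J : Ideal R} {f : AddMonoidAlgebra R G} (hf : InI J f)
    (g : AddMonoidAlgebra R G) : InI J (f * g) := by
  have : InI (J * ⊤) (f * g) := hf.mul (fun m => Submodule.mem_top)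
  exact this.mono (by rw [Ideal.mul_top])

theorem InI.pow {J : Ideal R} {f : AddMonoidAlgebra R G} (hf : InI J f) :
    ∀ n : ℕ, 0 < n → InI (J ^ n) (f ^ n) := by
  intro n hn
  induction n with
  | zero => omega
  | succ n ih =>
    rcases Nat.eq_zero_or_pos n with rfl | hn'
    · simpa using hf
    · rw [pow_succ, pow_succ]
      exact (ih hn').mul hf

theorem InI.mapDomain {J : Ideal R} {f : AddMonoidAlgebra R G} (hf : InI J f) (φ : G → H) :
    InI J (AddMonoidAlgebra.mapDomain φ f) := fun m => by
  classical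
  rw [AddMonoidAlgebra.coeff_mapDomain, Finsupp.mapDomain, Finsupp.sum_apply]
  refine Ideal.sum_mem _ fun a _ => ?_
  beta_reduce
  rw [Finsupp.single_apply]
  split_ifs
  · exact hf a
  · exact Ideal.zero_mem _

theorem inI_bot_iff {f : AddMonoidAlgebra R G} : InI ⊥ f ↔ f = 0 := by
  constructor
  · intro h
    apply coeff_injective
    ext m
    simpa using h m
  · rintro rfl
    exact InI.zero _

theorem isNilpotent_of_inI {J : Ideal R} {n : ℕ} (hJ : J ^ n = ⊥) {f : AddMonoidAlgebra R G}
    (hf : InI J f) : IsNilpotent f := by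
  rcases Nat.eq_zero_or_pos n with rfl | hn
  · rw [pow_zero, Ideal.one_eq_top] at hJ
    have : Subsingleton R := by
      refine ⟨fun a b => ?_⟩
      have ha : a ∈ (⊥ : Ideal R) := hJ ▸ Submodule.mem_top
      have hb : b ∈ (⊥ : Ideal R) := hJ ▸ Submodule.mem_top
      rw [Ideal.mem_bot] at ha hb
      rw [ha, hb]
    exact ⟨1, Subsingleton.elim _ _⟩
  · refine ⟨n, ?_⟩
    have := hf.pow n hn
    rw [hJ] at this
    exact inI_bot_iff.mp this

end Coeff

end Groth.Agent.Lib.Helper29.LaurA
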