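import Mathlib
import Groth.Agent.Lib.Helper29.LaurA

/-!
# The Laurent cosimplicial maps in low degree
-/

set_option autoImplicit false

namespace Groth.Agent.Lib.Helper29.LaurB

open AddMonoidAlgebra

abbrev D0 : (Fin 2 → ℤ) →+ (Fin 3 → ℤ) :=
  (Matrix.mulVecLin (!![0, 0; 1, 0; 0, 1] : Matrix (Fin 3) (Fin 2) ℤ)).toAddMonoidHom
abbrev D1 : (Fin 2 → ℤ) →+ (Fin 3 → ℤ) :=
  (Matrix.mulVecLin (!![1, 0; 1, 0; 0, 1] : Matrix (Fin 3) (Fin 2) ℤ)).toAddMonoidHom
abbrev D2 : (Fin 2 → ℤ) →+ (Fin 3 → ℤ) :=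
  (Matrix.mulVecLin (!![1, 0; 0, 1; 0, 1] : Matrix (Fin 3) (Fin 2) ℤ)).toAddMonoidHom
abbrev D3 : (Fin 2 → ℤ) →+ (Fin 3 → ℤ) :=
  (Matrix.mulVecLin (!![1, 0; 0, 1; 0, 0] : Matrix (Fin 3) (Fin 2) ℤ)).toAddMonoidHom
abbrev d0 : (Fin 1 → ℤ) →+ (Fin 2 → ℤ) :=
  (Matrix.mulVecLin (!![0; 1] : Matrix (Fin 2) (Fin 1) ℤ)).toAddMonoidHom
abbrev d1 : (Fin 1 → ℤ) →+ (Fin 2 → ℤ) :=
  (Matrix.mulVecLin (!![1; 1] : Matrix (Fin 2) (Fin 1) ℤ)).toAddMonoidHom
abbrev d2 : (Fin 1 → ℤ) →+ (Fin 2 → ℤ) :=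
  (Matrix.mulVecLin (!![1; 0] : Matrix (Fin 2) (Fin 1) ℤ)).toAddMonoidHom

theorem D0_apply (v : Fin 2 → ℤ) : D0 v = ![0, v 0, v 1] := by
  ext i; fin_cases i <;> simp [Matrix.mulVec, dotProduct, Fin.sum_univ_two]
theorem D1_apply (v : Fin 2 → ℤ) : D1 v = ![v 0, v 0, v 1] := by
  ext i; fin_cases i <;> simp [Matrix.mulVec, dotProduct, Fin.sum_univ_two]
theorem D2_apply (v : Fin 2 → ℤ) : D2 v = ![v 0, v 1, v 1] := by
  ext i; fin_cases i <;> simp [Matrix.mulVec, dotProduct, Fin.sum_univ_two]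
theorem D3_apply (v : Fin 2 → ℤ) : D3 v = ![v 0, v 1, 0] := by
  ext i; fin_cases i <;> simp [Matrix.mulVec, dotProduct, Fin.sum_univ_two]
theorem d0_apply (v : Fin 1 → ℤ) : d0 v = ![0, v 0] := by
  ext i; fin_cases i <;> simp [Matrix.mulVec, dotProduct]
theorem d1_apply (v : Fin 1 → ℤ) : d1 v = ![v 0, v 0] := by
  ext i; fin_cases i <;> simp [Matrix.mulVec, dotProduct]
theorem d2_apply (v : Fin 1 → ℤ) : d2 v = ![v 0, 0] := by
  ext i; fin_cases i <;> simp [Matrix.mulVec, dotProduct]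

theorem eta1 (v : Fin 1 → ℤ) : v = ![v 0] := by
  funext i; fin_cases i; rfl
theorem eta2 (v : Fin 2 → ℤ) : v = ![v 0, v 1] := by
  funext i; fin_cases i <;> rfl
theorem eta3 (v : Fin 3 → ℤ) : v = ![v 0, v 1, v 2] := by
  funext i; fin_cases i <;> rfl

theorem D0_inj : Function.Injective D0 := by
  intro v w h
  rw [D0_apply, D0_apply] at h
  have h1 := congrFun h 1
  have h2 := congrFun h 2
  simp at h1 h2
  rw [eta2 v, eta2 w, h1, h2]
theorem D1_inj : Function.Injective D1 := by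
  intro v w h
  rw [D1_apply, D1_apply] at h
  have h1 := congrFun h 1
  have h2 := congrFun h 2
  simp at h1 h2
  rw [eta2 v, eta2 w, h1, h2]
theorem D2_inj : Function.Injective D2 := by
  intro v w h
  rw [D2_apply, D2_apply] at h
  have h1 := congrFun h 0
  have h2 := congrFun h 2
  simp at h1 h2
  rw [eta2 v, eta2 w, h1, h2]
theorem D3_inj : Function.Injective D3 := by
  intro v w h
  rw [D3_apply, D3_apply] at h
  have h1 := congrFun h 0
  have h2 := congrFun h 1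
  simp at h1 h2
  rw [eta2 v, eta2 w, h1, h2]
theorem d0_inj : Function.Injective d0 := by
  intro v w h
  rw [d0_apply, d0_apply] at h
  have h1 := congrFun h 1
  simp at h1
  rw [eta1 v, eta1 w, h1]
theorem d1_inj : Function.Injective d1 := by
  intro v w h
  rw [d1_apply, d1_apply] at h
  have h1 := congrFun h 1
  simp at h1
  rw [eta1 v, eta1 w, h1]
theorem d2_inj : Function.Injective d2 := by
  intro v w h
  rw [d2_apply, d2_apply] at h
  have h1 := congrFun h 0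
  simp at h1
  rw [eta1 v, eta1 w, h1]

/-! ### cosimplicial identities -/

theorem D1_d0 : D1.comp d0 = D0.comp d0 := by
  ext v i
  simp only [AddMonoidHom.comp_apply]
  rw [D1_apply, D0_apply, d0_apply]
  fin_cases i <;> simp
theorem D2_d0 : D2.comp d0 = D0.comp d1 := by
  ext v i
  simp only [AddMonoidHom.comp_apply]
  rw [D2_apply, D0_apply, d0_apply, d1_apply]
  fin_cases i <;> simp
theorem D3_d0 : D3.comp d0 = D0.comp d2 := by
  ext v i
  simp only [AddMonoidHom.comp_apply]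
  rw [D3_apply, D0_apply, d0_apply, d2_apply]
  fin_cases i <;> simp
theorem D2_d1 : D2.comp d1 = D1.comp d1 := by
  ext v i
  simp only [AddMonoidHom.comp_apply]
  rw [D2_apply, D1_apply, d1_apply]
  fin_cases i <;> simp
theorem D3_d1 : D3.comp d1 = D1.comp d2 := by
  ext v i
  simp only [AddMonoidHom.comp_apply]
  rw [D3_apply, D1_apply, d1_apply, d2_apply]
  fin_cases i <;> simp
theorem D3_d2 : D3.comp d2 = D2.comp d2 := by
  ext v i
  simp only [AddMonoidHom.comp_apply]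
  rw [D3_apply, D2_apply, d2_apply]
  fin_cases i <;> simp

/-! ### coefficients of pushforwards -/

section Coeff

variable {A : Type*} [CommRing A]

theorem coeff_mapDomain_of_eq {G H : Type*} {φ : G → H} (hφ : Function.Injective φ)
    (x : AddMonoidAlgebra A G) (w : H) (v : G) (h : φ v = w) :
    (AddMonoidAlgebra.mapDomain φ x).coeff w = x.coeff v := by
  rw [AddMonoidAlgebra.coeff_mapDomain, ← h, Finsupp.mapDomain_apply hφ]

theorem coeff_mapDomain_of_notin {G H : Type*} {φ : G → H}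
    (x : AddMonoidAlgebra A G) (w : H) (h : ∀ v, φ v ≠ w) :
    (AddMonoidAlgebra.mapDomain φ x).coeff w = 0 := by
  rw [AddMonoidAlgebra.coeff_mapDomain]
  apply Finsupp.mapDomain_notin_range
  rintro ⟨v, hv⟩
  exact h v hv

theorem cD0 (x : AddMonoidAlgebra A (Fin 2 → ℤ)) (w : Fin 3 → ℤ) :
    (AddMonoidAlgebra.mapDomain D0 x).coeff w = if w 0 = 0 then x.coeff ![w 1, w 2] else 0 := by
  split_ifs with h
  · apply coeff_mapDomain_of_eq D0_inj
    rw [D0_apply, eta3 w]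
    simp [h]
  · apply coeff_mapDomain_of_notin
    intro v hv
    rw [D0_apply] at hv
    apply h
    rw [← hv]; simp

theorem cD1 (x : AddMonoidAlgebra A (Fin 2 → ℤ)) (w : Fin 3 → ℤ) :
    (AddMonoidAlgebra.mapDomain D1 x).coeff w = if w 0 = w 1 then x.coeff ![w 0, w 2] else 0 := by
  split_ifs with h
  · apply coeff_mapDomain_of_eq D1_inj
    rw [D1_apply]
    conv_rhs => rw [eta3 w]
    simp [h]
  · apply coeff_mapDomain_of_notin
    intro v hv
    rw [D1_apply] at hv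
    apply h
    rw [← hv]; simp

theorem cD2 (x : AddMonoidAlgebra A (Fin 2 → ℤ)) (w : Fin 3 → ℤ) :
    (AddMonoidAlgebra.mapDomain D2 x).coeff w = if w 1 = w 2 then x.coeff ![w 0, w 1] else 0 := by
  split_ifs with h
  · apply coeff_mapDomain_of_eq D2_inj
    rw [D2_apply]
    conv_rhs => rw [eta3 w]
    simp [h]
  · apply coeff_mapDomain_of_notin
    intro v hv
    rw [D2_apply] at hv
    apply h
    rw [← hv]; simp

theorem cD3 (x : AddMonoidAlgebra A (Fin 2 → ℤ)) (w : Fin 3 → ℤ) :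
    (AddMonoidAlgebra.mapDomain D3 x).coeff w = if w 2 = 0 then x.coeff ![w 0, w 1] else 0 := by
  split_ifs with h
  · apply coeff_mapDomain_of_eq D3_inj
    rw [D3_apply]
    conv_rhs => rw [eta3 w]
    simp [h]
  · apply coeff_mapDomain_of_notin
    intro v hv
    rw [D3_apply] at hv
    apply h
    rw [← hv]; simp

theorem cd0 (y : AddMonoidAlgebra A (Fin 1 → ℤ)) (v : Fin 2 → ℤ) :
    (AddMonoidAlgebra.mapDomain d0 y).coeff v = if v 0 = 0 then y.coeff ![v 1] else 0 := by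
  split_ifs with h
  · apply coeff_mapDomain_of_eq d0_inj
    rw [d0_apply]
    conv_rhs => rw [eta2 v]
    simp [h]
  · apply coeff_mapDomain_of_notin
    intro u hu
    rw [d0_apply] at hu
    apply h
    rw [← hu]; simp

theorem cd1 (y : AddMonoidAlgebra A (Fin 1 → ℤ)) (v : Fin 2 → ℤ) :
    (AddMonoidAlgebra.mapDomain d1 y).coeff v = if v 0 = v 1 then y.coeff ![v 0] else 0 := by
  split_ifs with h
  · apply coeff_mapDomain_of_eq d1_inj
    rw [d1_apply]
    conv_rhs => rw [eta2 v]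
    simp [h]
  · apply coeff_mapDomain_of_notin
    intro u hu
    rw [d1_apply] at hu
    apply h
    rw [← hu]; simp

theorem cd2 (y : AddMonoidAlgebra A (Fin 1 → ℤ)) (v : Fin 2 → ℤ) :
    (AddMonoidAlgebra.mapDomain d2 y).coeff v = if v 1 = 0 then y.coeff ![v 0] else 0 := by
  split_ifs with h
  · apply coeff_mapDomain_of_eq d2_inj
    rw [d2_apply]
    conv_rhs => rw [eta2 v]
    simp [h]
  · apply coeff_mapDomain_of_notin
    intro u hu
    rw [d2_apply] at hu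
    apply h
    rw [← hu]; simp

end Coeff

/-! ### unit group homomorphisms -/

section Units

variable (A : Type*) [CommRing A]

/-- the map on units induced by an additive map of exponent groups -/
noncomputable abbrev U {G H : Type*} [AddMonoid G] [AddMonoid H] (φ : G →+ H) :
    (AddMonoidAlgebra A G)ˣ →* (AddMonoidAlgebra A H)ˣ :=
  Units.map (AddMonoidAlgebra.mapDomainRingHom A φ).toMonoidHom

variable {A}

theorem U_coe {G H : Type*} [AddMonoid G] [AddMonoid H] (φ : G →+ H)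
    (ξ : (AddMonoidAlgebra A G)ˣ) :
    ((U A φ ξ : (AddMonoidAlgebra A H)ˣ) : AddMonoidAlgebra A H) =
      AddMonoidAlgebra.mapDomain φ (ξ : AddMonoidAlgebra A G) := rfl

theorem U_U {G H K : Type*} [AddMonoid G] [AddMonoid H] [AddMonoid K] (φ : H →+ K) (ψ : G →+ H)
    (ξ : (AddMonoidAlgebra A G)ˣ) : U A φ (U A ψ ξ) = U A (φ.comp ψ) ξ := by
  apply Units.ext
  rw [U_coe, U_coe, U_coe]
  have := congrArg (fun f => f (ξ : AddMonoidAlgebra A G))
    (AddMonoidAlgebra.mapDomainRingHom_comp (R := A) φ ψ)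
  exact this.symm

variable (A)

/-- the 2-cocycle map -/
noncomputable def Z : (AddMonoidAlgebra A (Fin 2 → ℤ))ˣ →* (AddMonoidAlgebra A (Fin 3 → ℤ))ˣ :=
  U A D0 * (U A D1)⁻¹ * U A D2 * (U A D3)⁻¹

/-- the 1-coboundary map -/
noncomputable def bd : (AddMonoidAlgebra A (Fin 1 → ℤ))ˣ →* (AddMonoidAlgebra A (Fin 2 → ℤ))ˣ :=
  U A d0 * (U A d1)⁻¹ * U A d2

variable {A}

theorem Z_apply (ξ : (AddMonoidAlgebra A (Fin 2 → ℤ))ˣ) :
    Z A ξ = U A D0 ξ * (U A D1 ξ)⁻¹ * U A D2 ξ * (U A D3 ξ)⁻¹ := rfl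

theorem bd_apply (η : (AddMonoidAlgebra A (Fin 1 → ℤ))ˣ) :
    bd A η = U A d0 η * (U A d1 η)⁻¹ * U A d2 η := rfl

theorem add_identity {M : Type*} [AddCommGroup M] (a b c d e f : M) :
    (a + -b + c) + -(a + -d + e) + (b + -d + f) + -(c + -e + f) = 0 := by abel

theorem mul_identity {M : Type*} [CommGroup M] (a b c d e f : M) :
    (a * b⁻¹ * c) * (a * d⁻¹ * e)⁻¹ * (b * d⁻¹ * f) * (c * e⁻¹ * f)⁻¹ = 1 :=
  add_identity (M := Additive M) a b c d e f

theorem Z_bd (η : (AddMonoidAlgebra A (Fin 1 → ℤ))ˣ) : Z A (bd A η) = 1 := by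
  rw [Z_apply, bd_apply]
  simp only [map_mul, map_inv, U_U]
  rw [D1_d0, D2_d0, D3_d0, D2_d1, D3_d1, D3_d2]
  exact mul_identity _ _ _ _ _ _

end Units

end Groth.Agent.Lib.Helper29.LaurB
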