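import Mathlib
import Groth.Agent.Lib.Helper29.LaurA
import Groth.Agent.Lib.Helper29.LaurB

/-!
# H² of the units of the Laurent cosimplicial ring vanishes
-/

set_option autoImplicit false

namespace Groth.Agent.Lib.Helper29.LaurC

open AddMonoidAlgebra
open Groth.Agent.Lib.Helper29.LaurA Groth.Agent.Lib.Helper29.LaurB

variable {A : Type*} [CommRing A]

/-- element-level cocycle condition -/
def Coc (x : AddMonoidAlgebra A (Fin 2 → ℤ)) : Prop :=
  AddMonoidAlgebra.mapDomain D0 x * AddMonoidAlgebra.mapDomain D2 x =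
    AddMonoidAlgebra.mapDomain D1 x * AddMonoidAlgebra.mapDomain D3 x

theorem add_identity2 {M : Type*} [AddCommGroup M] (a b c d : M) :
    a + c = (a + -b + c + -d) + (b + d) := by abel

theorem mul_identity2 {M : Type*} [CommGroup M] (a b c d : M) :
    a * c = (a * b⁻¹ * c * d⁻¹) * (b * d) :=
  add_identity2 (M := Additive M) a b c d

theorem coc_of_Z (ξ : (AddMonoidAlgebra A (Fin 2 → ℤ))ˣ) (h : Z A ξ = 1) :
    Coc (ξ : AddMonoidAlgebra A (Fin 2 → ℤ)) := by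
  rw [Z_apply] at h
  have h2 : U A D0 ξ * U A D2 ξ = U A D1 ξ * U A D3 ξ := by
    rw [mul_identity2 (U A D0 ξ) (U A D1 ξ) (U A D2 ξ) (U A D3 ξ), h, one_mul]
  have := congrArg Units.val h2
  rw [Units.val_mul, Units.val_mul, U_coe, U_coe, U_coe, U_coe] at this
  exact this

theorem coeff_mem_prime (x x' : AddMonoidAlgebra A (Fin 2 → ℤ)) (hx : x * x' = 1) (hc : Coc x)
    (p : Ideal A) [p.IsPrime] :
    (∀ v, v ≠ 0 → x.coeff v ∈ p) ∧ x.coeff 0 ∉ p := by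
  let q := Ideal.Quotient.mk p
  let Φ2 := AddMonoidAlgebra.mapRingHom (Fin 2 → ℤ) q
  let Φ3 := AddMonoidAlgebra.mapRingHom (Fin 3 → ℤ) q
  have hnat : ∀ (φ : (Fin 2 → ℤ) →+ (Fin 3 → ℤ)) (z : AddMonoidAlgebra A (Fin 2 → ℤ)),
      Φ3 (AddMonoidAlgebra.mapDomain φ z) = AddMonoidAlgebra.mapDomain φ (Φ2 z) := by
    intro φ z
    exact RingHom.congr_fun (AddMonoidAlgebra.mapRingHom_comp_mapDomainRingHom q φ) z
  have hX : Φ2 x * Φ2 x' = 1 := by rw [← map_mul, hx, map_one]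
  obtain ⟨m, u, hu, hm⟩ := exists_single_of_mul_eq_one _ _ hX
  have hc' : AddMonoidAlgebra.mapDomain D0 (Φ2 x) * AddMonoidAlgebra.mapDomain D2 (Φ2 x) =
      AddMonoidAlgebra.mapDomain D1 (Φ2 x) * AddMonoidAlgebra.mapDomain D3 (Φ2 x) := by
    rw [← hnat, ← hnat, ← hnat, ← hnat, ← map_mul, ← map_mul]
    exact congrArg Φ3 hc
  rw [hm] at hc'
  simp only [AddMonoidAlgebra.mapDomain_single, AddMonoidAlgebra.single_mul_single] at hc'
  have huu : u * u ≠ 0 := mul_ne_zero hu hu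
  rw [AddMonoidAlgebra.single_left_inj huu] at hc'
  have hm0 : m = 0 := by
    rw [D0_apply, D1_apply, D2_apply, D3_apply] at hc'
    have h0 := congrFun hc' 0
    have h2 := congrFun hc' 2
    simp at h0 h2
    funext i
    fin_cases i
    · simpa using h0
    · simpa using h2
  subst hm0
  constructor
  · intro v hv
    rw [← Ideal.Quotient.eq_zero_iff_mem]
    have : (Φ2 x).coeff v = q (x.coeff v) := AddMonoidAlgebra.coeff_mapRingHom q x v
    change q (x.coeff v) = 0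
    rw [← this, hm, AddMonoidAlgebra.coeff_single, Finsupp.single_apply, if_neg (Ne.symm hv)]
  · intro h0
    rw [← Ideal.Quotient.eq_zero_iff_mem] at h0
    have : (Φ2 x).coeff 0 = q (x.coeff 0) := AddMonoidAlgebra.coeff_mapRingHom q x 0
    change q (x.coeff 0) = 0 at h0
    rw [h0, hm, AddMonoidAlgebra.coeff_single, Finsupp.single_apply, if_pos rfl] at this
    exact hu this

theorem isUnit_and_isNilpotent (x x' : AddMonoidAlgebra A (Fin 2 → ℤ)) (hx : x * x' = 1)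
    (hc : Coc x) : IsUnit (x.coeff 0) ∧ ∀ v, v ≠ 0 → x.coeff v ∈ nilradical A := by
  constructor
  · by_contra hnu
    obtain ⟨M, hM, hmem⟩ := exists_max_ideal_of_mem_nonunits (show x.coeff 0 ∈ nonunits A from hnu)
    haveI := hM.isPrime
    exact (coeff_mem_prime x x' hx hc M).2 hmem
  · intro v hv
    rw [nilradical_eq_sInf, Ideal.mem_sInf]
    intro p hp
    haveI : p.IsPrime := hp
    exact (coeff_mem_prime x x' hx hc p).1 v hv

/-! ### the inductive step -/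

theorem step (I : Ideal A) (n : ℕ) (hI : I ^ n = ⊥)
    (ξ : (AddMonoidAlgebra A (Fin 2 → ℤ))ˣ) (hZ : Z A ξ = 1)
    (hξ : InI I ((ξ : AddMonoidAlgebra A (Fin 2 → ℤ)) - 1)) :
    ∃ η : (AddMonoidAlgebra A (Fin 1 → ℤ))ˣ,
      InI (I ^ 2) (((ξ * (bd A η)⁻¹ : (AddMonoidAlgebra A (Fin 2 → ℤ))ˣ) :
        AddMonoidAlgebra A (Fin 2 → ℤ)) - 1) := by
  obtain ⟨x, hxdef⟩ : ∃ x : AddMonoidAlgebra A (Fin 2 → ℤ),
      x = (ξ : AddMonoidAlgebra A (Fin 2 → ℤ)) - 1 := ⟨_, rfl⟩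
  have e : (ξ : AddMonoidAlgebra A (Fin 2 → ℤ)) = 1 + x := by rw [hxdef]; ring
  have hx : InI I x := hxdef ▸ hξ
  have hc := coc_of_Z ξ hZ
  have hD : ∀ φ : (Fin 2 → ℤ) →+ (Fin 3 → ℤ),
      AddMonoidAlgebra.mapDomain φ (ξ : AddMonoidAlgebra A (Fin 2 → ℤ)) =
        1 + AddMonoidAlgebra.mapDomain φ x := by
    intro φ
    have := map_add (AddMonoidAlgebra.mapDomainRingHom A φ) 1 x
    rw [map_one, ← e] at this
    exact this
  unfold Coc at hc
  rw [hD, hD, hD, hD] at hc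
  have hE : InI (I ^ 2) (AddMonoidAlgebra.mapDomain D0 x - AddMonoidAlgebra.mapDomain D1 x +
      AddMonoidAlgebra.mapDomain D2 x - AddMonoidAlgebra.mapDomain D3 x) := by
    have : AddMonoidAlgebra.mapDomain D0 x - AddMonoidAlgebra.mapDomain D1 x +
      AddMonoidAlgebra.mapDomain D2 x - AddMonoidAlgebra.mapDomain D3 x =
        AddMonoidAlgebra.mapDomain D1 x * AddMonoidAlgebra.mapDomain D3 x -
          AddMonoidAlgebra.mapDomain D0 x * AddMonoidAlgebra.mapDomain D2 x := by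
      linear_combination hc
    rw [this, pow_two]
    exact ((hx.mapDomain D1).mul (hx.mapDomain D3)).sub ((hx.mapDomain D0).mul (hx.mapDomain D2))
  have hEc : ∀ w : Fin 3 → ℤ,
      ((if w 0 = 0 then x.coeff ![w 1, w 2] else 0) - (if w 0 = w 1 then x.coeff ![w 0, w 2] else 0)
        + (if w 1 = w 2 then x.coeff ![w 0, w 1] else 0)
        - (if w 2 = 0 then x.coeff ![w 0, w 1] else 0)) ∈ I ^ 2 := by
    intro w
    have := hE w
    rw [AddMonoidAlgebra.coeff_sub, AddMonoidAlgebra.coeff_add, AddMonoidAlgebra.coeff_sub,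
      Finsupp.sub_apply, Finsupp.add_apply, Finsupp.sub_apply, cD0, cD1, cD2, cD3] at this
    exact this
  have fact1 : ∀ b c : ℤ, b ≠ 0 → c ≠ 0 → b ≠ c → x.coeff ![b, c] ∈ I ^ 2 := by
    intro b c hb hc' hbc
    have := hEc ![0, b, c]
    simpa [hb, hc', hbc, Ne.symm hb] using this
  have fact2 : ∀ b : ℤ, b ≠ 0 → x.coeff ![b, 0] - x.coeff ![0, b] ∈ I ^ 2 := by
    intro b hb
    have := hEc ![0, b, 0]
    simpa [hb, Ne.symm hb] using this
  have fact3 : ∀ b : ℤ, b ≠ 0 → x.coeff ![b, b] + x.coeff ![0, b] ∈ I ^ 2 := by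
    intro b hb
    have := hEc ![0, b, b]
    simpa [hb, Ne.symm hb] using this
  -- the correcting 1-cochain
  obtain ⟨y, hydef⟩ : ∃ y : AddMonoidAlgebra A (Fin 1 → ℤ),
      y = AddMonoidAlgebra.comapDomain d0 d0_inj x := ⟨_, rfl⟩
  have hyc : ∀ a : ℤ, y.coeff ![a] = x.coeff ![0, a] := by
    intro a
    rw [hydef, AddMonoidAlgebra.coeff_comapDomain, Finsupp.comapDomain_apply, d0_apply]
    simp
  have hy : InI I y := by
    intro m
    rw [eta1 m, hyc]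
    exact hx _
  have hyu : IsUnit (1 + y) := (isNilpotent_of_inI hI hy).isUnit_one_add
  obtain ⟨η, hη⟩ := hyu
  refine ⟨η, ?_⟩
  have hd : ∀ φ : (Fin 1 → ℤ) →+ (Fin 2 → ℤ),
      ((U A φ η : (AddMonoidAlgebra A (Fin 2 → ℤ))ˣ) : AddMonoidAlgebra A (Fin 2 → ℤ)) =
        1 + AddMonoidAlgebra.mapDomain φ y := by
    intro φ
    rw [U_coe, hη]
    have := map_add (AddMonoidAlgebra.mapDomainRingHom A φ) 1 y
    rw [map_one] at this
    exact this
  have hF : InI (I ^ 2) (x - (AddMonoidAlgebra.mapDomain d0 y - AddMonoidAlgebra.mapDomain d1 y +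
      AddMonoidAlgebra.mapDomain d2 y)) := by
    intro v
    rw [AddMonoidAlgebra.coeff_sub, AddMonoidAlgebra.coeff_add, AddMonoidAlgebra.coeff_sub,
      Finsupp.sub_apply, Finsupp.add_apply, Finsupp.sub_apply, cd0, cd1, cd2, hyc, hyc]
    have hv : x.coeff v = x.coeff ![v 0, v 1] := congrArg (fun z => x.coeff z) (eta2 v)
    rw [hv]
    generalize v 0 = a
    generalize v 1 = b
    by_cases ha : a = 0
    · subst ha
      by_cases hb : b = 0
      · subst hb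
        simp
      · simp [hb, Ne.symm hb]
    · by_cases hb : b = 0
      · subst hb
        simpa [ha] using fact2 a ha
      · by_cases hab : a = b
        · subst hab
          simpa [ha] using fact3 a ha
        · simpa [ha, hb, hab] using fact1 a b ha hb hab
  have hbd : (bd A η)⁻¹ = (U A d0 η)⁻¹ * U A d1 η * (U A d2 η)⁻¹ := by
    rw [bd_apply, mul_inv, mul_inv, inv_inv]
  have h0 : ((U A d0 η : (AddMonoidAlgebra A (Fin 2 → ℤ))ˣ) : AddMonoidAlgebra A (Fin 2 → ℤ)) *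
      (((U A d0 η)⁻¹ : (AddMonoidAlgebra A (Fin 2 → ℤ))ˣ) : AddMonoidAlgebra A (Fin 2 → ℤ)) = 1 :=
    Units.mul_inv _
  have h2 : ((U A d2 η : (AddMonoidAlgebra A (Fin 2 → ℤ))ˣ) : AddMonoidAlgebra A (Fin 2 → ℤ)) *
      (((U A d2 η)⁻¹ : (AddMonoidAlgebra A (Fin 2 → ℤ))ˣ) : AddMonoidAlgebra A (Fin 2 → ℤ)) = 1 :=
    Units.mul_inv _
  have key : ((ξ * (bd A η)⁻¹ : (AddMonoidAlgebra A (Fin 2 → ℤ))ˣ) :
        AddMonoidAlgebra A (Fin 2 → ℤ)) - 1 =
      ((x - (AddMonoidAlgebra.mapDomain d0 y - AddMonoidAlgebra.mapDomain d1 y +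
        AddMonoidAlgebra.mapDomain d2 y)) + x * AddMonoidAlgebra.mapDomain d1 y -
        AddMonoidAlgebra.mapDomain d0 y * AddMonoidAlgebra.mapDomain d2 y) *
      ((((U A d0 η)⁻¹ : (AddMonoidAlgebra A (Fin 2 → ℤ))ˣ) : AddMonoidAlgebra A (Fin 2 → ℤ)) *
        (((U A d2 η)⁻¹ : (AddMonoidAlgebra A (Fin 2 → ℤ))ˣ) : AddMonoidAlgebra A (Fin 2 → ℤ))) := by
    rw [hbd, Units.val_mul, Units.val_mul, Units.val_mul, e]
    rw [hd d0] at h0
    rw [hd d2] at h2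
    rw [hd d1]
    linear_combination (1 + AddMonoidAlgebra.mapDomain d2 y) *
      (((U A d2 η)⁻¹ : (AddMonoidAlgebra A (Fin 2 → ℤ))ˣ) : AddMonoidAlgebra A (Fin 2 → ℤ)) * h0 + h2
  rw [key]
  apply InI.mul_right
  refine (hF.add ?_).sub ?_
  · rw [pow_two]; exact hx.mul (hy.mapDomain d1)
  · rw [pow_two]; exact (hy.mapDomain d0).mul (hy.mapDomain d2)

theorem main_ind : ∀ (k : ℕ) (I : Ideal A), I ^ (2 ^ k) = ⊥ →
    ∀ ξ : (AddMonoidAlgebra A (Fin 2 → ℤ))ˣ, Z A ξ = 1 →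
      InI I ((ξ : AddMonoidAlgebra A (Fin 2 → ℤ)) - 1) →
      ∃ η : (AddMonoidAlgebra A (Fin 1 → ℤ))ˣ, ξ = bd A η := by
  intro k
  induction k with
  | zero =>
    intro I hI ξ hZ hξ
    rw [pow_zero, pow_one] at hI
    rw [hI, inI_bot_iff, sub_eq_zero] at hξ
    refine ⟨1, ?_⟩
    rw [map_one]
    exact Units.ext hξ
  | succ k ih =>
    intro I hI ξ hZ hξ
    obtain ⟨η₁, hη₁⟩ := step I _ hI ξ hZ hξ
    have hI2 : (I ^ 2) ^ (2 ^ k) = ⊥ := by
      rw [← pow_mul, ← pow_succ']; exact hI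
    have hZ' : Z A (ξ * (bd A η₁)⁻¹) = 1 := by
      rw [map_mul, map_inv, hZ, Z_bd, inv_one, one_mul]
    obtain ⟨η₂, hη₂⟩ := ih (I ^ 2) hI2 _ hZ' hη₁
    refine ⟨η₂ * η₁, ?_⟩
    rw [map_mul, ← hη₂, inv_mul_cancel_right]

/-- the constant unit -/
noncomputable def cst (G : Type*) [AddMonoid G] (c : Aˣ) : (AddMonoidAlgebra A G)ˣ :=
  ⟨AddMonoidAlgebra.single 0 (c : A), AddMonoidAlgebra.single 0 ((c⁻¹ : Aˣ) : A),
    by rw [AddMonoidAlgebra.single_mul_single, add_zero, Units.mul_inv]; rfl,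
    by rw [AddMonoidAlgebra.single_mul_single, add_zero, Units.inv_mul]; rfl⟩

theorem U_cst {G H : Type*} [AddMonoid G] [AddMonoid H] (φ : G →+ H) (c : Aˣ) :
    U A φ (cst G c) = cst H c := by
  apply Units.ext
  rw [U_coe]
  change AddMonoidAlgebra.mapDomain φ (AddMonoidAlgebra.single 0 (c : A)) =
    AddMonoidAlgebra.single 0 (c : A)
  rw [AddMonoidAlgebra.mapDomain_single, map_zero]

theorem bd_cst (c : Aˣ) : bd A (cst (Fin 1 → ℤ) c) = cst (Fin 2 → ℤ) c := by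
  rw [bd_apply, U_cst, U_cst, U_cst, mul_inv_cancel, one_mul]

theorem main (ξ : (AddMonoidAlgebra A (Fin 2 → ℤ))ˣ) (hZ : Z A ξ = 1) :
    ∃ η : (AddMonoidAlgebra A (Fin 1 → ℤ))ˣ, ξ = bd A η := by
  obtain ⟨hu, hn⟩ := isUnit_and_isNilpotent (ξ : AddMonoidAlgebra A (Fin 2 → ℤ))
    ((ξ⁻¹ : (AddMonoidAlgebra A (Fin 2 → ℤ))ˣ) : AddMonoidAlgebra A (Fin 2 → ℤ))
    (Units.mul_inv ξ) (coc_of_Z ξ hZ)
  obtain ⟨c, hcdef⟩ := hu
  obtain ⟨ξ₁, hξ₁⟩ : ∃ ξ₁ : (AddMonoidAlgebra A (Fin 2 → ℤ))ˣ,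
      ξ₁ = ξ * (bd A (cst (Fin 1 → ℤ) c))⁻¹ := ⟨_, rfl⟩
  have hZ₁ : Z A ξ₁ = 1 := by
    rw [hξ₁, map_mul, map_inv, hZ, Z_bd, inv_one, one_mul]
  have hcoef : ∀ v, ((ξ₁ : AddMonoidAlgebra A (Fin 2 → ℤ)) - 1).coeff v ∈ nilradical A := by
    intro v
    have h1 : (ξ₁ : AddMonoidAlgebra A (Fin 2 → ℤ)) =
        (ξ : AddMonoidAlgebra A (Fin 2 → ℤ)) * AddMonoidAlgebra.single 0 ((c⁻¹ : Aˣ) : A) := by
      rw [hξ₁, bd_cst, Units.val_mul]
      rfl
    rw [AddMonoidAlgebra.coeff_sub, Finsupp.sub_apply, h1, AddMonoidAlgebra.coeff_mul_single_zero,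
      AddMonoidAlgebra.one_def, AddMonoidAlgebra.coeff_single, Finsupp.single_apply]
    by_cases hv : v = 0
    · subst hv
      rw [if_pos rfl, ← hcdef, Units.mul_inv, sub_self]
      exact Ideal.zero_mem _
    · rw [if_neg (Ne.symm hv), sub_zero]
      exact Ideal.mul_mem_right _ _ (hn v hv)
  classical
  let s : Finset A := (((ξ₁ : AddMonoidAlgebra A (Fin 2 → ℤ)) - 1).coeff.support).image
    (fun v => ((ξ₁ : AddMonoidAlgebra A (Fin 2 → ℤ)) - 1).coeff v)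
  let I : Ideal A := Ideal.span (s : Set A)
  have hIfg : I.FG := ⟨s, rfl⟩
  have hIle : I ≤ nilradical A := by
    rw [Ideal.span_le]
    intro a ha
    simp only [s, Finset.coe_image, Set.mem_image] at ha
    obtain ⟨v, _, rfl⟩ := ha
    exact hcoef v
  obtain ⟨n, hn'⟩ := hIfg.isNilpotent_iff_le_nilradical.mpr hIle
  have hI2 : I ^ (2 ^ n) = ⊥ := by
    have hle : I ^ (2 ^ n) ≤ I ^ n := Ideal.pow_le_pow_right (Nat.lt_two_pow_self).le
    rw [Ideal.zero_eq_bot] at hn'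
    rw [hn'] at hle
    exact le_bot_iff.mp hle
  have hin : InI I ((ξ₁ : AddMonoidAlgebra A (Fin 2 → ℤ)) - 1) := by
    intro v
    by_cases hv : v ∈ ((ξ₁ : AddMonoidAlgebra A (Fin 2 → ℤ)) - 1).coeff.support
    · apply Ideal.subset_span
      simp only [s, Finset.coe_image, Set.mem_image]
      exact ⟨v, hv, rfl⟩
    · rw [Finsupp.notMem_support_iff] at hv
      rw [hv]
      exact Ideal.zero_mem _
  obtain ⟨η, hη⟩ := main_ind n I hI2 ξ₁ hZ₁ hin
  refine ⟨η * cst (Fin 1 → ℤ) c, ?_⟩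
  rw [map_mul, ← hη, hξ₁, inv_mul_cancel_right]

end Groth.Agent.Lib.Helper29.LaurC
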