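import Groth.Agent.Lib.Helper87.DimOne

/-!
# Lengths of `M/tM` over a Noetherian local ring

For a Noetherian local ring `(B, m)`, `t ∈ m` and a finite `B`-module `N` with `N/tN` of finite
length, the formula
`length (N/tN) = length (N[t]) + ∑_{p ≠ m} length_{B_p} (N_p) * length (B/(p + tB))`
(by induction on a prime filtration) and its consequences.
-/

set_option autoImplicit false
universe u

namespace Groth.Agent.Lib.Helper29.LengthFormula

open IsLocalRing Groth.Agent.Lib.Helper87

section FiniteLength

theorem isFiniteLength_of_pow_smul_eq_zero {R : Type*} [CommRing R] [IsNoetherianRing R]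
    [IsLocalRing R] (N : Type*) [AddCommGroup N] [Module R N] [Module.Finite R N] (n : ℕ)
    (h : ∀ r ∈ (maximalIdeal R) ^ n, ∀ x : N, r • x = 0) : IsFiniteLength R N := by
  rw [isFiniteLength_iff_isNoetherian_isArtinian]
  refine ⟨inferInstance, ?_⟩
  set I := (maximalIdeal R) ^ (n + 1) with hI
  have hIle : I ≤ (maximalIdeal R) ^ n := Ideal.pow_le_pow_right (Nat.le_succ n)
  have hM : Module.IsTorsionBySet R N I := fun x r => h r.1 (hIle r.2) x
  let _ := hM.module
  have : IsScalarTower R (R ⧸ I) N := hM.isScalarTower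
  have : Module.Finite (R ⧸ I) N := Module.Finite.of_restrictScalars_finite R (R ⧸ I) N
  have : IsArtinianRing (R ⧸ I) := by
    apply IsLocalRing.quotient_artinian_of_mem_minimalPrimes_of_isLocalRing
    refine ⟨⟨inferInstance, Ideal.pow_le_self (Nat.succ_ne_zero n)⟩, ?_⟩
    rintro q ⟨hq, hqI⟩ -
    exact hq.le_of_pow_le hqI
  have : IsArtinian (R ⧸ I) N := inferInstance
  exact isArtinian_of_surjective_algebraMap (Ideal.Quotient.mk_surjective (I := I))

theorem exists_pow_smul_eq_zero_of_isFiniteLength {R : Type*} [CommRing R]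
    [IsLocalRing R] (N : Type*) [AddCommGroup N] [Module R N] (h : IsFiniteLength R N) :
    ∃ n : ℕ, ∀ r ∈ (maximalIdeal R) ^ n, ∀ x : N, r • x = 0 := by
  rw [isFiniteLength_iff_isNoetherian_isArtinian] at h
  obtain ⟨hN, hA⟩ := h
  let f : ℕ →o (Submodule R N)ᵒᵈ :=
    ⟨fun k => OrderDual.toDual ((maximalIdeal R) ^ k • (⊤ : Submodule R N)), fun a b hab =>
      Submodule.smul_mono_left (Ideal.pow_le_pow_right hab)⟩
  obtain ⟨n, hn⟩ := IsArtinian.monotone_stabilizes f
  have h1 : (maximalIdeal R) ^ n • (⊤ : Submodule R N) =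
      (maximalIdeal R) ^ (n + 1) • (⊤ : Submodule R N) := hn (n + 1) (Nat.le_succ n)
  have h2 : (maximalIdeal R) ^ n • (⊤ : Submodule R N) = ⊥ := by
    apply Submodule.eq_bot_of_le_smul_of_le_jacobson_bot (maximalIdeal R) _
      (IsNoetherian.noetherian _)
    · conv_lhs => rw [h1]
      rw [pow_succ', mul_smul]
    · exact IsLocalRing.maximalIdeal_le_jacobson _
  refine ⟨n, fun r hr x => ?_⟩
  have : r • x ∈ (maximalIdeal R) ^ n • (⊤ : Submodule R N) :=
    Submodule.smul_mem_smul hr trivial
  rw [h2] at this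
  exact this

end FiniteLength

variable {B : Type u} [CommRing B] [IsNoetherianRing B] [IsLocalRing B] (t : B)

section PrimesOverT

variable (N : Type u) [AddCommGroup N] [Module B N] [Module.Finite B N]

omit [IsNoetherianRing B] in
/-- if `N/tN` has finite length, a prime containing `ann N` and `t` is the maximal ideal -/
theorem eq_maximalIdeal_of_annihilator_le (hb : Module.length B (QuotSMulTop t N) ≠ ⊤)
    (Q : Ideal B) [hQ : Q.IsPrime] (hann : Module.annihilator B N ≤ Q) (htQ : t ∈ Q) :
    Q = maximalIdeal B := by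
  have hfl : IsFiniteLength B (QuotSMulTop t N) := Module.length_ne_top_iff.mp hb
  obtain ⟨n, hn⟩ := exists_pow_smul_eq_zero_of_isFiniteLength (QuotSMulTop t N) hfl
  have hsupp : (⟨Q, hQ⟩ : PrimeSpectrum B) ∈ Module.support B (QuotSMulTop t N) := by
    have h1 : (⟨Q, hQ⟩ : PrimeSpectrum B) ∈
        Module.support B (N ⧸ (Ideal.span {t} • (⊤ : Submodule B N))) := by
      rw [Module.support_quotient]
      refine ⟨Module.mem_support_iff_of_finite.mpr hann, ?_⟩
      rw [PrimeSpectrum.mem_zeroLocus]
      intro a ha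
      exact Ideal.span_le.mpr (Set.singleton_subset_iff.mpr htQ) ha
    have e : (N ⧸ (Ideal.span {t} • (⊤ : Submodule B N))) ≃ₗ[B] QuotSMulTop t N :=
      Submodule.quotEquivOfEq _ _ (Submodule.ideal_span_singleton_smul t ⊤)
    rwa [← e.support_eq]
  have hle : Module.annihilator B (QuotSMulTop t N) ≤ Q :=
    Module.mem_support_iff_of_finite.mp hsupp
  have hpow : (maximalIdeal B) ^ n ≤ Q := by
    intro r hr
    apply hle
    rw [Module.mem_annihilator]
    exact hn r hr
  exact ((maximalIdeal.isMaximal B).eq_of_le hQ.ne_top (hQ.le_of_pow_le hpow)).symm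

/-- if `N/tN` has finite length, an ideal containing `ann N` and `t` contains a power of the
maximal ideal -/
theorem exists_pow_le_of_annihilator_le (hb : Module.length B (QuotSMulTop t N) ≠ ⊤)
    (I : Ideal B) (hann : Module.annihilator B N ≤ I) (htI : t ∈ I) :
    ∃ n : ℕ, (maximalIdeal B) ^ n ≤ I := by
  apply Ideal.exists_pow_le_of_le_radical_of_fg _ (IsNoetherian.noetherian _)
  rw [Ideal.radical_eq_sInf]
  refine le_sInf ?_
  rintro Q ⟨hIQ, hQ⟩
  rw [eq_maximalIdeal_of_annihilator_le t N hb Q (hann.trans hIQ) (hIQ htI)]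

/-- if `N/tN` has finite length, a finite module killed by `ann N` and `t` has finite length -/
theorem length_ne_top_of_annihilator_le (hb : Module.length B (QuotSMulTop t N) ≠ ⊤)
    (T : Type*) [AddCommGroup T] [Module B T] [Module.Finite B T]
    (hann : Module.annihilator B N ≤ Module.annihilator B T) (ht : ∀ x : T, t • x = 0) :
    Module.length B T ≠ ⊤ := by
  obtain ⟨n, hn⟩ := exists_pow_le_of_annihilator_le t N hb (Module.annihilator B T) hann
    (Module.mem_annihilator.mpr ht)
  rw [Module.length_ne_top_iff]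
  refine isFiniteLength_of_pow_smul_eq_zero T n ?_
  intro r hr x
  exact Module.mem_annihilator.mp (hn hr) x

/-- if `N/tN` has finite length, so has the `t`-torsion of `N` -/
theorem length_ker_ne_top (hb : Module.length B (QuotSMulTop t N) ≠ ⊤) :
    Module.length B (LinearMap.ker (tmul t N)) ≠ ⊤ := by
  apply length_ne_top_of_annihilator_le t N hb
  · intro r hr
    rw [Module.mem_annihilator] at hr ⊢
    rintro ⟨x, hx⟩
    exact Subtype.ext (hr x)
  · rintro ⟨x, hx⟩
    exact Subtype.ext hx

end PrimesOverT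

end Groth.Agent.Lib.Helper29.LengthFormula
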