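import Groth.Agent.Lib.Helper29.LengthFormula

set_option autoImplicit false
universe u

namespace Groth.Agent.Lib.Helper29.LengthFormula

open IsLocalRing Groth.Agent.Lib.Helper87

variable {B : Type u} [CommRing B]

section Lam

open Classical in
/-- the length of the localisation at a prime ideal, zero at other ideals -/
noncomputable def lam (N : Type u) [AddCommGroup N] [Module B N] (p : Ideal B) : ℕ∞ :=
  if h : p.IsPrime then
    (haveI := h; Module.length (Localization.AtPrime p) (LocalizedModule p.primeCompl N)) else 0

theorem lam_of_isPrime (N : Type u) [AddCommGroup N] [Module B N] (p : Ideal B) [hp : p.IsPrime] :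
    lam N p = Module.length (Localization.AtPrime p) (LocalizedModule p.primeCompl N) := by
  unfold lam
  rw [dif_pos hp]

theorem lam_of_not_isPrime (N : Type u) [AddCommGroup N] [Module B N] (p : Ideal B)
    (hp : ¬ p.IsPrime) : lam N p = 0 := by
  unfold lam
  rw [dif_neg hp]

theorem lam_add {N₁ N₂ N₃ : Type u} [AddCommGroup N₁] [Module B N₁] [AddCommGroup N₂] [Module B N₂]
    [AddCommGroup N₃] [Module B N₃] (f : N₁ →ₗ[B] N₂) (g : N₂ →ₗ[B] N₃)
    (hf : Function.Injective f) (hg : Function.Surjective g) (hex : Function.Exact f g)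
    (p : Ideal B) : lam N₂ p = lam N₁ p + lam N₃ p := by
  by_cases hp : p.IsPrime
  · rw [lam_of_isPrime, lam_of_isPrime, lam_of_isPrime]
    exact Module.length_eq_add_of_exact (LocalizedModule.map p.primeCompl f)
      (LocalizedModule.map p.primeCompl g) (LocalizedModule.map_injective _ f hf)
      (LocalizedModule.map_surjective _ g hg) (LocalizedModule.map_exact _ f g hex)
  · rw [lam_of_not_isPrime _ _ hp, lam_of_not_isPrime _ _ hp, lam_of_not_isPrime _ _ hp, add_zero]

theorem lam_congr {N₁ N₂ : Type u} [AddCommGroup N₁] [Module B N₁] [AddCommGroup N₂] [Module B N₂]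
    (e : N₁ ≃ₗ[B] N₂) (p : Ideal B) : lam N₁ p = lam N₂ p := by
  by_cases hp : p.IsPrime
  · rw [lam_of_isPrime, lam_of_isPrime]
    exact (IsLocalizedModule.mapEquiv p.primeCompl (LocalizedModule.mkLinearMap _ N₁)
      (LocalizedModule.mkLinearMap _ N₂) (Localization.AtPrime p) e).length_eq
  · rw [lam_of_not_isPrime _ _ hp, lam_of_not_isPrime _ _ hp]

/-- the localisation vanishes when an element outside the prime kills the module -/
theorem lam_eq_zero_of_smul_eq_zero (N : Type u) [AddCommGroup N] [Module B N] (p : Ideal B)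
    (s : B) (hs : s ∉ p) (h : ∀ x : N, s • x = 0) : lam N p = 0 := by
  by_cases hp : p.IsPrime
  · rw [lam_of_isPrime, Module.length_eq_zero_iff]
    refine ⟨fun a b => ?_⟩
    induction a using LocalizedModule.induction_on with
    | h x u =>
      induction b using LocalizedModule.induction_on with
      | h y v =>
        rw [LocalizedModule.mk_eq]
        exact ⟨⟨s, hs⟩, by simp [Submonoid.smul_def, h]⟩
  · exact lam_of_not_isPrime _ _ hp

theorem lam_ne_zero_iff (N : Type u) [AddCommGroup N] [Module B N] (p : Ideal B) [hp : p.IsPrime] :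
    lam N p ≠ 0 ↔ (⟨p, hp⟩ : PrimeSpectrum B) ∈ Module.support B N := by
  rw [lam_of_isPrime, Module.mem_support_iff, ← pos_iff_ne_zero]
  exact Module.length_pos_iff (R := Localization.AtPrime p) (M := LocalizedModule p.primeCompl N)

end Lam

end Groth.Agent.Lib.Helper29.LengthFormula
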