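import Groth.Agent.Lib.Helper29.LengthFormula2
import Mathlib.RingTheory.Ideal.KrullsHeightTheorem

set_option autoImplicit false
universe u

namespace Groth.Agent.Lib.Helper29.LengthFormula

open IsLocalRing Groth.Agent.Lib.Helper87

variable {B : Type u} [CommRing B] [IsNoetherianRing B] [IsLocalRing B] (t : B)

section PIT

omit [IsNoetherianRing B] in
/-- a quotient of `B` of finite length is killed by a power of the maximal ideal -/
theorem exists_pow_le_of_length_quotient_ne_top (I : Ideal B)
    (hc : Module.length B (B ⧸ I) ≠ ⊤) : ∃ n : ℕ, (maximalIdeal B) ^ n ≤ I := by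
  obtain ⟨n, hn⟩ := exists_pow_smul_eq_zero_of_isFiniteLength (B ⧸ I)
    (Module.length_ne_top_iff.mp hc)
  refine ⟨n, fun r hr => ?_⟩
  have := hn r hr (Ideal.Quotient.mk I 1)
  rw [← Ideal.Quotient.mk_eq_mk, ← Submodule.Quotient.mk_smul, Ideal.Quotient.mk_eq_mk,
    smul_eq_mul, mul_one] at this
  exact Ideal.Quotient.eq_zero_iff_mem.mp this

/-- **No primes strictly between `q` and the maximal ideal** when `B/(q + tB)` has finite length
(Krull's principal ideal theorem). -/
theorem eq_of_le_of_ne_maximalIdeal (ht : t ∈ maximalIdeal B) (q : Ideal B) [hq : q.IsPrime]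
    (hc : Module.length B (B ⧸ (q ⊔ Ideal.span {t})) ≠ ⊤) (p : Ideal B) [hp : p.IsPrime]
    (hqp : q ≤ p) (hpm : p ≠ maximalIdeal B) : p = q := by
  obtain ⟨n, hn⟩ := exists_pow_le_of_length_quotient_ne_top _ hc
  let π := Ideal.Quotient.mk q
  have hπ : Function.Surjective π := Ideal.Quotient.mk_surjective
  have hker : RingHom.ker π = q := Ideal.mk_ker
  have hmprime : (Ideal.map π (maximalIdeal B)).IsPrime :=
    Ideal.map_isPrime_of_surjective hπ (by rw [hker]; exact le_maximalIdeal hq.ne_top)
  have hpprime : (Ideal.map π p).IsPrime :=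
    Ideal.map_isPrime_of_surjective hπ (by rw [hker]; exact hqp)
  have hmin : Ideal.map π (maximalIdeal B) ∈ (Ideal.span {π t}).minimalPrimes := by
    refine ⟨⟨hmprime, ?_⟩, ?_⟩
    · rw [Ideal.span_le, Set.singleton_subset_iff]
      exact Ideal.mem_map_of_mem π ht
    · rintro Q ⟨hQ, hQt⟩ -
      have hQ' : (Ideal.comap π Q).IsPrime := Ideal.comap_isPrime π Q
      have h1 : q ⊔ Ideal.span {t} ≤ Ideal.comap π Q := by
        refine sup_le ?_ ?_
        · intro x hx
          rw [Ideal.mem_comap, Ideal.Quotient.eq_zero_iff_mem.mpr hx]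
          exact Q.zero_mem
        · rw [Ideal.span_le, Set.singleton_subset_iff]
          exact hQt (Ideal.subset_span rfl)
      have h2 : maximalIdeal B ≤ Ideal.comap π Q := hQ'.le_of_pow_le (hn.trans h1)
      exact (Ideal.map_mono h2).trans Ideal.map_comap_le
  have hht : (Ideal.map π (maximalIdeal B)).height ≤ 1 :=
    Ideal.height_le_one_of_isPrincipal_of_mem_minimalPrimes _ _ hmin
  have hcomap : ∀ J : Ideal B, q ≤ J → Ideal.comap π (Ideal.map π J) = J := by
    intro J hJ
    rw [Ideal.comap_map_of_surjective π hπ, ← RingHom.ker_eq_comap_bot, hker, sup_eq_left.mpr hJ]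
  have hlt : Ideal.map π p < Ideal.map π (maximalIdeal B) := by
    refine lt_of_le_of_ne (Ideal.map_mono (le_maximalIdeal hp.ne_top)) ?_
    intro e
    apply hpm
    rw [← hcomap p hqp, e, hcomap _ (le_maximalIdeal hq.ne_top)]
  have hlt' := Ideal.height_strict_mono_of_isPrime hlt
  have h0 : (Ideal.map π p).height = 0 := by
    have : (Ideal.map π p).height < 1 := lt_of_lt_of_le hlt' hht
    exact Order.lt_one_iff.mp this
  rw [Ideal.height_eq_zero_iff, IsDomain.minimalPrimes_eq_singleton_bot,
    Set.mem_singleton_iff] at h0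
  refine le_antisymm ?_ hqp
  intro x hx
  have : π x ∈ Ideal.map π p := Ideal.mem_map_of_mem π hx
  rw [h0, Ideal.mem_bot] at this
  exact Ideal.Quotient.eq_zero_iff_mem.mp this

end PIT

end Groth.Agent.Lib.Helper29.LengthFormula
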