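import Groth.Agent.Lib.Helper29.LengthFormula4
import Mathlib.RingTheory.Ideal.AssociatedPrime.Finiteness

set_option autoImplicit false
universe u

namespace Groth.Agent.Lib.Helper29.LengthFormula

open IsLocalRing Groth.Agent.Lib.Helper87 Function

variable {B : Type u} [CommRing B] [IsNoetherianRing B] [IsLocalRing B] (t : B)

/-- the non-maximal primes -/
def G (B : Type u) [CommRing B] [IsLocalRing B] : Set (Ideal B) :=
  {p | p.IsPrime ∧ p ≠ maximalIdeal B}

/-- the length of `B/(p + tB)` -/
noncomputable def cst (p : Ideal B) : ℕ∞ := Module.length B (B ⧸ (p ⊔ Ideal.span {t}))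

/-- the length formula for `N/tN`, under the hypothesis that it has finite length -/
def Formula (N : Type u) [AddCommGroup N] [Module B N] : Prop :=
  Module.length B (QuotSMulTop t N) ≠ ⊤ →
    {p | p ∈ G B ∧ lam N p ≠ 0}.Finite ∧
      Module.length B (QuotSMulTop t N) =
        Module.length B (LinearMap.ker (tmul t N)) + ∑ᶠ p ∈ G B, lam N p * cst t p

omit [IsNoetherianRing B] in
theorem formula_of_subsingleton (N : Type u) [AddCommGroup N] [Module B N] [Subsingleton N] :
    Formula t N := by
  intro _
  have hlam : ∀ p : Ideal B, lam N p = 0 := by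
    intro p
    by_cases hp : p.IsPrime
    · exact lam_eq_zero_of_smul_eq_zero N p 1 (fun h => hp.ne_top ((Ideal.eq_top_iff_one p).mpr h))
        (fun x => Subsingleton.elim _ _)
    · exact lam_of_not_isPrime N p hp
  refine ⟨?_, ?_⟩
  · convert Set.finite_empty
    ext p
    simp [hlam p]
  · rw [Module.length_eq_zero, Module.length_eq_zero, zero_add]
    symm
    apply finsum_mem_eq_zero_of_forall_eq_zero
    intro p _
    rw [hlam p, zero_mul]

theorem formula_quotient_prime (ht : t ∈ maximalIdeal B) (q : Ideal B) [hq : q.IsPrime] :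
    Formula t (B ⧸ q) := by
  intro hb
  by_cases hqm : q = maximalIdeal B
  · -- the residue field
    have hlam : ∀ p ∈ G B, lam (B ⧸ q) p = 0 := by
      rintro p ⟨hp, hpm⟩
      apply lam_quotient_of_not_le
      intro hle
      rw [hqm] at hle
      exact hpm ((maximalIdeal.isMaximal B).eq_of_le hp.ne_top hle).symm
    refine ⟨?_, ?_⟩
    · convert Set.finite_empty
      ext p
      simp only [Set.mem_ofPred_eq, Set.mem_empty_iff_false, iff_false, not_and, not_not]
      exact hlam p
    · have h1 : ∑ᶠ p ∈ G B, lam (B ⧸ q) p * cst t p = 0 := by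
        apply finsum_mem_eq_zero_of_forall_eq_zero
        intro p hp
        rw [hlam p hp, zero_mul]
      rw [h1, add_zero]
      have hsimple : IsSimpleModule B (B ⧸ q) := by
        rw [isSimpleModule_iff_isCoatom, hqm]
        exact Ideal.isMaximal_def.mp (maximalIdeal.isMaximal B)
      have hlen : Module.length B (B ⧸ q) < ⊤ := by
        rw [Module.length_eq_one_iff.mpr hsimple]
        exact ENat.one_lt_top
      exact (length_ker_eq_length_quot_of_finite t (B ⧸ q) hlen).symm
  · have hc : cst t q ≠ ⊤ := by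
      unfold cst
      rwa [← (quotSMulTopQuotientEquiv q t).length_eq]
    have htq : t ∉ q := by
      intro htq
      have e : q ⊔ Ideal.span {t} = q :=
        sup_eq_left.mpr (by rw [Ideal.span_le, Set.singleton_subset_iff]; exact htq)
      unfold cst at hc
      rw [e] at hc
      obtain ⟨n, hn⟩ := exists_pow_le_of_length_quotient_ne_top q hc
      exact hqm ((maximalIdeal.isMaximal B).eq_of_le hq.ne_top (hq.le_of_pow_le hn)).symm
    have hsupp : ∀ p ∈ G B, lam (B ⧸ q) p ≠ 0 → p = q := by
      rintro p ⟨hp, hpm⟩ hne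
      have hle : q ≤ p := by
        by_contra h
        exact hne (lam_quotient_of_not_le q p h)
      exact eq_of_le_of_ne_maximalIdeal t ht q hc p hle hpm
    refine ⟨?_, ?_⟩
    · apply (Set.finite_singleton q).subset
      rintro p ⟨hpG, hne⟩
      exact hsupp p hpG hne
    · have hqG : q ∈ G B := ⟨hq, hqm⟩
      have h1 : ∑ᶠ p ∈ G B, lam (B ⧸ q) p * cst t p = lam (B ⧸ q) q * cst t q := by
        rw [finsum_mem_inter_support_eq _ (G B) {q}, finsum_mem_singleton]
        ext p
        simp only [Set.mem_inter_iff, Function.mem_support, Set.mem_singleton_iff]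
        constructor
        · rintro ⟨hpG, hne⟩
          exact ⟨hsupp p hpG (left_ne_zero_of_mul hne), hne⟩
        · rintro ⟨rfl, hne⟩
          exact ⟨hqG, hne⟩
      rw [h1, lam_quotient_self, one_mul, ker_tmul_quotient_eq_bot q t htq, Module.length_bot,
        zero_add]
      exact (quotSMulTopQuotientEquiv q t).length_eq

theorem formula_of_exact {N₁ N₂ N₃ : Type u} [AddCommGroup N₁] [Module B N₁] [Module.Finite B N₁]
    [AddCommGroup N₂] [Module B N₂] [Module.Finite B N₂]
    [AddCommGroup N₃] [Module B N₃] [Module.Finite B N₃] (f : N₁ →ₗ[B] N₂) (g : N₂ →ₗ[B] N₃)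
    (hf : Injective f) (hg : Surjective g) (hex : Exact f g)
    (h₁ : Formula t N₁) (h₃ : Formula t N₃) : Formula t N₂ := by
  intro hb₂
  have hsnake := length_snake t f g hf hg hex
  have hb₃ : Module.length B (QuotSMulTop t N₃) ≠ ⊤ := by
    refine ne_top_of_le_ne_top hb₂ ?_
    exact Module.length_le_of_surjective (QuotSMulTop.map t g) (QuotSMulTop.map_surjective t hg)
  have ha₂ := length_ker_ne_top t N₂ hb₂
  have ha₃ := length_ker_ne_top t N₃ hb₃
  have ha₁ : Module.length B (LinearMap.ker (tmul t N₁)) ≠ ⊤ := by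
    refine ne_top_of_le_ne_top ha₂ ?_
    exact Module.length_le_of_injective (kerMap t f) (kerMap_injective t f hf)
  have hb₁ : Module.length B (QuotSMulTop t N₁) ≠ ⊤ := by
    intro htop
    rw [htop] at hsnake
    have : Module.length B (LinearMap.ker (tmul t N₁)) + Module.length B (LinearMap.ker (tmul t N₃))
        + Module.length B (QuotSMulTop t N₂) = ⊤ := by
      rw [hsnake]; simp
    simp only [ENat.add_eq_top] at this
    tauto
  obtain ⟨hF₁, hform₁⟩ := h₁ hb₁
  obtain ⟨hF₃, hform₃⟩ := h₃ hb₃
  have hlam : ∀ p, lam N₂ p = lam N₁ p + lam N₃ p := lam_add f g hf hg hex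
  refine ⟨?_, ?_⟩
  · apply (hF₁.union hF₃).subset
    rintro p ⟨hpG, hne⟩
    rw [hlam p] at hne
    by_cases h1 : lam N₁ p = 0
    · right
      refine ⟨hpG, ?_⟩
      rwa [h1, zero_add] at hne
    · left
      exact ⟨hpG, h1⟩
  · have hsum : ∑ᶠ p ∈ G B, lam N₂ p * cst t p =
        ∑ᶠ p ∈ G B, lam N₁ p * cst t p + ∑ᶠ p ∈ G B, lam N₃ p * cst t p := by
      rw [← finsum_mem_add_distrib']
      · apply finsum_mem_congr rfl
        intro p _
        rw [hlam p, add_mul]
      · apply hF₁.subset
        rintro p ⟨hpG, hne⟩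
        exact ⟨hpG, left_ne_zero_of_mul hne⟩
      · apply hF₃.subset
        rintro p ⟨hpG, hne⟩
        exact ⟨hpG, left_ne_zero_of_mul hne⟩
    rw [hsum]
    rw [hform₁, hform₃] at hsnake
    -- cancel the finite quantities
    set a₁ := Module.length B (LinearMap.ker (tmul t N₁))
    set a₂ := Module.length B (LinearMap.ker (tmul t N₂))
    set a₃ := Module.length B (LinearMap.ker (tmul t N₃))
    set s₁ := ∑ᶠ p ∈ G B, lam N₁ p * cst t p
    set s₃ := ∑ᶠ p ∈ G B, lam N₃ p * cst t p
    set b₂ := Module.length B (QuotSMulTop t N₂)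
    have h13 : a₁ + a₃ ≠ ⊤ := WithTop.add_ne_top.mpr ⟨ha₁, ha₃⟩
    have e : (a₁ + a₃) + b₂ = (a₁ + a₃) + (a₂ + (s₁ + s₃)) := by
      rw [hsnake]
      ring
    exact (ENat.add_right_injective_of_ne_top h13) e

/-- **The length formula** for finite modules over a Noetherian local ring. -/
theorem formula (ht : t ∈ maximalIdeal B) (N : Type u) [AddCommGroup N] [Module B N]
    [Module.Finite B N] : Formula t N := by
  refine IsNoetherianRing.induction_on_isQuotientEquivQuotientPrime B
    (motive := fun N _ _ _ => Formula t N) (inferInstance : Module.Finite B N) ?_ ?_ ?_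
  · intro N _ _ _ _
    exact formula_of_subsingleton t N
  · intro N _ _ _ p e
    have hp : p.asIdeal.IsPrime := p.2
    have h1 := formula_quotient_prime t ht p.asIdeal
    exact formula_of_exact t (N₃ := PUnit.{u + 1}) e.symm.toLinearMap 0 e.symm.injective
      (Function.surjective_to_subsingleton _)
      ((e.symm.exact_zero_iff_surjective _).2 e.symm.surjective) h1
      (formula_of_subsingleton t _)
  · intro N₁ _ _ _ N₂ _ _ _ N₃ _ _ _ f g hf hg hex h₁ h₃
    exact formula_of_exact t f g hf hg hex h₁ h₃

end Groth.Agent.Lib.Helper29.LengthFormula
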