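import Groth.Agent.Lib.Helper29.LengthFormula5

set_option autoImplicit false
universe u

namespace Groth.Agent.Lib.Helper29.LengthFormula

open IsLocalRing Groth.Agent.Lib.Helper87 Function

variable {B : Type u} [CommRing B] [IsNoetherianRing B] [IsLocalRing B] (t : B)

section Cst

omit [IsNoetherianRing B] in
theorem one_le_cst (ht : t ∈ maximalIdeal B) (p : Ideal B) (hp : p ≠ ⊤) : 1 ≤ cst t p := by
  unfold cst
  have hle : p ⊔ Ideal.span {t} ≤ maximalIdeal B :=
    sup_le (le_maximalIdeal hp) (by rw [Ideal.span_le, Set.singleton_subset_iff]; exact ht)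
  have hne : p ⊔ Ideal.span {t} ≠ ⊤ := fun h => (maximalIdeal.isMaximal B).ne_top (top_le_iff.mp (h ▸ hle))
  have : Nontrivial (B ⧸ (p ⊔ Ideal.span {t})) := Ideal.Quotient.nontrivial_iff.mpr hne
  exact Order.one_le_iff_pos.mpr Module.length_pos

omit [IsNoetherianRing B] in
theorem cst_eq_one_iff (ht : t ∈ maximalIdeal B) (p : Ideal B) (hp : p ≠ ⊤) :
    cst t p = 1 ↔ p ⊔ Ideal.span {t} = maximalIdeal B := by
  unfold cst
  have hle : p ⊔ Ideal.span {t} ≤ maximalIdeal B :=
    sup_le (le_maximalIdeal hp) (by rw [Ideal.span_le, Set.singleton_subset_iff]; exact ht)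
  rw [Module.length_eq_one_iff, isSimpleModule_iff_isCoatom]
  constructor
  · intro h
    have hmax : (p ⊔ Ideal.span {t}).IsMaximal := Ideal.isMaximal_def.mpr h
    exact (hmax.eq_of_le (maximalIdeal.isMaximal B).ne_top hle)
  · intro h
    rw [h]
    exact Ideal.isMaximal_def.mp (maximalIdeal.isMaximal B)

theorem cst_ne_top (N : Type u) [AddCommGroup N] [Module B N] [Module.Finite B N]
    (hb : Module.length B (QuotSMulTop t N) ≠ ⊤) (p : Ideal B) [hp : p.IsPrime]
    (hlam : lam N p ≠ 0) : cst t p ≠ ⊤ := by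
  unfold cst
  have hsupp := (lam_ne_zero_iff N p).mp hlam
  have hann : Module.annihilator B N ≤ p := Module.mem_support_iff_of_finite.mp hsupp
  apply length_ne_top_of_annihilator_le t N hb
  · intro r hr
    rw [Module.mem_annihilator]
    intro x
    obtain ⟨b, rfl⟩ := Ideal.Quotient.mk_surjective x
    rw [Algebra.smul_def]
    have : algebraMap B (B ⧸ (p ⊔ Ideal.span {t})) r = 0 :=
      Ideal.Quotient.eq_zero_iff_mem.mpr (le_sup_left (a := p) (hann hr))
    rw [this, zero_mul]
  · intro x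
    obtain ⟨b, rfl⟩ := Ideal.Quotient.mk_surjective x
    rw [Algebra.smul_def]
    have : algebraMap B (B ⧸ (p ⊔ Ideal.span {t})) t = 0 :=
      Ideal.Quotient.eq_zero_iff_mem.mpr (le_sup_right (a := p) (Ideal.subset_span rfl))
    rw [this, zero_mul]

end Cst

section Core

variable (M : Type u) [AddCommGroup M] [Module B M] [Module.Finite B M]

omit [IsNoetherianRing B] [IsLocalRing B] [Module.Finite B M] in
theorem length_ker_eq_zero_iff : Module.length B (LinearMap.ker (tmul t M)) = 0 ↔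
    IsSMulRegular M t := by
  rw [Module.length_eq_zero_iff, Submodule.subsingleton_iff_eq_bot, LinearMap.ker_eq_bot]
  rfl

/-- the sum of the lengths of the localisations at the non-maximal primes -/
noncomputable def lamSum : ℕ∞ := ∑ᶠ p ∈ G B, lam M p

theorem core (ht : t ∈ maximalIdeal B) (hb : Module.length B (QuotSMulTop t M) ≠ ⊤) :
    lamSum (B := B) M ≤ Module.length B (QuotSMulTop t M) ∧
    (lamSum (B := B) M = Module.length B (QuotSMulTop t M) ↔
      IsSMulRegular M t ∧ ∀ p ∈ G B, lam M p ≠ 0 → p ⊔ Ideal.span {t} = maximalIdeal B) := by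
  classical
  obtain ⟨hF, hform⟩ := formula t ht M hb
  set T := hF.toFinset with hT
  have hmemT : ∀ p, p ∈ T ↔ p ∈ G B ∧ lam M p ≠ 0 := fun p => hF.mem_toFinset
  have hL : lamSum (B := B) M = ∑ p ∈ T, lam M p := by
    unfold lamSum
    apply finsum_mem_eq_sum_of_inter_support_eq
    ext p
    simp only [Set.mem_inter_iff, Function.mem_support, Finset.mem_coe, hmemT]
    tauto
  have hS : ∑ᶠ p ∈ G B, lam M p * cst t p = ∑ p ∈ T, lam M p * cst t p := by
    apply finsum_mem_eq_sum_of_inter_support_eq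
    ext p
    simp only [Set.mem_inter_iff, Function.mem_support, Finset.mem_coe, hmemT]
    constructor
    · rintro ⟨hpG, hne⟩
      exact ⟨⟨hpG, left_ne_zero_of_mul hne⟩, hne⟩
    · rintro ⟨⟨hpG, _⟩, hne⟩
      exact ⟨hpG, hne⟩
  rw [hS] at hform
  set a := Module.length B (LinearMap.ker (tmul t M)) with ha
  set b := Module.length B (QuotSMulTop t M) with hb'
  set S := ∑ p ∈ T, lam M p * cst t p with hSdef
  have hSb : S ≤ b := by rw [hform]; exact le_add_self
  have hSne : S ≠ ⊤ := ne_top_of_le_ne_top hb hSb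
  have hc1 : ∀ p ∈ T, 1 ≤ cst t p := by
    intro p hp
    have := ((hmemT p).mp hp).1.1
    exact one_le_cst t ht p this.ne_top
  have hcne : ∀ p ∈ T, cst t p ≠ ⊤ := by
    intro p hp
    have hpp := ((hmemT p).mp hp).1.1
    exact cst_ne_top t M hb p ((hmemT p).mp hp).2
  have hterm : ∀ p ∈ T, lam M p ≤ lam M p * cst t p := fun p hp =>
    le_mul_of_one_le_right zero_le (hc1 p hp)
  have hlne : ∀ p ∈ T, lam M p ≠ ⊤ := by
    intro p hp
    have h1 : lam M p * cst t p ≤ S :=
      Finset.single_le_sum (f := fun p => lam M p * cst t p) (fun _ _ => zero_le) hp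
    exact ne_top_of_le_ne_top hSne ((hterm p hp).trans h1)
  -- lift to natural numbers
  let l : Ideal B → ℕ := fun p => (lam M p).toNat
  let c : Ideal B → ℕ := fun p => (cst t p).toNat
  have hl : ∀ p ∈ T, lam M p = (l p : ℕ∞) := fun p hp => (ENat.natCast_toNat (hlne p hp)).symm
  have hc : ∀ p ∈ T, cst t p = (c p : ℕ∞) := fun p hp => (ENat.natCast_toNat (hcne p hp)).symm
  have hl1 : ∀ p ∈ T, 1 ≤ l p := by
    intro p hp
    have h0 : lam M p ≠ 0 := ((hmemT p).mp hp).2
    rw [hl p hp] at h0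
    have : l p ≠ 0 := by exact_mod_cast h0
    omega
  have hc1' : ∀ p ∈ T, 1 ≤ c p := by
    intro p hp
    have := hc1 p hp
    rw [hc p hp] at this
    exact_mod_cast this
  have hLnat : lamSum (B := B) M = ((∑ p ∈ T, l p : ℕ) : ℕ∞) := by
    rw [hL, Nat.cast_sum]
    exact Finset.sum_congr rfl hl
  have hSnat : S = ((∑ p ∈ T, l p * c p : ℕ) : ℕ∞) := by
    rw [hSdef, Nat.cast_sum]
    refine Finset.sum_congr rfl fun p hp => ?_
    rw [hl p hp, hc p hp, Nat.cast_mul]
  have hLS : ∑ p ∈ T, l p ≤ ∑ p ∈ T, l p * c p :=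
    Finset.sum_le_sum fun p hp => Nat.le_mul_of_pos_right _ (hc1' p hp)
  have hcond : (∀ p ∈ G B, lam M p ≠ 0 → p ⊔ Ideal.span {t} = maximalIdeal B) ↔
      ∀ p ∈ T, c p = 1 := by
    constructor
    · intro h p hp
      obtain ⟨hpG, hne⟩ := (hmemT p).mp hp
      have := (cst_eq_one_iff t ht p hpG.1.ne_top).mpr (h p hpG hne)
      rw [hc p hp] at this
      exact_mod_cast this
    · intro h p hpG hne
      have hp : p ∈ T := (hmemT p).mpr ⟨hpG, hne⟩
      rw [← cst_eq_one_iff t ht p hpG.1.ne_top, hc p hp, h p hp]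
      rfl
  refine ⟨?_, ?_⟩
  · rw [hform, hLnat, hSnat]
    refine le_trans ?_ le_add_self
    exact_mod_cast hLS
  · rw [hcond, ← length_ker_eq_zero_iff, ← ha, hform, hLnat, hSnat]
    constructor
    · intro h
      have ha0 : a = 0 := by
        by_contra hne
        have h1 : ((∑ p ∈ T, l p * c p : ℕ) : ℕ∞) < a + ((∑ p ∈ T, l p * c p : ℕ) : ℕ∞) := by
          conv_lhs => rw [← zero_add ((∑ p ∈ T, l p * c p : ℕ) : ℕ∞)]
          exact (ENat.add_lt_add_iff_right (ENat.natCast_ne_top _)).mpr (pos_iff_ne_zero.mpr hne)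
        rw [← h] at h1
        have h2 : (∑ p ∈ T, l p * c p) < ∑ p ∈ T, l p := by exact_mod_cast h1
        omega
      refine ⟨ha0, ?_⟩
      rw [ha0, zero_add] at h
      have h' : ∑ p ∈ T, l p = ∑ p ∈ T, l p * c p := by exact_mod_cast h
      have := (Finset.sum_eq_sum_iff_of_le
        (fun p hp => Nat.le_mul_of_pos_right _ (hc1' p hp))).mp h'
      intro p hp
      have h1 := this p hp
      have h2 : l p * c p = l p * 1 := by rw [mul_one]; exact h1.symm
      exact Nat.eq_of_mul_eq_mul_left (hl1 p hp) h2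
    · rintro ⟨ha0, hc1⟩
      rw [ha0, zero_add]
      have : ∑ p ∈ T, l p = ∑ p ∈ T, l p * c p :=
        Finset.sum_congr rfl fun p hp => by rw [hc1 p hp, mul_one]
      rw [this]

end Core

end Groth.Agent.Lib.Helper29.LengthFormula
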