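import Mathlib

/-!
# Mittag-Leffler for inverse systems of fibres of linear maps between Artinian modules
-/

set_option autoImplicit false

namespace Groth.Agent.Lib.Helper29.ML

universe u v w

variable {R : Type u} [CommRing R]
variable {V : ℕ → Type v} [∀ n, AddCommGroup (V n)] [∀ n, Module R (V n)]
variable {W : ℕ → Type w} [∀ n, AddCommGroup (W n)] [∀ n, Module R (W n)]

/-- iterated image sets -/
def Iset (t : ∀ n, V (n + 1) →ₗ[R] V n) (E : ∀ n, Set (V n)) : ℕ → ∀ n, Set (V n)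
  | 0 => E
  | m + 1 => fun n => (t n) '' (Iset t E m (n + 1))

/-- iterated image submodules -/
def Ksub (t : ∀ n, V (n + 1) →ₗ[R] V n) (K : ∀ n, Submodule R (V n)) : ℕ → ∀ n, Submodule R (V n)
  | 0 => K
  | m + 1 => fun n => (Ksub t K m (n + 1)).map (t n)

variable (t : ∀ n, V (n + 1) →ₗ[R] V n) (E : ∀ n, Set (V n)) (K : ∀ n, Submodule R (V n))

/-- `E n` is a nonempty coset of `K n`. -/
def IsCos {X : Type*} [AddCommGroup X] [Module R X] (E : Set X) (K : Submodule R X) : Prop :=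
  E.Nonempty ∧ ∀ x ∈ E, ∀ v, v ∈ E ↔ v - x ∈ K

theorem isCos_image {X Y : Type*} [AddCommGroup X] [Module R X] [AddCommGroup Y] [Module R Y]
    (φ : X →ₗ[R] Y) {E : Set X} {K : Submodule R X} (h : IsCos E K) :
    IsCos (φ '' E) (K.map φ) := by
  refine ⟨h.1.image _, ?_⟩
  rintro _ ⟨x', hx', rfl⟩ v
  constructor
  · rintro ⟨v', hv', rfl⟩
    exact ⟨v' - x', (h.2 x' hx' v').1 hv', by simp⟩
  · rintro ⟨k, hk, hk'⟩
    refine ⟨x' + k, (h.2 x' hx' _).2 (by simpa using hk), ?_⟩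
    rw [map_add, hk']; abel

theorem isCos_Iset (hE : ∀ n, IsCos (E n) (K n)) (m n : ℕ) :
    IsCos (Iset t E m n) (Ksub t K m n) := by
  induction m generalizing n with
  | zero => exact hE n
  | succ m ih => exact isCos_image (t n) (ih (n + 1))

theorem Iset_succ_subset (hcompat : ∀ n, ∀ v ∈ E (n + 1), t n v ∈ E n) (m n : ℕ) :
    Iset t E (m + 1) n ⊆ Iset t E m n := by
  induction m generalizing n with
  | zero =>
    rintro _ ⟨v, hv, rfl⟩
    exact hcompat n v hv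
  | succ m ih =>
    rintro _ ⟨v, hv, rfl⟩
    exact ⟨v, ih (n + 1) hv, rfl⟩

theorem Iset_anti (hcompat : ∀ n, ∀ v ∈ E (n + 1), t n v ∈ E n) (n : ℕ) {m m' : ℕ} (h : m ≤ m') :
    Iset t E m' n ⊆ Iset t E m n := by
  induction h with
  | refl => exact subset_rfl
  | step _ ih => exact (Iset_succ_subset t E hcompat _ n).trans ih

/-- inclusion of cosets gives inclusion of directions -/
theorem IsCos.le {X : Type*} [AddCommGroup X] [Module R X] {E E' : Set X} {K K' : Submodule R X}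
    (h : IsCos E K) (h' : IsCos E' K') (hs : E ⊆ E') : K ≤ K' := by
  obtain ⟨x, hx⟩ := h.1
  intro k hk
  have h1 : x + k ∈ E := (h.2 x hx _).2 (by simpa using hk)
  have h2 := (h'.2 x (hs hx) _).1 (hs h1)
  simpa using h2

theorem IsCos.eq_of_le {X : Type*} [AddCommGroup X] [Module R X] {E E' : Set X}
    {K K' : Submodule R X}
    (h : IsCos E K) (h' : IsCos E' K') (hs : E ⊆ E') (hK : K' ≤ K) : E = E' := by
  apply Set.Subset.antisymm hs
  obtain ⟨x, hx⟩ := h.1
  intro v hv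
  exact (h.2 x hx v).2 (hK ((h'.2 x (hs hx) v).1 hv))

theorem Ksub_anti (hE : ∀ n, IsCos (E n) (K n))
    (hcompat : ∀ n, ∀ v ∈ E (n + 1), t n v ∈ E n) (n : ℕ) {m m' : ℕ} (h : m ≤ m') :
    Ksub t K m' n ≤ Ksub t K m n :=
  (isCos_Iset t E K hE m' n).le (isCos_Iset t E K hE m n) (Iset_anti t E hcompat n h)

variable [∀ n, IsArtinian R (V n)]

theorem exists_stable (hE : ∀ n, IsCos (E n) (K n))
    (hcompat : ∀ n, ∀ v ∈ E (n + 1), t n v ∈ E n) (n : ℕ) :
    ∃ m₀, ∀ m, m₀ ≤ m → Iset t E m n = Iset t E m₀ n := by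
  let f : ℕ →o (Submodule R (V n))ᵒᵈ :=
    ⟨fun m => OrderDual.toDual (Ksub t K m n), fun m m' h => Ksub_anti t E K hE hcompat n h⟩
  obtain ⟨m₀, hm₀⟩ := IsArtinian.monotone_stabilizes f
  refine ⟨m₀, fun m hm => ?_⟩
  symm
  have hK : Ksub t K m₀ n = Ksub t K m n := by
    have := hm₀ m hm
    exact congrArg OrderDual.ofDual this
  exact ((isCos_Iset t E K hE m n).eq_of_le (isCos_Iset t E K hE m₀ n)
    (Iset_anti t E hcompat n hm) hK.le).symm

theorem exists_compatible (hE : ∀ n, IsCos (E n) (K n))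
    (hcompat : ∀ n, ∀ v ∈ E (n + 1), t n v ∈ E n) :
    ∃ e : ∀ n, V n, (∀ n, e n ∈ E n) ∧ ∀ n, t n (e (n + 1)) = e n := by
  classical
  choose m₀ hm₀ using exists_stable t E K hE hcompat
  let E' : ∀ n, Set (V n) := fun n => Iset t E (m₀ n) n
  have hE'E : ∀ n, E' n ⊆ E n := fun n => Iset_anti t E hcompat n (Nat.zero_le _)
  have hne : ∀ n, (E' n).Nonempty := fun n => (isCos_Iset t E K hE (m₀ n) n).1
  have hsurj : ∀ n, ∀ z ∈ E' n, ∃ z' ∈ E' (n + 1), t n z' = z := by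
    intro n z hz
    let m' := max (m₀ n) (m₀ (n + 1))
    have h1 : Iset t E (m' + 1) n = Iset t E (m₀ n) n :=
      hm₀ n (m' + 1) (le_trans (le_max_left _ _) (Nat.le_succ _))
    have hz' : z ∈ Iset t E (m' + 1) n := by rw [h1]; exact hz
    obtain ⟨z', hz'', rfl⟩ := hz'
    refine ⟨z', ?_, rfl⟩
    have h2 : Iset t E m' (n + 1) = Iset t E (m₀ (n + 1)) (n + 1) :=
      hm₀ (n + 1) m' (le_max_right _ _)
    show z' ∈ Iset t E (m₀ (n + 1)) (n + 1)
    rw [← h2]; exact hz''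
  choose nxt hnxt using hsurj
  let e : ∀ n, {z : V n // z ∈ E' n} := fun n =>
    Nat.rec (motive := fun n => {z : V n // z ∈ E' n}) ⟨(hne 0).some, (hne 0).some_mem⟩
      (fun n z => ⟨nxt n z.1 z.2, (hnxt n z.1 z.2).1⟩) n
  refine ⟨fun n => (e n).1, fun n => hE'E n (e n).2, fun n => ?_⟩
  exact (hnxt n (e n).1 (e n).2).2

/-- Version with fibres of linear maps. -/
theorem exists_compatible_fibre
    (f : ∀ n, V n →ₗ[R] W n) (c : ∀ n, W n)
    (hne : ∀ n, ∃ v, f n v = c n)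
    (hcompat : ∀ n v, f (n + 1) v = c (n + 1) → f n (t n v) = c n) :
    ∃ e : ∀ n, V n, (∀ n, f n (e n) = c n) ∧ ∀ n, t n (e (n + 1)) = e n := by
  refine exists_compatible t (fun n => {v | f n v = c n}) (fun n => LinearMap.ker (f n)) ?_ ?_
  · intro n
    refine ⟨hne n, fun x hx v => ?_⟩
    simp only [Set.mem_setOf_eq] at hx ⊢
    rw [LinearMap.mem_ker, map_sub, hx, sub_eq_zero]
  · intro n v hv
    exact hcompat n v hv

end Groth.Agent.Lib.Helper29.ML
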