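import Groth.Agent.Lib.Helper29.MLA

set_option autoImplicit false
open scoped TensorProduct

namespace Groth.Agent.Lib.Helper29.ML

universe u

variable {R : Type u} [CommRing R]

section Pi

variable {X Y : Type u} [AddCommGroup X] [Module R X] [AddCommGroup Y] [Module R Y]
variable (k : ℕ)

/-- naturality of `piScalarRight`. -/
theorem piScalarRight_rTensor (φ : X →ₗ[R] Y) (z : X ⊗[R] (Fin k → R)) (j : Fin k) :
    TensorProduct.piScalarRight R R Y (Fin k) (φ.rTensor (Fin k → R) z) j =
      φ (TensorProduct.piScalarRight R R X (Fin k) z j) := by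
  induction z using TensorProduct.induction_on with
  | zero => simp
  | tmul x f =>
    simp [TensorProduct.piScalarRight_apply, TensorProduct.piScalarRightHom_tmul]
  | add a b ha hb => simp only [map_add, Pi.add_apply, ha, hb]

end Pi

section Lim

variable {M : ℕ → Type u} [∀ n, AddCommGroup (M n)] [∀ n, Module R (M n)]
variable (t : ∀ n, M (n + 1) →ₗ[R] M n)
variable {L : Type u} [AddCommGroup L] [Module R L] (π : ∀ n, L →ₗ[R] M n)

/-- `L` with projections `π` is a limit of the tower. -/
structure IsLim : Prop where
  compat : ∀ n x, t n (π (n + 1) x) = π n x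
  inj : ∀ x, (∀ n, π n x = 0) → x = 0
  surj : ∀ m : ∀ n, M n, (∀ n, t n (m (n + 1)) = m n) → ∃ x, ∀ n, π n x = m n

variable {t π}

theorem IsLim.tensor_pi (h : IsLim t π) (k : ℕ) :
    IsLim (fun n => (t n).rTensor (Fin k → R)) (fun n => (π n).rTensor (Fin k → R)) := by
  classical
  refine ⟨fun n x => ?_, fun x hx => ?_, fun m hm => ?_⟩
  · rw [← LinearMap.comp_apply, ← LinearMap.rTensor_comp]
    congr 2
    ext y
    exact h.compat n y
  · apply (TensorProduct.piScalarRight R R L (Fin k)).injective
    rw [map_zero]
    funext j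
    apply h.inj
    intro n
    rw [← piScalarRight_rTensor, hx n]
    simp
  · have : ∀ j : Fin k, ∃ x : L, ∀ n, π n x = TensorProduct.piScalarRight R R (M n) (Fin k) (m n) j := by
      intro j
      apply h.surj
      intro n
      rw [← piScalarRight_rTensor, hm n]
    choose x hx using this
    refine ⟨(TensorProduct.piScalarRight R R L (Fin k)).symm x, fun n => ?_⟩
    apply (TensorProduct.piScalarRight R R (M n) (Fin k)).injective
    funext j
    rw [piScalarRight_rTensor, LinearEquiv.apply_symm_apply, hx j n]

end Lim

section Art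

variable {X : Type u} [AddCommGroup X] [Module R X]

theorem isArtinian_tensor_pi [IsArtinian R X] (k : ℕ) : IsArtinian R (X ⊗[R] (Fin k → R)) := by
  classical
  exact (TensorProduct.piScalarRight R R X (Fin k)).symm.isArtinian_iff.mp inferInstance

end Art

end Groth.Agent.Lib.Helper29.ML
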