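import Groth.Agent.Lib.Helper29.MLB

set_option autoImplicit false
open scoped TensorProduct

namespace Groth.Agent.Lib.Helper29.ML

universe u

variable {R : Type u} [CommRing R]
variable {M : ℕ → Type u} [∀ n, AddCommGroup (M n)] [∀ n, Module R (M n)]
variable {t : ∀ n, M (n + 1) →ₗ[R] M n}
variable {L : Type u} [AddCommGroup L] [Module R L] {π : ∀ n, L →ₗ[R] M n}
variable (N : Type u) [AddCommGroup N] [Module R N]

theorem rl_comm {X Y A B : Type*} [AddCommGroup X] [Module R X] [AddCommGroup Y] [Module R Y]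
    [AddCommGroup A] [Module R A] [AddCommGroup B] [Module R B]
    (φ : X →ₗ[R] Y) (g : A →ₗ[R] B) (z : X ⊗[R] A) :
    φ.rTensor B (g.lTensor X z) = g.lTensor Y (φ.rTensor A z) := by
  rw [← LinearMap.comp_apply, ← LinearMap.comp_apply, LinearMap.rTensor_comp_lTensor,
    LinearMap.lTensor_comp_rTensor]

theorem IsLim.tensor [Module.FinitePresentation R N] [∀ n, IsArtinian R (M n)]
    (h : IsLim t π) :
    IsLim (fun n => (t n).rTensor N) (fun n => (π n).rTensor N) := by
  classical
  obtain ⟨b, a, p, g, hp, hgp⟩ := Module.FinitePresentation.exists_fin' R N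
  have hb := h.tensor_pi b
  have ha := h.tensor_pi a
  haveI : ∀ n, IsArtinian R (M n ⊗[R] (Fin b → R)) := fun n => isArtinian_tensor_pi b
  haveI : ∀ n, IsArtinian R (M n ⊗[R] (Fin a → R)) := fun n => isArtinian_tensor_pi a
  have hexact : ∀ (X : Type u) [AddCommGroup X] [Module R X],
      Function.Exact (g.lTensor X) (p.lTensor X) := fun X _ _ => lTensor_exact X hgp hp
  have hpsurj : ∀ (X : Type u) [AddCommGroup X] [Module R X],
      Function.Surjective (p.lTensor X) := fun X _ _ => LinearMap.lTensor_surjective X hp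
  refine ⟨fun n x => ?_, fun z hz => ?_, fun y hy => ?_⟩
  · rw [← LinearMap.comp_apply, ← LinearMap.rTensor_comp]
    congr 2
    ext y
    exact h.compat n y
  · -- injectivity
    obtain ⟨z₀, rfl⟩ := hpsurj L z
    let x : ∀ n, M n ⊗[R] (Fin b → R) := fun n => (π n).rTensor _ z₀
    have hx : ∀ n, p.lTensor (M n) (x n) = 0 := by
      intro n
      rw [← rl_comm]; exact hz n
    have hxc : ∀ n, (t n).rTensor _ (x (n + 1)) = x n := fun n => hb.compat n z₀
    obtain ⟨w, hw, hwc⟩ := exists_compatible_fibre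
      (V := fun n => M n ⊗[R] (Fin a → R)) (W := fun n => M n ⊗[R] (Fin b → R))
      (fun n => (t n).rTensor (Fin a → R))
      (fun n => g.lTensor (M n)) x
      (fun n => ((hexact (M n)) (x n)).1 (hx n))
      (fun n v hv => by rw [← rl_comm, hv, hxc])
    obtain ⟨w', hw'⟩ := ha.surj w hwc
    have : g.lTensor L w' = z₀ := by
      rw [← sub_eq_zero]
      apply hb.inj
      intro n
      rw [map_sub, sub_eq_zero, rl_comm, hw' n, hw n]
    rw [← this]
    exact ((hexact L) _).2 ⟨w', rfl⟩
  · -- surjectivity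
    obtain ⟨e, he, hec⟩ := exists_compatible_fibre
      (V := fun n => M n ⊗[R] (Fin b → R)) (W := fun n => M n ⊗[R] N)
      (fun n => (t n).rTensor (Fin b → R))
      (fun n => p.lTensor (M n)) y
      (fun n => hpsurj (M n) (y n))
      (fun n v hv => by rw [← rl_comm, hv, hy])
    obtain ⟨z₀, hz₀⟩ := hb.surj e hec
    refine ⟨p.lTensor L z₀, fun n => ?_⟩
    rw [rl_comm, hz₀ n, he n]

end Groth.Agent.Lib.Helper29.ML
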