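import Groth.Agent.Lib.Helper29.MLC

set_option autoImplicit false
open CategoryTheory CategoryTheory.Limits CategoryTheory.MonoidalCategory Opposite
open scoped TensorProduct

namespace Groth.Agent.Lib.Helper29.ML

universe u

variable {R : Type u} [CommRing R] (M : ℕᵒᵖ ⥤ ModuleCat.{u} R)

/-- transition maps -/
noncomputable def tr (n : ℕ) : M.obj (op (n + 1)) →ₗ[R] M.obj (op n) :=
  (M.map (homOfLE (Nat.le_succ n)).op).hom

/-- projections -/
noncomputable def pr (n : ℕ) : (limit M : ModuleCat.{u} R) →ₗ[R] M.obj (op n) :=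
  (limit.π M (op n)).hom

theorem map_eq (m : ∀ n, M.obj (op n)) (hm : ∀ n, tr M n (m (n + 1)) = m n) {a b : ℕ}
    (h : b ≤ a) (f : op a ⟶ op b) : (M.map f).hom (m a) = m b := by
  induction a, h using Nat.le_induction with
  | base =>
    have : f = 𝟙 _ := Subsingleton.elim _ _
    rw [this, M.map_id]; rfl
  | succ a h ih =>
    have : f = (homOfLE (Nat.le_succ a)).op ≫ (homOfLE h).op := Subsingleton.elim _ _
    rw [this, M.map_comp, ModuleCat.hom_comp, LinearMap.comp_apply]
    have h1 : (M.map (homOfLE (Nat.le_succ a)).op).hom (m (a + 1)) = m a := hm a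
    rw [h1]
    exact ih _

theorem isLim : IsLim (tr M) (pr M) := by
  refine ⟨fun n x => ?_, fun x hx => ?_, fun m hm => ?_⟩
  · have := limit.w M (homOfLE (Nat.le_succ n)).op
    have h2 := congrArg (fun φ => (ModuleCat.Hom.hom φ) x) this
    simpa [tr, pr, ModuleCat.hom_comp] using h2
  · apply Concrete.limit_ext M x 0
    intro j
    have : (limit.π M (op (unop j))).hom x = 0 := hx (unop j)
    show (limit.π M j).hom x = (limit.π M j).hom 0
    rw [map_zero]; exact this
  · let E := (forget (ModuleCat.{u} R)).mapCone (limit.cone M)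
    have hE : IsLimit E := isLimitOfPreserves (forget _) (limit.isLimit M)
    let s : (M ⋙ forget (ModuleCat.{u} R)).sections :=
      ⟨fun j => m (unop j), by
        intro j j' f
        have hle : unop j' ≤ unop j := leOfHom f.unop
        exact map_eq M m hm hle f⟩
    refine ⟨(Types.isLimitEquivSections hE).symm s, fun n => ?_⟩
    exact Types.isLimitEquivSections_symm_apply hE s (op n)

variable (N : Type u) [AddCommGroup N] [Module R N]

theorem isIso_post [Module.FinitePresentation R N] (hM : ∀ n : ℕᵒᵖ, IsFiniteLength R (M.obj n)) :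
    IsIso (limit.post M (tensorRight (ModuleCat.of R N))) := by
  haveI : ∀ n : ℕ, IsArtinian R (M.obj (op n)) := fun n =>
    (isFiniteLength_iff_isNoetherian_isArtinian.mp (hM (op n))).2
  have hlim := (isLim M).tensor N
  have key : ∀ (n : ℕ) (z : ((tensorRight (ModuleCat.of R N)).obj (limit M) : ModuleCat.{u} R)),
      (limit.π (M ⋙ tensorRight (ModuleCat.of R N)) (op n)).hom
        ((limit.post M (tensorRight (ModuleCat.of R N))).hom z) = (pr M n).rTensor N z := by
    intro n z
    have := limit.post_π M (tensorRight (ModuleCat.of R N)) (op n)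
    have h2 : (limit.post M (tensorRight (ModuleCat.of R N)) ≫
        limit.π (M ⋙ tensorRight (ModuleCat.of R N)) (op n)).hom z =
        ((tensorRight (ModuleCat.of R N)).map (limit.π M (op n))).hom z := by rw [this]
    rw [ModuleCat.hom_comp, LinearMap.comp_apply] at h2
    exact h2
  rw [ConcreteCategory.isIso_iff_bijective]
  constructor
  · intro z z' hzz
    rw [← sub_eq_zero]
    apply hlim.inj
    intro n
    rw [map_sub, sub_eq_zero, ← key, ← key]
    exact congrArg _ hzz
  · intro y
    let yn : ∀ n : ℕ, (M.obj (op n) : Type u) ⊗[R] N := fun n =>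
      (limit.π (M ⋙ tensorRight (ModuleCat.of R N)) (op n)).hom y
    have hyn : ∀ n, (tr M n).rTensor N (yn (n + 1)) = yn n := by
      intro n
      have := limit.w (M ⋙ tensorRight (ModuleCat.of R N)) (homOfLE (Nat.le_succ n)).op
      have h2 : (limit.π (M ⋙ tensorRight (ModuleCat.of R N)) (op (n + 1)) ≫
          (M ⋙ tensorRight (ModuleCat.of R N)).map (homOfLE (Nat.le_succ n)).op).hom y =
          (limit.π (M ⋙ tensorRight (ModuleCat.of R N)) (op n)).hom y := by rw [this]
      rw [ModuleCat.hom_comp, LinearMap.comp_apply] at h2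
      exact h2
    obtain ⟨z, hz⟩ := hlim.surj yn hyn
    refine ⟨z, ?_⟩
    apply Concrete.limit_ext
    intro j
    have h1 := key (unop j) z
    rw [hz] at h1
    exact h1

end Groth.Agent.Lib.Helper29.ML
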