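import Groth.Prelude.Def_GLin
import Mathlib.Algebra.Polynomial.Laurent
import Mathlib.Algebra.MvPolynomial.Eval

/-!
# One-parameter limits in affine space: coefficient criteria
-/

set_option autoImplicit false

universe u

open TensorProduct LaurentPolynomial Polynomial

namespace Groth.Agent.Lib.Helper29.MuLib

section Laurent

variable {k : Type u} [CommRing k]

theorem coeff_toLaurent_natCast (q : k[X]) (n : ℕ) : (toLaurent q).coeff (n : ℤ) = q.coeff n := by
  rw [LaurentPolynomial.coeff_toLaurent]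
  have := Finsupp.mapDomain_apply (Nat.castEmbedding (R := ℤ)).injective q.toFinsupp.coeff n
  rw [Nat.castEmbedding_apply] at this
  rw [this]
  cases q
  rfl

theorem coeff_toLaurent_neg (q : k[X]) {n : ℤ} (hn : n < 0) : (toLaurent q).coeff n = 0 := by
  rw [LaurentPolynomial.coeff_toLaurent]
  apply Finsupp.mapDomain_of_notMem_range
  rintro ⟨j, hj⟩
  rw [Nat.castEmbedding_apply] at hj
  omega

theorem coeff_trunc (f : k[T;T⁻¹]) (n : ℕ) : (trunc f).coeff n = f.coeff (n : ℤ) := by
  induction f using LaurentPolynomial.induction_on' with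
  | add f g hf hg => simp only [map_add, Polynomial.coeff_add, hf, hg, AddMonoidAlgebra.coeff_add,
      Finsupp.add_apply]
  | C_mul_T m a =>
    rw [trunc_C_mul_T, ← single_eq_C_mul_T, AddMonoidAlgebra.coeff_single]
    split_ifs with h
    · lift m to ℕ using h
      rw [Int.toNat_natCast, Polynomial.coeff_monomial, Finsupp.single_apply]
      simp only [Nat.cast_inj]
    · rw [Polynomial.coeff_zero, Finsupp.single_apply, if_neg]
      omega

theorem toLaurent_trunc_of (f : k[T;T⁻¹]) (hf : ∀ n : ℤ, n < 0 → f.coeff n = 0) :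
    toLaurent (trunc f) = f := by
  apply LaurentPolynomial.ext
  intro n
  rcases lt_or_ge n 0 with h | h
  · rw [coeff_toLaurent_neg _ h, hf n h]
  · lift n to ℕ using h
    rw [coeff_toLaurent_natCast, coeff_trunc]

theorem coeff_T_mul (m n : ℤ) (f : k[T;T⁻¹]) : (T m * f).coeff n = f.coeff (n - m) := by
  rw [T, AddMonoidAlgebra.coeff_single_mul_apply, one_mul]
  congr 1
  ring

end Laurent

section Family

variable {k : Type u} [CommRing k] {ι : Type u}

theorem lift_unique {h h' : MvPolynomial ι k →ₐ[k] k[X]}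
    (e : (toLaurentAlg (R := k)).comp h = (toLaurentAlg (R := k)).comp h') : h = h' := by
  apply AlgHom.ext
  intro f
  have := congrArg (fun φ : MvPolynomial ι k →ₐ[k] k[T;T⁻¹] => φ f) e
  exact Polynomial.toLaurent_injective this

theorem comp_eq_aeval_iff (f : ι → k[T;T⁻¹]) (h : MvPolynomial ι k →ₐ[k] k[X]) :
    (toLaurentAlg (R := k)).comp h = MvPolynomial.aeval f ↔
      ∀ i, toLaurent (h (MvPolynomial.X i)) = f i := by
  constructor
  · intro e i
    have := congrArg (fun φ : MvPolynomial ι k →ₐ[k] k[T;T⁻¹] => φ (MvPolynomial.X i)) e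
    simpa using this
  · intro e
    apply MvPolynomial.algHom_ext
    intro i
    simpa using e i

theorem exists_lift_iff (f : ι → k[T;T⁻¹]) :
    (∃ h : MvPolynomial ι k →ₐ[k] k[X], (toLaurentAlg (R := k)).comp h = MvPolynomial.aeval f) ↔
      ∀ i (n : ℤ), n < 0 → (f i).coeff n = 0 := by
  constructor
  · rintro ⟨h, e⟩ i n hn
    rw [← (comp_eq_aeval_iff f h).mp e i]
    exact coeff_toLaurent_neg _ hn
  · intro hf
    refine ⟨MvPolynomial.aeval fun i => trunc (f i), ?_⟩
    rw [comp_eq_aeval_iff]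
    intro i
    rw [MvPolynomial.aeval_X]
    exact toLaurent_trunc_of _ (hf i)

theorem aeval_zero_comp_eq_iff (f : ι → k[T;T⁻¹]) (h : MvPolynomial ι k →ₐ[k] k[X])
    (e : (toLaurentAlg (R := k)).comp h = MvPolynomial.aeval f) :
    (Polynomial.aeval (0 : k)).comp h = MvPolynomial.aeval (fun _ : ι => (0 : k)) ↔
      ∀ i, (f i).coeff 0 = 0 := by
  have key : ∀ i, ((Polynomial.aeval (0 : k)).comp h) (MvPolynomial.X i) = (f i).coeff 0 := by
    intro i
    rw [← (comp_eq_aeval_iff f h).mp e i]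
    have := coeff_toLaurent_natCast (h (MvPolynomial.X i)) 0
    rw [Nat.cast_zero] at this
    rw [this, AlgHom.comp_apply, Polynomial.coe_aeval_eq_eval, Polynomial.coeff_zero_eq_eval_zero]
  constructor
  · intro e' i
    rw [← key i, e', MvPolynomial.aeval_X]
  · intro hf
    apply MvPolynomial.algHom_ext
    intro i
    rw [key i, hf i, MvPolynomial.aeval_X]

end Family

section GIT

variable {k : Type u} [Field k] {A : Type u} [CommRing A] [Bialgebra k A]
  {ι : Type u} [Fintype ι] [HopfRep.Comod k A (MvPolynomial ι k)]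
  [GLin.IsCoactAlg k A (MvPolynomial ι k)]

/-- coordinates of the one-parameter orbit -/
noncomputable def P (lam : A →ₐc[k] k[T;T⁻¹]) (v : ι → k) (i : ι) : k[T;T⁻¹] :=
  GLin.lamOrbit k A lam (GLin.vecPt k ι v) (MvPolynomial.X i)

omit [Fintype ι] in
theorem lamOrbit_eq_aeval (lam : A →ₐc[k] k[T;T⁻¹]) (v : ι → k) :
    GLin.lamOrbit k A lam (GLin.vecPt k ι v) = MvPolynomial.aeval (P lam v) := by
  apply MvPolynomial.algHom_ext
  intro i
  rw [MvPolynomial.aeval_X]
  rfl

omit [Fintype ι] in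
theorem shiftedOrbit_eq (lam : A →ₐc[k] k[T;T⁻¹]) (v : ι → k) (m : ℤ) :
    GLin.shiftedOrbit k A lam v m = MvPolynomial.aeval (fun i => T m * P lam v i) := rfl

theorem isMu_iff (lam : A →ₐc[k] k[T;T⁻¹]) (v : ι → k) (m : ℤ) :
    GLin.IsMu k A lam v m ↔
      (∀ i (n : ℤ), n < -m → (P lam v i).coeff n = 0) ∧ ∃ i, (P lam v i).coeff (-m) ≠ 0 := by
  unfold GLin.IsMu
  rw [shiftedOrbit_eq]
  constructor
  · rintro ⟨h, e, hne⟩
    constructor
    · intro i n hn
      have := (exists_lift_iff _).mp ⟨h, e⟩ i (n + m) (by omega)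
      rwa [coeff_T_mul, add_sub_cancel_right] at this
    · by_contra hcon
      push Not at hcon
      apply hne
      rw [aeval_zero_comp_eq_iff _ h e]
      intro i
      rw [coeff_T_mul, zero_sub]
      exact hcon i
  · rintro ⟨h1, i, hi⟩
    obtain ⟨h, e⟩ := (exists_lift_iff (fun i => T m * P lam v i)).mpr (by
      intro i n hn
      rw [coeff_T_mul]
      exact h1 i _ (by omega))
    refine ⟨h, e, ?_⟩
    rw [Ne, aeval_zero_comp_eq_iff _ h e]
    intro hall
    have := hall i
    rw [coeff_T_mul, zero_sub] at this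
    exact hi this

theorem hasLimit_iff (lam : A →ₐc[k] k[T;T⁻¹]) (v : ι → k) :
    GLin.HasLimit k A lam (GLin.vecPt k ι v) ↔ ∀ i (n : ℤ), n < 0 → (P lam v i).coeff n = 0 := by
  unfold GLin.HasLimit
  rw [lamOrbit_eq_aeval]
  exact exists_lift_iff _

theorem isLimit_zero_iff (lam : A →ₐc[k] k[T;T⁻¹]) (v : ι → k) :
    GLin.IsLimit k A lam (GLin.vecPt k ι v) (GLin.vecPt k ι (fun _ => (0 : k))) ↔
      ∀ i (n : ℤ), n ≤ 0 → (P lam v i).coeff n = 0 := by
  unfold GLin.IsLimit
  rw [lamOrbit_eq_aeval]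
  constructor
  · rintro ⟨h, e, e0⟩ i n hn
    rcases lt_or_eq_of_le hn with hlt | rfl
    · exact (exists_lift_iff _).mp ⟨h, e⟩ i n hlt
    · exact (aeval_zero_comp_eq_iff _ h e).mp e0 i
  · intro hall
    obtain ⟨h, e⟩ := (exists_lift_iff (P lam v)).mpr (fun i n hn => hall i n hn.le)
    exact ⟨h, e, (aeval_zero_comp_eq_iff _ h e).mpr (fun i => hall i 0 le_rfl)⟩

omit [Fintype ι] in
theorem counit_orbitHom (x : MvPolynomial ι k →ₐ[k] k) (f : MvPolynomial ι k) :
    Coalgebra.counit (R := k) (GLin.orbitHom k A x f) = x f := by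
  have h1 : ∀ z : MvPolynomial ι k ⊗[k] A,
      Coalgebra.counit (R := k) ((Algebra.TensorProduct.lid k A)
        (Algebra.TensorProduct.map x (AlgHom.id k A) z)) =
      TensorProduct.lid k k ((TensorProduct.map x.toLinearMap LinearMap.id)
        ((Coalgebra.counit (R := k) (A := A)).lTensor (MvPolynomial ι k) z)) := by
    intro z
    induction z using TensorProduct.induction_on with
    | zero => simp
    | tmul r a => simp
    | add z w hz hw => simp only [map_add, hz, hw]
  have h2 := LinearMap.congr_fun (HopfRep.Comod.counit_comp (k := k) (A := A)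
    (V := MvPolynomial ι k)) f
  simp only [LinearMap.comp_apply, LinearMap.flip_apply, TensorProduct.mk_apply] at h2
  change Coalgebra.counit (R := k) ((Algebra.TensorProduct.lid k A)
    (Algebra.TensorProduct.map x (AlgHom.id k A) (HopfRep.Comod.coact (k := k) (A := A) f))) = x f
  rw [h1, h2]
  simp

theorem counit_P (lam : A →ₐc[k] k[T;T⁻¹]) (v : ι → k) (i : ι) :
    Coalgebra.counit (R := k) (P lam v i) = v i := by
  unfold P GLin.lamOrbit
  rw [AlgHom.comp_apply]
  have := CoalgHomClass.counit_comp_apply (R := k) lam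
    (GLin.orbitHom k A (GLin.vecPt k ι v) (MvPolynomial.X i))
  erw [this]
  rw [counit_orbitHom, MvPolynomial.aeval_X]

theorem exists_P_ne_zero (lam : A →ₐc[k] k[T;T⁻¹]) {v : ι → k} (hv : v ≠ 0) :
    ∃ i, P lam v i ≠ 0 := by
  by_contra hcon
  push Not at hcon
  apply hv
  funext i
  rw [← counit_P lam v i, hcon i, map_zero]
  rfl

/-- existence and uniqueness of the numerical value -/
theorem existsUnique_isMu (lam : A →ₐc[k] k[T;T⁻¹]) {v : ι → k} (hv : v ≠ 0) :
    ∃! m : ℤ, GLin.IsMu k A lam v m := by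
  classical
  obtain ⟨i₀, hi₀⟩ := exists_P_ne_zero lam hv
  let S : Finset ℤ := Finset.univ.biUnion fun i => (P lam v i).coeff.support
  have hS : S.Nonempty := by
    have : (P lam v i₀).coeff ≠ 0 := fun h => hi₀ (AddMonoidAlgebra.coeff_injective (by simpa using h))
    obtain ⟨n, hn⟩ := Finsupp.support_nonempty_iff.mpr this
    exact ⟨n, Finset.mem_biUnion.mpr ⟨i₀, Finset.mem_univ _, hn⟩⟩
  have hmem : ∀ n, n ∈ S ↔ ∃ i, (P lam v i).coeff n ≠ 0 := by
    intro n
    simp [S]
  refine ⟨-(S.min' hS), ?_, ?_⟩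
  · show GLin.IsMu k A lam v (-(S.min' hS))
    rw [isMu_iff, neg_neg]
    refine ⟨fun i n hn => ?_, (hmem _).mp (S.min'_mem hS)⟩
    by_contra hne
    have : n ∈ S := (hmem n).mpr ⟨i, hne⟩
    exact absurd (S.min'_le n this) (not_le.mpr hn)
  · intro m hm
    rw [isMu_iff] at hm
    obtain ⟨h1, i, hi⟩ := hm
    have hmS : -m ∈ S := (hmem _).mpr ⟨i, hi⟩
    have hle : S.min' hS ≤ -m := S.min'_le _ hmS
    have hge : -m ≤ S.min' hS := by
      by_contra hlt
      push Not at hlt
      obtain ⟨j, hj⟩ := (hmem _).mp (S.min'_mem hS)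
      exact hj (h1 j _ hlt)
    omega

end GIT

end Groth.Agent.Lib.Helper29.MuLib
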