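import Mathlib
import Groth.Agent.S14438

/-!
# Local (quasi-)trivialisations, expressed globally

For finitely presented modules that become isomorphic after localisation at a submonoid `S`
we produce global maps `u`, `v` with `v ∘ u = s • id` and `u ∘ v = s • id` for some `s ∈ S`.
-/

set_option autoImplicit false
universe u

namespace Groth.Agent.Lib.Helper29.NmA

open TensorProduct

section Quasi

variable {R : Type*} [CommRing R] (S : Submonoid R)
variable {M N M' N' : Type*} [AddCommGroup M] [Module R M] [AddCommGroup N] [Module R N]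
variable [AddCommGroup M'] [Module R M'] [AddCommGroup N'] [Module R N']
variable (f : M →ₗ[R] M') [IsLocalizedModule S f] (g : N →ₗ[R] N') [IsLocalizedModule S g]

include f g in
/-- Two finitely presented modules with isomorphic localisations are quasi-isomorphic. -/
theorem exists_quasi_inverse [Module.FinitePresentation R M] [Module.FinitePresentation R N]
    (e : M' ≃ₗ[R] N') :
    ∃ (u : M →ₗ[R] N) (v : N →ₗ[R] M) (s : S),
      v ∘ₗ u = (s : R) • LinearMap.id ∧ u ∘ₗ v = (s : R) • LinearMap.id := by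
  obtain ⟨u, s₁, hu⟩ :=
    Module.FinitePresentation.exists_lift_of_isLocalizedModule S g (e.toLinearMap ∘ₗ f)
  obtain ⟨v, s₂, hv⟩ :=
    Module.FinitePresentation.exists_lift_of_isLocalizedModule S f (e.symm.toLinearMap ∘ₗ g)
  have hu' : ∀ x, g (u x) = (s₁ : R) • e (f x) := fun x => by
    have := LinearMap.congr_fun hu x
    simpa [Submonoid.smul_def] using this
  have hv' : ∀ x, f (v x) = (s₂ : R) • e.symm (g x) := fun x => by
    have := LinearMap.congr_fun hv x
    simpa [Submonoid.smul_def] using this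
  have h1 : f ∘ₗ (v ∘ₗ u) = f ∘ₗ (((s₁ : R) * (s₂ : R)) • LinearMap.id) := by
    ext x
    simp only [LinearMap.coe_comp, Function.comp_apply, LinearMap.smul_apply, LinearMap.id_coe,
      id_eq, map_smul]
    rw [hv', hu', map_smul, e.symm_apply_apply, smul_smul, mul_comm]
  have h2 : g ∘ₗ (u ∘ₗ v) = g ∘ₗ (((s₁ : R) * (s₂ : R)) • LinearMap.id) := by
    ext x
    simp only [LinearMap.coe_comp, Function.comp_apply, LinearMap.smul_apply, LinearMap.id_coe,
      id_eq, map_smul]
    rw [hu', hv', map_smul, e.apply_symm_apply, smul_smul]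
  obtain ⟨s₃, hs₃⟩ := Module.Finite.exists_smul_of_comp_eq_of_isLocalizedModule S f _ _ h1
  obtain ⟨s₄, hs₄⟩ := Module.Finite.exists_smul_of_comp_eq_of_isLocalizedModule S g _ _ h2
  have h3 : (s₃ : R) • (v ∘ₗ u) = (s₃ : R) • (((s₁ : R) * (s₂ : R)) • LinearMap.id) := by
    simpa [Submonoid.smul_def] using hs₃
  have h4 : (s₄ : R) • (u ∘ₗ v) = (s₄ : R) • (((s₁ : R) * (s₂ : R)) • LinearMap.id) := by
    simpa [Submonoid.smul_def] using hs₄
  refine ⟨u, ((s₃ : R) * (s₄ : R)) • v, s₃ * s₄ * (s₁ * s₂), ?_, ?_⟩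
  · have : (((s₃ : R) * (s₄ : R)) • v) ∘ₗ u = (s₄ : R) • ((s₃ : R) • (v ∘ₗ u)) := by
      rw [LinearMap.smul_comp, mul_comm, mul_smul]
    rw [this, h3, smul_smul, smul_smul]
    congr 1 <;> (simp only [Submonoid.coe_mul] <;> ring)
  · have : u ∘ₗ (((s₃ : R) * (s₄ : R)) • v) = (s₃ : R) • ((s₄ : R) • (u ∘ₗ v)) := by
      rw [LinearMap.comp_smul, mul_smul]
    rw [this, h4, smul_smul, smul_smul]
    congr 1 <;> (simp only [Submonoid.coe_mul] <;> ring)

end Quasi

theorem finrank_quot_tensor {R : Type*} [CommRing R] (P : Ideal R) [P.IsMaximal]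
    (M : Type*) [AddCommGroup M] [Module R M] [Module.Finite R M] [Module.Flat R M] :
    Module.finrank (R ⧸ P) ((R ⧸ P) ⊗[R] M) = Module.rankAtStalk M ⟨P, inferInstance⟩ := by
  let _ : Field (R ⧸ P) := Ideal.Quotient.field P
  rw [Module.rankAtStalk_eq]
  have e := AlgebraTensorModule.cancelBaseChange R (R ⧸ P) P.ResidueField P.ResidueField M
  rw [← e.finrank_eq]
  exact (Module.finrank_baseChange (R := P.ResidueField) (S := R ⧸ P) (M' := (R ⧸ P) ⊗[R] M)).symm

theorem triv_line (A B : Type u) [CommRing A] [CommRing B] [Algebra A B] [Module.Finite A B]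
    (M : Type u) [AddCommGroup M] [Module B M] [Module.Finite B M] [Module.Projective B M]
    (hM : ∀ q : PrimeSpectrum B, Module.rankAtStalk M q = 1) (p : Ideal A) [p.IsPrime] :
    ∃ (f : A) (e : M) (v : M →ₗ[B] B), f ∉ p ∧ v e = algebraMap A B f ∧
      ∀ l, v l • e = algebraMap A B f • l := by
  let S := Algebra.algebraMapSubmonoid B p.primeCompl
  let B' := Localization S
  let M' := LocalizedModule S M
  have hfinB' : Module.Finite (Localization.AtPrime p) B' :=
    Module.Finite.of_isLocalization A B p.primeCompl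
  have hsl : Finite (MaximalSpectrum B') :=
    Groth.Agent.S14438.finite_maximalSpectrum_of_finite (Localization.AtPrime p)
  have rk : ∀ P : MaximalSpectrum B',
      Module.finrank (B' ⧸ P.1) ((B' ⧸ P.1) ⊗[B'] M') = 1 := by
    intro P
    have := P.2
    rw [finrank_quot_tensor P.1 M',
      Module.rankAtStalk_isBaseChange
        (IsLocalizedModule.isBaseChange S B' (LocalizedModule.mkLinearMap S M))]
    exact hM _
  obtain ⟨b⟩ := Module.nonempty_basis_of_flat_of_finrank_eq B' M' 1 rk
  let e' : B' ≃ₗ[B'] M' := (b.equivFun ≪≫ₗ LinearEquiv.funUnique (Fin 1) B' B').symm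
  have hfpM : Module.FinitePresentation B M := Module.finitePresentation_of_projective B M
  obtain ⟨u, v, s, h1, h2⟩ := exists_quasi_inverse S (Algebra.linearMap B B')
    (LocalizedModule.mkLinearMap S M) (e'.restrictScalars B)
  obtain ⟨a, ha, has⟩ := s.2
  refine ⟨a, u 1, v, ha, ?_, ?_⟩
  · have := LinearMap.congr_fun h1 1
    simp only [LinearMap.coe_comp, Function.comp_apply, LinearMap.smul_apply, LinearMap.id_coe,
      id_eq, smul_eq_mul, mul_one] at this
    rw [this, has]
  · intro l
    have := LinearMap.congr_fun h2 l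
    simp only [LinearMap.coe_comp, Function.comp_apply, LinearMap.smul_apply, LinearMap.id_coe,
      id_eq] at this
    rw [← map_smul, smul_eq_mul, mul_one, this, has]

theorem triv_alg (A : Type u) [CommRing A] (B : Type u) [AddCommGroup B] [Module A B]
    [Module.Finite A B] [Module.Projective A B] (n : ℕ) (p : Ideal A) [p.IsPrime]
    (hn : Module.rankAtStalk B ⟨p, inferInstance⟩ = n) :
    ∃ (f : A) (a : (Fin n → A) →ₗ[A] B) (b : B →ₗ[A] (Fin n → A)), f ∉ p ∧
      b ∘ₗ a = f • LinearMap.id ∧ a ∘ₗ b = f • LinearMap.id := by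
  let S := p.primeCompl
  let Ap := Localization.AtPrime p
  let Bp := LocalizedModule S B
  have hfree : Module.Free Ap Bp := Module.free_of_flat_of_isLocalRing
  have hfin : Module.finrank Ap Bp = n := hn
  let β := Module.finBasisOfFinrankEq Ap Bp hfin
  let f₀ : (Fin n → A) →ₗ[A] (Fin n → Ap) :=
    LinearMap.pi fun i => (Algebra.linearMap A Ap) ∘ₗ LinearMap.proj i
  have hloc : IsLocalizedModule S f₀ := inferInstance
  have hfpB : Module.FinitePresentation A B := Module.finitePresentation_of_projective A B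
  obtain ⟨u, v, s, h1, h2⟩ := exists_quasi_inverse S f₀
    (LocalizedModule.mkLinearMap S B) (β.equivFun.restrictScalars A).symm
  exact ⟨s, u, v, s.2, h1, h2⟩

end Groth.Agent.Lib.Helper29.NmA
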