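import Mathlib
import Groth.Agent.Lib.Helper29.NmA

/-!
# Exterior power facts and the "scalar lemma"

If `D` is an `A`-module which is quasi-trivial at every prime (e.g. the top exterior power of a
finite projective module of constant rank), every pair of endomorphisms `α`, `β` of `D` satisfies
`α ⊗ β = id ⊗ (α ∘ β)` on `D ⊗ D`.
-/

set_option autoImplicit false
universe u

namespace Groth.Agent.Lib.Helper29.NmB

open TensorProduct
open Groth.Agent.Lib.Helper29.NmA

section LocalGlobal

variable {A : Type*} [CommRing A] {X : Type*} [AddCommGroup X] [Module A X]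

/-- An element killed, at every prime, by an element outside that prime is zero. -/
theorem eq_zero_of_forall_prime (x : X)
    (h : ∀ (p : Ideal A) [p.IsPrime], ∃ f, f ∉ p ∧ f • x = 0) : x = 0 := by
  let I : Ideal A := LinearMap.ker (LinearMap.toSpanSingleton A X x)
  have hI : ∀ r, r ∈ I ↔ r • x = 0 := fun r => by
    simp [I, LinearMap.mem_ker, LinearMap.toSpanSingleton_apply]
  by_contra hx
  have hne : I ≠ ⊤ := by
    intro htop
    have : (1 : A) ∈ I := htop ▸ Submodule.mem_top
    rw [hI, one_smul] at this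
    exact hx this
  obtain ⟨m, hm, hIm⟩ := Ideal.exists_le_maximal I hne
  obtain ⟨f, hf, hfx⟩ := h m
  exact hf (hIm ((hI f).2 hfx))

theorem eq_of_forall_prime (x y : X)
    (h : ∀ (p : Ideal A) [p.IsPrime], ∃ f, f ∉ p ∧ f • x = f • y) : x = y := by
  rw [← sub_eq_zero]
  refine eq_zero_of_forall_prime (A := A) _ fun p _ => ?_
  obtain ⟨f, hf, hfx⟩ := h p
  exact ⟨f, hf, by rw [smul_sub, hfx, sub_self]⟩

end LocalGlobal

section Ext

variable {A : Type*} [CommRing A] {M N : Type*} [AddCommGroup M] [Module A M]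
  [AddCommGroup N] [Module A N]

theorem map_smul' (n : ℕ) (c : A) (φ : M →ₗ[A] N) :
    exteriorPower.map n (c • φ) = c ^ n • exteriorPower.map n φ := by
  apply exteriorPower.linearMap_ext
  ext m
  simp only [LinearMap.compAlternatingMap_apply, exteriorPower.map_apply_ιMulti,
    LinearMap.smul_apply]
  have : (⇑(c • φ) ∘ m) = fun i => c • (φ (m i)) := by
    ext i; simp
  rw [this]
  have h2 := (exteriorPower.ιMulti A n (M := N)).map_smul_univ (fun _ => c) (fun i => φ (m i))
  rw [h2]
  simp only [Finset.prod_const, Finset.card_univ, Fintype.card_fin]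
  rfl

theorem map_smul_id (n : ℕ) (c : A) :
    exteriorPower.map n (c • (LinearMap.id : M →ₗ[A] M)) = c ^ n • LinearMap.id := by
  rw [map_smul', exteriorPower.map_id]

/-- The top exterior power of `Aⁿ` is `A`. -/
noncomputable def topEquiv (A : Type*) [CommRing A] [Nontrivial A] (n : ℕ) :
    ⋀[A]^n (Fin n → A) ≃ₗ[A] A :=
  have h : Module.finrank A (⋀[A]^n (Fin n → A)) = 1 := by
    rw [exteriorPower.finrank_eq]; simp
  (Module.finBasisOfFinrankEq A _ h).equivFun ≪≫ₗ LinearEquiv.funUnique (Fin 1) A A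

end Ext

section Scalar

variable {A : Type*} [CommRing A] {D : Type*} [AddCommGroup D] [Module A D]

/-- `D` is quasi-trivial at every prime. -/
def QuasiTrivial (A : Type*) [CommRing A] (D : Type*) [AddCommGroup D] [Module A D] : Prop :=
  ∀ (p : Ideal A) [p.IsPrime], ∃ (f : A) (a : A →ₗ[A] D) (b : D →ₗ[A] A), f ∉ p ∧
    b ∘ₗ a = f • LinearMap.id ∧ a ∘ₗ b = f • LinearMap.id

theorem scalar_lemma (hD : QuasiTrivial A D) (α β : D →ₗ[A] D) :
    TensorProduct.map α β = TensorProduct.map LinearMap.id (α ∘ₗ β) := by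
  refine eq_of_forall_prime (A := A) _ _ fun p _ => ?_
  obtain ⟨f, a, b, hf, hba, hab⟩ := hD p
  have key : ∀ γ : D →ₗ[A] D, (f ^ 2) • γ = (f * (b (γ (a 1)))) • LinearMap.id := by
    intro γ
    have h1 : (f ^ 2) • γ = (a ∘ₗ b) ∘ₗ γ ∘ₗ (a ∘ₗ b) := by
      rw [hab]
      ext d
      simp [pow_two, mul_smul]
    rw [h1]
    ext d
    simp only [LinearMap.coe_comp, Function.comp_apply, LinearMap.smul_apply, LinearMap.id_coe,
      id_eq]
    have h2 : a (b d) = (b d) • a 1 := by
      rw [← map_smul, smul_eq_mul, mul_one]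
    rw [h2, map_smul, map_smul, map_smul]
    have h3 : a (b d) = f • d := by
      have := LinearMap.congr_fun hab d
      simpa using this
    have h4 : a (b (γ (a 1))) = (b (γ (a 1))) • a 1 := by
      rw [← map_smul, smul_eq_mul, mul_one]
    rw [h4, smul_comm, ← h2, h3, smul_smul, mul_comm]
  refine ⟨f ^ 4, fun h => hf (Ideal.IsPrime.mem_of_pow_mem inferInstance 4 h), ?_⟩
  have e1 : (f ^ 4) • TensorProduct.map α β =
      TensorProduct.map ((f ^ 2) • α) ((f ^ 2) • β) := by
    rw [TensorProduct.map_smul_left, TensorProduct.map_smul_right, smul_smul]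
    congr 1; ring
  have e2 : (f ^ 4) • TensorProduct.map (LinearMap.id : D →ₗ[A] D) (α ∘ₗ β) =
      TensorProduct.map LinearMap.id (((f ^ 2) • α) ∘ₗ ((f ^ 2) • β)) := by
    rw [LinearMap.smul_comp, LinearMap.comp_smul, smul_smul, TensorProduct.map_smul_right]
    congr 1; ring
  rw [e1, e2, key α, key β]
  rw [TensorProduct.map_smul_left, TensorProduct.map_smul_right, LinearMap.smul_comp,
    LinearMap.comp_smul, TensorProduct.map_smul_right, LinearMap.id_comp,
    TensorProduct.map_smul_right]

end Scalar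

theorem quasiTrivial_top (A : Type u) [CommRing A] (B : Type u) [AddCommGroup B] [Module A B]
    [Module.Finite A B] [Module.Projective A B] (n : ℕ)
    (hn : ∀ q : PrimeSpectrum A, Module.rankAtStalk B q = n) :
    QuasiTrivial A (⋀[A]^n B) := by
  intro p _
  have : Nontrivial A := ⟨⟨0, 1, fun h => (Ideal.IsPrime.ne_top' (I := p))
    (by rw [Ideal.eq_top_iff_one, ← h]; exact zero_mem _)⟩⟩
  obtain ⟨f, a, b, hf, hba, hab⟩ := triv_alg A B n p (hn ⟨p, inferInstance⟩)
  refine ⟨f ^ n, exteriorPower.map n a ∘ₗ (topEquiv A n).symm.toLinearMap,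
    (topEquiv A n).toLinearMap ∘ₗ exteriorPower.map n b,
    fun h => hf (Ideal.IsPrime.mem_of_pow_mem inferInstance n h), ?_, ?_⟩
  · have : ((topEquiv A n).toLinearMap ∘ₗ exteriorPower.map n b) ∘ₗ
        (exteriorPower.map n a ∘ₗ (topEquiv A n).symm.toLinearMap) =
        (topEquiv A n).toLinearMap ∘ₗ (exteriorPower.map n (b ∘ₗ a)) ∘ₗ
          (topEquiv A n).symm.toLinearMap := by
      rw [exteriorPower.map_comp]; rfl
    rw [this, hba, map_smul_id]
    ext
    simp
  · have : (exteriorPower.map n a ∘ₗ (topEquiv A n).symm.toLinearMap) ∘ₗ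
        ((topEquiv A n).toLinearMap ∘ₗ exteriorPower.map n b) =
        exteriorPower.map n (a ∘ₗ b) := by
      rw [exteriorPower.map_comp]
      ext x
      simp
    rw [this, hab, map_smul_id]

end Groth.Agent.Lib.Helper29.NmB
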