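import Mathlib
import Groth.Agent.Lib.Helper29.NmB

/-!
# Gluing quasi-isomorphisms, and the comparison maps for norms of line bundles
-/

set_option autoImplicit false
universe u

namespace Groth.Agent.Lib.Helper29.NmC

open TensorProduct
open Groth.Agent.Lib.Helper29.NmA Groth.Agent.Lib.Helper29.NmB

section Glue

variable {A : Type*} [CommRing A] {P Q : Type*} [AddCommGroup P] [Module A P]
  [AddCommGroup Q] [Module A Q]

theorem exists_notMem_of_span_eq_top {ι : Type*} (f : ι → A)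
    (hf : Ideal.span (Set.range f) = ⊤) (p : Ideal A) [hp : p.IsPrime] : ∃ i, f i ∉ p := by
  by_contra h
  push_neg at h
  have : Ideal.span (Set.range f) ≤ p := Ideal.span_le.2 (by rintro _ ⟨i, rfl⟩; exact h i)
  rw [hf, top_le_iff] at this
  exact hp.ne_top this

theorem glue {ι : Type*} (f : ι → A) (hf : Ideal.span (Set.range f) = ⊤)
    (ψ : ι → (P →ₗ[A] Q)) (ψ' : ι → (Q →ₗ[A] P)) (k m : ℕ)
    (h1 : ∀ i, ψ' i ∘ₗ ψ i = (f i) ^ m • LinearMap.id)
    (h2 : ∀ i, ψ i ∘ₗ ψ' i = (f i) ^ m • LinearMap.id)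
    (hc : ∀ i j, (f j) ^ k • ψ i = (f i) ^ k • ψ j) : Nonempty (P ≃ₗ[A] Q) := by
  have hk : Ideal.span (Set.range fun i => f i ^ k) = ⊤ := by
    have := Ideal.span_pow_eq_top (Set.range f) hf k
    rwa [← Set.range_comp] at this
  have h1mem : (1 : A) ∈ Ideal.span (Set.range fun i => f i ^ k) := hk ▸ Submodule.mem_top
  obtain ⟨c, hc1⟩ := (Finsupp.mem_ideal_span_range_iff_exists_finsupp).1 h1mem
  let φ : P →ₗ[A] Q := c.sum fun i a => a • ψ i
  have hφ : ∀ j, (f j) ^ k • φ = ψ j := by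
    intro j
    simp only [φ, Finsupp.sum, Finset.smul_sum]
    have : ∀ i ∈ c.support, f j ^ k • c i • ψ i = (c i * f i ^ k) • ψ j := by
      intro i _
      rw [smul_comm, hc i j, smul_smul]
    rw [Finset.sum_congr rfl this, ← Finset.sum_smul]
    have h3 : ∑ i ∈ c.support, c i * f i ^ k = 1 := hc1
    rw [h3, one_smul]
  have hinj : Function.Injective φ := by
    rw [injective_iff_map_eq_zero]
    intro x hx
    refine eq_zero_of_forall_prime (A := A) x fun p _ => ?_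
    obtain ⟨j, hj⟩ := exists_notMem_of_span_eq_top f hf p
    refine ⟨f j ^ m, fun h => hj (Ideal.IsPrime.mem_of_pow_mem inferInstance m h), ?_⟩
    have e1 : ψ j x = 0 := by
      rw [← hφ j, LinearMap.smul_apply, hx, smul_zero]
    have e2 := LinearMap.congr_fun (h1 j) x
    simp only [LinearMap.coe_comp, Function.comp_apply, LinearMap.smul_apply, LinearMap.id_coe,
      id_eq] at e2
    rw [← e2, e1, map_zero]
  have hsurj : Function.Surjective φ := by
    intro y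
    have : (LinearMap.range φ).mkQ y = 0 := by
      refine eq_zero_of_forall_prime (A := A) _ fun p _ => ?_
      obtain ⟨j, hj⟩ := exists_notMem_of_span_eq_top f hf p
      refine ⟨f j ^ m, fun h => hj (Ideal.IsPrime.mem_of_pow_mem inferInstance m h), ?_⟩
      rw [← map_smul, Submodule.mkQ_apply, Submodule.Quotient.mk_eq_zero]
      have e2 := LinearMap.congr_fun (h2 j) y
      simp only [LinearMap.coe_comp, Function.comp_apply, LinearMap.smul_apply, LinearMap.id_coe,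
        id_eq] at e2
      rw [← e2, ← hφ j, LinearMap.smul_apply, ← map_smul]
      exact LinearMap.mem_range_self _ _
    rw [Submodule.mkQ_apply, Submodule.Quotient.mk_eq_zero] at this
    exact this
  exact ⟨LinearEquiv.ofBijective φ ⟨hinj, hsurj⟩⟩

end Glue

section Psi

variable {A B : Type u} [CommRing A] [CommRing B] [Algebra A B]
variable {M₁ M₂ : Type u} [AddCommGroup M₁] [Module B M₁] [Module A M₁] [IsScalarTower A B M₁]
    [AddCommGroup M₂] [Module B M₂] [Module A M₂] [IsScalarTower A B M₂]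

/-- `b ↦ b • e`, as an `A`-linear map. -/
noncomputable def uOf {M : Type u} [AddCommGroup M] [Module B M] [Module A M] [IsScalarTower A B M]
    (e : M) : B →ₗ[A] M := (LinearMap.toSpanSingleton B M e).restrictScalars A

@[simp] theorem uOf_apply {M : Type u} [AddCommGroup M] [Module B M] [Module A M]
    [IsScalarTower A B M] (e : M) (b : B) : uOf (A := A) e b = b • e := rfl

/-- Local trivialisation data for a `B`-module at a function `f`. -/
structure Triv (A B : Type u) [CommRing A] [CommRing B] [Algebra A B] (f : A)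
    (M : Type u) [AddCommGroup M] [Module B M] where
  e : M
  v : M →ₗ[B] B
  hv : v e = algebraMap A B f
  hl : ∀ l, v l • e = algebraMap A B f • l

variable {f : A}

theorem Triv.v_comp_u {M : Type u} [AddCommGroup M] [Module B M] [Module A M]
    [IsScalarTower A B M] (t : Triv A B f M) :
    (t.v.restrictScalars A) ∘ₗ uOf (A := A) t.e = f • LinearMap.id := by
  ext b
  simp [t.hv, Algebra.smul_def, mul_comm]

theorem Triv.u_comp_v {M : Type u} [AddCommGroup M] [Module B M] [Module A M]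
    [IsScalarTower A B M] (t : Triv A B f M) :
    uOf (A := A) t.e ∘ₗ (t.v.restrictScalars A) = f • LinearMap.id := by
  ext l
  simp [t.hl]

/-- The `B`-linear map `M₁ ⊗ M₂ → B`, `l₁ ⊗ l₂ ↦ v₁ l₁ * v₂ l₂`. -/
noncomputable def vLB (v₁ : M₁ →ₗ[B] B) (v₂ : M₂ →ₗ[B] B) : M₁ ⊗[B] M₂ →ₗ[B] B :=
  (LinearMap.mul' B B) ∘ₗ (TensorProduct.map v₁ v₂)

@[simp] theorem vLB_tmul (v₁ : M₁ →ₗ[B] B) (v₂ : M₂ →ₗ[B] B) (l₁ : M₁) (l₂ : M₂) :
    vLB v₁ v₂ (l₁ ⊗ₜ l₂) = v₁ l₁ * v₂ l₂ := by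
  simp [vLB]


/-- The trivialisation of `M₁ ⊗[B] M₂` induced by trivialisations of the factors. -/
noncomputable def Triv.tensor (t₁ : Triv A B f M₁) (t₂ : Triv A B f M₂) :
    Triv A B (f * f) (M₁ ⊗[B] M₂) where
  e := t₁.e ⊗ₜ t₂.e
  v := vLB t₁.v t₂.v
  hv := by simp [t₁.hv, t₂.hv]
  hl := by
    intro l
    induction l using TensorProduct.induction_on with
    | zero => simp
    | tmul l₁ l₂ =>
      rw [vLB_tmul, ← TensorProduct.smul_tmul_smul, t₁.hl, t₂.hl, TensorProduct.smul_tmul_smul,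
        map_mul]
    | add x y hx hy => rw [map_add, add_smul, hx, hy, smul_add]

section one
variable {M : Type u} [AddCommGroup M] [Module B M] [Module A M] [IsScalarTower A B M]

/-- `⋀ⁿ u` for a trivialisation. -/
noncomputable def Triv.U (n : ℕ) (t : Triv A B f M) : ⋀[A]^n B →ₗ[A] ⋀[A]^n M :=
  exteriorPower.map n (uOf (A := A) t.e)

/-- `⋀ⁿ v` for a trivialisation. -/
noncomputable def Triv.V (n : ℕ) (t : Triv A B f M) : ⋀[A]^n M →ₗ[A] ⋀[A]^n B :=
  exteriorPower.map n (t.v.restrictScalars A)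

theorem Triv.V_comp_U (n : ℕ) (t : Triv A B f M) : t.V n ∘ₗ t.U n = f ^ n • LinearMap.id := by
  rw [Triv.V, Triv.U, ← exteriorPower.map_comp, t.v_comp_u, map_smul_id]

theorem Triv.U_comp_V (n : ℕ) (t : Triv A B f M) : t.U n ∘ₗ t.V n = f ^ n • LinearMap.id := by
  rw [Triv.V, Triv.U, ← exteriorPower.map_comp, t.u_comp_v, map_smul_id]

end one

/-- The comparison map attached to local trivialisations. -/
noncomputable def psi (n : ℕ) (t₁ : Triv A B f M₁) (t₂ : Triv A B f M₂) :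
    (⋀[A]^n B) ⊗[A] (⋀[A]^n (M₁ ⊗[B] M₂)) →ₗ[A] (⋀[A]^n M₁) ⊗[A] (⋀[A]^n M₂) :=
  TensorProduct.map (t₁.U n) (t₂.U n) ∘ₗ TensorProduct.map LinearMap.id ((t₁.tensor t₂).V n)

/-- The quasi-inverse comparison map. -/
noncomputable def psi' (n : ℕ) (t₁ : Triv A B f M₁) (t₂ : Triv A B f M₂) :
    (⋀[A]^n M₁) ⊗[A] (⋀[A]^n M₂) →ₗ[A] (⋀[A]^n B) ⊗[A] (⋀[A]^n (M₁ ⊗[B] M₂)) :=
  TensorProduct.map LinearMap.id ((t₁.tensor t₂).U n) ∘ₗ TensorProduct.map (t₁.V n) (t₂.V n)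

theorem psi'_comp_psi (n : ℕ) (t₁ : Triv A B f M₁) (t₂ : Triv A B f M₂) :
    psi' n t₁ t₂ ∘ₗ psi n t₁ t₂ = f ^ (4 * n) • LinearMap.id := by
  have h : psi' n t₁ t₂ ∘ₗ psi n t₁ t₂ =
      TensorProduct.map LinearMap.id ((t₁.tensor t₂).U n) ∘ₗ
        TensorProduct.map (t₁.V n ∘ₗ t₁.U n) (t₂.V n ∘ₗ t₂.U n) ∘ₗ
        TensorProduct.map LinearMap.id ((t₁.tensor t₂).V n) := by
    rw [TensorProduct.map_comp]; rfl
  rw [h, t₁.V_comp_U, t₂.V_comp_U, TensorProduct.map_smul_left, TensorProduct.map_smul_right,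
    TensorProduct.map_id, LinearMap.smul_comp, LinearMap.smul_comp, LinearMap.comp_smul,
    LinearMap.comp_smul, LinearMap.id_comp, ← TensorProduct.map_comp, LinearMap.id_comp,
    (t₁.tensor t₂).U_comp_V, TensorProduct.map_smul_right, TensorProduct.map_id, smul_smul,
    smul_smul]
  congr 1
  ring

theorem psi_comp_psi' (n : ℕ) (t₁ : Triv A B f M₁) (t₂ : Triv A B f M₂) :
    psi n t₁ t₂ ∘ₗ psi' n t₁ t₂ = f ^ (4 * n) • LinearMap.id := by
  have h : psi n t₁ t₂ ∘ₗ psi' n t₁ t₂ =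
      TensorProduct.map (t₁.U n) (t₂.U n) ∘ₗ
        TensorProduct.map LinearMap.id ((t₁.tensor t₂).V n ∘ₗ (t₁.tensor t₂).U n) ∘ₗ
        TensorProduct.map (t₁.V n) (t₂.V n) := by
    conv_rhs => rw [← LinearMap.id_comp (LinearMap.id : ⋀[A]^n B →ₗ[A] ⋀[A]^n B),
      TensorProduct.map_comp]
    rfl
  rw [h, (t₁.tensor t₂).V_comp_U, TensorProduct.map_smul_right, TensorProduct.map_id,
    LinearMap.smul_comp, LinearMap.comp_smul, LinearMap.id_comp, ← TensorProduct.map_comp,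
    t₁.U_comp_V, t₂.U_comp_V, TensorProduct.map_smul_left, TensorProduct.map_smul_right,
    TensorProduct.map_id, smul_smul, smul_smul]
  congr 1
  ring

theorem psi_compat (n : ℕ) (hD : QuasiTrivial A (⋀[A]^n B)) {g : A}
    (t₁ : Triv A B f M₁) (t₂ : Triv A B f M₂) (s₁ : Triv A B g M₁) (s₂ : Triv A B g M₂) :
    g ^ (2 * n) • psi n t₁ t₂ = f ^ (2 * n) • psi n s₁ s₂ := by
  set c₁ : B := t₁.v s₁.e with hc₁
  set c₂ : B := t₂.v s₂.e with hc₂
  let C₁ : ⋀[A]^n B →ₗ[A] ⋀[A]^n B := exteriorPower.map n (LinearMap.mulLeft A c₁)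
  let C₂ : ⋀[A]^n B →ₗ[A] ⋀[A]^n B := exteriorPower.map n (LinearMap.mulLeft A c₂)
  have hu₁ : uOf (A := A) t₁.e ∘ₗ LinearMap.mulLeft A c₁ = f • uOf (A := A) s₁.e := by
    ext b
    simp only [LinearMap.coe_comp, Function.comp_apply, LinearMap.mulLeft_apply, uOf_apply,
      LinearMap.smul_apply]
    rw [mul_comm, mul_smul, hc₁, t₁.hl, algebraMap_smul, smul_comm]
  have hu₂ : uOf (A := A) t₂.e ∘ₗ LinearMap.mulLeft A c₂ = f • uOf (A := A) s₂.e := by
    ext b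
    simp only [LinearMap.coe_comp, Function.comp_apply, LinearMap.mulLeft_apply, uOf_apply,
      LinearMap.smul_apply]
    rw [mul_comm, mul_smul, hc₂, t₂.hl, algebraMap_smul, smul_comm]
  have hU₁ : f ^ n • s₁.U n = t₁.U n ∘ₗ C₁ := by
    rw [Triv.U, Triv.U, ← map_smul', ← hu₁, exteriorPower.map_comp]
  have hU₂ : f ^ n • s₂.U n = t₂.U n ∘ₗ C₂ := by
    rw [Triv.U, Triv.U, ← map_smul', ← hu₂, exteriorPower.map_comp]
  have hv : (g * g) • ((t₁.tensor t₂).v.restrictScalars A) =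
      LinearMap.mulLeft A (c₁ * c₂) ∘ₗ ((s₁.tensor s₂).v.restrictScalars A) := by
    ext x
    induction x using TensorProduct.induction_on with
    | zero => simp
    | tmul l₁ l₂ =>
      simp only [LinearMap.smul_apply, LinearMap.coe_restrictScalars, LinearMap.coe_comp,
        Function.comp_apply, LinearMap.mulLeft_apply]
      change (g * g) • vLB t₁.v t₂.v (l₁ ⊗ₜ l₂) = c₁ * c₂ * vLB s₁.v s₂.v (l₁ ⊗ₜ l₂)
      rw [vLB_tmul, vLB_tmul]
      have e1 : c₁ * s₁.v l₁ = algebraMap A B g * t₁.v l₁ := by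
        rw [hc₁, mul_comm, ← smul_eq_mul, ← map_smul, s₁.hl, map_smul, smul_eq_mul]
      have e2 : c₂ * s₂.v l₂ = algebraMap A B g * t₂.v l₂ := by
        rw [hc₂, mul_comm, ← smul_eq_mul, ← map_smul, s₂.hl, map_smul, smul_eq_mul]
      calc (g * g) • (t₁.v l₁ * t₂.v l₂)
          = (algebraMap A B g * t₁.v l₁) * (algebraMap A B g * t₂.v l₂) := by
            rw [Algebra.smul_def, map_mul]; ring
        _ = (c₁ * s₁.v l₁) * (c₂ * s₂.v l₂) := by rw [e1, e2]
        _ = c₁ * c₂ * (s₁.v l₁ * s₂.v l₂) := by ring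
    | add x y hx hy =>
      simp only [map_add, hx, hy]
  have hV : g ^ (2 * n) • (t₁.tensor t₂).V n = (C₁ ∘ₗ C₂) ∘ₗ (s₁.tensor s₂).V n := by
    have : g ^ (2 * n) = (g * g) ^ n := by rw [pow_mul, pow_two]
    rw [this, Triv.V, Triv.V, ← map_smul', hv, exteriorPower.map_comp]
    congr 1
    rw [← exteriorPower.map_comp]
    congr 1
    ext b
    simp
  have hs : TensorProduct.map C₁ C₂ = TensorProduct.map LinearMap.id (C₁ ∘ₗ C₂) :=
    scalar_lemma hD C₁ C₂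
  have L : g ^ (2 * n) • psi n t₁ t₂ =
      TensorProduct.map (t₁.U n) (t₂.U n) ∘ₗ
        TensorProduct.map LinearMap.id (C₁ ∘ₗ C₂) ∘ₗ
        TensorProduct.map LinearMap.id ((s₁.tensor s₂).V n) := by
    rw [psi, ← LinearMap.comp_smul, ← TensorProduct.map_smul_right, hV]
    conv_lhs => rw [← LinearMap.id_comp (LinearMap.id : ⋀[A]^n B →ₗ[A] ⋀[A]^n B),
      TensorProduct.map_comp]
  have R : f ^ (2 * n) • psi n s₁ s₂ =
      TensorProduct.map (t₁.U n) (t₂.U n) ∘ₗ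
        TensorProduct.map C₁ C₂ ∘ₗ
        TensorProduct.map LinearMap.id ((s₁.tensor s₂).V n) := by
    have : f ^ (2 * n) = f ^ n * f ^ n := by rw [two_mul, pow_add]
    rw [psi, this, ← LinearMap.smul_comp, ← smul_smul, ← TensorProduct.map_smul_right,
      ← TensorProduct.map_smul_left, hU₁, hU₂, TensorProduct.map_comp]
    rfl
  rw [L, R, hs]

/-- Rescaling a trivialisation. -/
noncomputable def Triv.scale {M : Type u} [AddCommGroup M] [Module B M] (t : Triv A B f M)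
    (c : A) : Triv A B (c * f) M where
  e := t.e
  v := algebraMap A B c • t.v
  hv := by simp [t.hv, Algebra.smul_def]
  hl := by
    intro l
    rw [LinearMap.smul_apply, smul_eq_mul, mul_smul, t.hl, map_mul, mul_smul]

theorem main (n : ℕ) [Module.Finite A B] [Module.Projective A B]
    (hn : ∀ q : PrimeSpectrum A, Module.rankAtStalk B q = n)
    [Module.Finite B M₁] [Module.Projective B M₁] [Module.Finite B M₂] [Module.Projective B M₂]
    (h₁ : ∀ q : PrimeSpectrum B, Module.rankAtStalk M₁ q = 1)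
    (h₂ : ∀ q : PrimeSpectrum B, Module.rankAtStalk M₂ q = 1) :
    Nonempty ((⋀[A]^n B) ⊗[A] (⋀[A]^n (M₁ ⊗[B] M₂)) ≃ₗ[A] (⋀[A]^n M₁) ⊗[A] (⋀[A]^n M₂)) := by
  have hD : QuasiTrivial A (⋀[A]^n B) := quasiTrivial_top A B n hn
  have key : ∀ p : PrimeSpectrum A, ∃ (f : A), f ∉ p.asIdeal ∧
      Nonempty (Triv A B f M₁ × Triv A B f M₂) := by
    intro p
    obtain ⟨f₁, e₁, v₁, hf₁, hv₁, hl₁⟩ := triv_line A B M₁ h₁ p.asIdeal
    obtain ⟨f₂, e₂, v₂, hf₂, hv₂, hl₂⟩ := triv_line A B M₂ h₂ p.asIdeal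
    let t₁ : Triv A B f₁ M₁ := ⟨e₁, v₁, hv₁, hl₁⟩
    let t₂ : Triv A B f₂ M₂ := ⟨e₂, v₂, hv₂, hl₂⟩
    refine ⟨f₂ * f₁, fun h => ?_, ⟨t₁.scale f₂, ?_⟩⟩
    · rcases p.2.mem_or_mem h with h | h
      · exact hf₂ h
      · exact hf₁ h
    · have := t₂.scale f₁
      rwa [mul_comm] at this
  choose f hf ht using key
  have hspan : Ideal.span (Set.range f) = ⊤ := by
    by_contra hne
    obtain ⟨m, hm, hle⟩ := Ideal.exists_le_maximal _ hne
    exact hf ⟨m, hm.isPrime⟩ (hle (Ideal.subset_span ⟨_, rfl⟩))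
  let t₁ : ∀ p, Triv A B (f p) M₁ := fun p => (ht p).some.1
  let t₂ : ∀ p, Triv A B (f p) M₂ := fun p => (ht p).some.2
  let ψ : PrimeSpectrum A → ((⋀[A]^n B) ⊗[A] (⋀[A]^n (M₁ ⊗[B] M₂)) →ₗ[A]
      (⋀[A]^n M₁) ⊗[A] (⋀[A]^n M₂)) := fun p => psi n (t₁ p) (t₂ p)
  let ψ' : PrimeSpectrum A → ((⋀[A]^n M₁) ⊗[A] (⋀[A]^n M₂) →ₗ[A]
      (⋀[A]^n B) ⊗[A] (⋀[A]^n (M₁ ⊗[B] M₂))) := fun p => psi' n (t₁ p) (t₂ p)
  have hc : ∀ i j, (f j) ^ (2 * n) • ψ i = (f i) ^ (2 * n) • ψ j :=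
    fun i j => psi_compat n hD (t₁ i) (t₂ i) (t₁ j) (t₂ j)
  have h1 : ∀ i, ψ' i ∘ₗ ψ i = (f i) ^ (4 * n) • LinearMap.id := fun p => psi'_comp_psi n _ _
  have h2 : ∀ i, ψ i ∘ₗ ψ' i = (f i) ^ (4 * n) • LinearMap.id := fun p => psi_comp_psi' n _ _
  exact glue (P := (⋀[A]^n B) ⊗[A] (⋀[A]^n (M₁ ⊗[B] M₂)))
    (Q := (⋀[A]^n M₁) ⊗[A] (⋀[A]^n M₂)) f hspan ψ ψ' (2 * n) (4 * n) h1 h2 hc

end Psi

end Groth.Agent.Lib.Helper29.NmC
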