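import Mathlib
import Groth.Agent.Lib.Helper29.NmC

/-!
# Quasi-trivialisations and cocycle gluing

A quasi-trivialisation of an `A`-module `X` at `f` (exponent `N`) is an element `α : X` and a
functional `β : X → A` with `β α = f ^ N` and `β x • α = f ^ N • x`.  Two modules with families of
quasi-trivialisations (over a family of `f`'s generating the unit ideal) having the same
transition scalars `β i (α j)` (up to `f i f j`-torsion) are isomorphic.
-/

set_option autoImplicit false
set_option linter.unusedSectionVars false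
universe u

namespace Groth.Agent.Lib.Helper29.NmD

open TensorProduct
open Groth.Agent.Lib.Helper29.NmA Groth.Agent.Lib.Helper29.NmB Groth.Agent.Lib.Helper29.NmC

/-- A quasi-trivialisation. -/
structure QT (A : Type*) [CommRing A] (f : A) (N : ℕ) (X : Type*) [AddCommGroup X] [Module A X]
    where
  α : X
  β : X →ₗ[A] A
  hβα : β α = f ^ N
  hαβ : ∀ x, β x • α = f ^ N • x

section basic

variable {A : Type*} [CommRing A] {f : A} {N N' : ℕ} {X Y : Type*} [AddCommGroup X] [Module A X]
  [AddCommGroup Y] [Module A Y]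

/-- Change the exponent along an equality. -/
def QT.cast (t : QT A f N X) (h : N = N') : QT A f N' X where
  α := t.α
  β := t.β
  hβα := h ▸ t.hβα
  hαβ := h ▸ t.hαβ

@[simp] theorem QT.cast_α (t : QT A f N X) (h : N = N') : (t.cast h).α = t.α := rfl
@[simp] theorem QT.cast_β (t : QT A f N X) (h : N = N') : (t.cast h).β = t.β := rfl

/-- Tensor product of quasi-trivialisations. -/
noncomputable def QT.tensor (t : QT A f N X) (s : QT A f N' Y) : QT A f (N + N') (X ⊗[A] Y) where
  α := t.α ⊗ₜ s.α
  β := (TensorProduct.lid A A).toLinearMap ∘ₗ TensorProduct.map t.β s.β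
  hβα := by simp [t.hβα, s.hβα, pow_add]
  hαβ := by
    intro x
    induction x using TensorProduct.induction_on with
    | zero => simp
    | tmul x y =>
      simp only [LinearMap.coe_comp, LinearEquiv.coe_coe, Function.comp_apply,
        TensorProduct.map_tmul, TensorProduct.lid_tmul, smul_eq_mul]
      rw [← TensorProduct.smul_tmul_smul, t.hαβ, s.hαβ, TensorProduct.smul_tmul_smul, pow_add]
    | add x y hx hy => rw [map_add, add_smul, hx, hy, smul_add]

@[simp] theorem QT.tensor_α (t : QT A f N X) (s : QT A f N' Y) :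
    (t.tensor s).α = t.α ⊗ₜ s.α := rfl

theorem QT.tensor_β_tmul (t : QT A f N X) (s : QT A f N' Y) (x : X) (y : Y) :
    (t.tensor s).β (x ⊗ₜ y) = t.β x * s.β y := by
  simp [QT.tensor]

/-- Tensor power of a quasi-trivialisation. -/
noncomputable def QT.tpow (t : QT A f N X) (m : ℕ) : QT A f (N * m) (⨂[A]^m X) where
  α := PiTensorProduct.tprod A fun _ => t.α
  β := PiTensorProduct.lift
    ((MultilinearMap.mkPiAlgebra A (Fin m) A).compLinearMap fun _ => t.β)
  hβα := by
    simp [t.hβα, pow_mul]
  hαβ := by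
    intro x
    induction x using PiTensorProduct.induction_on with
    | smul_tprod r x =>
      simp only [map_smul, PiTensorProduct.lift.tprod, MultilinearMap.compLinearMap_apply,
        MultilinearMap.mkPiAlgebra_apply, smul_eq_mul]
      have h1 : (∏ i, t.β (x i)) • (PiTensorProduct.tprod A fun _ : Fin m => t.α) =
          PiTensorProduct.tprod A fun i => t.β (x i) • t.α :=
        ((PiTensorProduct.tprod A).map_smul_univ (fun i => t.β (x i)) (fun _ => t.α)).symm
      rw [mul_smul, h1]
      have h2 : (fun i => t.β (x i) • t.α) = fun i => f ^ N • x i := by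
        ext i; exact t.hαβ _
      rw [h2]
      have h3 := (PiTensorProduct.tprod A).map_smul_univ (fun _ : Fin m => f ^ N) x
      rw [h3]
      simp only [Finset.prod_const, Finset.card_univ, Fintype.card_fin, ← pow_mul]
      rw [smul_comm]
    | add x y hx hy => rw [map_add, add_smul, hx, hy, smul_add]

@[simp] theorem QT.tpow_α (t : QT A f N X) (m : ℕ) :
    (t.tpow m).α = PiTensorProduct.tprod A fun _ => t.α := rfl

theorem QT.tpow_β_tprod (t : QT A f N X) (m : ℕ) (x : Fin m → X) :
    (t.tpow m).β (PiTensorProduct.tprod A x) = ∏ i, t.β (x i) := by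
  simp [QT.tpow]

end basic

section top
variable (A : Type*) [CommRing A] (ι : Type*) [Fintype ι] [DecidableEq ι]
  (m : ℕ) (hm : Fintype.card ι = m)

/-- The standard basis of `ι → A`, reindexed by `Fin m`. -/
noncomputable def stdBasis : Module.Basis (Fin m) A (ι → A) :=
  (Pi.basisFun A ι).reindex (Fintype.equivFinOfCardEq hm)

theorem alt_expand {Z : Type*} [AddCommGroup Z] [Module A Z]
    (G : (ι → A) [⋀^Fin m]→ₗ[A] Z) (w : Fin m → ι → A) :
    G w = (stdBasis A ι m hm).det w • G (stdBasis A ι m hm) := by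
  have : G = (LinearMap.toSpanSingleton A Z (G (stdBasis A ι m hm))).compAlternatingMap
      (stdBasis A ι m hm).det := by
    refine Module.Basis.ext_alternating (stdBasis A ι m hm) fun i h => ?_
    let σ : Equiv.Perm (Fin m) := Equiv.ofBijective i (Finite.injective_iff_bijective.1 h)
    change G (stdBasis A ι m hm ∘ σ) = _
    simp only [LinearMap.compAlternatingMap_apply, LinearMap.toSpanSingleton_apply]
    have h2 : (fun j => (stdBasis A ι m hm) (i j)) = (stdBasis A ι m hm) ∘ σ := rfl
    rw [h2, AlternatingMap.map_perm, AlternatingMap.map_perm, Module.Basis.det_self]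
    simp
  conv_lhs => rw [this]
  simp

/-- The top exterior power of `ι → A`. -/
noncomputable def topEquiv' : ⋀[A]^m (ι → A) ≃ₗ[A] A :=
  LinearEquiv.ofLinearMap (exteriorPower.alternatingMapLinearEquiv (stdBasis A ι m hm).det)
    (LinearMap.toSpanSingleton A _ (exteriorPower.ιMulti A m (stdBasis A ι m hm)))
    (by
      apply LinearMap.ext_ring
      simp [Module.Basis.det_self])
    (by
      apply exteriorPower.linearMap_ext
      refine AlternatingMap.ext fun w => ?_
      simp only [LinearMap.compAlternatingMap_apply, LinearMap.coe_comp, Function.comp_apply,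
        exteriorPower.alternatingMapLinearEquiv_apply_ιMulti, LinearMap.toSpanSingleton_apply,
        LinearMap.id_coe, id_eq]
      exact (alt_expand A ι m hm (exteriorPower.ιMulti A m) w).symm)


variable {A ι m}

include hm in
theorem map_eq_det (γ : (ι → A) →ₗ[A] (ι → A)) :
    exteriorPower.map m γ = LinearMap.det γ • LinearMap.id := by
  let e : Module.Basis (Fin m) A (ι → A) :=
    (Pi.basisFun A ι).reindex (Fintype.equivFinOfCardEq hm)
  let G : (ι → A) [⋀^Fin m]→ₗ[A] A :=
    (topEquiv' A ι m hm).toLinearMap.compAlternatingMap (exteriorPower.ιMulti A m)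
  have hG : G = G e • e.det := AlternatingMap.eq_smul_basis_det e G
  apply exteriorPower.linearMap_ext
  refine AlternatingMap.ext fun v => ?_
  simp only [LinearMap.compAlternatingMap_apply, exteriorPower.map_apply_ιMulti,
    LinearMap.smul_apply, LinearMap.id_coe, id_eq]
  apply (topEquiv' A ι m hm).injective
  rw [map_smul]
  change G (γ ∘ v) = LinearMap.det γ • G v
  rw [hG]
  simp only [AlternatingMap.smul_apply, smul_eq_mul]
  rw [Module.Basis.det_comp]
  ring


variable {X : Type*} [AddCommGroup X] [Module A X] {f : A}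

/-- A quasi-isomorphism with a free module of rank `m` quasi-trivialises the `m`-th exterior
power. -/
noncomputable def QT.ofQuasiIso (s : (ι → A) →ₗ[A] X) (r : X →ₗ[A] (ι → A)) (e : ℕ)
    (hrs : r ∘ₗ s = f ^ e • LinearMap.id) (hsr : s ∘ₗ r = f ^ e • LinearMap.id) :
    QT A f (e * m) (⋀[A]^m X) where
  α := exteriorPower.map m s ((topEquiv' A ι m hm).symm 1)
  β := (topEquiv' A ι m hm).toLinearMap ∘ₗ exteriorPower.map m r
  hβα := by
    simp only [LinearMap.coe_comp, LinearEquiv.coe_coe, Function.comp_apply]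
    rw [← LinearMap.comp_apply, ← exteriorPower.map_comp, hrs, map_smul_id]
    simp [pow_mul]
  hαβ := by
    intro x
    simp only [LinearMap.coe_comp, LinearEquiv.coe_coe, Function.comp_apply]
    rw [← map_smul, ← map_smul, smul_eq_mul, mul_one, LinearEquiv.symm_apply_apply,
      ← LinearMap.comp_apply, ← exteriorPower.map_comp, hsr, map_smul_id]
    simp [pow_mul]

theorem QT.ofQuasiIso_trans (s s' : (ι → A) →ₗ[A] X) (r r' : X →ₗ[A] (ι → A)) (e e' : ℕ)
    (hrs : r ∘ₗ s = f ^ e • LinearMap.id) (hsr : s ∘ₗ r = f ^ e • LinearMap.id)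
    {g : A} (hrs' : r' ∘ₗ s' = g ^ e' • LinearMap.id) (hsr' : s' ∘ₗ r' = g ^ e' • LinearMap.id) :
    (QT.ofQuasiIso hm s r e hrs hsr).β (QT.ofQuasiIso hm s' r' e' hrs' hsr').α =
      LinearMap.det (r ∘ₗ s') := by
  simp only [QT.ofQuasiIso, LinearMap.coe_comp, LinearEquiv.coe_coe, Function.comp_apply]
  rw [← LinearMap.comp_apply, ← exteriorPower.map_comp, map_eq_det hm]
  simp

end top

section cocycle
variable {A : Type*} [CommRing A] {P Q : Type*} [AddCommGroup P] [Module A P]
  [AddCommGroup Q] [Module A Q]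

/-- The rank-one map `x ↦ β x • α`. -/
def rk1 {X Y : Type*} [AddCommGroup X] [Module A X] [AddCommGroup Y] [Module A Y]
    (β : X →ₗ[A] A) (α : Y) : X →ₗ[A] Y := (LinearMap.toSpanSingleton A Y α) ∘ₗ β

@[simp] theorem rk1_apply {X Y : Type*} [AddCommGroup X] [Module A X] [AddCommGroup Y]
    [Module A Y] (β : X →ₗ[A] A) (α : Y) (x : X) : rk1 β α x = β x • α := rfl

theorem glue_cocycle_fin {J : Type*} [Finite J] (g : J → A) (hg : Ideal.span (Set.range g) = ⊤)
    (N : ℕ) (tP : ∀ a, QT A (g a) N P) (tQ : ∀ a, QT A (g a) N Q)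
    (hc : ∀ a b, ∃ T : ℕ, (g a * g b) ^ T * (tP a).β (tP b).α =
      (g a * g b) ^ T * (tQ a).β (tQ b).α) : Nonempty (P ≃ₗ[A] Q) := by
  classical
  have := Fintype.ofFinite J
  choose Tf hTf using hc
  let T : ℕ := Finset.univ.sup fun ab : J × J => Tf ab.1 ab.2
  have hT : ∀ a b, (g a * g b) ^ T * (tP a).β (tP b).α = (g a * g b) ^ T * (tQ a).β (tQ b).α := by
    intro a b
    have hle : Tf a b ≤ T := Finset.le_sup (f := fun ab : J × J => Tf ab.1 ab.2)
      (Finset.mem_univ (a, b))
    obtain ⟨d, hd⟩ := Nat.exists_eq_add_of_le hle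
    rw [hd, pow_add, mul_comm _ ((g a * g b) ^ d), mul_assoc, mul_assoc, hTf a b]
  let ψ : J → (P →ₗ[A] Q) := fun a => (g a) ^ (T + N) • rk1 (tP a).β (tQ a).α
  let ψ' : J → (Q →ₗ[A] P) := fun a => (g a) ^ (T + N) • rk1 (tQ a).β (tP a).α
  have h1 : ∀ a, ψ' a ∘ₗ ψ a = (g a) ^ (2 * T + 4 * N) • LinearMap.id := by
    intro a
    ext x
    simp only [ψ, ψ', LinearMap.coe_comp, Function.comp_apply, LinearMap.smul_apply, rk1_apply,
      map_smul, LinearMap.id_coe, id_eq, (tQ a).hβα]
    have hx := (tP a).hαβ x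
    linear_combination (norm := module) (g a ^ (2 * T + 3 * N)) • hx
  have h2 : ∀ a, ψ a ∘ₗ ψ' a = (g a) ^ (2 * T + 4 * N) • LinearMap.id := by
    intro a
    ext x
    simp only [ψ, ψ', LinearMap.coe_comp, Function.comp_apply, LinearMap.smul_apply, rk1_apply,
      map_smul, LinearMap.id_coe, id_eq, (tP a).hβα]
    have hx := (tQ a).hαβ x
    linear_combination (norm := module) (g a ^ (2 * T + 3 * N)) • hx
  have hcompat : ∀ a b, (g b) ^ (T + 2 * N) • ψ a = (g a) ^ (T + 2 * N) • ψ b := by
    intro a b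
    ext x
    simp only [ψ, LinearMap.smul_apply, rk1_apply]
    -- key relations
    have e1 : g b ^ N * (tP a).β x = (tP b).β x * (tP a).β (tP b).α := by
      rw [← smul_eq_mul, ← map_smul, ← (tP b).hαβ x, map_smul, smul_eq_mul]
    have e2 : g b ^ N • (tQ a).α = (tQ b).β (tQ a).α • (tQ b).α := ((tQ b).hαβ _).symm
    have e3 : (tQ a).β (tQ b).α * (tQ b).β (tQ a).α = g a ^ N * g b ^ N := by
      rw [mul_comm, ← smul_eq_mul, ← map_smul, ← e2, map_smul, (tQ a).hβα, smul_eq_mul, mul_comm]
    have e4 := hT a b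
    have L : g b ^ (T + 2 * N) • g a ^ (T + N) • (tP a).β x • (tQ a).α =
        (g b ^ T * g a ^ (T + N) * ((tP b).β x * (tP a).β (tP b).α) * (tQ b).β (tQ a).α) •
          (tQ b).α := by
      rw [← e1, mul_smul, ← e2, smul_smul, smul_smul, smul_smul]
      congr 1; ring
    rw [L, smul_smul, smul_smul]
    congr 1
    rw [mul_pow] at e4
    linear_combination (g a ^ N * (tP b).β x * (tQ b).β (tQ a).α) * e4 +
      (g a ^ N * (tP b).β x * (g a ^ T * g b ^ T)) * e3
  exact glue g hg ψ ψ' (T + 2 * N) (2 * T + 4 * N) h1 h2 hcompat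


theorem glue_cocycle {I : Type*} (f : I → A) (hf : Ideal.span (Set.range f) = ⊤)
    (N : ℕ) (tP : ∀ i, QT A (f i) N P) (tQ : ∀ i, QT A (f i) N Q)
    (hc : ∀ i j, ∃ T : ℕ, (f i * f j) ^ T * (tP i).β (tP j).α =
      (f i * f j) ^ T * (tQ i).β (tQ j).α) : Nonempty (P ≃ₗ[A] Q) := by
  obtain ⟨s', hs', hspan⟩ := (Ideal.span_eq_top_iff_finite _).1 hf
  have hex : ∀ a : s', ∃ i, f i = a.1 := fun a => hs' a.2
  choose idx hidx using hex
  refine glue_cocycle_fin (J := s') (fun a => f (idx a)) ?_ N (fun a => tP (idx a))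
    (fun a => tQ (idx a)) (fun a b => hc _ _)
  have : Set.range (fun a : s' => f (idx a)) = (s' : Set A) := by
    ext x
    constructor
    · rintro ⟨a, rfl⟩
      show f (idx a) ∈ (s' : Set A)
      rw [hidx]; exact a.2
    · intro hx
      exact ⟨⟨x, hx⟩, hidx ⟨x, hx⟩⟩
  rw [this, hspan]

end cocycle

section DI
variable {A' B : Type*} [CommRing A'] [CommRing B] {n k : Type*} [Fintype n] [DecidableEq n]
  [Fintype k] [DecidableEq k]

theorem det_comp_diagonal_const (G : Matrix n n A') :
    (Matrix.comp k k n n A' (Matrix.diagonal fun _ : k => G)).det = G.det ^ Fintype.card k := by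
  have : Matrix.comp k k n n A' (Matrix.diagonal fun _ : k => G) =
      Matrix.reindex (Equiv.prodComm n k) (Equiv.prodComm n k)
        (Matrix.blockDiagonal fun _ : k => G) := by
    ext ⟨r, p⟩ ⟨s, q⟩
    simp only [Matrix.comp_apply, Matrix.reindex_apply, Matrix.submatrix_apply,
      Equiv.prodComm_symm, Equiv.prodComm_apply, Prod.swap_prod_mk, Matrix.blockDiagonal_apply]
    by_cases h : r = s
    · subst h; simp
    · simp [h]
  rw [this, Matrix.det_reindex_self, Matrix.det_blockDiagonal]
  simp

theorem det_identity (φ : B →+* Matrix n n A') (G : Matrix n n A') (c : Matrix k k B) :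
    (Matrix.comp k k n n A' ((c.map φ) * Matrix.diagonal fun _ : k => G)).det =
      G.det ^ Fintype.card k * (φ c.det).det := by
  have h := (Matrix.compRingEquiv k n A').map_mul (c.map φ) (Matrix.diagonal fun _ : k => G)
  simp only [Matrix.compRingEquiv_apply] at h
  rw [h, Matrix.det_mul, det_comp_diagonal_const, ← Matrix.det_det, mul_comm]

end DI

end Groth.Agent.Lib.Helper29.NmD
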