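import Mathlib
import Groth.Agent.Lib.Helper29.NmD

/-!
# Norm/determinant of a locally free module along a finite locally free algebra

`⋀^{nk}_A M ≅ (⋀ⁿ_A B)^{⊗(k-1)} ⊗_A ⋀ⁿ_A (⋀ᵏ_B M)`, by cocycle gluing of quasi-trivialisations;
the cocycle identity is `det_A = N_{B/A} ∘ det_B` (`Matrix.det_det`).
-/

set_option autoImplicit false
set_option linter.unusedSectionVars false
universe u

namespace Groth.Agent.Lib.Helper29.NmE

open TensorProduct
open Groth.Agent.Lib.Helper29.NmA Groth.Agent.Lib.Helper29.NmB Groth.Agent.Lib.Helper29.NmC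
open Groth.Agent.Lib.Helper29.NmD

theorem triv_mod (A B : Type u) [CommRing A] [CommRing B] [Algebra A B] [Module.Finite A B]
    (M : Type u) [AddCommGroup M] [Module B M] [Module.Finite B M] [Module.Projective B M] (k : ℕ)
    (hM : ∀ q : PrimeSpectrum B, Module.rankAtStalk M q = k) (p : Ideal A) [p.IsPrime] :
    ∃ (f : A) (u : (Fin k → B) →ₗ[B] M) (v : M →ₗ[B] (Fin k → B)), f ∉ p ∧
      v ∘ₗ u = algebraMap A B f • LinearMap.id ∧ u ∘ₗ v = algebraMap A B f • LinearMap.id := by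
  let S := Algebra.algebraMapSubmonoid B p.primeCompl
  let B' := Localization S
  let M' := LocalizedModule S M
  have hfinB' : Module.Finite (Localization.AtPrime p) B' :=
    Module.Finite.of_isLocalization A B p.primeCompl
  have hsl : Finite (MaximalSpectrum B') :=
    Groth.Agent.S14438.finite_maximalSpectrum_of_finite (Localization.AtPrime p)
  have rk : ∀ P : MaximalSpectrum B',
      Module.finrank (B' ⧸ P.1) ((B' ⧸ P.1) ⊗[B'] M') = k := by
    intro P
    have := P.2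
    rw [finrank_quot_tensor P.1 M',
      Module.rankAtStalk_isBaseChange
        (IsLocalizedModule.isBaseChange S B' (LocalizedModule.mkLinearMap S M))]
    exact hM _
  obtain ⟨b⟩ := Module.nonempty_basis_of_flat_of_finrank_eq B' M' k rk
  let f₀ : (Fin k → B) →ₗ[B] (Fin k → B') :=
    LinearMap.pi fun i => (Algebra.linearMap B B') ∘ₗ LinearMap.proj i
  have hloc : IsLocalizedModule S f₀ := inferInstance
  have hfpM : Module.FinitePresentation B M := Module.finitePresentation_of_projective B M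
  obtain ⟨u, v, s, h1, h2⟩ := exists_quasi_inverse S f₀
    (LocalizedModule.mkLinearMap S M) (b.equivFun.symm.restrictScalars B)
  obtain ⟨a, ha, has⟩ := s.2
  exact ⟨a, u, v, ha, by rw [h1, has], by rw [h2, has]⟩

section Loc

variable (A B : Type u) [CommRing A] [CommRing B] [Algebra A B]
    (M : Type u) [AddCommGroup M] [Module B M] [Module A M] [IsScalarTower A B M] (n k : ℕ)

/-- Local data: `B` quasi-free of rank `n` over `A`, `M` quasi-free of rank `k` over `B`. -/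
structure Loc (f : A) where
  a : (Fin n → A) →ₗ[A] B
  b : B →ₗ[A] (Fin n → A)
  hba : b ∘ₗ a = f • LinearMap.id
  hab : a ∘ₗ b = f • LinearMap.id
  u : (Fin k → B) →ₗ[B] M
  v : M →ₗ[B] (Fin k → B)
  hvu : v ∘ₗ u = algebraMap A B f • LinearMap.id
  huv : u ∘ₗ v = algebraMap A B f • LinearMap.id

variable {A B M n k}

/-- `k` copies of `a`. -/
noncomputable def aK (a : (Fin n → A) →ₗ[A] B) : (Fin k × Fin n → A) →ₗ[A] (Fin k → B) :=
  LinearMap.pi fun r => a ∘ₗ (LinearMap.pi fun p => LinearMap.proj (r, p))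

/-- `k` copies of `b`. -/
noncomputable def bK (b : B →ₗ[A] (Fin n → A)) : (Fin k → B) →ₗ[A] (Fin k × Fin n → A) :=
  LinearMap.pi fun rp => (LinearMap.proj rp.2) ∘ₗ b ∘ₗ (LinearMap.proj rp.1)

@[simp] theorem aK_apply (a : (Fin n → A) →ₗ[A] B) (w : Fin k × Fin n → A) (r : Fin k) :
    aK (k := k) a w r = a (fun p => w (r, p)) := rfl

@[simp] theorem bK_apply (b : B →ₗ[A] (Fin n → A)) (y : Fin k → B) (rp : Fin k × Fin n) :
    bK (k := k) b y rp = b (y rp.1) rp.2 := rfl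

variable {f : A} (t : Loc A B M n k f)

theorem Loc.bK_aK : bK (k := k) t.b ∘ₗ aK t.a = f • LinearMap.id := by
  refine LinearMap.ext fun w => funext fun rp => ?_
  have := congr_fun (LinearMap.congr_fun t.hba (fun p => w (rp.1, p))) rp.2
  simpa using this

theorem Loc.aK_bK : aK (k := k) t.a ∘ₗ bK t.b = f • LinearMap.id := by
  refine LinearMap.ext fun y => funext fun r => ?_
  have := LinearMap.congr_fun t.hab (y r)
  simpa using this

/-- `M` is quasi-free of rank `n k` over `A`. -/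
noncomputable def Loc.sP : (Fin k × Fin n → A) →ₗ[A] M := (t.u.restrictScalars A) ∘ₗ aK t.a
noncomputable def Loc.rP : M →ₗ[A] (Fin k × Fin n → A) := bK t.b ∘ₗ (t.v.restrictScalars A)

theorem Loc.rP_sP : t.rP ∘ₗ t.sP = f ^ 2 • LinearMap.id := by
  have h : (t.v.restrictScalars A) ∘ₗ (t.u.restrictScalars A) = f • LinearMap.id := by
    refine LinearMap.ext fun y => funext fun r => ?_
    have := congr_fun (LinearMap.congr_fun t.hvu y) r
    simpa [Algebra.smul_def] using this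
  have : t.rP ∘ₗ t.sP = bK t.b ∘ₗ ((t.v.restrictScalars A) ∘ₗ (t.u.restrictScalars A)) ∘ₗ aK t.a :=
    rfl
  rw [this, h, LinearMap.smul_comp, LinearMap.comp_smul, LinearMap.id_comp, t.bK_aK, smul_smul,
    pow_two]

theorem Loc.sP_rP : t.sP ∘ₗ t.rP = f ^ 2 • LinearMap.id := by
  have h : (t.u.restrictScalars A) ∘ₗ (t.v.restrictScalars A) = f • LinearMap.id := by
    ext y
    have := LinearMap.congr_fun t.huv y
    simpa using this
  have : t.sP ∘ₗ t.rP = (t.u.restrictScalars A) ∘ₗ (aK t.a ∘ₗ bK t.b) ∘ₗ (t.v.restrictScalars A) :=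
    rfl
  rw [this, t.aK_bK, LinearMap.smul_comp, LinearMap.comp_smul, LinearMap.id_comp, h, smul_smul,
    pow_two]


/-- `B → ⋀ᵏ_B M`, `x ↦ x • (u e₁ ∧ ⋯ ∧ u e_k)`. -/
noncomputable def Loc.δu : B →ₗ[B] ⋀[B]^k M :=
  exteriorPower.map k t.u ∘ₗ (topEquiv' B (Fin k) k (Fintype.card_fin k)).symm.toLinearMap

/-- `⋀ᵏ_B M → B`. -/
noncomputable def Loc.δv : ⋀[B]^k M →ₗ[B] B :=
  (topEquiv' B (Fin k) k (Fintype.card_fin k)).toLinearMap ∘ₗ exteriorPower.map k t.v

theorem Loc.δv_δu' {g : A} (t' : Loc A B M n k g) :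
    t.δv ∘ₗ t'.δu = LinearMap.det (t.v ∘ₗ t'.u) • LinearMap.id := by
  have : t.δv ∘ₗ t'.δu = (topEquiv' B (Fin k) k (Fintype.card_fin k)).toLinearMap ∘ₗ
      (exteriorPower.map k (t.v ∘ₗ t'.u)) ∘ₗ
      (topEquiv' B (Fin k) k (Fintype.card_fin k)).symm.toLinearMap := by
    rw [exteriorPower.map_comp]; rfl
  rw [this, map_eq_det (Fintype.card_fin k)]
  ext
  simp

theorem Loc.δv_δu : t.δv ∘ₗ t.δu = (algebraMap A B f) ^ k • LinearMap.id := by
  have : t.δv ∘ₗ t.δu = (topEquiv' B (Fin k) k (Fintype.card_fin k)).toLinearMap ∘ₗ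
      (exteriorPower.map k (t.v ∘ₗ t.u)) ∘ₗ
      (topEquiv' B (Fin k) k (Fintype.card_fin k)).symm.toLinearMap := by
    rw [exteriorPower.map_comp]; rfl
  rw [this, t.hvu, map_smul_id]
  ext
  simp

theorem Loc.δu_δv : t.δu ∘ₗ t.δv = (algebraMap A B f) ^ k • LinearMap.id := by
  have : t.δu ∘ₗ t.δv = exteriorPower.map k (t.u ∘ₗ t.v) := by
    rw [exteriorPower.map_comp]
    ext x
    simp [Loc.δu, Loc.δv]
  rw [this, t.huv, map_smul_id]

/-- `⋀ᵏ_B M` is quasi-free of rank `n` over `A`. -/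
noncomputable def Loc.sE : (Fin n → A) →ₗ[A] ⋀[B]^k M := (t.δu.restrictScalars A) ∘ₗ t.a
noncomputable def Loc.rE : ⋀[B]^k M →ₗ[A] (Fin n → A) := t.b ∘ₗ (t.δv.restrictScalars A)

theorem Loc.rE_sE : t.rE ∘ₗ t.sE = f ^ (k + 1) • LinearMap.id := by
  have h : (t.δv.restrictScalars A) ∘ₗ (t.δu.restrictScalars A) = f ^ k • LinearMap.id := by
    refine LinearMap.ext fun y => ?_
    have := LinearMap.congr_fun t.δv_δu y
    simp only [LinearMap.coe_comp, Function.comp_apply, LinearMap.smul_apply, LinearMap.id_coe,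
      id_eq] at this
    simp only [LinearMap.coe_comp, LinearMap.coe_restrictScalars, Function.comp_apply,
      LinearMap.smul_apply, LinearMap.id_coe, id_eq]
    rw [this, ← map_pow, algebraMap_smul]
  have : t.rE ∘ₗ t.sE = t.b ∘ₗ ((t.δv.restrictScalars A) ∘ₗ (t.δu.restrictScalars A)) ∘ₗ t.a := rfl
  rw [this, h, LinearMap.smul_comp, LinearMap.comp_smul, LinearMap.id_comp, t.hba, smul_smul,
    pow_succ]

theorem Loc.sE_rE : t.sE ∘ₗ t.rE = f ^ (k + 1) • LinearMap.id := by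
  have h : (t.δu.restrictScalars A) ∘ₗ (t.δv.restrictScalars A) = f ^ k • LinearMap.id := by
    refine LinearMap.ext fun y => ?_
    have := LinearMap.congr_fun t.δu_δv y
    simp only [LinearMap.coe_comp, Function.comp_apply, LinearMap.smul_apply, LinearMap.id_coe,
      id_eq] at this
    simp only [LinearMap.coe_comp, LinearMap.coe_restrictScalars, Function.comp_apply,
      LinearMap.smul_apply, LinearMap.id_coe, id_eq]
    rw [this, ← map_pow, algebraMap_smul]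
  have : t.sE ∘ₗ t.rE = (t.δu.restrictScalars A) ∘ₗ (t.a ∘ₗ t.b) ∘ₗ (t.δv.restrictScalars A) := rfl
  rw [this, t.hab, LinearMap.smul_comp, LinearMap.comp_smul, LinearMap.id_comp, h, smul_smul,
    pow_succ, mul_comm]


/-- Quasi-trivialisation of `⋀^{nk}_A M`. -/
noncomputable def Loc.tP : QT A f (2 * (n * k)) (⋀[A]^(n * k) M) :=
  QT.ofQuasiIso (ι := Fin k × Fin n) (by simp [mul_comm]) t.sP t.rP 2 t.rP_sP t.sP_rP

/-- Quasi-trivialisation of `⋀ⁿ_A B`. -/
noncomputable def Loc.tD : QT A f (1 * n) (⋀[A]^n B) :=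
  QT.ofQuasiIso (ι := Fin n) (Fintype.card_fin n) t.a t.b 1 (by simpa using t.hba)
    (by simpa using t.hab)

/-- Quasi-trivialisation of `⋀ⁿ_A (⋀ᵏ_B M)`. -/
noncomputable def Loc.tE : QT A f ((k + 1) * n) (⋀[A]^n (⋀[B]^k M)) :=
  QT.ofQuasiIso (ι := Fin n) (Fintype.card_fin n) t.sE t.rE (k + 1) t.rE_sE t.sE_rE

theorem exp_eq (hk : 1 ≤ k) : 1 * n * (k - 1) + (k + 1) * n = 2 * (n * k) := by
  obtain ⟨k', rfl⟩ : ∃ k', k = k' + 1 := ⟨k - 1, by omega⟩
  simp only [Nat.add_sub_cancel]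
  ring

/-- The additive group structure on the target (Mathlib only finds the monoid structure). -/
@[reducible] noncomputable def instACG : AddCommGroup ((⨂[A]^(k - 1) (⋀[A]^n B)) ⊗[A] ⋀[A]^n (⋀[B]^k M)) :=
  Module.addCommMonoidToAddCommGroup A

attribute [local instance] instACG

/-- Quasi-trivialisation of the target. -/
noncomputable def Loc.tQ (hk : 1 ≤ k) :
    QT A f (2 * (n * k)) ((⨂[A]^(k - 1) (⋀[A]^n B)) ⊗[A] ⋀[A]^n (⋀[B]^k M)) :=
  ((t.tD.tpow (k - 1)).tensor t.tE).cast (exp_eq hk)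

variable {g : A} (t' : Loc A B M n k g)

theorem Loc.dP : t.tP.β t'.tP.α = LinearMap.det (t.rP ∘ₗ t'.sP) :=
  QT.ofQuasiIso_trans _ _ _ _ _ _ _ _ _ _ _

theorem Loc.dD : t.tD.β t'.tD.α = LinearMap.det (t.b ∘ₗ t'.a) :=
  QT.ofQuasiIso_trans _ _ _ _ _ _ _ _ _ _ _

theorem Loc.dE : t.tE.β t'.tE.α = LinearMap.det (t.rE ∘ₗ t'.sE) :=
  QT.ofQuasiIso_trans _ _ _ _ _ _ _ _ _ _ _

theorem Loc.dQ (hk : 1 ≤ k) : (t.tQ hk).β (t'.tQ hk).α =
    LinearMap.det (t.b ∘ₗ t'.a) ^ (k - 1) * LinearMap.det (t.rE ∘ₗ t'.sE) := by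
  simp only [Loc.tQ, QT.cast_α, QT.cast_β, QT.tensor_α, QT.tpow_α]
  rw [QT.tensor_β_tmul, QT.tpow_β_tprod, t.dE t', t.dD t']
  simp


/-- The matrix of `b ∘ (x ·) ∘ a'`. -/
noncomputable def Phi (b : B →ₗ[A] (Fin n → A)) (a' : (Fin n → A) →ₗ[A] B) (x : B) :
    Matrix (Fin n) (Fin n) A :=
  LinearMap.toMatrix' (b ∘ₗ LinearMap.mulLeft A x ∘ₗ a')

theorem Phi_apply (b : B →ₗ[A] (Fin n → A)) (a' : (Fin n → A) →ₗ[A] B) (x : B) (p q : Fin n) :
    Phi b a' x p q = b (x * a' (Pi.single q 1)) p := by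
  simp [Phi, LinearMap.toMatrix'_apply]

theorem aK_single (a' : (Fin n → A) →ₗ[A] B) (s : Fin k) (q : Fin n) :
    aK (k := k) a' (Pi.single (s, q) 1) = Pi.single s (a' (Pi.single q 1)) := by
  funext r
  rw [aK_apply]
  by_cases h : r = s
  · subst h
    rw [Pi.single_eq_same]
    congr 1
    funext p
    by_cases hp : p = q
    · subst hp; simp
    · rw [Pi.single_eq_of_ne hp, Pi.single_eq_of_ne]
      intro h2; exact hp (Prod.ext_iff.1 h2).2
  · rw [Pi.single_eq_of_ne h]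
    have : (fun p => (Pi.single (s, q) (1 : A) : Fin k × Fin n → A) (r, p)) = 0 := by
      funext p
      rw [Pi.single_eq_of_ne]; rfl
      intro h2; exact h (Prod.ext_iff.1 h2).1
    rw [this, map_zero]

theorem toMatrix_rP_sP :
    LinearMap.toMatrix' (t.rP ∘ₗ t'.sP) =
      Matrix.comp (Fin k) (Fin k) (Fin n) (Fin n) A
        ((LinearMap.toMatrix' (t.v ∘ₗ t'.u)).map (Phi t.b t'.a)) := by
  ext ⟨r, p⟩ ⟨s, q⟩
  rw [LinearMap.toMatrix'_apply, Matrix.comp_apply, Matrix.map_apply, Phi_apply]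
  simp only [Loc.rP, Loc.sP, LinearMap.coe_comp, LinearMap.coe_restrictScalars,
    Function.comp_apply, bK_apply]
  rw [aK_single]
  have h1 : (Pi.single s (t'.a (Pi.single q 1)) : Fin k → B) =
      (t'.a (Pi.single q 1)) • (Pi.single s (1 : B) : Fin k → B) := by
    rw [← Pi.single_smul, smul_eq_mul, mul_one]
  rw [h1, map_smul, map_smul]
  simp only [Pi.smul_apply, smul_eq_mul]
  rw [LinearMap.toMatrix'_apply, mul_comm]
  rfl


theorem Loc.Phi_mul (x y : B) : Phi t.b t.a x * Phi t.b t.a y = f • Phi t.b t.a (x * y) := by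
  rw [Phi, Phi, ← LinearMap.toMatrix'_comp]
  have : (t.b ∘ₗ LinearMap.mulLeft A x ∘ₗ t.a) ∘ₗ (t.b ∘ₗ LinearMap.mulLeft A y ∘ₗ t.a) =
      f • (t.b ∘ₗ LinearMap.mulLeft A (x * y) ∘ₗ t.a) := by
    have h : (t.b ∘ₗ LinearMap.mulLeft A x ∘ₗ t.a) ∘ₗ (t.b ∘ₗ LinearMap.mulLeft A y ∘ₗ t.a) =
        t.b ∘ₗ LinearMap.mulLeft A x ∘ₗ (t.a ∘ₗ t.b) ∘ₗ LinearMap.mulLeft A y ∘ₗ t.a := rfl
    rw [h, t.hab]
    refine LinearMap.ext fun w => ?_
    simp
  rw [this, map_smul]
  rfl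

theorem Loc.Phi_one : Phi t.b t.a 1 = f • (1 : Matrix (Fin n) (Fin n) A) := by
  rw [Phi]
  have : t.b ∘ₗ LinearMap.mulLeft A (1 : B) ∘ₗ t.a = f • LinearMap.id := by
    rw [← t.hba]
    refine LinearMap.ext fun w => ?_
    simp
  rw [this, map_smul, LinearMap.toMatrix'_id]

theorem Loc.Phi_mul' (x : B) : Phi t.b t.a x * Phi t.b t'.a 1 = f • Phi t.b t'.a x := by
  rw [Phi, Phi, ← LinearMap.toMatrix'_comp]
  have : (t.b ∘ₗ LinearMap.mulLeft A x ∘ₗ t.a) ∘ₗ (t.b ∘ₗ LinearMap.mulLeft A (1 : B) ∘ₗ t'.a) =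
      f • (t.b ∘ₗ LinearMap.mulLeft A x ∘ₗ t'.a) := by
    have h : (t.b ∘ₗ LinearMap.mulLeft A x ∘ₗ t.a) ∘ₗ (t.b ∘ₗ LinearMap.mulLeft A (1 : B) ∘ₗ t'.a) =
        t.b ∘ₗ LinearMap.mulLeft A x ∘ₗ (t.a ∘ₗ t.b) ∘ₗ LinearMap.mulLeft A (1 : B) ∘ₗ t'.a := rfl
    rw [h, t.hab]
    refine LinearMap.ext fun w => ?_
    simp
  rw [this, map_smul]
  rfl

theorem Phi_add (b : B →ₗ[A] (Fin n → A)) (a' : (Fin n → A) →ₗ[A] B) (x y : B) :
    Phi b a' (x + y) = Phi b a' x + Phi b a' y := by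
  ext p q
  simp [Phi_apply, add_mul]

theorem Phi_zero (b : B →ₗ[A] (Fin n → A)) (a' : (Fin n → A) →ₗ[A] B) :
    Phi b a' 0 = 0 := by
  ext p q
  simp [Phi_apply]


section DIloc

variable (A' : Type u) [CommRing A'] [Algebra A A']

/-- The ring homomorphism `B → Mₙ(A')`, `x ↦ f⁻¹ [b (x ·) a]`. -/
noncomputable def Loc.phi (gi : A') (hgi : algebraMap A A' f * gi = 1) :
    B →+* Matrix (Fin n) (Fin n) A' where
  toFun x := gi • (Phi t.b t.a x).map (algebraMap A A')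
  map_one' := by
    rw [t.Phi_one]
    ext p q
    simp only [Matrix.smul_apply, Matrix.map_apply, Matrix.one_apply, smul_eq_mul]
    by_cases h : p = q
    · rw [if_pos h, if_pos h, mul_one, mul_comm, hgi]
    · rw [if_neg h, if_neg h, mul_zero, map_zero, mul_zero]
  map_mul' x y := by
    have h := t.Phi_mul x y
    have h2 : (Phi t.b t.a x).map (algebraMap A A') * (Phi t.b t.a y).map (algebraMap A A') =
        algebraMap A A' f • (Phi t.b t.a (x * y)).map (algebraMap A A') := by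
      rw [← Matrix.map_mul, h]
      ext p q
      simp only [Matrix.map_apply, Matrix.smul_apply, smul_eq_mul, map_mul]
    rw [Matrix.smul_mul, Matrix.mul_smul, h2, smul_smul, smul_smul]
    congr 1
    linear_combination (-gi) * hgi
  map_zero' := by
    rw [Phi_zero]
    simp
  map_add' x y := by
    rw [Phi_add, Matrix.map_add (algebraMap A A') (by simp), smul_add]

theorem Loc.phi_mul_G (gi : A') (hgi : algebraMap A A' f * gi = 1) (x : B) :
    (Phi t.b t'.a x).map (algebraMap A A') =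
      t.phi A' gi hgi x * (Phi t.b t'.a 1).map (algebraMap A A') := by
  have h := t.Phi_mul' t' x
  change _ = (gi • (Phi t.b t.a x).map (algebraMap A A')) * _
  rw [Matrix.smul_mul, ← Matrix.map_mul, h]
  ext p q
  simp only [Matrix.map_apply, Matrix.smul_apply, smul_eq_mul, map_mul]
  rw [← mul_assoc, mul_comm gi, hgi, one_mul]

theorem Loc.det_identity_map (gi : A') (hgi : algebraMap A A' f * gi = 1) (hk : 1 ≤ k)
    (c : Matrix (Fin k) (Fin k) B) :
    algebraMap A A' (Matrix.comp (Fin k) (Fin k) (Fin n) (Fin n) A (c.map (Phi t.b t'.a))).det =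
      algebraMap A A' ((Phi t.b t'.a 1).det ^ (k - 1) * (Phi t.b t'.a c.det).det) := by
  set G := (Phi t.b t'.a 1).map (algebraMap A A') with hG
  have e1 : (Matrix.comp (Fin k) (Fin k) (Fin n) (Fin n) A (c.map (Phi t.b t'.a))).map
      (algebraMap A A') =
      Matrix.comp (Fin k) (Fin k) (Fin n) (Fin n) A'
        ((c.map (t.phi A' gi hgi)) * Matrix.diagonal fun _ : Fin k => G) := by
    rw [← Matrix.comp_map_map]
    congr 1
    ext r s : 1
    rw [Matrix.map_apply, Matrix.map_apply, Matrix.mul_diagonal, Matrix.map_apply,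
      t.phi_mul_G t' A' gi hgi]
  have hd1 : algebraMap A A' (Phi t.b t'.a 1).det = G.det := by
    rw [RingHom.map_det, RingHom.mapMatrix_apply]
  have hd2 : algebraMap A A' (Phi t.b t'.a c.det).det =
      (t.phi A' gi hgi c.det).det * G.det := by
    rw [RingHom.map_det, RingHom.mapMatrix_apply, t.phi_mul_G t' A' gi hgi, Matrix.det_mul]
  have hL : algebraMap A A'
      (Matrix.comp (Fin k) (Fin k) (Fin n) (Fin n) A (c.map (Phi t.b t'.a))).det =
      G.det ^ k * (t.phi A' gi hgi c.det).det := by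
    rw [RingHom.map_det, RingHom.mapMatrix_apply, e1, det_identity]
    simp
  rw [hL, map_mul, map_pow, hd1, hd2]
  obtain ⟨k', rfl⟩ : ∃ k', k = k' + 1 := ⟨k - 1, by omega⟩
  simp only [Nat.add_sub_cancel]
  ring

end DIloc

theorem Loc.det_identity_exists (hk : 1 ≤ k) (c : Matrix (Fin k) (Fin k) B) :
    ∃ T : ℕ, f ^ T * (Matrix.comp (Fin k) (Fin k) (Fin n) (Fin n) A (c.map (Phi t.b t'.a))).det =
      f ^ T * ((Phi t.b t'.a 1).det ^ (k - 1) * (Phi t.b t'.a c.det).det) := by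
  have h := t.det_identity_map t' (Localization.Away f) (IsLocalization.Away.invSelf f)
    (IsLocalization.Away.mul_invSelf f) hk c
  obtain ⟨⟨_, T, rfl⟩, hT⟩ := (IsLocalization.eq_iff_exists (Submonoid.powers f) _).1 h
  exact ⟨T, hT⟩


theorem Loc.det_bD : LinearMap.det (t.b ∘ₗ t'.a) = (Phi t.b t'.a 1).det := by
  rw [Phi, LinearMap.det_toMatrix']
  congr 1
  refine LinearMap.ext fun w => ?_
  simp

theorem Loc.det_bE : LinearMap.det (t.rE ∘ₗ t'.sE) =
    (Phi t.b t'.a (LinearMap.toMatrix' (t.v ∘ₗ t'.u)).det).det := by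
  rw [Phi, LinearMap.det_toMatrix', LinearMap.det_toMatrix']
  congr 1
  refine LinearMap.ext fun w => ?_
  have h := LinearMap.congr_fun (t.δv_δu' t') (t'.a w)
  simp only [LinearMap.coe_comp, Function.comp_apply, LinearMap.smul_apply, LinearMap.id_coe,
    id_eq, smul_eq_mul] at h
  simp only [Loc.rE, Loc.sE, LinearMap.coe_comp, LinearMap.coe_restrictScalars,
    Function.comp_apply, LinearMap.mulLeft_apply]
  rw [h]

theorem Loc.det_P : LinearMap.det (t.rP ∘ₗ t'.sP) =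
    (Matrix.comp (Fin k) (Fin k) (Fin n) (Fin n) A
        ((LinearMap.toMatrix' (t.v ∘ₗ t'.u)).map (Phi t.b t'.a))).det := by
  rw [← toMatrix_rP_sP, LinearMap.det_toMatrix']

theorem Loc.cocycle (hk : 1 ≤ k) :
    ∃ T : ℕ, (f * g) ^ T * t.tP.β t'.tP.α = (f * g) ^ T * (t.tQ hk).β (t'.tQ hk).α := by
  obtain ⟨T, hT⟩ := t.det_identity_exists t' hk (LinearMap.toMatrix' (t.v ∘ₗ t'.u))
  refine ⟨T, ?_⟩
  rw [t.dP t', t.dQ t' hk, t.det_P t', t.det_bD t', t.det_bE t', mul_pow, mul_assoc, mul_assoc,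
    mul_comm (g ^ T), mul_comm (g ^ T), ← mul_assoc, ← mul_assoc, hT]

end Loc

section Main

variable {A B : Type u} [CommRing A] [CommRing B] [Algebra A B]
    {M : Type u} [AddCommGroup M] [Module B M] [Module A M] [IsScalarTower A B M]

theorem exists_loc (n k : ℕ) [Module.Finite A B] [Module.Projective A B]
    (hn : ∀ q : PrimeSpectrum A, Module.rankAtStalk B q = n)
    [Module.Finite B M] [Module.Projective B M]
    (hM : ∀ q : PrimeSpectrum B, Module.rankAtStalk M q = k) (p : PrimeSpectrum A) :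
    ∃ f : A, f ∉ p.asIdeal ∧ Nonempty (Loc A B M n k f) := by
  obtain ⟨f₁, a, b, hf₁, hba, hab⟩ := triv_alg A B n p.asIdeal (hn p)
  obtain ⟨f₂, u, v, hf₂, hvu, huv⟩ := triv_mod A B M k hM p.asIdeal
  refine ⟨f₂ * f₁, fun h => ?_, ⟨⟨a, f₂ • b, ?_, ?_, u, algebraMap A B f₁ • v, ?_, ?_⟩⟩⟩
  · rcases p.2.mem_or_mem h with h | h
    · exact hf₂ h
    · exact hf₁ h
  · rw [LinearMap.smul_comp, hba, smul_smul]
  · rw [LinearMap.comp_smul, hab, smul_smul]
  · rw [LinearMap.smul_comp, hvu, smul_smul, map_mul, mul_comm]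
  · rw [LinearMap.comp_smul, huv, smul_smul, map_mul, mul_comm]

theorem main (n k : ℕ) (hk : 1 ≤ k) [Module.Finite A B] [Module.Projective A B]
    (hn : ∀ q : PrimeSpectrum A, Module.rankAtStalk B q = n)
    [Module.Finite B M] [Module.Projective B M]
    (hM : ∀ q : PrimeSpectrum B, Module.rankAtStalk M q = k) :
    Nonempty ((⋀[A]^(n * k) M) ≃ₗ[A]
      (TensorPower A (k - 1) (⋀[A]^n B)) ⊗[A] (⋀[A]^n (⋀[B]^k M))) := by
  choose f hf hL using exists_loc (M := M) n k hn hM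
  have hspan : Ideal.span (Set.range f) = ⊤ := by
    by_contra hne
    obtain ⟨m, hm, hle⟩ := Ideal.exists_le_maximal _ hne
    exact hf ⟨m, hm.isPrime⟩ (hle (Ideal.subset_span ⟨_, rfl⟩))
  let L : ∀ p, Loc A B M n k (f p) := fun p => (hL p).some
  letI : AddCommGroup ((⨂[A]^(k - 1) (⋀[A]^n B)) ⊗[A] ⋀[A]^n (⋀[B]^k M)) := instACG
  exact glue_cocycle (P := ⋀[A]^(n * k) M)
    (Q := (⨂[A]^(k - 1) (⋀[A]^n B)) ⊗[A] ⋀[A]^n (⋀[B]^k M)) f hspan (2 * (n * k))
    (fun p => (L p).tP) (fun p => (L p).tQ hk) (fun i j => (L i).cocycle (L j) hk)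

end Main

end Groth.Agent.Lib.Helper29.NmE
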