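import Mathlib
import Groth.Agent.Lib.Helper80.Node.Defs

/-!
# Sub-lemma DES for S14386 (helper80's request, msg 3451) (helper29)
-/

set_option autoImplicit false
universe u
open Groth.Agent.Lib.Helper80.Node

namespace Groth.Agent.Lib.Helper29.NodeDES

theorem des {B : Type u} [CommRing B] (x y : B) (hx : (Ideal.span {x}).IsPrime)
    (hy : (Ideal.span {y}).IsPrime) (hxy : y ∉ Ideal.span {x}) (hyx : x ∉ Ideal.span {y})
    (hxr : x ∈ nonZeroDivisors B) (hyr : y ∈ nonZeroDivisors B)
    (hm : Ideal.span ({x, y} : Set B) ≠ ⊤) (a b : B) (m : ℕ) (c c' e e' : B)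
    (h1 : (x * y) ^ m - c * a = e * y) (h2 : -(c * b) = e * x) (h3 : -(c' * a) = e' * y)
    (h4 : (x * y) ^ m - c' * b = e' * x) : b ∈ Ideal.span {x} ∨ a ∈ Ideal.span {y} := by
  have hxyr : x * y ∈ nonZeroDivisors B := mul_mem hxr hyr
  have hcancel : ∀ z : B, (x * y) * z = 0 → z = 0 := fun z hz =>
    (mul_right_mem_nonZeroDivisors_eq_zero_iff hxyr).mp (by rwa [mul_comm] at hz)
  -- elements of `(x) ∩ (y)` are multiples of `x * y`
  have hboth : ∀ z : B, z ∈ Ideal.span {x} → z ∈ Ideal.span {y} → ∃ z', z = (x * y) * z' := by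
    intro z hzx hzy
    obtain ⟨z₁, rfl⟩ := Ideal.mem_span_singleton.mp hzx
    rcases hy.mem_or_mem hzy with h | h
    · exact absurd h hyx
    · obtain ⟨z₂, rfl⟩ := Ideal.mem_span_singleton.mp h
      exact ⟨z₂, by ring⟩
  induction m generalizing c c' e e' with
  | zero =>
    exfalso
    apply hm
    rw [Ideal.eq_top_iff_one]
    rw [pow_zero] at h1 h4
    have h : (1 : B) = e * y + c * a * e' * x + e * x * (e' * y) := by
      linear_combination h1 + (c * a) * h4 - (c * b) * h3 + (e' * y) * h2
    rw [h]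
    have hxJ : x ∈ Ideal.span ({x, y} : Set B) := Ideal.subset_span (by simp)
    have hyJ : y ∈ Ideal.span ({x, y} : Set B) := Ideal.subset_span (by simp)
    exact Ideal.add_mem _ (Ideal.add_mem _ (Ideal.mul_mem_left _ _ hyJ) (Ideal.mul_mem_left _ _ hxJ))
      (Ideal.mul_mem_left _ _ (Ideal.mul_mem_left _ _ hyJ))
  | succ m ih =>
    by_contra hcon
    push Not at hcon
    obtain ⟨hb, ha⟩ := hcon
    have hpx : (x * y) ^ (m + 1) ∈ Ideal.span {x} :=
      Ideal.mem_span_singleton.mpr ⟨y * (x * y) ^ m, by ring⟩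
    have hpy : (x * y) ^ (m + 1) ∈ Ideal.span {y} :=
      Ideal.mem_span_singleton.mpr ⟨x * (x * y) ^ m, by ring⟩
    have hxx : x ∈ Ideal.span {x} := Ideal.mem_span_singleton_self x
    have hyy : y ∈ Ideal.span {y} := Ideal.mem_span_singleton_self y
    -- modulo x
    have hcx : c ∈ Ideal.span {x} := by
      have : c * b ∈ Ideal.span {x} := by
        have h : c * b = -(e * x) := by linear_combination -h2
        rw [h]; exact Ideal.neg_mem_iff _ |>.mpr (Ideal.mul_mem_left _ _ hxx)
      exact (hx.mem_or_mem this).resolve_right hb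
    have hc'x : c' ∈ Ideal.span {x} := by
      have : c' * b ∈ Ideal.span {x} := by
        have h : c' * b = (x * y) ^ (m + 1) - e' * x := by linear_combination -h4
        rw [h]; exact Ideal.sub_mem _ hpx (Ideal.mul_mem_left _ _ hxx)
      exact (hx.mem_or_mem this).resolve_right hb
    have hex : e ∈ Ideal.span {x} := by
      have : e * y ∈ Ideal.span {x} := by
        rw [← h1]; exact Ideal.sub_mem _ hpx (Ideal.mul_mem_right _ _ hcx)
      exact (hx.mem_or_mem this).resolve_right hxy
    have he'x : e' ∈ Ideal.span {x} := by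
      have : e' * y ∈ Ideal.span {x} := by
        rw [← h3]; exact Ideal.neg_mem_iff _ |>.mpr (Ideal.mul_mem_right _ _ hc'x)
      exact (hx.mem_or_mem this).resolve_right hxy
    -- modulo y
    have hcy : c ∈ Ideal.span {y} := by
      have : c * a ∈ Ideal.span {y} := by
        have h : c * a = (x * y) ^ (m + 1) - e * y := by linear_combination -h1
        rw [h]; exact Ideal.sub_mem _ hpy (Ideal.mul_mem_left _ _ hyy)
      exact (hy.mem_or_mem this).resolve_right ha
    have hc'y : c' ∈ Ideal.span {y} := by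
      have : c' * a ∈ Ideal.span {y} := by
        have h : c' * a = -(e' * y) := by linear_combination -h3
        rw [h]; exact Ideal.neg_mem_iff _ |>.mpr (Ideal.mul_mem_left _ _ hyy)
      exact (hy.mem_or_mem this).resolve_right ha
    have hey : e ∈ Ideal.span {y} := by
      have : e * x ∈ Ideal.span {y} := by
        rw [← h2]; exact Ideal.neg_mem_iff _ |>.mpr (Ideal.mul_mem_right _ _ hcy)
      exact (hy.mem_or_mem this).resolve_right hyx
    have he'y : e' ∈ Ideal.span {y} := by
      have : e' * x ∈ Ideal.span {y} := by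
        rw [← h4]; exact Ideal.sub_mem _ hpy (Ideal.mul_mem_right _ _ hc'y)
      exact (hy.mem_or_mem this).resolve_right hyx
    obtain ⟨c₁, rfl⟩ := hboth c hcx hcy
    obtain ⟨c₁', rfl⟩ := hboth c' hc'x hc'y
    obtain ⟨e₁, rfl⟩ := hboth e hex hey
    obtain ⟨e₁', rfl⟩ := hboth e' he'x he'y
    have g1 : (x * y) ^ m - c₁ * a = e₁ * y := by
      have := hcancel ((x * y) ^ m - c₁ * a - e₁ * y) (by linear_combination h1)
      linear_combination this
    have g2 : -(c₁ * b) = e₁ * x := by
      have := hcancel (-(c₁ * b) - e₁ * x) (by linear_combination h2)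
      linear_combination this
    have g3 : -(c₁' * a) = e₁' * y := by
      have := hcancel (-(c₁' * a) - e₁' * y) (by linear_combination h3)
      linear_combination this
    have g4 : (x * y) ^ m - c₁' * b = e₁' * x := by
      have := hcancel ((x * y) ^ m - c₁' * b - e₁' * x) (by linear_combination h4)
      linear_combination this
    rcases ih c₁ c₁' e₁ e₁' g1 g2 g3 g4 with h | h
    · exact hb h
    · exact ha h

end Groth.Agent.Lib.Helper29.NodeDES
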