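import Mathlib
import Groth.Agent.Lib.Helper80.Node.Defs

/-!
# Sub-lemma LOC for S14386 (helper80's request, msg 3452) (helper29)
-/

set_option autoImplicit false
universe u
open Groth.Agent.Lib.Helper80.Node

namespace Groth.Agent.Lib.Helper29.NodeLOC

theorem loc {Q B : Type u} [CommRing Q] [CommRing B] [Algebra Q B] (h : Q)
    [IsLocalization.Away h B] (x y : Q) (hx : (Ideal.span {x}).IsPrime)
    (hy : (Ideal.span {y}).IsPrime) (hxy : y ∉ Ideal.span {x}) (hyx : x ∉ Ideal.span {y})
    (hxr : x ∈ nonZeroDivisors Q) (hyr : y ∈ nonZeroDivisors Q)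
    (hm : (Ideal.span ({x, y} : Set Q)).IsPrime) (hh : h ∉ Ideal.span ({x, y} : Set Q)) :
    (Ideal.span {algebraMap Q B x}).IsPrime ∧ (Ideal.span {algebraMap Q B y}).IsPrime ∧
      algebraMap Q B y ∉ Ideal.span {algebraMap Q B x} ∧
      algebraMap Q B x ∉ Ideal.span {algebraMap Q B y} ∧
      algebraMap Q B x ∈ nonZeroDivisors B ∧ algebraMap Q B y ∈ nonZeroDivisors B ∧
      Ideal.span ({algebraMap Q B x, algebraMap Q B y} : Set B) ≠ ⊤ := by
  have hdisj : ∀ (P : Ideal Q), P.IsPrime → h ∉ P →
      Disjoint ((Submonoid.powers h : Submonoid Q) : Set Q) (P : Set Q) := by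
    intro P hP hhP
    rw [Set.disjoint_left]
    rintro z ⟨n, rfl⟩ hz
    exact hhP (hP.mem_of_pow_mem n hz)
  have hlex : Ideal.span {x} ≤ Ideal.span ({x, y} : Set Q) :=
    Ideal.span_mono (by simp)
  have hley : Ideal.span {y} ≤ Ideal.span ({x, y} : Set Q) :=
    Ideal.span_mono (by simp)
  have hhx : h ∉ Ideal.span {x} := fun h' => hh (hlex h')
  have hhy : h ∉ Ideal.span {y} := fun h' => hh (hley h')
  have ex : Ideal.span {algebraMap Q B x} = Ideal.map (algebraMap Q B) (Ideal.span {x}) := by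
    rw [Ideal.map_span, Set.image_singleton]
  have ey : Ideal.span {algebraMap Q B y} = Ideal.map (algebraMap Q B) (Ideal.span {y}) := by
    rw [Ideal.map_span, Set.image_singleton]
  have exy : Ideal.span ({algebraMap Q B x, algebraMap Q B y} : Set B) =
      Ideal.map (algebraMap Q B) (Ideal.span ({x, y} : Set Q)) := by
    rw [Ideal.map_span, Set.image_pair]
  have cx := IsLocalization.under_map_of_isPrime_disjoint (Submonoid.powers h) B hx
    (hdisj _ hx hhx)
  have cy := IsLocalization.under_map_of_isPrime_disjoint (Submonoid.powers h) B hy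
    (hdisj _ hy hhy)
  refine ⟨?_, ?_, ?_, ?_, ?_, ?_, ?_⟩
  · rw [ex]
    exact IsLocalization.isPrime_of_isPrime_disjoint (Submonoid.powers h) B _ hx (hdisj _ hx hhx)
  · rw [ey]
    exact IsLocalization.isPrime_of_isPrime_disjoint (Submonoid.powers h) B _ hy (hdisj _ hy hhy)
  · rw [ex]
    intro h'
    apply hxy
    rw [← cx]
    exact h'
  · rw [ey]
    intro h'
    apply hyx
    rw [← cy]
    exact h'
  · exact IsLocalization.map_nonZeroDivisors_le (Submonoid.powers h) B
      (Submonoid.mem_map_of_mem _ hxr)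
  · exact IsLocalization.map_nonZeroDivisors_le (Submonoid.powers h) B
      (Submonoid.mem_map_of_mem _ hyr)
  · rw [exy]
    exact (IsLocalization.isPrime_of_isPrime_disjoint (Submonoid.powers h) B _ hm
      (hdisj _ hm hh)).ne_top

end Groth.Agent.Lib.Helper29.NodeLOC
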