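import Mathlib

/-!
# Norm polynomial for a finite group action (universal construction)
-/

set_option autoImplicit false
open scoped TensorProduct
open Polynomial

namespace Groth.Agent.Lib.Helper29.NormPoly

universe u

section Rep

variable {S : Type*} [CommRing S] {M N : Type*} [AddCommGroup M] [Module S M]
  [AddCommGroup N] [Module S N]

/-- every tensor is a finite sum of pure tensors indexed by a fintype in `Type`. -/
theorem exists_rep (b : M ⊗[S] N) :
    ∃ (ι : Type) (_ : Fintype ι) (u : ι → M) (y : ι → N), b = ∑ i, u i ⊗ₜ[S] y i := by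
  induction b using TensorProduct.induction_on with
  | zero => exact ⟨PEmpty, inferInstance, PEmpty.elim, PEmpty.elim, by simp⟩
  | tmul m n => exact ⟨Unit, inferInstance, fun _ => m, fun _ => n, by simp⟩
  | add b₁ b₂ h₁ h₂ =>
    obtain ⟨ι₁, _, u₁, y₁, rfl⟩ := h₁
    obtain ⟨ι₂, _, u₂, y₂, rfl⟩ := h₂
    refine ⟨ι₁ ⊕ ι₂, inferInstance, Sum.elim u₁ u₂, Sum.elim y₁ y₂, ?_⟩
    simp [Fintype.sum_sum_type]

end Rep

section KerRep

variable {S A R : Type*} [CommRing S] [CommRing A] [Algebra S A] [CommRing R] [Algebra S R]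

theorem exists_ker_rep (a : A) (ha : (a ⊗ₜ[S] (1 : R) : A ⊗[S] R) = 0) :
    ∃ (ι : Type) (_ : Fintype ι) (k : ι → MvPolynomial A S) (y : ι → R),
      (∀ j, MvPolynomial.aeval (R := S) (id : A → A) (k j) = 0) ∧
      (∑ j, k j ⊗ₜ[S] y j : MvPolynomial A S ⊗[S] R) = (MvPolynomial.X a) ⊗ₜ[S] (1 : R) := by
  let π : MvPolynomial A S →ₐ[S] A := MvPolynomial.aeval (id : A → A)
  have hπX : ∀ c : A, π (MvPolynomial.X c) = c := by
    intro c
    show MvPolynomial.aeval (R := S) (id : A → A) (MvPolynomial.X c) = c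
    rw [MvPolynomial.aeval_X]; rfl
  have hπ : Function.Surjective π.toLinearMap := fun c => ⟨MvPolynomial.X c, hπX c⟩
  have hex : Function.Exact (LinearMap.ker π.toLinearMap).subtype π.toLinearMap := by
    intro z
    simp [LinearMap.mem_ker]
  have hex2 := rTensor_exact R hex hπ
  have hz : (LinearMap.rTensor R π.toLinearMap)
      ((MvPolynomial.X a : MvPolynomial A S) ⊗ₜ[S] (1 : R)) = 0 := by
    rw [LinearMap.rTensor_tmul, AlgHom.toLinearMap_apply, hπX]
    exact ha
  obtain ⟨w, hw⟩ := (hex2 _).1 hz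
  obtain ⟨ι, _, k, y, rfl⟩ := exists_rep w
  refine ⟨ι, inferInstance, fun j => (k j : MvPolynomial A S), y, fun j => (k j).2, ?_⟩
  rw [← hw, map_sum]
  simp

end KerRep

section Univ

variable {S : Type u} {R : Type u} {G : Type u} [CommRing S] [CommRing R] [Algebra S R]
  [Group G] [Fintype G] [MulSemiringAction G R]
variable {ι : Type} [Fintype ι]

/-- the linear form `∑ X_i * C (σ • y_i)` -/
noncomputable def lin (y : ι → R) (σ : G) : MvPolynomial ι R :=
  ∑ i, MvPolynomial.X i * MvPolynomial.C (σ • y i)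

/-- the product `∏_σ (T - L_σ)` over `R[x]`. -/
noncomputable def Q (y : ι → R) : (MvPolynomial ι R)[X] :=
  ∏ σ : G, (X - C (lin y σ))

theorem Q_monic (y : ι → R) : (Q (G := G) y).Monic := by
  unfold Q
  exact monic_prod_of_monic _ _ (fun σ _ => monic_X_sub_C _)

theorem map_lin (y : ι → R) (τ σ : G) :
    MvPolynomial.map (MulSemiringAction.toRingHom G R τ) (lin y σ) = lin y (τ * σ) := by
  unfold lin
  simp [map_sum, mul_smul]

theorem map_Q (y : ι → R) (τ : G) :
    (Q (G := G) y).map (MvPolynomial.map (MulSemiringAction.toRingHom G R τ)) = Q (G := G) y := by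
  unfold Q
  rw [Polynomial.map_prod]
  simp only [Polynomial.map_sub, Polynomial.map_X, Polynomial.map_C, map_lin]
  exact Fintype.prod_equiv (Equiv.mulLeft τ) (fun σ => X - C (lin y (τ * σ))) (fun σ => X - C (lin y σ)) (fun σ => rfl)

theorem exists_P₀ (hfix : ∀ r : R, (∀ σ : G, σ • r = r) → r ∈ (algebraMap S R).range) (y : ι → R) :
    ∃ P₀ : (MvPolynomial ι S)[X],
      P₀.map (MvPolynomial.map (algebraMap S R)) = Q (G := G) y := by
  have h := (Polynomial.mem_map_range (MvPolynomial.map (σ := ι) (algebraMap S R))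
      (p := Q (G := G) y)).2 ?_
  · obtain ⟨P₀, hP₀⟩ := h
    exact ⟨P₀, hP₀⟩
  · intro n
    have hc : ∀ τ : G, MvPolynomial.map (MulSemiringAction.toRingHom G R τ) ((Q (G := G) y).coeff n)
        = (Q (G := G) y).coeff n := by
      intro τ
      conv_rhs => rw [← map_Q y τ]
      rw [Polynomial.coeff_map]
    have : (Q (G := G) y).coeff n ∈ Set.range (MvPolynomial.map (algebraMap S R)) := by
      rw [MvPolynomial.mem_range_map_iff_coeffs_subset]
      intro c hc'
      rw [Finset.mem_coe, MvPolynomial.mem_coeffs_iff] at hc'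
      obtain ⟨m, _, rfl⟩ := hc'
      have hfix' : ∀ τ : G, τ • ((Q (G := G) y).coeff n).coeff m = ((Q (G := G) y).coeff n).coeff m := by
        intro τ
        have := congrArg (MvPolynomial.coeff m) (hc τ)
        rwa [MvPolynomial.coeff_map] at this
      exact hfix _ hfix'
    exact this

end Univ

end Groth.Agent.Lib.Helper29.NormPoly
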