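import Groth.Agent.Lib.Helper29.NormPolyA

set_option autoImplicit false
open scoped TensorProduct
open Polynomial

namespace Groth.Agent.Lib.Helper29.NormPoly

universe u

variable {S : Type u} {R : Type u} {G : Type u} [CommRing S] [CommRing R] [Algebra S R]
  [Group G] [Fintype G] [MulSemiringAction G R] [SMulCommClass G S R]
variable {ι : Type} [Fintype ι]
variable {A : Type*} [CommRing A] [Algebra S A]

/-- the action on the tensor product. -/
noncomputable abbrev act (A : Type*) [CommRing A] [Algebra S A] (σ : G) :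
    A ⊗[S] R →ₐ[S] A ⊗[S] R :=
  Algebra.TensorProduct.map (AlgHom.id S A)
    (MulSemiringAction.toAlgHom S R σ)

/-- the evaluation `R[x] → A ⊗ R`. -/
noncomputable def psi (u : ι → A) : MvPolynomial ι R →+* A ⊗[S] R :=
  MvPolynomial.eval₂Hom
    ((Algebra.TensorProduct.includeRight : R →ₐ[S] A ⊗[S] R) : R →+* A ⊗[S] R)
    (fun i => u i ⊗ₜ[S] (1 : R))

theorem psi_comp (u : ι → A) :
    (psi (S := S) (R := R) u).comp (MvPolynomial.map (algebraMap S R)) =
      (algebraMap A (A ⊗[S] R)).comp
        ((MvPolynomial.aeval u : MvPolynomial ι S →ₐ[S] A) : MvPolynomial ι S →+* A) := by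
  apply MvPolynomial.ringHom_ext
  · intro s
    simp only [psi, RingHom.comp_apply, MvPolynomial.map_C, MvPolynomial.coe_eval₂Hom,
      MvPolynomial.eval₂_C, AlgHom.coe_toRingHom, Algebra.TensorProduct.includeRight_apply,
      RingHom.coe_coe, MvPolynomial.aeval_C, Algebra.TensorProduct.algebraMap_apply]
    rw [Algebra.algebraMap_eq_smul_one, TensorProduct.tmul_smul, Algebra.algebraMap_eq_smul_one,
      TensorProduct.smul_tmul']
    simp [Algebra.smul_def]
  · intro i
    simp [psi]

theorem psi_lin (u : ι → A) (y : ι → R) (σ : G) :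
    psi (S := S) (R := R) u (lin y σ) = act A σ (∑ i, u i ⊗ₜ[S] y i) := by
  simp only [lin, psi, map_sum, map_mul, MvPolynomial.coe_eval₂Hom, MvPolynomial.eval₂_X,
    MvPolynomial.eval₂_C, AlgHom.coe_toRingHom, Algebra.TensorProduct.includeRight_apply,
    Algebra.TensorProduct.tmul_mul_tmul, mul_one, one_mul, Algebra.TensorProduct.map_tmul,
    AlgHom.coe_id, id_eq, MulSemiringAction.toAlgHom_apply]

theorem map_P (u : ι → A) (y : ι → R) (P₀ : (MvPolynomial ι S)[X])
    (hP₀ : P₀.map (MvPolynomial.map (algebraMap S R)) = Q (G := G) y) :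
    (P₀.map ((MvPolynomial.aeval u : MvPolynomial ι S →ₐ[S] A) :
        MvPolynomial ι S →+* A)).map (algebraMap A (A ⊗[S] R)) =
      ∏ σ : G, (X - C (act A σ (∑ i, u i ⊗ₜ[S] y i))) := by
  rw [Polynomial.map_map, ← psi_comp, ← Polynomial.map_map, hP₀, Q, Polynomial.map_prod]
  simp only [Polynomial.map_sub, Polynomial.map_X, Polynomial.map_C, psi_lin]

theorem P₀_monic (hinj : Function.Injective (algebraMap S R)) (y : ι → R) (P₀ : (MvPolynomial ι S)[X])
    (hP₀ : P₀.map (MvPolynomial.map (algebraMap S R)) = Q (G := G) y) : P₀.Monic := by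
  apply Polynomial.monic_of_injective (f := MvPolynomial.map (algebraMap S R))
  · exact MvPolynomial.map_injective _ hinj
  · rw [hP₀]; exact Q_monic y

/-- evaluating the universal polynomial at `0`. -/
theorem P₀_zero (hinj : Function.Injective (algebraMap S R)) (y : ι → R) (P₀ : (MvPolynomial ι S)[X])
    (hP₀ : P₀.map (MvPolynomial.map (algebraMap S R)) = Q (G := G) y) :
    P₀.map ((MvPolynomial.aeval (0 : ι → A) : MvPolynomial ι S →ₐ[S] A) :
        MvPolynomial ι S →+* A) = X ^ Fintype.card G := by
  have h1 : ((MvPolynomial.aeval (0 : ι → A) : MvPolynomial ι S →ₐ[S] A) :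
        MvPolynomial ι S →+* A) =
      (algebraMap S A).comp MvPolynomial.constantCoeff := by
    apply MvPolynomial.ringHom_ext
    · intro s; simp
    · intro i; simp
  have h2 : P₀.map (MvPolynomial.constantCoeff (σ := ι) (R := S)) = X ^ Fintype.card G := by
    apply Polynomial.map_injective (algebraMap S R) hinj
    have h3 : (algebraMap S R).comp (MvPolynomial.constantCoeff (σ := ι) (R := S)) =
        (MvPolynomial.constantCoeff (σ := ι) (R := R)).comp
          (MvPolynomial.map (algebraMap S R)) := by
      ext p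
      · simp
      · simp
    have h4 : ∀ σ : G, MvPolynomial.constantCoeff (lin y σ) = 0 := by
      intro σ
      simp [lin, map_sum]
    rw [Polynomial.map_map, h3, ← Polynomial.map_map, hP₀, Q, Polynomial.map_prod]
    simp only [Polynomial.map_sub, Polynomial.map_X, Polynomial.map_C, h4, map_zero, sub_zero,
      Finset.prod_const, Finset.card_univ, Polynomial.map_pow]
  rw [h1, ← Polynomial.map_map, h2]
  simp

end Groth.Agent.Lib.Helper29.NormPoly
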