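import Groth.Agent.Lib.Helper29.NormPolyB

set_option autoImplicit false
open scoped TensorProduct
open Polynomial

namespace Groth.Agent.Lib.Helper29.NormPoly

universe u

variable {S : Type u} {R : Type u} {G : Type u} [CommRing S] [CommRing R] [Algebra S R]
  [Group G] [Fintype G] [MulSemiringAction G R] [SMulCommClass G S R]
variable {A : Type u} [CommRing A] [Algebra S A]

theorem main1 (hinj : Function.Injective (algebraMap S R))
    (hfix : ∀ r : R, (∀ σ : G, σ • r = r) → r ∈ (algebraMap S R).range)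
    (b : A ⊗[S] R)
    (hb : ∀ σ : G, Algebra.TensorProduct.map (AlgHom.id S A)
        (MulSemiringAction.toAlgHom S R σ) b = b) :
    ∃ P : Polynomial A, P.Monic ∧
      Polynomial.map (algebraMap A (A ⊗[S] R)) P = (X - C b) ^ Fintype.card G := by
  classical
  obtain ⟨ι, _, u, y, rfl⟩ := exists_rep b
  obtain ⟨P₀, hP₀⟩ := exists_P₀ (S := S) (G := G) hfix y
  refine ⟨P₀.map ((MvPolynomial.aeval u : MvPolynomial ι S →ₐ[S] A) :
      MvPolynomial ι S →+* A), (P₀_monic hinj y P₀ hP₀).map _, ?_⟩
  rw [map_P u y P₀ hP₀]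
  have : ∀ σ : G, act (S := S) A σ (∑ i, u i ⊗ₜ[S] y i) = ∑ i, u i ⊗ₜ[S] y i := hb
  simp only [this, Finset.prod_const, Finset.card_univ]

theorem main2 (hinj : Function.Injective (algebraMap S R))
    (hfix : ∀ r : R, (∀ σ : G, σ • r = r) → r ∈ (algebraMap S R).range)
    (a : A) (ha : algebraMap A (A ⊗[S] R) a = 0) (i : ℕ) (hi : i < Fintype.card G) :
    ((X - C a) ^ Fintype.card G).coeff i = 0 := by
  classical
  let π : (MvPolynomial A S) →ₐ[S] A := MvPolynomial.aeval (id : A → A)
  have hπX : ∀ c : A, π (MvPolynomial.X c) = c := by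
    intro c
    show MvPolynomial.aeval (R := S) (id : A → A) (MvPolynomial.X c) = c
    rw [MvPolynomial.aeval_X]; rfl
  have ha' : (a ⊗ₜ[S] (1 : R) : A ⊗[S] R) = 0 := by
    simpa [Algebra.TensorProduct.algebraMap_apply] using ha
  obtain ⟨ι, _, kF, y, hkF, hb⟩ := exists_ker_rep (S := S) (R := R) a ha'
  obtain ⟨P₀, hP₀⟩ := exists_P₀ (S := S) (G := G) hfix y
  have hkF : ∀ j, π (kF j) = 0 := hkF
  have hinj' : Function.Injective (algebraMap (MvPolynomial A S) ((MvPolynomial A S) ⊗[S] R)) := by
    have := Algebra.TensorProduct.includeLeft_injective (R := S) (S := S) (A := (MvPolynomial A S)) (B := R)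
      hinj
    exact this
  have hPF : P₀.map ((MvPolynomial.aeval kF : MvPolynomial ι S →ₐ[S] (MvPolynomial A S)) :
      MvPolynomial ι S →+* (MvPolynomial A S)) = (X - C (MvPolynomial.X a : (MvPolynomial A S))) ^ Fintype.card G := by
    apply Polynomial.map_injective _ hinj'
    rw [map_P kF y P₀ hP₀, hb]
    have : ∀ σ : G, act (S := S) (MvPolynomial A S) σ ((MvPolynomial.X a : (MvPolynomial A S)) ⊗ₜ[S] (1 : R)) =
        (MvPolynomial.X a : (MvPolynomial A S)) ⊗ₜ[S] (1 : R) := by
      intro σ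
      simp [act]
    simp only [this, Finset.prod_const, Finset.card_univ, Polynomial.map_pow, Polynomial.map_sub,
      Polynomial.map_X, Polynomial.map_C, Algebra.TensorProduct.algebraMap_apply]
    simp
  have h1 : (P₀.map ((MvPolynomial.aeval kF : MvPolynomial ι S →ₐ[S] (MvPolynomial A S)) :
      MvPolynomial ι S →+* (MvPolynomial A S))).map (π : (MvPolynomial A S) →+* A) =
      P₀.map ((MvPolynomial.aeval (0 : ι → A) : MvPolynomial ι S →ₐ[S] A) :
      MvPolynomial ι S →+* A) := by
    rw [Polynomial.map_map]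
    congr 1
    apply MvPolynomial.ringHom_ext
    · intro s; simp
    · intro j; simp [hkF]
  rw [hPF, P₀_zero hinj y P₀ hP₀] at h1
  have h2 : (X - C a) ^ Fintype.card G = (X : A[X]) ^ Fintype.card G := by
    rw [← h1]
    simp only [Polynomial.map_pow, Polynomial.map_sub, Polynomial.map_X, Polynomial.map_C]
    congr 2
    exact congrArg C (hπX a).symm
  rw [h2, Polynomial.coeff_X_pow, if_neg (Nat.ne_of_lt hi)]

end Groth.Agent.Lib.Helper29.NormPoly
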