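import Mathlib

/-!
# Perfect rings: reduction of resolutions modulo p-root-closed ideals (helper29)

Elementwise core of "Tor vanishes between perfect rings" (Bhatt–Scholze 3.16).
-/

set_option autoImplicit false

namespace Groth.Agent.Lib.Helper29.Perf

open scoped Pointwise

variable {P : Type*} [CommRing P] (p : ℕ)

/-- ideal closed under `p`-th roots -/
def PClosed (J : Ideal P) : Prop := ∀ x : P, x ^ p ∈ J → x ∈ J

/-- module property (R): `a^p y ∈ JY → a y ∈ JY` for `p`-root-closed `J`. -/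
def RProp (P : Type*) [CommRing P] (p : ℕ) (Y : Type*) [AddCommGroup Y] [Module P Y] : Prop :=
  ∀ J : Ideal P, PClosed p J → ∀ (a : P) (y : Y),
    a ^ p • y ∈ (J • ⊤ : Submodule P Y) → a • y ∈ (J • ⊤ : Submodule P Y)

variable {p}

lemma PClosed.pow_pow {J : Ideal P} (hJ : PClosed p J) (k : ℕ) (x : P) (h : x ^ p ^ k ∈ J) :
    x ∈ J := by
  induction k generalizing x with
  | zero => simpa using h
  | succ k ih =>
    apply hJ
    apply ih
    rw [← pow_mul, ← pow_succ']
    exact h

section roots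

variable (hs : Function.Surjective fun a : P => a ^ p)

/-- a compatible system of `p`-power roots of `f` -/
noncomputable def root (f : P) : ℕ → P
  | 0 => f
  | n + 1 => Classical.choose (hs (root f n))

@[simp] lemma root_zero (f : P) : root hs f 0 = f := rfl

lemma root_succ_pow (f : P) (n : ℕ) : root hs f (n + 1) ^ p = root hs f n :=
  Classical.choose_spec (hs (root hs f n))

lemma root_add_pow (f : P) (n k : ℕ) : root hs f (n + k) ^ p ^ k = root hs f n := by
  induction k with
  | zero => simp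
  | succ k ih =>
    rw [← add_assoc, pow_succ', pow_mul, root_succ_pow, ih]

lemma root_dvd (f : P) {m m' : ℕ} (h : m ≤ m') : root hs f m' ∣ root hs f m := by
  obtain ⟨k, rfl⟩ := Nat.exists_eq_add_of_le h
  by_cases hp : p = 0
  · have hss : Subsingleton P := by
      refine ⟨fun a b => ?_⟩
      obtain ⟨a', rfl⟩ := hs a
      obtain ⟨b', rfl⟩ := hs b
      simp [hp]
    rw [Subsingleton.elim (root hs f (m + k)) (root hs f m)]
  · rw [← root_add_pow hs f m k]
    exact dvd_pow_self _ (pow_ne_zero _ hp)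

/-- the ideal generated by all `p`-power roots of `f` -/
noncomputable def rootIdeal (f : P) : Ideal P := Ideal.span (Set.range (root hs f))

lemma root_mem_rootIdeal (f : P) (m : ℕ) : root hs f m ∈ rootIdeal hs f :=
  Ideal.subset_span ⟨m, rfl⟩

lemma self_mem_rootIdeal (f : P) : f ∈ rootIdeal hs f := root_mem_rootIdeal hs f 0

lemma rootIdeal_le {f : P} {I : Ideal P} (hI : PClosed p I) (hf : f ∈ I) : rootIdeal hs f ≤ I := by
  rw [rootIdeal, Ideal.span_le]
  rintro _ ⟨m, rfl⟩
  apply hI.pow_pow m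
  have := root_add_pow hs f 0 m
  rw [zero_add] at this
  rw [this]
  exact hf

lemma mem_rootIdeal_smul_top {Y : Type*} [AddCommGroup Y] [Module P Y] (f : P) (g : Y)
    (hg : g ∈ (rootIdeal hs f • ⊤ : Submodule P Y)) : ∃ (m : ℕ) (y : Y), g = root hs f m • y := by
  induction hg using Submodule.smul_induction_on' with
  | smul r hr n hn =>
    clear hn
    induction hr using Submodule.span_induction generalizing n with
    | mem x hx =>
      obtain ⟨m, rfl⟩ := hx
      exact ⟨m, n, rfl⟩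
    | zero => exact ⟨0, 0, by simp⟩
    | add x y _ _ ihx ihy =>
      obtain ⟨m1, y1, h1⟩ := ihx n
      obtain ⟨m2, y2, h2⟩ := ihy n
      obtain ⟨c1, hc1⟩ := root_dvd hs f (le_max_left m1 m2)
      obtain ⟨c2, hc2⟩ := root_dvd hs f (le_max_right m1 m2)
      refine ⟨max m1 m2, c1 • y1 + c2 • y2, ?_⟩
      rw [add_smul, h1, h2, hc1, hc2, smul_add, mul_smul, mul_smul]
    | smul a x _ ihx =>
      obtain ⟨m1, y1, h1⟩ := ihx n
      refine ⟨m1, a • y1, ?_⟩
      rw [smul_eq_mul, mul_smul, h1, smul_comm]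
  | add x hx y hy ihx ihy =>
    obtain ⟨m1, y1, h1⟩ := ihx
    obtain ⟨m2, y2, h2⟩ := ihy
    obtain ⟨c1, hc1⟩ := root_dvd hs f (le_max_left m1 m2)
    obtain ⟨c2, hc2⟩ := root_dvd hs f (le_max_right m1 m2)
    refine ⟨max m1 m2, c1 • y1 + c2 • y2, ?_⟩
    rw [h1, h2, hc1, hc2, smul_add, mul_smul, mul_smul]

lemma mem_rootIdeal (f : P) (g : P) (hg : g ∈ rootIdeal hs f) :
    ∃ (m : ℕ) (a : P), g = root hs f m * a := by
  have h : g ∈ (rootIdeal hs f • ⊤ : Submodule P P) := by
    rw [smul_eq_mul, Ideal.mul_top]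
    exact hg
  obtain ⟨m, y, h⟩ := mem_rootIdeal_smul_top hs f g h
  exact ⟨m, y, by rw [h, smul_eq_mul]⟩

lemma pclosed_sup_rootIdeal (hadd : ∀ x y : P, (x + y) ^ p = x ^ p + y ^ p)
    (hinj : Function.Injective fun a : P => a ^ p) {J : Ideal P} (hJ : PClosed p J) (f : P) :
    PClosed p (J ⊔ rootIdeal hs f) := by
  intro x hx
  obtain ⟨j, hj, g, hg, hjg⟩ := Submodule.mem_sup.1 hx
  obtain ⟨m, a, rfl⟩ := mem_rootIdeal hs f g hg
  obtain ⟨j', rfl⟩ := hs j
  obtain ⟨a', rfl⟩ := hs a
  have hj' : j' ∈ J := hJ _ hj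
  have : x = j' + root hs f (m + 1) * a' := by
    apply hinj
    simp only
    rw [hadd, mul_pow, root_succ_pow, ← hjg]
  rw [this]
  exact Submodule.add_mem_sup hj' (Ideal.mul_mem_right _ _ (root_mem_rootIdeal hs f (m + 1)))

end roots

lemma pclosed_bot (hinj : Function.Injective fun a : P => a ^ p) (hp : p ≠ 0) :
    PClosed p (⊥ : Ideal P) := by
  intro x hx
  rw [Ideal.mem_bot] at hx ⊢
  apply hinj
  simp only
  rw [hx, zero_pow hp]

lemma map_mem_smul_top {M N : Type*} [AddCommGroup M] [Module P M] [AddCommGroup N] [Module P N]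
    (J : Ideal P) (f : M →ₗ[P] N) {y : M} (hy : y ∈ (J • ⊤ : Submodule P M)) :
    f y ∈ (J • ⊤ : Submodule P N) := by
  induction hy using Submodule.smul_induction_on' with
  | smul r hr n hn =>
    rw [map_smul]
    exact Submodule.smul_mem_smul hr Submodule.mem_top
  | add x hx y hy ihx ihy =>
    rw [map_add]
    exact add_mem ihx ihy

lemma exists_list_of_mem_smul_top {M : Type*} [AddCommGroup M] [Module P M] (I : Ideal P) {x : M}
    (hx : x ∈ (I • ⊤ : Submodule P M)) :
    ∃ l : List P, (∀ a ∈ l, a ∈ I) ∧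
      ∀ J : Ideal P, (∀ a ∈ l, a ∈ J) → x ∈ (J • ⊤ : Submodule P M) := by
  induction hx using Submodule.smul_induction_on' with
  | smul r hr n hn =>
    refine ⟨[r], by simpa using hr, fun J hJ => ?_⟩
    exact Submodule.smul_mem_smul (hJ r (by simp)) Submodule.mem_top
  | add x hx y hy ihx ihy =>
    obtain ⟨l1, h1, h1'⟩ := ihx
    obtain ⟨l2, h2, h2'⟩ := ihy
    refine ⟨l1 ++ l2, ?_, fun J hJ => ?_⟩
    · intro a ha
      rcases List.mem_append.1 ha with h | h
      · exact h1 a h
      · exact h2 a h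
    · exact add_mem (h1' J fun a ha => hJ a (List.mem_append_left _ ha))
        (h2' J fun a ha => hJ a (List.mem_append_right _ ha))

section complex

variable (Y : ℕ → Type*) [∀ n, AddCommGroup (Y n)] [∀ n, Module P (Y n)]
  (d : ∀ n, Y (n + 1) →ₗ[P] Y n)

/-- exactness modulo `J` in positive degrees -/
def Good (J : Ideal P) : Prop :=
  ∀ (n : ℕ) (z : Y (n + 1)), d n z ∈ (J • ⊤ : Submodule P (Y n)) →
    ∃ (w : Y (n + 1 + 1)) (y : Y (n + 1)), y ∈ (J • ⊤ : Submodule P (Y (n + 1))) ∧
      z = d (n + 1) w + y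

variable {Y d}

lemma good_bot (hex : ∀ n (y : Y (n + 1)), d n y = 0 → ∃ w, d (n + 1) w = y) :
    Good Y d (⊥ : Ideal P) := by
  intro n z hz
  rw [Submodule.bot_smul, Submodule.mem_bot] at hz
  obtain ⟨w, hw⟩ := hex n z hz
  exact ⟨w, 0, zero_mem _, by rw [hw, add_zero]⟩

lemma good_step (hs : Function.Surjective fun a : P => a ^ p) (hp : 1 < p)
    (hdd : ∀ n (y : Y (n + 1 + 1)), d n (d (n + 1) y) = 0)
    (hex : ∀ n (y : Y (n + 1)), d n y = 0 → ∃ w, d (n + 1) w = y)
    (hsurj : Function.Surjective (d 0))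
    (hR : ∀ n, RProp P p (Y n))
    {J : Ideal P} (hJ : PClosed p J) (hG : Good Y d J) (f : P) :
    Good Y d (J ⊔ rootIdeal hs f) := by
  intro n z hz
  cases n with
  | zero =>
    -- right exactness
    have h1 : (J ⊔ rootIdeal hs f) • (⊤ : Submodule P (Y 0)) =
        Submodule.map (d 0) ((J ⊔ rootIdeal hs f) • (⊤ : Submodule P (Y 1))) := by
      rw [Submodule.map_smul'', Submodule.map_top, LinearMap.range_eq_top.2 hsurj]
    rw [h1] at hz
    obtain ⟨t, ht, htz⟩ := hz
    have h2 : d 0 (z - t) = 0 := by rw [map_sub, htz, sub_self]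
    obtain ⟨w, hw⟩ := hex 0 _ h2
    exact ⟨w, t, ht, by rw [hw]; abel⟩
  | succ n =>
    rw [Submodule.sup_smul] at hz
    obtain ⟨j, hj, g, hg, hjg⟩ := Submodule.mem_sup.1 hz
    obtain ⟨m, y', rfl⟩ := mem_rootIdeal_smul_top hs f g hg
    -- r_m • d y' ∈ J Y_n
    have h3 : root hs f (m + 1) ^ p • d n y' ∈ (J • ⊤ : Submodule P (Y n)) := by
      rw [root_succ_pow, ← map_smul]
      have h4 : d n (root hs f m • y') = - d n j := by
        have := hdd n z
        rw [← hjg, map_add] at this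
        exact eq_neg_of_add_eq_zero_right this
      rw [h4]
      exact neg_mem (map_mem_smul_top J (d n) hj)
    have h5 := hR n J hJ _ _ h3
    rw [← map_smul] at h5
    obtain ⟨w', j', hj', hw'⟩ := hG n _ h5
    -- now d z = j + r_{m+1}^(p-1) (d w' + j')
    have hpow : root hs f m = root hs f (m + 1) ^ (p - 1) * root hs f (m + 1) := by
      rw [← pow_succ, Nat.sub_add_cancel hp.le, root_succ_pow]
    have h6 : d (n + 1) (z - root hs f (m + 1) ^ (p - 1) • w') ∈
        (J • ⊤ : Submodule P (Y (n + 1))) := by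
      have : d (n + 1) (z - root hs f (m + 1) ^ (p - 1) • w') =
          j + root hs f (m + 1) ^ (p - 1) • j' := by
        rw [map_sub, map_smul, ← hjg, hpow, mul_smul, hw', smul_add]
        abel
      rw [this]
      exact add_mem hj (Submodule.smul_mem _ _ hj')
    obtain ⟨w'', j'', hj'', hw''⟩ := hG (n + 1) _ h6
    refine ⟨w'', j'' + root hs f (m + 1) ^ (p - 1) • w', ?_, ?_⟩
    · rw [Submodule.sup_smul]
      refine Submodule.add_mem_sup hj'' ?_
      have : root hs f (m + 1) ^ (p - 1) ∈ rootIdeal hs f := by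
        have h7 : p - 1 = (p - 2) + 1 := by omega
        rw [h7, pow_succ]
        exact Ideal.mul_mem_left _ _ (root_mem_rootIdeal hs f (m + 1))
      exact Submodule.smul_mem_smul this Submodule.mem_top
    · rw [← add_assoc, ← hw'']
      abel

lemma good_list (hs : Function.Surjective fun a : P => a ^ p) (hp : 1 < p)
    (hadd : ∀ x y : P, (x + y) ^ p = x ^ p + y ^ p)
    (hinj : Function.Injective fun a : P => a ^ p)
    (hdd : ∀ n (y : Y (n + 1 + 1)), d n (d (n + 1) y) = 0)
    (hex : ∀ n (y : Y (n + 1)), d n y = 0 → ∃ w, d (n + 1) w = y)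
    (hsurj : Function.Surjective (d 0))
    (hR : ∀ n, RProp P p (Y n)) (l : List P) :
    ∃ J : Ideal P, PClosed p J ∧ Good Y d J ∧ (∀ a ∈ l, a ∈ J) ∧
      ∀ I : Ideal P, PClosed p I → (∀ a ∈ l, a ∈ I) → J ≤ I := by
  induction l with
  | nil =>
    exact ⟨⊥, pclosed_bot hinj (by omega), good_bot hex, by simp, fun I _ _ => bot_le⟩
  | cons f l ih =>
    obtain ⟨J, hJ, hG, hl, hmin⟩ := ih
    refine ⟨J ⊔ rootIdeal hs f, pclosed_sup_rootIdeal hs hadd hinj hJ f,
      good_step hs hp hdd hex hsurj hR hJ hG f, ?_, ?_⟩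
    · intro a ha
      rcases List.mem_cons.1 ha with rfl | h
      · exact Ideal.mem_sup_right (self_mem_rootIdeal hs a)
      · exact Ideal.mem_sup_left (hl a h)
    · intro I hI hlI
      refine sup_le (hmin I hI fun a ha => hlI a (List.mem_cons_of_mem _ ha)) ?_
      exact rootIdeal_le hs hI (hlI f List.mem_cons_self)

/-- **Main elementwise theorem.**  For a resolution `Y` by modules with property (R) over a
perfect ring, reduction modulo any `p`-root-closed ideal stays exact in positive degrees. -/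
theorem good_of_pclosed (hs : Function.Surjective fun a : P => a ^ p) (hp : 1 < p)
    (hadd : ∀ x y : P, (x + y) ^ p = x ^ p + y ^ p)
    (hinj : Function.Injective fun a : P => a ^ p)
    (hdd : ∀ n (y : Y (n + 1 + 1)), d n (d (n + 1) y) = 0)
    (hex : ∀ n (y : Y (n + 1)), d n y = 0 → ∃ w, d (n + 1) w = y)
    (hsurj : Function.Surjective (d 0))
    (hR : ∀ n, RProp P p (Y n)) {I : Ideal P} (hI : PClosed p I) :
    Good Y d I := by
  intro n z hz
  obtain ⟨l, hl, hl'⟩ := exists_list_of_mem_smul_top I hz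
  obtain ⟨J, hJ, hG, hlJ, hmin⟩ := good_list hs hp hadd hinj hdd hex hsurj hR l
  obtain ⟨w, y, hy, hw⟩ := hG n z (hl' J hlJ)
  exact ⟨w, y, Submodule.smul_mono_left (hmin I hI hl) hy, hw⟩

end complex

end Groth.Agent.Lib.Helper29.Perf
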