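import Groth.Agent.Lib.Helper29.PerfA

/-!
# Perfect rings: property (R) for projective modules and perfect algebras; Frobenius on tensor
products (helper29)
-/

set_option autoImplicit false

namespace Groth.Agent.Lib.Helper29.Perf

open TensorProduct

lemma add_pow_of_cast_eq_zero {R : Type*} [CommRing R] (p : ℕ) [hp : Fact p.Prime]
    (h : (p : R) = 0) (x y : R) : (x + y) ^ p = x ^ p + y ^ p := by
  rcases subsingleton_or_nontrivial R with hR | hR
  · exact Subsingleton.elim _ _
  · haveI : CharP R p := (CharP.charP_iff_prime_eq_zero hp.out).2 h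
    exact add_pow_char x y p

variable {P : Type*} [CommRing P] {p : ℕ}

lemma coeff_mem_of_mem_smul_top {ι : Type*} (J : Ideal P) {t : ι →₀ P}
    (ht : t ∈ (J • ⊤ : Submodule P (ι →₀ P))) (k : ι) : t k ∈ J := by
  induction ht using Submodule.smul_induction_on' with
  | smul r hr n hn =>
    rw [Finsupp.smul_apply, smul_eq_mul]
    exact Ideal.mul_mem_right _ _ hr
  | add x hx y hy ihx ihy =>
    rw [Finsupp.add_apply]
    exact add_mem ihx ihy

lemma rprop_of_projective (hp : p ≠ 0) (Y : Type*) [AddCommGroup Y] [Module P Y]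
    [hY : Module.Projective P Y] : RProp P p Y := by
  intro J hJ a y h
  obtain ⟨s, hs⟩ := Module.projective_def'.1 hY
  have h1 : ∀ k, a * s y k ∈ J := by
    intro k
    apply hJ
    have h2 := coeff_mem_of_mem_smul_top J (map_mem_smul_top J s h) k
    rw [map_smul, Finsupp.smul_apply, smul_eq_mul] at h2
    obtain ⟨q, rfl⟩ := Nat.exists_eq_succ_of_ne_zero hp
    have h4 : (a * s y k) ^ (q + 1) = (s y k) ^ q * (a ^ (q + 1) * s y k) := by ring
    rw [h4]
    exact Ideal.mul_mem_left _ _ h2
  have h3 : a • y = Finsupp.linearCombination P id (a • s y) := by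
    rw [← map_smul, ← LinearMap.comp_apply, hs, LinearMap.id_apply]
  rw [h3, Finsupp.linearCombination_apply, Finsupp.sum]
  refine Submodule.sum_mem _ fun k _ => ?_
  rw [Finsupp.smul_apply, smul_eq_mul]
  exact Submodule.smul_mem_smul (h1 k) Submodule.mem_top

section alg

variable (D : Type*) [CommRing D] [Algebra P D]

lemma mul_mem_smul_top (J : Ideal P) (c : D) {t : D} (ht : t ∈ (J • ⊤ : Submodule P D)) :
    c * t ∈ (J • ⊤ : Submodule P D) := by
  induction ht using Submodule.smul_induction_on' with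
  | smul r hr n hn =>
    rw [mul_smul_comm]
    exact Submodule.smul_mem_smul hr Submodule.mem_top
  | add x hx y hy ihx ihy =>
    rw [mul_add]
    exact add_mem ihx ihy

lemma exists_root_mem_smul_top (hp : p ≠ 0) (hsP : Function.Surjective fun a : P => a ^ p)
    (haddD : ∀ x y : D, (x + y) ^ p = x ^ p + y ^ p)
    (hsD : Function.Surjective fun a : D => a ^ p) {J : Ideal P} (hJ : PClosed p J) {x : D}
    (hx : x ∈ (J • ⊤ : Submodule P D)) : ∃ x' ∈ (J • ⊤ : Submodule P D), x' ^ p = x := by
  induction hx using Submodule.smul_induction_on' with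
  | smul r hr n hn =>
    obtain ⟨r', rfl⟩ := hsP r
    obtain ⟨n', rfl⟩ := hsD n
    refine ⟨r' • n', Submodule.smul_mem_smul (hJ _ hr) Submodule.mem_top, ?_⟩
    simp only [smul_pow]
  | add x hx y hy ihx ihy =>
    obtain ⟨x', hx', rfl⟩ := ihx
    obtain ⟨y', hy', rfl⟩ := ihy
    exact ⟨x' + y', add_mem hx' hy', haddD _ _⟩

lemma rprop_of_perfect (hp : p ≠ 0) (hsP : Function.Surjective fun a : P => a ^ p)
    (haddD : ∀ x y : D, (x + y) ^ p = x ^ p + y ^ p)
    (hbD : Function.Bijective fun a : D => a ^ p) : RProp P p D := by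
  intro J hJ a c h
  have h1 : (a • c) ^ p ∈ (J • ⊤ : Submodule P D) := by
    obtain ⟨q, rfl⟩ := Nat.exists_eq_succ_of_ne_zero hp
    rw [smul_pow, pow_succ c, ← mul_smul_comm]
    exact mul_mem_smul_top D J _ h
  obtain ⟨x', hx', hx''⟩ := exists_root_mem_smul_top D hp hsP haddD hbD.2 hJ h1
  have : x' = a • c := hbD.1 hx''
  rw [← this]
  exact hx'

end alg

section tensor

variable {R S T : Type*} [CommRing R] [CommRing S] [CommRing T] [Algebra R S] [Algebra R T]

/-- Frobenius as an additive equivalence -/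
noncomputable def frobAddEquiv (S : Type*) [CommRing S] (p : ℕ) (hp : p ≠ 0)
    (hadd : ∀ x y : S, (x + y) ^ p = x ^ p + y ^ p)
    (hb : Function.Bijective fun a : S => a ^ p) : S ≃+ S :=
  AddEquiv.ofBijective (AddMonoidHom.mk' (fun x => x ^ p) hadd) hb

lemma frobAddEquiv_apply (hp : p ≠ 0) (hadd : ∀ x y : S, (x + y) ^ p = x ^ p + y ^ p)
    (hb : Function.Bijective fun a : S => a ^ p) (x : S) :
    frobAddEquiv S p hp hadd hb x = x ^ p := rfl

lemma frobAddEquiv_symm_pow (hp : p ≠ 0) (hadd : ∀ x y : S, (x + y) ^ p = x ^ p + y ^ p)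
    (hb : Function.Bijective fun a : S => a ^ p) (x : S) :
    (frobAddEquiv S p hp hadd hb).symm (x ^ p) = x := by
  rw [← frobAddEquiv_apply hp hadd hb, AddEquiv.symm_apply_apply]

lemma frobAddEquiv_symm_smul (hp : p ≠ 0) (hadd : ∀ x y : S, (x + y) ^ p = x ^ p + y ^ p)
    (hb : Function.Bijective fun a : S => a ^ p) (r : R) (x : S) :
    (frobAddEquiv S p hp hadd hb).symm (r ^ p • x) =
      r • (frobAddEquiv S p hp hadd hb).symm x := by
  apply (frobAddEquiv S p hp hadd hb).injective
  rw [AddEquiv.apply_symm_apply, frobAddEquiv_apply, smul_pow, ← frobAddEquiv_apply hp hadd hb,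
    AddEquiv.apply_symm_apply]

theorem frob_tensor_bijective (hp : p ≠ 0) (hR : Function.Surjective fun a : R => a ^ p)
    (haddS : ∀ x y : S, (x + y) ^ p = x ^ p + y ^ p)
    (haddT : ∀ x y : T, (x + y) ^ p = x ^ p + y ^ p)
    (hS : Function.Bijective fun a : S => a ^ p) (hT : Function.Bijective fun a : T => a ^ p)
    (haddST : ∀ x y : S ⊗[R] T, (x + y) ^ p = x ^ p + y ^ p) :
    Function.Bijective fun x : S ⊗[R] T => x ^ p := by
  constructor
  · -- injective via an explicit inverse
    let eS := frobAddEquiv S p hp haddS hS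
    let eT := frobAddEquiv T p hp haddT hT
    let f : S →+ T →+ S ⊗[R] T :=
      AddMonoidHom.mk' (fun s => AddMonoidHom.mk' (fun t => eS.symm s ⊗ₜ[R] eT.symm t)
        (fun a b => by simp only [map_add, tmul_add]))
        (fun a b => by
          ext t
          simp only [map_add, add_tmul, AddMonoidHom.mk'_apply, AddMonoidHom.add_apply])
    have hf : ∀ (r : R) (s : S) (t : T), f (r • s) t = f s (r • t) := by
      intro r s t
      obtain ⟨r', rfl⟩ := hR r
      change eS.symm (r' ^ p • s) ⊗ₜ[R] eT.symm t = eS.symm s ⊗ₜ[R] eT.symm (r' ^ p • t)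
      rw [frobAddEquiv_symm_smul, frobAddEquiv_symm_smul, smul_tmul]
    let G := TensorProduct.liftAddHom f hf
    have hG : ∀ x : S ⊗[R] T, G (x ^ p) = x := by
      intro x
      induction x with
      | zero => rw [zero_pow hp, map_zero]
      | tmul s t =>
        rw [Algebra.TensorProduct.tmul_pow]
        change eS.symm (s ^ p) ⊗ₜ[R] eT.symm (t ^ p) = _
        rw [frobAddEquiv_symm_pow, frobAddEquiv_symm_pow]
      | add x y hx hy => rw [haddST, map_add, hx, hy]
    intro x y hxy
    simp only at hxy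
    rw [← hG x, hxy, hG y]
  · intro x
    induction x with
    | zero => exact ⟨0, zero_pow hp⟩
    | tmul s t =>
      obtain ⟨s', rfl⟩ := hS.2 s
      obtain ⟨t', rfl⟩ := hT.2 t
      exact ⟨s' ⊗ₜ t', Algebra.TensorProduct.tmul_pow _ _ _⟩
    | add x y hx hy =>
      obtain ⟨x', rfl⟩ := hx
      obtain ⟨y', rfl⟩ := hy
      exact ⟨x' + y', haddST _ _⟩

end tensor

end Groth.Agent.Lib.Helper29.Perf
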