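import Groth.Agent.Lib.Helper29.PerfB

/-!
# Perfect rings: `B ⊗_A X_•` stays exact for perfect `A → B` and a projective resolution `X_• → C`
of a perfect `A`-algebra `C` (helper29)
-/

set_option autoImplicit false
universe u

namespace Groth.Agent.Lib.Helper29.Perf

open TensorProduct

lemma rprop_of_equiv {P : Type*} [CommRing P] {p : ℕ} {M N : Type*} [AddCommGroup M] [Module P M]
    [AddCommGroup N] [Module P N] (e : M ≃ₗ[P] N) (h : RProp P p M) : RProp P p N := by
  intro J hJ a y hy
  have h1 : a ^ p • e.symm y ∈ (J • ⊤ : Submodule P M) := by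
    rw [← map_smul]
    exact map_mem_smul_top J e.symm.toLinearMap hy
  have h2 := map_mem_smul_top J e.toLinearMap (h J hJ a _ h1)
  simpa using h2

section main

variable (p : ℕ) [hp : Fact p.Prime] (k : Type*) [Field k] (hk : ∀ c : k, c ^ p = c)
  (A B C : Type u) [CommRing A] [CommRing B] [CommRing C]
  [CharP A p] [Algebra A B] [Algebra A C] [Algebra k A] [Algebra k B] [IsScalarTower k A B]
  (hA : Function.Bijective fun a : A => a ^ p) (hB : Function.Bijective fun b : B => b ^ p)
  (hC : Function.Bijective fun c : C => c ^ p)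
  (X : ℕ → Type u) [∀ n, AddCommGroup (X n)] [∀ n, Module A (X n)]
  (d : ∀ n, X (n + 1) →ₗ[A] X n)
  (hdd : ∀ n (y : X (n + 1 + 1)), d n (d (n + 1) y) = 0)
  (hex : ∀ n (y : X (n + 1)), d n y = 0 → ∃ w, d (n + 1) w = y)
  (hsurj : Function.Surjective (d 0))
  (e : X 0 ≃ₗ[A] C) (hproj : ∀ n, Module.Projective A (X (n + 1)))

include hp hk hA hB hC hdd hex hsurj e hproj in
theorem exact_lTensor_of_perfect_aux (n : ℕ) (z : B ⊗[A] X (n + 1))
    (hz : (d n).lTensor B z = 0) : ∃ w : B ⊗[A] X (n + 1 + 1), (d (n + 1)).lTensor B w = z := by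
  have hp0 : p ≠ 0 := hp.out.ne_zero
  have hp1 : 1 < p := hp.out.one_lt
  -- the flat perfect cover
  let P := A ⊗[k] B
  let μ : P →ₐ[A] B := Algebra.TensorProduct.lift (Algebra.ofId A B) (AlgHom.id k B)
    (fun _ _ => Commute.all _ _)
  have hμ : Function.Surjective μ := fun b => ⟨1 ⊗ₜ b, by
    change Algebra.TensorProduct.lift (Algebra.ofId A B) (AlgHom.id k B) _ (1 ⊗ₜ b) = b
    rw [Algebra.TensorProduct.lift_tmul]; simp⟩
  have hcastA : (p : A) = 0 := CharP.cast_eq_zero A p
  have hcastB : (p : B) = 0 := by rw [← map_natCast (algebraMap A B), hcastA, map_zero]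
  have hcastP : (p : P) = 0 := by rw [← map_natCast (algebraMap A P), hcastA, map_zero]
  have haddA := add_pow_of_cast_eq_zero p hcastA
  have haddB := add_pow_of_cast_eq_zero p hcastB
  have haddP := add_pow_of_cast_eq_zero p hcastP
  have hkS : Function.Surjective fun c : k => c ^ p := fun c => ⟨c, hk c⟩
  have hbP : Function.Bijective fun x : P => x ^ p :=
    frob_tensor_bijective hp0 hkS haddA haddB hA hB haddP
  let D := P ⊗[A] C
  have hcastC : (p : C) = 0 := by rw [← map_natCast (algebraMap A C), hcastA, map_zero]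
  have hcastD : (p : D) = 0 := by rw [← map_natCast (algebraMap A D), hcastA, map_zero]
  have haddC := add_pow_of_cast_eq_zero p hcastC
  have haddD := add_pow_of_cast_eq_zero p hcastD
  have hbD : Function.Bijective fun x : D => x ^ p :=
    frob_tensor_bijective hp0 hA.2 haddP haddC hbP hC haddD
  -- the base-changed resolution
  let Y : ℕ → Type u := fun n => P ⊗[A] X n
  let dY : ∀ n, Y (n + 1) →ₗ[P] Y n := fun n => (d n).baseChange P
  have hddY : ∀ n (y : Y (n + 1 + 1)), dY n (dY (n + 1) y) = 0 := by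
    intro n y
    change ((d n).baseChange P ∘ₗ (d (n + 1)).baseChange P) y = 0
    rw [← LinearMap.baseChange_comp]
    have : d n ∘ₗ d (n + 1) = 0 := LinearMap.ext fun y => hdd n y
    rw [this, LinearMap.baseChange_zero, LinearMap.zero_apply]
  have hexY : ∀ n (y : Y (n + 1)), dY n y = 0 → ∃ w, dY (n + 1) w = y := by
    intro n y hy
    have hE : Function.Exact (d (n + 1)) (d n) := by
      intro y
      constructor
      · exact hex n y
      · rintro ⟨w, rfl⟩
        exact hdd n w
    have hE' := Module.Flat.lTensor_exact P hE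
    have hy' : (d n).lTensor P y = 0 := by
      rw [← LinearMap.baseChange_eq_ltensor]
      exact hy
    obtain ⟨w, hw⟩ := (hE' y).1 hy'
    refine ⟨w, ?_⟩
    change (d (n + 1)).baseChange P w = y
    rw [LinearMap.baseChange_eq_ltensor]
    exact hw
  have hsurjY : Function.Surjective (dY 0) := by
    change Function.Surjective ((d 0).baseChange P)
    rw [LinearMap.baseChange_eq_ltensor]
    exact LinearMap.lTensor_surjective P hsurj
  have hRY : ∀ n, RProp P p (Y n) := by
    intro n
    cases n with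
    | zero =>
      have h1 : RProp P p D := rprop_of_perfect D hp0 hbP.2 haddD hbD
      exact rprop_of_equiv
        (TensorProduct.AlgebraTensorModule.congr (LinearEquiv.refl P P) e.symm) h1
    | succ n =>
      haveI := hproj n
      exact rprop_of_projective hp0 (P ⊗[A] X (n + 1))
  let I : Ideal P := RingHom.ker μ.toRingHom
  have hI : PClosed p I := by
    intro x hx
    rw [RingHom.mem_ker] at hx ⊢
    apply hB.1
    simp only
    rw [← map_pow, hx, zero_pow hp0]
  have hGood : Good Y dY I :=
    good_of_pclosed hbP.2 hp1 haddP hbP.1 hddY hexY hsurjY hRY hI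
  -- descend to `B ⊗ X`
  let ρ : ∀ m, P ⊗[A] X m →ₗ[A] B ⊗[A] X m := fun m => (μ.toLinearMap).rTensor (X m)
  have hρs : ∀ m, Function.Surjective (ρ m) := fun m => LinearMap.rTensor_surjective (X m) hμ
  have hcomm : ∀ m (y : P ⊗[A] X (m + 1)),
      ρ m ((d m).lTensor P y) = (d m).lTensor B (ρ (m + 1) y) := by
    intro m y
    change ((μ.toLinearMap).rTensor (X m) ∘ₗ (d m).lTensor P) y =
      ((d m).lTensor B ∘ₗ (μ.toLinearMap).rTensor (X (m + 1))) y
    rw [LinearMap.rTensor_comp_lTensor, LinearMap.lTensor_comp_rTensor]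
  have hker1 : ∀ m (y : P ⊗[A] X m), ρ m y = 0 → y ∈ (I • ⊤ : Submodule P (P ⊗[A] X m)) := by
    intro m y hy
    have hE : Function.Exact (LinearMap.ker μ.toLinearMap).subtype μ.toLinearMap :=
      LinearMap.exact_subtype_ker_map _
    have hE' := rTensor_exact (X m) hE hμ
    obtain ⟨t, rfl⟩ := (hE' y).1 hy
    clear hy
    induction t with
    | zero => rw [map_zero]; exact zero_mem _
    | tmul i x =>
      have hi : (i : P) ∈ I := by
        have := i.2
        rw [LinearMap.mem_ker] at this
        exact (RingHom.mem_ker (f := μ.toRingHom)).2 this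
      have h2 : (LinearMap.ker μ.toLinearMap).subtype.rTensor (X m) (i ⊗ₜ x) =
          (i : P) • ((1 : P) ⊗ₜ[A] x) := by
        rw [LinearMap.rTensor_tmul, TensorProduct.smul_tmul', smul_eq_mul, mul_one]
        rfl
      rw [h2]
      exact Submodule.smul_mem_smul hi Submodule.mem_top
    | add a b ha hb => rw [map_add]; exact add_mem ha hb
  have hker2 : ∀ m (y : P ⊗[A] X m), y ∈ (I • ⊤ : Submodule P (P ⊗[A] X m)) → ρ m y = 0 := by
    intro m y hy
    induction hy using Submodule.smul_induction_on' with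
    | smul r hr t ht =>
      clear ht
      induction t with
      | zero => rw [smul_zero, map_zero]
      | tmul q x =>
        rw [TensorProduct.smul_tmul', smul_eq_mul]
        change μ (r * q) ⊗ₜ[A] x = 0
        have : μ r = 0 := (RingHom.mem_ker (f := μ.toRingHom)).1 hr
        rw [map_mul, this, zero_mul, zero_tmul]
      | add a b ha hb => rw [smul_add, map_add, ha, hb, add_zero]
    | add a ha b hb iha ihb => rw [map_add, iha, ihb, add_zero]
  -- final chase
  obtain ⟨z', rfl⟩ := hρs (n + 1) z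
  have h1 : ρ n ((d n).lTensor P z') = 0 := by rw [hcomm, hz]
  have h2 : dY n z' ∈ (I • ⊤ : Submodule P (Y n)) := by
    change (d n).baseChange P z' ∈ _
    rw [LinearMap.baseChange_eq_ltensor]
    exact hker1 n _ h1
  obtain ⟨w, y, hy, hw⟩ := hGood n z' h2
  refine ⟨ρ (n + 1 + 1) w, ?_⟩
  rw [← hcomm, hw, map_add, hker2 _ y hy, add_zero]
  change _ = ρ (n + 1) ((d (n + 1)).baseChange P w)
  rw [LinearMap.baseChange_eq_ltensor]

end main

/-- **Exactness of `B ⊗_A X_•`.** -/
theorem exact_lTensor_of_perfect (p : ℕ) [hp : Fact p.Prime]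
    (A B C : Type u) [CommRing A] [CommRing B] [CommRing C]
    [CharP A p] [Algebra A B] [Algebra A C]
    (hA : Function.Bijective fun a : A => a ^ p) (hB : Function.Bijective fun b : B => b ^ p)
    (hC : Function.Bijective fun c : C => c ^ p)
    (X : ℕ → Type u) [∀ n, AddCommGroup (X n)] [∀ n, Module A (X n)]
    (d : ∀ n, X (n + 1) →ₗ[A] X n)
    (hdd : ∀ n (y : X (n + 1 + 1)), d n (d (n + 1) y) = 0)
    (hex : ∀ n (y : X (n + 1)), d n y = 0 → ∃ w, d (n + 1) w = y)
    (hsurj : Function.Surjective (d 0))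
    (e : X 0 ≃ₗ[A] C) (hproj : ∀ n, Module.Projective A (X (n + 1)))
    (n : ℕ) (z : B ⊗[A] X (n + 1)) (hz : (d n).lTensor B z = 0) :
    ∃ w : B ⊗[A] X (n + 1 + 1), (d (n + 1)).lTensor B w = z := by
  letI : Algebra (ZMod p) A := ZMod.algebra A p
  letI : Algebra (ZMod p) B := ((algebraMap A B).comp (algebraMap (ZMod p) A)).toAlgebra
  haveI : IsScalarTower (ZMod p) A B := IsScalarTower.of_algebraMap_eq fun _ => rfl
  have hk : ∀ c : ZMod p, c ^ p = c := ZMod.pow_card
  exact exact_lTensor_of_perfect_aux p (ZMod p) hk A B C hA hB hC X d hdd hex hsurj e hproj n z hz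

end Groth.Agent.Lib.Helper29.Perf
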