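import Groth.Agent.Lib.Helper29.PerfC

/-!
# Tor vanishing between perfect rings: bridge to Mathlib's `Tor` (helper29)
-/

set_option autoImplicit false
universe u

open CategoryTheory CategoryTheory.Limits MonoidalCategory

namespace Groth.Agent.Lib.Helper29.Perf

variable {A : Type u} [CommRing A]

section aug

variable {Cm : ModuleCat.{u} A} (Q : ProjectiveResolution Cm)

/-- the augmented family `C, X_0, X_1, …` -/
noncomputable def augX : ℕ → ModuleCat.{u} A
  | 0 => Cm
  | n + 1 => Q.complex.X n

/-- the augmented differentials -/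
noncomputable def augD : ∀ n, augX Q (n + 1) ⟶ augX Q n
  | 0 => Q.π.f 0 ≫ (HomologicalComplex.singleObjXSelf (ComplexShape.down ℕ) 0 Cm).hom
  | n + 1 => Q.complex.d (n + 1) n

lemma augD_comp (n : ℕ) (y : augX Q (n + 1 + 1)) : (augD Q n).hom ((augD Q (n + 1)).hom y) = 0 := by
  cases n with
  | zero =>
    change (Q.complex.d 1 0 ≫ Q.π.f 0 ≫
      (HomologicalComplex.singleObjXSelf (ComplexShape.down ℕ) 0 Cm).hom).hom y = 0
    rw [Q.complex_d_comp_π_f_zero_assoc, zero_comp]
    rfl
  | succ n =>
    change (Q.complex.d (n + 2) (n + 1) ≫ Q.complex.d (n + 1) n).hom y = 0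
    rw [Q.complex.d_comp_d]
    rfl

lemma augD_exact (n : ℕ) (y : augX Q (n + 1)) (hy : (augD Q n).hom y = 0) :
    ∃ w, (augD Q (n + 1)).hom w = y := by
  cases n with
  | zero =>
    have h := (ShortComplex.moduleCat_exact_iff _).1 Q.exact₀
    have hy' : (Q.π.f 0).hom y = 0 := by
      have h1 : (HomologicalComplex.singleObjXSelf (ComplexShape.down ℕ) 0 Cm).hom.hom
          ((Q.π.f 0).hom y) = 0 := hy
      have h2 := congrArg (HomologicalComplex.singleObjXSelf (ComplexShape.down ℕ) 0 Cm).inv.hom h1
      rw [map_zero] at h2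
      rw [← h2]
      change _ = ((HomologicalComplex.singleObjXSelf (ComplexShape.down ℕ) 0 Cm).hom ≫
        (HomologicalComplex.singleObjXSelf (ComplexShape.down ℕ) 0 Cm).inv).hom _
      rw [Iso.hom_inv_id]
      rfl
    exact h y hy'
  | succ n =>
    have h := (ShortComplex.moduleCat_exact_iff _).1 (Q.exact_succ n)
    exact h y hy

lemma augD_zero_surjective : Function.Surjective (augD Q 0).hom := by
  have : Epi (augD Q 0) := by
    change Epi (Q.π.f 0 ≫ (HomologicalComplex.singleObjXSelf (ComplexShape.down ℕ) 0 Cm).hom)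
    infer_instance
  exact (ModuleCat.epi_iff_surjective _).1 this

lemma aug_projective (n : ℕ) : Module.Projective A (augX Q (n + 1)) := by
  have : Projective (Q.complex.X n) := Q.projective n
  exact (IsProjective.iff_projective (R := A) (P := Q.complex.X n)).2 this

end aug

/-- **Tor vanishing between perfect rings** (Bhatt–Scholze, Lemma 3.16). -/
theorem isZero_tor_of_perfect (p : ℕ) [Fact p.Prime] (A B C : Type u) [CommRing A] [CommRing B]
    [CommRing C] [CharP A p] [Algebra A B] [Algebra A C]
    (hA : Function.Bijective fun a : A => a ^ p) (hB : Function.Bijective fun b : B => b ^ p)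
    (hC : Function.Bijective fun c : C => c ^ p) (i : ℕ) (hi : 0 < i) :
    Limits.IsZero (((Tor (ModuleCat.{u} A) i).obj (ModuleCat.of A B)).obj (ModuleCat.of A C)) := by
  obtain ⟨m, rfl⟩ : ∃ m, i = m + 1 := Nat.exists_eq_succ_of_ne_zero hi.ne'
  let Q := ProjectiveResolution.of (ModuleCat.of A C)
  let F : ModuleCat.{u} A ⥤ ModuleCat.{u} A := (tensoringLeft (ModuleCat.{u} A)).obj (ModuleCat.of A B)
  refine IsZero.of_iso ?_ (Q.isoLeftDerivedObj F (m + 1))
  erw [← HomologicalComplex.exactAt_iff_isZero_homology]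
  rw [HomologicalComplex.exactAt_iff' _ (m + 2) (m + 1) m (by simp) (by simp),
    ShortComplex.moduleCat_exact_iff]
  intro z hz
  have key := exact_lTensor_of_perfect p A B C hA hB hC (fun n => augX Q n)
    (fun n => (augD Q n).hom) (augD_comp Q) (augD_exact Q) (augD_zero_surjective Q)
    (LinearEquiv.refl A C) (aug_projective Q) (m + 1) z hz
  exact key

end Groth.Agent.Lib.Helper29.Perf
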