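import Mathlib

/-!
# Filtered colimits in full subcategories of `Under B` detected on underlying types (helper29)
-/

set_option autoImplicit false

open CategoryTheory CategoryTheory.Limits

universe u

namespace Groth.Agent.Lib.Helper29.Pfp

variable {B : CommRingCat.{u}} (Pr : ObjectProperty (Under B))

/-- the forgetful functor to types -/
abbrev U : Pr.FullSubcategory ⥤ Type u := Pr.ι ⋙ Under.forget B ⋙ forget CommRingCat.{u}

/-- A cocone over a filtered diagram in a full subcategory of `Under B` is a colimit as soon as
it is so on underlying sets. -/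
noncomputable def isColimitOfTypes {J : Type u} [SmallCategory J] [IsFiltered J]
    (F : J ⥤ Pr.FullSubcategory) (c : Cocone F)
    (h1 : ∀ a : c.pt.obj.right, ∃ (j : J) (x : (F.obj j).obj.right),
      (c.ι.app j).hom.right x = a)
    (h2 : ∀ (j : J) (x y : (F.obj j).obj.right),
      (c.ι.app j).hom.right x = (c.ι.app j).hom.right y →
        ∃ (k : J) (f : j ⟶ k), (F.map f).hom.right x = (F.map f).hom.right y) :
    IsColimit c := by
  haveI : ReflectsColimitsOfShape J (Under.forget B) :=
    reflectsColimitsOfShape_of_reflectsIsomorphisms
  haveI : ReflectsColimitsOfShape J (forget CommRingCat.{u}) :=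
    reflectsColimitsOfShape_of_reflectsIsomorphisms
  apply isColimitOfReflects (U Pr)
  apply Types.FilteredColimit.isColimitOf'
  · intro a
    obtain ⟨j, x, hx⟩ := h1 a
    exact ⟨j, x, hx.symm⟩
  · intro j x y hxy
    exact h2 j x y hxy

end Groth.Agent.Lib.Helper29.Pfp
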