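import Groth.Agent.Lib.Helper29.PerfB

/-!
# Perfectly finitely presented algebras: the retract argument (helper29)
-/

set_option autoImplicit false

namespace Groth.Agent.Lib.Helper29.Pfp

open Groth.Agent.Lib.Helper29.Perf

lemma sub_pow_of_cast_eq_zero {R : Type*} [CommRing R] (p : ℕ) [hp : Fact p.Prime]
    (h : (p : R) = 0) (x y : R) : (x - y) ^ p = x ^ p - y ^ p := by
  rcases subsingleton_or_nontrivial R with hR | hR
  · exact Subsingleton.elim _ _
  · haveI : CharP R p := (CharP.charP_iff_prime_eq_zero hp.out).2 h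
    exact sub_pow_char x y

lemma sub_pow_pow_of_cast_eq_zero {R : Type*} [CommRing R] (p : ℕ) [hp : Fact p.Prime]
    (h : (p : R) = 0) (x y : R) (n : ℕ) : (x - y) ^ p ^ n = x ^ p ^ n - y ^ p ^ n := by
  induction n with
  | zero => simp
  | succ n ih => rw [pow_succ, pow_mul, ih, sub_pow_of_cast_eq_zero p h, ← pow_mul, ← pow_mul]

lemma add_pow_pow_of_cast_eq_zero {R : Type*} [CommRing R] (p : ℕ) [hp : Fact p.Prime]
    (h : (p : R) = 0) (x y : R) (n : ℕ) : (x + y) ^ p ^ n = x ^ p ^ n + y ^ p ^ n := by
  induction n with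
  | zero => simp
  | succ n ih => rw [pow_succ, pow_mul, ih, add_pow_of_cast_eq_zero p h, ← pow_mul, ← pow_mul]

/-- **Retract argument.**  If `r : P → AA` has a section `s` (compatible with `B`), and `P` is
generated up to `p`-power roots by the images of finitely many variables, then `ker r` is the
radical of the ideal generated by the `x_v - s (r x_v)`. -/
theorem ker_eq_radical_span {p : ℕ} [Fact p.Prime] {B : Type*} [CommRing B] {σ : Type*}
    {P AA : Type*} [CommRing P] [CommRing AA] [IsReduced AA] (hP : (p : P) = 0)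
    (θ : MvPolynomial σ B →+* P)
    (hθ : ∀ z : P, ∃ (n : ℕ) (f : MvPolynomial σ B), θ f = z ^ p ^ n)
    (r : P →+* AA) (s : AA →+* P) (hrs : ∀ a, r (s a) = a)
    (hB : ∀ b : B, s (r (θ (MvPolynomial.C b))) = θ (MvPolynomial.C b)) :
    RingHom.ker r = (Ideal.span (Set.range fun v : σ =>
      θ (MvPolynomial.X v) - s (r (θ (MvPolynomial.X v))))).radical := by
  set 𝔯 := (Ideal.span (Set.range fun v : σ =>
      θ (MvPolynomial.X v) - s (r (θ (MvPolynomial.X v))))).radical with h𝔯
  have hgen : ∀ v : σ, θ (MvPolynomial.X v) - s (r (θ (MvPolynomial.X v))) ∈ 𝔯 :=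
    fun v => Ideal.le_radical (Ideal.subset_span ⟨v, rfl⟩)
  apply le_antisymm
  · -- the E-argument
    have ha : ∀ f : MvPolynomial σ B, θ f - s (r (θ f)) ∈ 𝔯 := by
      intro f
      induction f using MvPolynomial.induction_on with
      | C b => rw [hB, sub_self]; exact zero_mem _
      | add f g hf hg =>
        have : θ (f + g) - s (r (θ (f + g))) = (θ f - s (r (θ f))) + (θ g - s (r (θ g))) := by
          simp only [map_add]; ring
        rw [this]
        exact add_mem hf hg
      | mul_X f v hf =>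
        have : θ (f * MvPolynomial.X v) - s (r (θ (f * MvPolynomial.X v))) =
            (θ f - s (r (θ f))) * θ (MvPolynomial.X v) +
              s (r (θ f)) * (θ (MvPolynomial.X v) - s (r (θ (MvPolynomial.X v)))) := by
          simp only [map_mul]; ring
        rw [this]
        exact add_mem (Ideal.mul_mem_right _ _ hf) (Ideal.mul_mem_left _ _ (hgen v))
    have hb : ∀ z : P, z - s (r z) ∈ 𝔯 := by
      intro z
      obtain ⟨n, f, hf⟩ := hθ z
      have h1 : (z - s (r z)) ^ p ^ n = θ f - s (r (θ f)) := by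
        rw [sub_pow_pow_of_cast_eq_zero p hP, hf, map_pow, map_pow]
      have h2 : (z - s (r z)) ^ p ^ n ∈ 𝔯 := by rw [h1]; exact ha f
      exact (Ideal.radical_isRadical _) ⟨p ^ n, h2⟩
    intro z hz
    rw [RingHom.mem_ker] at hz
    have := hb z
    rwa [hz, map_zero, sub_zero] at this
  · have hrad : (RingHom.ker r).IsRadical := by
      intro x hx
      obtain ⟨n, hn⟩ := hx
      rw [RingHom.mem_ker] at hn ⊢
      rw [map_pow] at hn
      exact IsReduced.eq_zero _ ⟨n, hn⟩
    rw [h𝔯, hrad.radical_le_iff, Ideal.span_le]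
    rintro _ ⟨v, rfl⟩
    change _ ∈ RingHom.ker r
    rw [RingHom.mem_ker, map_sub, hrs, sub_self]

end Groth.Agent.Lib.Helper29.Pfp
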