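import Groth.Agent.Lib.Helper29.PfpB

/-!
# Perfectly finitely presented algebras: descending a finite set of equations (helper29)
-/

set_option autoImplicit false

namespace Groth.Agent.Lib.Helper29.Pfp

open Groth.Agent.Lib.Helper29.Perf

open Classical in
/-- If `ker π` is the radical of a finitely generated ideal of a `p`-radical extension `Q` of
`R`, then `ker (π ∘ ι)` is, up to nilpotents, a finitely generated ideal of `R`. -/
theorem exists_finset_of_ker_eq_radical {p : ℕ} [hp : Fact p.Prime] {R Q AA : Type*} [CommRing R]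
    [CommRing Q] [CommRing AA] [CharP Q p] (ι : R →+* Q)
    (hι1 : ∀ x : Q, ∃ (n : ℕ) (y : R), ι y = x ^ p ^ n)
    (hι2 : ∀ y : R, ι y = 0 → ∃ n : ℕ, y ^ p ^ n = 0)
    (π : Q →+* AA) (W : Finset Q)
    (hW : RingHom.ker π = (Ideal.span (W : Set Q)).radical) :
    ∃ Hs : Finset R, (∀ h ∈ Hs, π (ι h) = 0) ∧
      ∀ z : R, π (ι z) = 0 → ∃ m : ℕ, z ^ m ∈ Ideal.span (Hs : Set R) := by
  choose n y hy using hι1
  have hroot : ∀ (x : Q) (N : ℕ), n x ≤ N → ι (y x ^ p ^ (N - n x)) = x ^ p ^ N := by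
    intro x N hN
    rw [map_pow, hy, ← pow_mul, ← pow_add, Nat.add_sub_cancel' hN]
  set N := W.sup n with hN
  obtain ⟨h, hh⟩ : ∃ h : Q → R, ∀ w ∈ W, ι (h w) = w ^ p ^ N :=
    ⟨fun w => y w ^ p ^ (N - n w), fun w hw => hroot w N (Finset.le_sup hw)⟩
  refine ⟨W.image h, ?_, ?_⟩
  · intro h' hh'
    obtain ⟨w, hw, rfl⟩ := Finset.mem_image.1 hh'
    have hwk : w ∈ RingHom.ker π := by
      rw [hW]
      exact Ideal.le_radical (Ideal.subset_span hw)
    rw [hh w hw, map_pow, (RingHom.mem_ker).1 hwk, zero_pow (pow_ne_zero _ hp.out.ne_zero)]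
  · intro z hz
    have hz' : ι z ∈ (Ideal.span (W : Set Q)).radical := by
      rw [← hW]; exact (RingHom.mem_ker).2 hz
    obtain ⟨M, hM⟩ := hz'
    obtain ⟨c, -, hc⟩ := Submodule.mem_span_finset.1 hM
    set N' := N + W.sup (fun w => n (c w)) with hN'
    obtain ⟨c', hc'⟩ : ∃ c' : Q → R, ∀ w ∈ W, ι (c' w) = c w ^ p ^ N' := by
      refine ⟨fun w => y (c w) ^ p ^ (N' - n (c w)), fun w hw => ?_⟩
      apply hroot
      have : n (c w) ≤ W.sup (fun w => n (c w)) := Finset.le_sup (f := fun w => n (c w)) hw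
      omega
    let v : R := ∑ w ∈ W, c' w * h w ^ p ^ (N' - N)
    have hv : v ∈ Ideal.span ((W.image h : Finset R) : Set R) := by
      refine Ideal.sum_mem _ fun w hw => Ideal.mul_mem_left _ _ ?_
      exact Ideal.pow_mem_of_mem _ (Ideal.subset_span (Finset.mem_image_of_mem h hw)) _
        (pow_pos hp.out.pos _)
    have hιv : ι v = ι z ^ (M * p ^ N') := by
      rw [pow_mul, ← hc, sum_pow_char_pow, map_sum]
      refine Finset.sum_congr rfl fun w hw => ?_
      rw [map_mul, map_pow, hc' w hw, hh w hw, smul_eq_mul, mul_pow, ← pow_mul, ← pow_add]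
      congr 3
      omega
    have hu : ι (z ^ (M * p ^ N') - v) = 0 := by rw [map_sub, map_pow, hιv, sub_self]
    obtain ⟨m, hm⟩ := hι2 _ hu
    refine ⟨M * p ^ N' * p ^ m, ?_⟩
    have hd : z ^ (M * p ^ N') - v - (z ^ (M * p ^ N') - v - (- v)) = -v := by ring
    have h1 := sub_dvd_pow_sub_pow (z ^ (M * p ^ N')) (z ^ (M * p ^ N') - v) (p ^ m)
    rw [hm, sub_zero, ← pow_mul] at h1
    obtain ⟨t, ht⟩ := h1
    rw [ht]
    have : z ^ (M * p ^ N') - (z ^ (M * p ^ N') - v) = v := by ring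
    rw [this]
    exact Ideal.mul_mem_right _ _ hv

lemma frob_bijective_quotient {Q : Type*} [CommRing Q] (p : ℕ) [Fact p.Prime] (hQ : (p : Q) = 0)
    (hb : Function.Bijective fun x : Q => x ^ p) (I : Ideal Q) (hI : I.IsRadical) :
    Function.Bijective fun x : Q ⧸ I => x ^ p := by
  constructor
  · intro x y hxy
    obtain ⟨x, rfl⟩ := Ideal.Quotient.mk_surjective x
    obtain ⟨y, rfl⟩ := Ideal.Quotient.mk_surjective y
    simp only at hxy
    rw [← map_pow, ← map_pow, Ideal.Quotient.eq, ← sub_pow_of_cast_eq_zero p hQ] at hxy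
    rw [Ideal.Quotient.eq]
    exact hI ⟨p, hxy⟩
  · intro x
    obtain ⟨x, rfl⟩ := Ideal.Quotient.mk_surjective x
    obtain ⟨y, rfl⟩ := hb.2 x
    exact ⟨Ideal.Quotient.mk I y, (map_pow _ _ _).symm⟩

section pcl

variable (p : ℕ) [Fact p.Prime] {B AA : Type*} [CommRing B] [CommRing AA] [Algebra B AA]

/-- the `p`-radical closure of a subalgebra -/
def pcl (hA : (p : AA) = 0) (U : Subalgebra B AA) : Subalgebra B AA where
  carrier := {x | ∃ n : ℕ, x ^ p ^ n ∈ U}
  mul_mem' := by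
    rintro x y ⟨n, hn⟩ ⟨m, hm⟩
    refine ⟨n + m, ?_⟩
    rw [mul_pow]
    refine mul_mem ?_ ?_
    · rw [pow_add, pow_mul]; exact pow_mem hn _
    · rw [add_comm, pow_add, pow_mul]; exact pow_mem hm _
  add_mem' := by
    rintro x y ⟨n, hn⟩ ⟨m, hm⟩
    refine ⟨n + m, ?_⟩
    rw [add_pow_pow_of_cast_eq_zero p hA]
    refine add_mem ?_ ?_
    · rw [pow_add, pow_mul]; exact pow_mem hn _
    · rw [add_comm, pow_add, pow_mul]; exact pow_mem hm _
  algebraMap_mem' := fun b => ⟨0, by simpa using U.algebraMap_mem b⟩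

lemma mem_pcl {hA : (p : AA) = 0} {U : Subalgebra B AA} {x : AA} :
    x ∈ pcl p hA U ↔ ∃ n : ℕ, x ^ p ^ n ∈ U := Iff.rfl

lemma le_pcl (hA : (p : AA) = 0) (U : Subalgebra B AA) : U ≤ pcl p hA U :=
  fun x hx => ⟨0, by simpa using hx⟩

lemma pcl_mono (hA : (p : AA) = 0) {U V : Subalgebra B AA} (h : U ≤ V) :
    pcl p hA U ≤ pcl p hA V := fun _ ⟨n, hn⟩ => ⟨n, h hn⟩

lemma pcl_frob_bijective (hA : (p : AA) = 0) (hb : Function.Bijective fun x : AA => x ^ p)
    (U : Subalgebra B AA) : Function.Bijective fun x : pcl p hA U => x ^ p := by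
  constructor
  · intro x y hxy
    apply Subtype.ext
    apply hb.1
    exact congrArg Subtype.val hxy
  · rintro ⟨x, n, hn⟩
    obtain ⟨y, rfl⟩ := hb.2 x
    refine ⟨⟨y, n + 1, ?_⟩, rfl⟩
    rw [pow_succ', pow_mul]
    exact hn

end pcl

end Groth.Agent.Lib.Helper29.Pfp
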