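import Groth.Agent.Lib.Helper29.PfpA
import Groth.Agent.Lib.Helper29.PfpC

/-!
# Perfectly finitely presented algebras: the two filtered-colimit presentations (helper29)
-/

set_option autoImplicit false
set_option backward.isDefEq.respectTransparency false
set_option backward.isDefEq.respectTransparency.types false

open CategoryTheory CategoryTheory.Limits

universe u

namespace Groth.Agent.Lib.Helper29.Pfp

variable (p : ℕ) [Fact p.Prime] (B : CommRingCat.{u})

/-- the property "perfect of characteristic `p`" on `Under B` -/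
abbrev PerfProp : ObjectProperty (Under B) :=
  fun Y : Under B => (p : Y.right) = 0 ∧ Function.Bijective fun y : Y.right => y ^ p

section mk

variable {p B}

/-- object of the category of perfect `B`-algebras attached to an algebra -/
def mkObj (B : CommRingCat.{u}) (R : Type u) [CommRing R] [Algebra B R] (h0 : (p : R) = 0)
    (hb : Function.Bijective fun x : R => x ^ p) : (PerfProp p B).FullSubcategory :=
  ⟨Under.mk (CommRingCat.ofHom (algebraMap B R)), h0, hb⟩

/-- morphism attached to an algebra homomorphism -/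
def mkHom {R R' : Type u} [CommRing R] [Algebra B R] [CommRing R'] [Algebra B R']
    {h0 : (p : R) = 0} {hb : Function.Bijective fun x : R => x ^ p}
    {h0' : (p : R') = 0} {hb' : Function.Bijective fun x : R' => x ^ p} (f : R →ₐ[B] R') :
    mkObj B R h0 hb ⟶ mkObj B R' h0' hb' :=
  ObjectProperty.homMk (Under.homMk (CommRingCat.ofHom f.toRingHom) (by
    ext x
    exact f.commutes x))

@[simp] lemma mkHom_apply {R R' : Type u} [CommRing R] [Algebra B R] [CommRing R'] [Algebra B R']
    {h0 : (p : R) = 0} {hb : Function.Bijective fun x : R => x ^ p}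
    {h0' : (p : R') = 0} {hb' : Function.Bijective fun x : R' => x ^ p} (f : R →ₐ[B] R') (x : R) :
    (mkHom (h0 := h0) (hb := hb) (h0' := h0') (hb' := hb') f).hom.right x = f x := rfl

lemma mkHom_ext {R R' : Type u} [CommRing R] [Algebra B R] [CommRing R'] [Algebra B R']
    {h0 : (p : R) = 0} {hb : Function.Bijective fun x : R => x ^ p}
    {h0' : (p : R') = 0} {hb' : Function.Bijective fun x : R' => x ^ p}
    (f g : mkObj B R h0 hb ⟶ mkObj B R' h0' hb') (h : ∀ x : R, f.hom.right x = g.hom.right x) :
    f = g := by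
  apply ObjectProperty.hom_ext
  apply Under.UnderMorphism.ext
  ext x
  exact h x

lemma hom_ext' {X Y : (PerfProp p B).FullSubcategory} (f g : X ⟶ Y)
    (h : ∀ x : X.obj.right, f.hom.right x = g.hom.right x) : f = g := by
  apply ObjectProperty.hom_ext
  apply Under.UnderMorphism.ext
  ext x
  exact h x

/-- algebra homomorphism attached to a morphism -/
def toAlgHom {R R' : Type u} [CommRing R] [Algebra B R] [CommRing R'] [Algebra B R']
    {h0 : (p : R) = 0} {hb : Function.Bijective fun x : R => x ^ p}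
    {h0' : (p : R') = 0} {hb' : Function.Bijective fun x : R' => x ^ p}
    (f : mkObj B R h0 hb ⟶ mkObj B R' h0' hb') : R →ₐ[B] R' :=
  { f.hom.right.hom with
    commutes' := fun b => by
      have := Under.w f.hom
      exact congrArg (fun m => m.hom b) this }

@[simp] lemma toAlgHom_apply {R R' : Type u} [CommRing R] [Algebra B R] [CommRing R'] [Algebra B R']
    {h0 : (p : R) = 0} {hb : Function.Bijective fun x : R => x ^ p}
    {h0' : (p : R') = 0} {hb' : Function.Bijective fun x : R' => x ^ p}
    (f : mkObj B R h0 hb ⟶ mkObj B R' h0' hb') (x : R) : toAlgHom f x = f.hom.right x := rfl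

end mk

section step1

variable {p} (AA : Type u) [CommRing AA] [Algebra B AA] (hA0 : (p : AA) = 0)
  (hAb : Function.Bijective fun x : AA => x ^ p)

lemma pcl_cast_zero (U : Subalgebra B AA) : (p : pcl p hA0 U) = 0 :=
  Subtype.ext (by push_cast; exact hA0)

/-- Step 1 diagram: `p`-radical closures of finitely generated subalgebras. -/
noncomputable def F₁ : Finset AA ⥤ (PerfProp p B).FullSubcategory where
  obj S := mkObj B (pcl p hA0 (Algebra.adjoin B (S : Set AA))) (pcl_cast_zero B AA hA0 _)
    (pcl_frob_bijective p hA0 hAb _)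
  map {S S'} f := mkHom (Subalgebra.inclusion
    (pcl_mono p hA0 (Algebra.adjoin_mono (by exact_mod_cast leOfHom f))))
  map_id S := by
    apply mkHom_ext
    intro x
    rfl
  map_comp f g := by
    apply mkHom_ext
    intro x
    rfl

/-- Step 1 cocone -/
noncomputable def c₁ : Cocone (F₁ B AA hA0 hAb) where
  pt := mkObj B AA hA0 hAb
  ι :=
    { app := fun S => mkHom (h0 := pcl_cast_zero B AA hA0 _)
        (hb := pcl_frob_bijective p hA0 hAb _) (h0' := hA0) (hb' := hAb)
        (Subalgebra.val (pcl p hA0 (Algebra.adjoin B (S : Set AA))))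
      naturality := fun S S' f => by
        apply hom_ext'
        intro x
        rfl }

noncomputable def isColimit_c₁ : IsColimit (c₁ B AA hA0 hAb) := by
  apply isColimitOfTypes
  · intro a
    refine ⟨({a} : Finset AA), ⟨a, 0, ?_⟩, rfl⟩
    simpa using Algebra.subset_adjoin (by simp)
  · intro S x y hxy
    refine ⟨S, 𝟙 S, ?_⟩
    have : x = y := Subtype.ext hxy
    rw [this]

include hAb in
/-- Step 1: a compact perfect algebra is `p`-radical over a finitely generated subalgebra. -/
theorem exists_finset_pcl [IsFinitelyPresentable.{u} (mkObj B AA hA0 hAb)] :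
    ∃ S : Finset AA, ∀ a : AA, ∃ n : ℕ, a ^ p ^ n ∈ Algebra.adjoin B (S : Set AA) := by
  obtain ⟨S, g, hg⟩ := IsFinitelyPresentable.exists_hom_of_isColimit
    (X := mkObj B AA hA0 hAb) (isColimit_c₁ B AA hA0 hAb)
    (show mkObj B AA hA0 hAb ⟶ (c₁ B AA hA0 hAb).pt from 𝟙 _)
  refine ⟨S, fun a => ?_⟩
  have h1 : ((g ≫ (c₁ B AA hA0 hAb).ι.app S).hom.right) a = a := by rw [hg]; rfl
  let ga : pcl p hA0 (Algebra.adjoin B (S : Set AA)) :=
    (show pcl p hA0 (Algebra.adjoin B (S : Set AA)) from g.hom.right a)
  have h2 : (ga : AA) = a := h1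
  rw [← h2]
  exact ga.2

end step1

section step2

variable {p} (AA : Type u) [CommRing AA] [Algebra B AA] (hA0 : (p : AA) = 0)
  (hAb : Function.Bijective fun x : AA => x ^ p) [IsReduced AA]
  (Q : Type u) [CommRing Q] [Algebra B Q] (hQ0 : (p : Q) = 0)
  (hQb : Function.Bijective fun x : Q => x ^ p) (π : Q →ₐ[B] AA)

/-- the radical ideal generated by a finite subset of the kernel -/
def IT (T : Finset (RingHom.ker π.toRingHom)) : Ideal Q :=
  (Ideal.span (Subtype.val '' (T : Set (RingHom.ker π.toRingHom)))).radical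

lemma IT_mono {T T' : Finset (RingHom.ker π.toRingHom)} (h : T ≤ T') : IT B AA Q π T ≤ IT B AA Q π T' :=
  Ideal.radical_mono (Ideal.span_mono (Set.image_mono (by exact_mod_cast h)))

lemma IT_le_ker (T : Finset (RingHom.ker π.toRingHom)) (a : Q) (ha : a ∈ IT B AA Q π T) : π a = 0 := by
  obtain ⟨m, hm⟩ := ha
  have h1 : Ideal.span (Subtype.val '' (T : Set (RingHom.ker π.toRingHom))) ≤
      RingHom.ker π.toRingHom := by
    rw [Ideal.span_le]
    rintro _ ⟨t, -, rfl⟩
    exact t.2
  have h2 := h1 hm
  rw [RingHom.mem_ker, map_pow] at h2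
  exact IsReduced.eq_zero _ ⟨m, h2⟩

omit [Algebra B Q] in
include hQ0 in
lemma quot_cast_zero (I : Ideal Q) : (p : Q ⧸ I) = 0 := by
  rw [← map_natCast (Ideal.Quotient.mk I), hQ0, map_zero]

/-- Step 2 diagram: quotients of `Q` by radicals of finitely generated subideals of `ker π`. -/
noncomputable def F₂ : Finset (RingHom.ker π.toRingHom) ⥤ (PerfProp p B).FullSubcategory where
  obj T := mkObj B (Q ⧸ IT B AA Q π T) (quot_cast_zero Q hQ0 _)
    (frob_bijective_quotient p hQ0 hQb _ (Ideal.radical_isRadical _))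
  map {T T'} f := mkHom (Ideal.Quotient.factorₐ B (IT_mono B AA Q π (leOfHom f)))
  map_id T := by
    apply mkHom_ext
    intro x
    obtain ⟨x, rfl⟩ := Ideal.Quotient.mk_surjective x
    rfl
  map_comp f g := by
    apply mkHom_ext
    intro x
    obtain ⟨x, rfl⟩ := Ideal.Quotient.mk_surjective x
    rfl

/-- Step 2 cocone -/
noncomputable def c₂ : Cocone (F₂ B AA Q hQ0 hQb π) where
  pt := mkObj B AA hA0 hAb
  ι :=
    { app := fun T => mkHom (h0 := quot_cast_zero Q hQ0 _)
        (hb := frob_bijective_quotient p hQ0 hQb _ (Ideal.radical_isRadical _))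
        (h0' := hA0) (hb' := hAb)
        (Ideal.Quotient.liftₐ (IT B AA Q π T) π (IT_le_ker B AA Q π T))
      naturality := fun T T' f => by
        apply hom_ext'
        intro x
        obtain ⟨x, rfl⟩ := Ideal.Quotient.mk_surjective x
        rfl }

open Classical in
noncomputable def isColimit_c₂ (hπ : Function.Surjective π) :
    IsColimit (c₂ B AA hA0 hAb Q hQ0 hQb π) := by
  apply isColimitOfTypes
  · intro a
    obtain ⟨q, hq⟩ := hπ (show AA from a)
    exact ⟨∅, Ideal.Quotient.mk _ q, hq⟩
  · intro T x y hxy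
    obtain ⟨x, rfl⟩ := Ideal.Quotient.mk_surjective x
    obtain ⟨y, rfl⟩ := Ideal.Quotient.mk_surjective y
    have h1 : π x = π y := hxy
    have hw : x - y ∈ RingHom.ker π.toRingHom := by
      rw [RingHom.mem_ker]
      change π (x - y) = 0
      rw [map_sub, h1, sub_self]
    refine ⟨insert ⟨x - y, hw⟩ T, homOfLE (Finset.subset_insert _ _), ?_⟩
    change Ideal.Quotient.mk (IT B AA Q π (insert ⟨x - y, hw⟩ T)) x =
      Ideal.Quotient.mk (IT B AA Q π (insert ⟨x - y, hw⟩ T)) y
    rw [Ideal.Quotient.eq]
    apply Ideal.le_radical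
    apply Ideal.subset_span
    exact ⟨⟨x - y, hw⟩, Finset.mem_coe.2 (Finset.mem_insert_self _ _), rfl⟩

include hA0 hAb hQ0 hQb in
/-- Step 2: a compact perfect algebra which is a quotient of `Q` is a retract of the quotient of
`Q` by the radical of a finitely generated subideal. -/
theorem exists_retract [IsFinitelyPresentable.{u} (mkObj B AA hA0 hAb)]
    (hπ : Function.Surjective π) :
    ∃ (T : Finset (RingHom.ker π.toRingHom)) (s : AA →ₐ[B] Q ⧸ IT B AA Q π T),
      ∀ a : AA, Ideal.Quotient.liftₐ (IT B AA Q π T) π (IT_le_ker B AA Q π T) (s a) = a := by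
  obtain ⟨T, g, hg⟩ := IsFinitelyPresentable.exists_hom_of_isColimit
    (X := mkObj B AA hA0 hAb) (isColimit_c₂ B AA hA0 hAb Q hQ0 hQb π hπ)
    (show mkObj B AA hA0 hAb ⟶ (c₂ B AA hA0 hAb Q hQ0 hQb π).pt from 𝟙 _)
  refine ⟨T, toAlgHom (h0 := hA0) (hb := hAb) (h0' := quot_cast_zero Q hQ0 _)
    (hb' := frob_bijective_quotient p hQ0 hQb _ (Ideal.radical_isRadical _)) g, fun a => ?_⟩
  have h1 : ((g ≫ (c₂ B AA hA0 hAb Q hQ0 hQb π).ι.app T).hom.right) a = a := by rw [hg]; rfl
  exact h1

end step2

end Groth.Agent.Lib.Helper29.Pfp
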