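import Groth.Agent.Lib.Helper29.PfpD

/-!
# Compact perfect algebras are perfectly finitely presented (helper29)
-/

set_option autoImplicit false
set_option backward.isDefEq.respectTransparency false
set_option backward.isDefEq.respectTransparency.types false

open CategoryTheory CategoryTheory.Limits

universe u

namespace Groth.Agent.Lib.Helper29.Pfp

lemma exists_pow_pow_eq {R : Type*} [CommRing R] {p : ℕ}
    (hs : Function.Surjective fun x : R => x ^ p) (n : ℕ) (x : R) : ∃ y : R, y ^ p ^ n = x := by
  induction n generalizing x with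
  | zero => exact ⟨x, by simp⟩
  | succ n ih =>
    obtain ⟨y, rfl⟩ := hs x
    obtain ⟨z, rfl⟩ := ih y
    exact ⟨z, by rw [pow_succ, pow_mul]⟩

lemma pow_pow_injective {R : Type*} [CommRing R] {p : ℕ}
    (hi : Function.Injective fun x : R => x ^ p) (n : ℕ) {x y : R} (h : x ^ p ^ n = y ^ p ^ n) :
    x = y := by
  induction n generalizing x y with
  | zero => simpa using h
  | succ n ih =>
    apply hi
    apply ih
    rw [← pow_mul, ← pow_mul, ← pow_succ']
    exact h

lemma isReduced_of_frob_injective {R : Type*} [CommRing R] {p : ℕ} (hp : 1 < p)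
    (hi : Function.Injective fun x : R => x ^ p) : IsReduced R := by
  refine ⟨fun x hx => ?_⟩
  obtain ⟨n, hn⟩ := hx
  apply pow_pow_injective hi n
  rw [zero_pow (pow_ne_zero _ (by omega))]
  exact pow_eq_zero_of_le (Nat.lt_pow_self hp).le hn

section main

variable (p : ℕ) [hp : Fact p.Prime] (B : CommRingCat.{u}) [CharP B p]
  (AA : Type u) [CommRing AA] [Algebra B AA] (hA0 : (p : AA) = 0)
  (hAb : Function.Bijective fun x : AA => x ^ p)

open Classical in
include hp hA0 hAb in
theorem exists_model_aux [IsFinitelyPresentable.{u} (mkObj B AA hA0 hAb)] :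
    ∃ (A₀ : Type u) (_ : CommRing A₀) (_ : Algebra B A₀) (_ : Algebra.FinitePresentation B A₀)
      (k : A₀ →+* AA), k.comp (algebraMap B A₀) = algebraMap B AA ∧ IsPRadical k p := by
  have hp0 : p ≠ 0 := hp.out.ne_zero
  rcases subsingleton_or_nontrivial AA with hsub | hnon
  · -- trivial case
    refine ⟨B ⧸ (⊤ : Ideal B), inferInstance, inferInstance,
      Algebra.FinitePresentation.quotient ⟨{1}, by simp⟩,
      Ideal.Quotient.lift ⊤ (algebraMap B AA) (fun a _ => Subsingleton.elim _ _), ?_, ?_⟩
    · ext b
      rfl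
    · haveI : Subsingleton (B ⧸ (⊤ : Ideal B)) := Ideal.Quotient.subsingleton_iff.2 rfl
      exact ⟨fun x => ⟨0, 0, Subsingleton.elim _ _⟩, fun x _ => by
        rw [Subsingleton.elim x 0]; exact zero_mem _⟩
  · haveI : CharP AA p := (CharP.charP_iff_prime_eq_zero hp.out).2 hA0
    haveI : PerfectRing AA p := ⟨hAb⟩
    haveI : IsReduced AA := isReduced_of_frob_injective hp.out.one_lt hAb.1
    -- Step 1
    obtain ⟨S, hS⟩ := exists_finset_pcl B AA hA0 hAb
    let σ : Type u := ((S : Set AA) : Type u)
    let R := MvPolynomial σ B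
    let ev : R →ₐ[B] AA := MvPolynomial.aeval ((↑) : σ → AA)
    have hev : Algebra.adjoin B (S : Set AA) = ev.range := Algebra.adjoin_eq_range B (S : Set AA)
    let Q := PerfectClosure R p
    let ι : R →+* Q := PerfectClosure.of R p
    letI algQ : Algebra B Q := (ι.comp (algebraMap B R)).toAlgebra
    let π₀ : Q →+* AA := PerfectClosure.lift R p AA ev.toRingHom
    have hπι : ∀ f : R, π₀ (ι f) = ev f := by
      intro f
      have := (PerfectClosure.lift R p AA).symm_apply_apply ev.toRingHom
      exact congrArg (fun g : R →+* AA => g f) this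
    let π : Q →ₐ[B] AA :=
      { π₀ with
        commutes' := fun b => by
          change π₀ (ι (algebraMap B R b)) = _
          rw [hπι]
          exact ev.commutes b }
    have hQ0 : (p : Q) = 0 := CharP.cast_eq_zero Q p
    have hQb : Function.Bijective fun x : Q => x ^ p := bijective_frobenius Q p
    have hι1 : ∀ x : Q, ∃ (n : ℕ) (y : R), ι y = x ^ p ^ n := fun x =>
      IsPRadical.pow_mem ι p x
    have hι2 : ∀ y : R, ι y = 0 → ∃ n : ℕ, y ^ p ^ n = 0 := fun y hy =>
      mem_pNilradical.1 (IsPRadical.ker_le ι p ((RingHom.mem_ker).2 hy))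
    have hπ : Function.Surjective π := by
      intro a
      obtain ⟨n, hn⟩ := hS a
      rw [hev] at hn
      obtain ⟨f, hf⟩ := hn
      obtain ⟨q, hq⟩ := exists_pow_pow_eq hQb.2 n (ι f)
      refine ⟨q, pow_pow_injective hAb.1 n ?_⟩
      change (π₀ q) ^ p ^ n = _
      rw [← map_pow, hq, hπι]
      exact hf
    -- Step 2
    obtain ⟨T, s, hs⟩ := exists_retract B AA hA0 hAb Q hQ0 hQb π hπ
    let I := IT B AA Q π T
    let mkT : Q →+* Q ⧸ I := Ideal.Quotient.mk I
    let r : Q ⧸ I →ₐ[B] AA := Ideal.Quotient.liftₐ I π (IT_le_ker B AA Q π T)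
    have hr : ∀ q : Q, r (mkT q) = π₀ q := fun q => rfl
    let θ : R →+* Q ⧸ I := mkT.comp ι
    have hθ : ∀ z : Q ⧸ I, ∃ (n : ℕ) (f : R), θ f = z ^ p ^ n := by
      intro z
      obtain ⟨q, rfl⟩ := Ideal.Quotient.mk_surjective z
      obtain ⟨n, y, hy⟩ := hι1 q
      exact ⟨n, y, by change mkT (ι y) = _; rw [hy, map_pow]⟩
    have hθB : ∀ b : B, θ (MvPolynomial.C b) = algebraMap B (Q ⧸ I) b := fun b => rfl
    have hker := ker_eq_radical_span (p := p) (quot_cast_zero Q hQ0 I) θ hθ r.toRingHom
      s.toRingHom hs (fun b => by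
        rw [hθB]
        change s (r (algebraMap B (Q ⧸ I) b)) = _
        rw [r.commutes, s.commutes])
    -- lift the generators
    let g : σ → Q ⧸ I := fun v => θ (MvPolynomial.X v) - s (r (θ (MvPolynomial.X v)))
    have hg0 : ∀ v, r (g v) = 0 := by
      intro v
      change r (θ (MvPolynomial.X v) - s (r (θ (MvPolynomial.X v)))) = 0
      rw [map_sub, hs, sub_self]
    choose g' hg' using fun v => Ideal.Quotient.mk_surjective (I := I) (g v)
    let W : Finset Q := (T.image Subtype.val) ∪ (Finset.univ.image g')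
    have hWker : ∀ w ∈ W, π₀ w = 0 := by
      intro w hw
      rcases Finset.mem_union.1 hw with h | h
      · obtain ⟨t, -, rfl⟩ := Finset.mem_image.1 h
        exact (RingHom.mem_ker).1 t.2
      · obtain ⟨v, -, rfl⟩ := Finset.mem_image.1 h
        rw [← hr, hg' v, hg0]
    have hkerrad : (RingHom.ker π₀).IsRadical := by
      intro x hx
      obtain ⟨n, hn⟩ := hx
      rw [RingHom.mem_ker] at hn ⊢
      rw [map_pow] at hn
      exact IsReduced.eq_zero _ ⟨n, hn⟩
    have hW : RingHom.ker π₀ = (Ideal.span (W : Set Q)).radical := by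
      apply le_antisymm
      · intro y hy
        rw [RingHom.mem_ker] at hy
        have h1 : mkT y ∈ RingHom.ker r.toRingHom := by
          rw [RingHom.mem_ker]
          exact (hr y).trans hy
        rw [hker] at h1
        obtain ⟨m, hm⟩ := h1
        have h2 : Ideal.span (Set.range g) = Ideal.map mkT (Ideal.span (Set.range g')) := by
          rw [Ideal.map_span, ← Set.range_comp]
          congr 2
          ext v
          exact (hg' v).symm
        have h3 : y ^ m ∈ Ideal.comap mkT (Ideal.map mkT (Ideal.span (Set.range g'))) := by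
          rw [Ideal.mem_comap, map_pow, ← h2]
          exact hm
        rw [Ideal.comap_map_of_surjective mkT Ideal.Quotient.mk_surjective,
          ← RingHom.ker_eq_comap_bot, Ideal.mk_ker] at h3
        obtain ⟨j, hj, i, hi, hji⟩ := Submodule.mem_sup.1 h3
        have hj' : j ∈ (Ideal.span (W : Set Q)).radical := by
          apply Ideal.le_radical
          refine Ideal.span_mono ?_ hj
          rintro _ ⟨v, rfl⟩
          exact Finset.mem_coe.2 (Finset.mem_union_right _
            (Finset.mem_image_of_mem g' (Finset.mem_univ v)))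
        have hi' : i ∈ (Ideal.span (W : Set Q)).radical := by
          refine Ideal.radical_mono (Ideal.span_mono ?_) hi
          rintro _ ⟨t, ht, rfl⟩
          exact Finset.mem_coe.2 (Finset.mem_union_left _
            (Finset.mem_image_of_mem Subtype.val (Finset.mem_coe.1 ht)))
        have h4 : y ^ m ∈ (Ideal.span (W : Set Q)).radical := by
          rw [← hji]; exact add_mem hj' hi'
        exact (Ideal.radical_isRadical _) ⟨m, h4⟩
      · rw [hkerrad.radical_le_iff, Ideal.span_le]
        intro w hw
        exact (RingHom.mem_ker).2 (hWker w (Finset.mem_coe.1 hw))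
    -- descend to `R`
    obtain ⟨Hs, hHs1, hHs2⟩ := exists_finset_of_ker_eq_radical ι hι1 hι2 π₀ W hW
    let J : Ideal R := Ideal.span (Hs : Set R)
    have hJ : ∀ a ∈ J, ev.toRingHom a = 0 := by
      intro a ha
      have : J ≤ RingHom.ker ev.toRingHom := by
        rw [Ideal.span_le]
        intro h hh
        rw [SetLike.mem_coe, RingHom.mem_ker]
        change ev h = 0
        rw [← hπι]
        exact hHs1 h (Finset.mem_coe.1 hh)
      exact (RingHom.mem_ker).1 (this ha)
    refine ⟨R ⧸ J, inferInstance, inferInstance,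
      Algebra.FinitePresentation.quotient ⟨Hs, rfl⟩, Ideal.Quotient.lift J ev.toRingHom hJ, ?_, ?_⟩
    · ext b
      change ev (algebraMap B R b) = _
      exact ev.commutes b
    · refine ⟨fun x => ?_, fun z hz => ?_⟩
      · obtain ⟨q, rfl⟩ := hπ x
        obtain ⟨n, y, hy⟩ := hι1 q
        refine ⟨n, Ideal.Quotient.mk J y, ?_⟩
        change ev y = (π₀ q) ^ p ^ n
        rw [← hπι, hy, map_pow]
      · obtain ⟨z, rfl⟩ := Ideal.Quotient.mk_surjective z
        rw [RingHom.mem_ker] at hz
        have hz' : π₀ (ι z) = 0 := by rw [hπι]; exact hz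
        obtain ⟨m, hm⟩ := hHs2 z hz'
        rw [pNilradical_prime hp.out, mem_nilradical]
        exact ⟨m, by rw [← map_pow]; exact Ideal.Quotient.eq_zero_iff_mem.2 hm⟩

end main

/-- **A compact object of the category of perfect `B`-algebras is perfectly finitely presented.** -/
theorem exists_model (p : ℕ) [Fact p.Prime] (B : CommRingCat.{u}) [CharP B p] [PerfectRing B p]
    (A : ObjectProperty.FullSubcategory fun Y : Under B =>
      (p : Y.right) = 0 ∧ Function.Bijective fun y : Y.right => y ^ p)
    [hA : IsFinitelyPresentable.{u} A] :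
    ∃ (A₀ : Type u) (_ : CommRing A₀) (_ : Algebra B A₀) (_ : Algebra.FinitePresentation B A₀)
      (k : A₀ →+* A.obj.right), k.comp (algebraMap B A₀) = A.obj.hom.hom ∧ IsPRadical k p := by
  letI : Algebra B A.obj.right := A.obj.hom.hom.toAlgebra
  haveI : IsFinitelyPresentable.{u} (mkObj B A.obj.right A.property.1 A.property.2) := hA
  exact exists_model_aux p B A.obj.right A.property.1 A.property.2

end Groth.Agent.Lib.Helper29.Pfp
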