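import Groth.Agent.Lib.Helper29.QCohStalkExact

/-!
More on weakly associated points of modules with the localisation property on an affine open,
and a criterion for monomorphisms of sheaves of modules through sections.
-/

set_option autoImplicit false
universe u

namespace Groth.Agent.Lib.Helper29.QCohLoc

open AlgebraicGeometry CategoryTheory CategoryTheory.Limits Opposite TopologicalSpace

variable {X : Scheme.{u}} (F : X.Modules) {U : X.Opens} (hU : IsAffineOpen U) (hF : LocAt F U)

include hU hF in
/-- if the prime of `x` is minimal over the annihilator of the section `s`, the annihilator of the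
germ of `s` at `x` has radical the maximal ideal -/
theorem radical_ker_germ_of_mem_minimalPrimes (x : X) (hx : x ∈ U) (s : Γ(F, U))
    (hs : (hU.primeIdealOf ⟨x, hx⟩).asIdeal ∈ (ann F s).minimalPrimes) :
    Ideal.radical (LinearMap.ker (LinearMap.toSpanSingleton (X.presheaf.stalk x)
      (F.presheaf.stalk x) (F.presheaf.germ U x hx s))) =
      IsLocalRing.maximalIdeal (X.presheaf.stalk x) := by
  let _ := X.presheaf.algebra_section_stalk ⟨x, hx⟩
  have hloc := hU.isLocalization_stalk ⟨x, hx⟩
  have hker : LinearMap.ker (LinearMap.toSpanSingleton (X.presheaf.stalk x) (F.presheaf.stalk x)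
        (F.presheaf.germ U x hx s)) = (ann F s).map (algebraMap Γ(X, U) (X.presheaf.stalk x)) := by
    ext r
    rw [LinearMap.mem_ker, LinearMap.toSpanSingleton_apply]
    exact smul_germ_eq_zero_iff F hU hF x hx s r
  have hmax : (hU.primeIdealOf ⟨x, hx⟩).asIdeal.map (algebraMap Γ(X, U) (X.presheaf.stalk x)) =
      IsLocalRing.maximalIdeal (X.presheaf.stalk x) :=
    IsLocalization.AtPrime.map_eq_maximalIdeal _ _
  rw [hker, IsLocalization.AtPrime.radical_map_of_mem_minimalPrimes _ _ _ hs, hmax]

include hU in
/-- a nonzero section over an affine open has a point whose prime is minimal over its annihilator -/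
theorem exists_point_minimal_ann (s : Γ(F, U)) (hs : s ≠ 0) :
    ∃ (y : X) (hy : y ∈ U), (hU.primeIdealOf ⟨y, hy⟩).asIdeal ∈ (ann F s).minimalPrimes := by
  have hne : ann F s ≠ ⊤ := by
    intro h
    have : (1 : Γ(X, U)) ∈ ann F s := by rw [h]; trivial
    rw [mem_ann, one_smul] at this
    exact hs this
  obtain ⟨m, hm, hle⟩ := Ideal.exists_le_maximal _ hne
  obtain ⟨p, hp, -⟩ := Ideal.exists_minimalPrimes_le (J := m) hle
  have hpp : p.IsPrime := hp.1.1
  obtain ⟨y, hy, hyp⟩ := exists_point_of_prime hU p
  exact ⟨y, hy, hyp ▸ hp⟩

/-- a morphism of sheaves of modules which is injective on sections over every open is a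
monomorphism -/
theorem mono_of_app_injective {M N : X.Modules} (φ : M ⟶ N)
    (h : ∀ U : X.Opens, Function.Injective (φ.app U)) : Mono φ := by
  have h1 : Mono ((Scheme.Modules.toPresheaf X).map φ) := by
    have : ∀ U, Mono (((Scheme.Modules.toPresheaf X).map φ).app U) := by
      intro U
      rw [AddCommGrpCat.mono_iff_injective]
      exact h U.unop
    exact NatTrans.mono_of_mono_app _
  exact (Scheme.Modules.toPresheaf X).mono_of_mono_map h1

end Groth.Agent.Lib.Helper29.QCohLoc
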