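import Groth.Agent.Lib.Helper29.QCohLoc
import Groth.Prelude.Def_Algz2

set_option autoImplicit false
universe u

namespace Groth.Agent.Lib.Helper29.QCohLoc

open AlgebraicGeometry CategoryTheory CategoryTheory.Limits Opposite TopologicalSpace

variable {X : Scheme.{u}}

/-- the sections functor over a fixed open -/
noncomputable def secFunctor (U : X.Opens) : X.Modules ⥤ Ab.{u} :=
  Scheme.Modules.toPresheaf X ⋙ (evaluation _ _).obj (op U)

noncomputable instance (U : X.Opens) : PreservesLimits (secFunctor (X := X) U) := by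
  have h1 : PreservesLimits ((evaluation (Opens ↥X)ᵒᵖ Ab.{u}).obj (op U)) := inferInstance
  have h2 : PreservesLimits (Scheme.Modules.toPresheaf X) := inferInstance
  exact comp_preservesLimits _ _

instance (U : X.Opens) : (secFunctor (X := X) U).PreservesZeroMorphisms := ⟨fun _ _ => rfl⟩

theorem app_injective_of_mono {M N : X.Modules} (φ : M ⟶ N) [Mono φ] (U : X.Opens) :
    Function.Injective (φ.app U) := by
  have : Mono ((secFunctor U).map φ) := inferInstance
  exact (AddCommGrpCat.mono_iff_injective _).1 this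

theorem app_exact_of_shortExact (S : ShortComplex X.Modules) (hS : S.ShortExact) (U : X.Opens)
    (t : Γ(S.X₂, U)) (ht : S.g.app U t = 0) : ∃ t₁, S.f.app U t₁ = t := by
  have := hS.mono_f
  have hS' := hS.exact.map_of_mono_of_preservesKernel (secFunctor U) inferInstance inferInstance
  rw [ShortComplex.ab_exact_iff] at hS'
  exact hS' t ht

theorem stalkMapAb_germ {M N : X.Modules} (φ : M ⟶ N) (x : X) (U : X.Opens) (hx : x ∈ U)
    (t : Γ(M, U)) :
    Algz.stalkMapAb φ x (M.presheaf.germ U x hx t) = N.presheaf.germ U x hx (φ.app U t) := by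
  have := TopCat.Presheaf.stalkFunctor_map_germ_apply U x hx
    (Scheme.Modules.Hom.mapPresheaf φ) t
  exact this

theorem stalk_injective_of_mono {M N : X.Modules} (φ : M ⟶ N) [Mono φ] (x : X) :
    Function.Injective (Algz.stalkMapAb φ x) :=
  TopCat.Presheaf.stalkFunctor_map_injective_of_app_injective
    (f := Scheme.Modules.Hom.mapPresheaf φ) (fun U => app_injective_of_mono φ U) x

theorem app_res {M N : X.Modules} (φ : M ⟶ N) {U V : X.Opens} (h : V ≤ U) (t : Γ(M, U)) :
    φ.app V (M.presheaf.map (homOfLE h).op t) = N.presheaf.map (homOfLE h).op (φ.app U t) := by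
  have := congrArg (fun f => f.hom t) ((Scheme.Modules.Hom.mapPresheaf φ).naturality (homOfLE h).op)
  exact this

theorem stalk_exact_of_shortExact (S : ShortComplex X.Modules) (hS : S.ShortExact) (x : X)
    (m : S.X₂.presheaf.stalk x) (hm : Algz.stalkMapAb S.g x m = 0) :
    ∃ m₁, Algz.stalkMapAb S.f x m₁ = m := by
  obtain ⟨W, hxW, t, rfl⟩ := TopCat.Presheaf.exists_germ_eq S.X₂.presheaf (x := x) m
  rw [stalkMapAb_germ] at hm
  have h0 : S.X₃.presheaf.germ W x hxW (S.g.app W t) = S.X₃.presheaf.germ W x hxW 0 := by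
    rw [hm, map_zero]
  obtain ⟨W', hxW', iU, iV, hW'⟩ := TopCat.Presheaf.germ_eq S.X₃.presheaf x hxW hxW _ 0 h0
  rw [map_zero] at hW'
  have h1 : S.g.app W' (S.X₂.presheaf.map (homOfLE iU.le).op t) = 0 := by
    rw [app_res]
    exact hW'
  obtain ⟨t₁, ht₁⟩ := app_exact_of_shortExact S hS W' _ h1
  refine ⟨S.X₁.presheaf.germ W' x hxW' t₁, ?_⟩
  rw [stalkMapAb_germ, ht₁, germ_res]

end Groth.Agent.Lib.Helper29.QCohLoc
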