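import Groth.Agent.Lib.Helper29.QCohLoc

set_option autoImplicit false
universe u

namespace Groth.Agent.Lib.Helper29.QCohLoc

open AlgebraicGeometry CategoryTheory Opposite TopologicalSpace

set_option backward.isDefEq.respectTransparency.types false

variable (A : CommRingCat.{u}) (M : ModuleCat.{u} A)

/-- the ring isomorphism from `A` to the global sections of `Spec A` -/
noncomputable def eTop : A →+* Γ(Spec A, ⊤) := (Scheme.ΓSpecIso A).inv.hom

theorem eTop_bijective : Function.Bijective (eTop A) :=
  ConcreteCategory.bijective_of_isIso (Scheme.ΓSpecIso A).inv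

/-- global sections of `M~` -/
noncomputable def tauTop : M →ₗ[A] Γ(tilde M, ⊤) := (tilde.toOpen M ⊤).hom

theorem tauTop_bijective : Function.Bijective (tauTop A M) :=
  ConcreteCategory.bijective_of_isIso (tilde.toOpen M ⊤)

theorem eTop_smul (a : A) (t : Γ(tilde M, ⊤)) : eTop A a • t = a • t := by
  rw [Scheme.Modules.smul_Spec_def]
  congr 1

theorem ann_tauTop (m : M) :
    (ann (tilde M) (tauTop A M m)).comap (eTop A) =
      LinearMap.ker (LinearMap.toSpanSingleton A M m) := by
  ext a
  rw [Ideal.mem_comap, mem_ann, eTop_smul, ← map_smul, LinearMap.mem_ker,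
    LinearMap.toSpanSingleton_apply]
  exact (map_eq_zero_iff _ (tauTop_bijective A M).1)

theorem comap_primeIdealOf_top (p : Spec A) :
    ((isAffineOpen_top (Spec A)).primeIdealOf ⟨p, trivial⟩).asIdeal.comap (eTop A) = p.asIdeal := by
  ext a
  rw [Ideal.mem_comap, mem_primeIdealOf_iff]
  have : (Spec A).basicOpen (eTop A a) = PrimeSpectrum.basicOpen a := basicOpen_eq_of_affine a
  rw [this]
  exact not_not

/-- weakly associated points of `M~` in terms of `M` -/
theorem isWeakAssPoint_tilde_iff (p : Spec A) :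
    Curv2.IsWeakAssPoint (tilde M) p ↔
      ∃ m : M, p.asIdeal ∈ Ideal.minimalPrimes (LinearMap.ker (LinearMap.toSpanSingleton A M m)) := by
  have hU := isAffineOpen_top (Spec A)
  have hL := LocAt.of_isQuasicoherent (tilde M) hU
  rw [isWeakAssPoint_iff (tilde M) hU hL p trivial]
  have hsurj : Function.Surjective (eTop A) := (eTop_bijective A).2
  constructor
  · rintro ⟨s, hs⟩
    obtain ⟨m, rfl⟩ := (tauTop_bijective A M).2 s
    refine ⟨m, ?_⟩
    rw [← ann_tauTop, Ideal.comap_minimalPrimes_eq_of_surjective hsurj,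
      ← comap_primeIdealOf_top A p]
    exact ⟨_, hs, rfl⟩
  · rintro ⟨m, hm⟩
    refine ⟨tauTop A M m, ?_⟩
    rw [← ann_tauTop, Ideal.comap_minimalPrimes_eq_of_surjective hsurj] at hm
    obtain ⟨P', hP', hcomap⟩ := hm
    rw [← comap_primeIdealOf_top A p] at hcomap
    have := Ideal.comap_injective_of_surjective (eTop A) hsurj hcomap
    rw [← this]
    exact hP'

end Groth.Agent.Lib.Helper29.QCohLoc
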