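import Groth.Agent.Lib.Helper29.WaBcA

/-!
# The local bridge in terms of ring isomorphisms to localisations (helper29)
-/

set_option autoImplicit false
universe u
open TensorProduct

namespace Groth.Agent.Lib.Helper29.WaBc

section

variable {k K A : Type u} [Field k] [Field K] [Algebra k K] [CommRing A] [Algebra k A]
  (q : Ideal (A ⊗[k] K)) [q.IsPrime]
  (A₀ B₀ : Type u) [CommRing A₀] [CommRing B₀] [IsLocalRing A₀] [IsLocalRing B₀]
  (φ₀ : A₀ →+* B₀)
  (EA : A₀ ≃+* Localization.AtPrime (q.comap (algebraMap A (A ⊗[k] K))))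
  (EB : B₀ ≃+* Localization.AtPrime q)
  (hcomp : ∀ a₀ : A₀, EB (φ₀ a₀) =
    Localization.localRingHom (q.comap (algebraMap A (A ⊗[k] K))) q (algebraMap A (A ⊗[k] K)) rfl
      (EA a₀))
  (N₀ : Type u) [AddCommGroup N₀] [Module A₀ N₀]

include hcomp in
theorem bridge_of_equivs (H : H9592.{u}) :
    letI := φ₀.toAlgebra
    (∃ m : B₀ ⊗[A₀] N₀, Ideal.radical (LinearMap.ker (LinearMap.toSpanSingleton B₀ (B₀ ⊗[A₀] N₀) m)) =
      IsLocalRing.maximalIdeal B₀) →
    ∃ n : N₀, Ideal.radical (LinearMap.ker (LinearMap.toSpanSingleton A₀ N₀ n)) =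
      IsLocalRing.maximalIdeal A₀ := by
  letI := φ₀.toAlgebra
  intro hm
  letI algA : Algebra A A₀ :=
    (EA.symm.toRingHom.comp (algebraMap A (Localization.AtPrime (q.comap (algebraMap A (A ⊗[k] K)))))).toAlgebra
  letI algT : Algebra (A ⊗[k] K) B₀ :=
    (EB.symm.toRingHom.comp (algebraMap (A ⊗[k] K) (Localization.AtPrime q))).toAlgebra
  letI algAB : Algebra A B₀ := (φ₀.comp (algebraMap A A₀)).toAlgebra
  haveI : IsScalarTower A A₀ B₀ := IsScalarTower.of_algebraMap_eq fun _ => rfl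
  haveI : IsScalarTower A (A ⊗[k] K) B₀ := IsScalarTower.of_algebraMap_eq fun a => by
    change φ₀ (EA.symm (algebraMap A _ a)) = EB.symm (algebraMap (A ⊗[k] K) _ (algebraMap A (A ⊗[k] K) a))
    apply EB.injective
    rw [hcomp, RingEquiv.apply_symm_apply, RingEquiv.apply_symm_apply, Localization.localRingHom_to_map]
  haveI : IsLocalization.AtPrime A₀ (q.comap (algebraMap A (A ⊗[k] K))) := by
    let e : Localization.AtPrime (q.comap (algebraMap A (A ⊗[k] K))) ≃ₐ[A] A₀ :=
      { EA.symm with commutes' := fun _ => rfl }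
    exact IsLocalization.isLocalization_of_algEquiv _ e
  haveI : IsLocalization.AtPrime B₀ q := by
    let e : Localization.AtPrime q ≃ₐ[A ⊗[k] K] B₀ :=
      { EB.symm with commutes' := fun _ => rfl }
    exact IsLocalization.isLocalization_of_algEquiv _ e
  exact local_bridge q A₀ B₀ N₀ H hm

end

end Groth.Agent.Lib.Helper29.WaBc
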