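import Groth.Agent.Lib.Helper29.WaBcB
import Groth.Agent.Lib.Helper51.StalkBC
import Groth.Agent.Lib.Helper73.Sk.FibLocBridge
import Groth.Agent.Lib.Lead.PullbackAff6
import Groth.Prelude.Def_CurvBase

/-!
# Weakly associated points under field base change: scheme bridge (helper29)
-/

set_option autoImplicit false
universe u
open CategoryTheory CategoryTheory.Limits AlgebraicGeometry TensorProduct

namespace Groth.Agent.Lib.Helper29.WaBc

open Groth.Agent.Lib.Helper51 Groth.Agent.Lib.Helper73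

section

variable {k : Type u} [Field k] {X : Scheme.{u}} (f : X ⟶ Spec (CommRingCat.of k)) (x : X)
  [Algebra k (X.presheaf.stalk x)]
  (hψ : Spec.map (CommRingCat.ofHom (algebraMap k (X.presheaf.stalk x))) = X.fromSpecStalk x ≫ f)
  (K : Type u) [Field K] [Algebra k K]

/-- `Spec (𝒪_{X,x} ⊗[k] K) ⟶ X_K`. -/
noncomputable def jmap : Spec (CommRingCat.of ((X.presheaf.stalk x) ⊗[k] K)) ⟶
    pullback f (Spec.map (CommRingCat.ofHom (algebraMap k K))) :=
  (pullbackSpecIso k (X.presheaf.stalk x) K).inv ≫ stalkBcMap f x hψ K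

instance : Flat (jmap f x hψ K) := by
  delta jmap; infer_instance

instance : IsPreimmersion (jmap f x hψ K) := by
  delta jmap; infer_instance

theorem jmap_fst : jmap f x hψ K ≫ pullback.fst f (Spec.map (CommRingCat.ofHom (algebraMap k K))) =
    specAlg (X.presheaf.stalk x) ((X.presheaf.stalk x) ⊗[k] K) ≫ X.fromSpecStalk x := by
  rw [jmap, Category.assoc, (isPullback_stalkBcMap f x hψ K).w, ← Category.assoc,
    pullbackSpecIso_inv_fst]


variable (F : X.Modules) [F.IsQuasicoherent] (q : PrimeSpectrum ((X.presheaf.stalk x) ⊗[k] K))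

include hψ in
theorem transfer (H : H9592.{u})
    (hy : Curv2.IsWeakAssPoint ((Scheme.Modules.pullback
      (pullback.fst f (Spec.map (CommRingCat.ofHom (algebraMap k K))))).obj F) (jmap f x hψ K q)) :
    Curv2.IsWeakAssPoint F
      (pullback.fst f (Spec.map (CommRingCat.ofHom (algebraMap k K))) (jmap f x hψ K q)) := by
  obtain ⟨bcF, hbcF⟩ : ∃ g, g = pullback.fst f (Spec.map (CommRingCat.ofHom (algebraMap k K))) :=
    ⟨_, rfl⟩
  obtain ⟨j, hj⟩ : ∃ g, g = jmap f x hψ K := ⟨_, rfl⟩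
  haveI : Flat j := hj ▸ inferInstance
  haveI : IsPreimmersion j := hj ▸ inferInstance
  have hsq : j ≫ bcF = specAlg (X.presheaf.stalk x) ((X.presheaf.stalk x) ⊗[k] K) ≫
      X.fromSpecStalk x := by rw [hj, hbcF, jmap_fst]
  rw [← hbcF, ← hj] at hy ⊢
  obtain ⟨m, hm⟩ := hy
  letI := (bcF.stalkMap (j q)).hom.toAlgebra
  obtain ⟨e⟩ := Groth.Agent.Lib.Lead.PullbackAff.nonempty_stalk_pullback_equiv bcF F (j q)
  have hm' : ∃ m' : ((pullback f (Spec.map (CommRingCat.ofHom (algebraMap k K)))).presheaf.stalk (j q))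
      ⊗[X.presheaf.stalk (bcF (j q))] (F.presheaf.stalk (bcF (j q))),
      Ideal.radical (LinearMap.ker (LinearMap.toSpanSingleton _ _ m')) =
        IsLocalRing.maximalIdeal ((pullback f (Spec.map (CommRingCat.ofHom (algebraMap k K)))).presheaf.stalk (j q)) := by
    refine ⟨e m, ?_⟩
    rw [← hm]
    congr 1
    ext b
    simp only [LinearMap.mem_ker, LinearMap.toSpanSingleton_apply]
    rw [← map_smul, LinearEquiv.map_eq_zero_iff]
  -- the ring isomorphisms
  have hbij := bijective_stalkMap_of_flat_of_isPreimmersion j q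
  let εq := RingEquiv.ofBijective (j.stalkMap q).hom hbij
  let σT := (Spec.stalkIso (CommRingCat.of ((X.presheaf.stalk x) ⊗[k] K)) q).commRingCatIsoToRingEquiv
  let EB := εq.trans σT
  let sA := specAlg (X.presheaf.stalk x) ((X.presheaf.stalk x) ⊗[k] K)
  have hpt : (j ≫ bcF) q = (sA ≫ X.fromSpecStalk x) q := by rw [hsq]
  let τ := (X.presheaf.stalkCongr (.of_eq hpt)).commRingCatIsoToRingEquiv
  have hbijι := bijective_stalkMap_of_flat_of_isPreimmersion (X.fromSpecStalk x) (sA q)
  let εA := RingEquiv.ofBijective ((X.fromSpecStalk x).stalkMap (sA q)).hom hbijι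
  let σA := (Spec.stalkIso (CommRingCat.of (X.presheaf.stalk x)) (sA q)).commRingCatIsoToRingEquiv
  let EA := τ.trans (εA.trans σA)
  have hcomp : ∀ a₀ : X.presheaf.stalk (bcF (j q)), EB ((bcF.stalkMap (j q)).hom a₀) =
      Localization.localRingHom
        (q.asIdeal.comap (algebraMap (X.presheaf.stalk x) ((X.presheaf.stalk x) ⊗[k] K))) q.asIdeal
        (algebraMap (X.presheaf.stalk x) ((X.presheaf.stalk x) ⊗[k] K)) rfl (EA a₀) := by
    intro a₀
    have h1 : (j.stalkMap q).hom ((bcF.stalkMap (j q)).hom a₀) = ((j ≫ bcF).stalkMap q).hom a₀ := by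
      rw [Scheme.Hom.stalkMap_comp]; rfl
    have h2 : ((j ≫ bcF).stalkMap q).hom a₀ =
        ((sA ≫ X.fromSpecStalk x).stalkMap q).hom (τ a₀) := by
      rw [Scheme.Hom.stalkMap_congr_hom _ _ hsq q]; rfl
    have h3 : ((sA ≫ X.fromSpecStalk x).stalkMap q).hom (τ a₀) =
        (sA.stalkMap q).hom (εA (τ a₀)) := by
      rw [Scheme.Hom.stalkMap_comp]; rfl
    change σT ((j.stalkMap q).hom _) = _
    rw [h1, h2, h3]
    have := stalkIso_stalkMap_apply (X.presheaf.stalk x) (R := (X.presheaf.stalk x) ⊗[k] K) q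
    exact this (εA (τ a₀))
  exact bridge_of_equivs q.asIdeal _ _ (bcF.stalkMap (j q)).hom EA EB hcomp _ H hm'

end

end Groth.Agent.Lib.Helper29.WaBc
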