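import Groth.Agent.Lib.Helper29.RbG
import Groth.Agent.Lib.Helper22.FlatBC

/-!
# Flatness of `q^*G` over `X` on `X ×_S Y` (symmetric base change of flatness) (helper29)
-/

set_option autoImplicit false
set_option linter.style.haveILetI false
universe u
open CategoryTheory CategoryTheory.Limits AlgebraicGeometry TopologicalSpace TensorProduct

namespace Groth.Agent.Lib.Helper29.Rc

open Groth.Agent.Lib.Helper29.Ra

theorem isFlatOverAt_of_iso {X S : Scheme.{u}} (f : X ⟶ S) {M M' : X.Modules} (φ : M ≅ M') (x : X)
    (h : FlatMod.IsFlatOverAt f M x) : FlatMod.IsFlatOverAt f M' x := by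
  have hiso : IsIso ((TopCat.Presheaf.stalkFunctor Ab x).map φ.hom.mapPresheaf) := by
    have : IsIso φ.hom.mapPresheaf :=
      inferInstanceAs (IsIso ((Scheme.Modules.toPresheaf X).map φ.hom))
    infer_instance
  have hbij : Function.Bijective (RefHull.stalkMapₗ φ.hom x) :=
    ConcreteCategory.bijective_of_isIso
      ((TopCat.Presheaf.stalkFunctor Ab x).map φ.hom.mapPresheaf)
  unfold FlatMod.IsFlatOverAt at h ⊢
  letI m1 : Module (S.presheaf.stalk (f x)) (M.presheaf.stalk x) := FlatMod.moduleStalkOver f M x
  letI m2 : Module (S.presheaf.stalk (f x)) (M'.presheaf.stalk x) := FlatMod.moduleStalkOver f M' x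
  let e : M.presheaf.stalk x ≃ₗ[S.presheaf.stalk (f x)] M'.presheaf.stalk x :=
    { toFun := RefHull.stalkMapₗ φ.hom x
      map_add' := map_add _
      map_smul' := fun r m => (RefHull.stalkMapₗ φ.hom x).map_smul ((f.stalkMap x).hom r) m
      invFun := (Equiv.ofBijective _ hbij).symm
      left_inv := (Equiv.ofBijective _ hbij).left_inv
      right_inv := (Equiv.ofBijective _ hbij).right_inv }
  haveI : Module.Flat (S.presheaf.stalk (f x)) (M.presheaf.stalk x) := h
  exact Module.Flat.of_linearEquiv e.symm

theorem isFlatOver_pullback_symm {X Y S : Scheme.{u}} (f : X ⟶ S) (g : Y ⟶ S)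
    (G : Y.Modules) (hG : Coh.IsQCoh G) (h : FlatMod.IsFlatOver g G) :
    FlatMod.IsFlatOver (pullback.fst f g) ((Scheme.Modules.pullback (pullback.snd f g)).obj G) := by
  haveI : G.IsQuasicoherent := hG
  intro z
  have h0 := Groth.Agent.Lib.Helper22.FlatBC.isFlatOver_pullback g f G hG h
  have hN : Coh.IsQCoh ((Scheme.Modules.pullback (pullback.fst g f)).obj G) :=
    (inferInstance : ((Scheme.Modules.pullback (pullback.fst g f)).obj G).IsQuasicoherent)
  have h1 := (Groth.Agent.S9350.result (pullbackSymmetry f g).hom (pullback.snd g f)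
    ((Scheme.Modules.pullback (pullback.fst g f)).obj G) hN z (Flat.stalkMap _ z)).mp
    (h0 ((pullbackSymmetry f g).hom z))
  have hs : (pullbackSymmetry f g).hom ≫ pullback.snd g f = pullback.fst f g :=
    pullbackSymmetry_hom_comp_snd f g
  have hf : (pullbackSymmetry f g).hom ≫ pullback.fst g f = pullback.snd f g :=
    pullbackSymmetry_hom_comp_fst f g
  rw [hs] at h1
  let φ : (Scheme.Modules.pullback (pullbackSymmetry f g).hom).obj
      ((Scheme.Modules.pullback (pullback.fst g f)).obj G) ≅
      (Scheme.Modules.pullback (pullback.snd f g)).obj G :=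
    (Scheme.Modules.pullbackComp (pullbackSymmetry f g).hom (pullback.fst g f)).app G ≪≫
      (Scheme.Modules.pullbackCongr hf).app G
  exact isFlatOverAt_of_iso _ φ z h1

end Groth.Agent.Lib.Helper29.Rc
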