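import Groth.Agent.Lib.Helper29.RaJ
import Groth.Agent.Lib.Helper29.RcA

/-!
# Field base change of weakly associated points with stalkwise Noetherian hypothesis (helper29)
(variants of `Ra.transfer_gen`, `Ra.main_field`)
-/

set_option autoImplicit false
universe u
open CategoryTheory CategoryTheory.Limits AlgebraicGeometry TensorProduct

namespace Groth.Agent.Lib.Helper29.Rc

open Groth.Agent.Lib.Helper51 Groth.Agent.Lib.Helper73 Groth.Agent.Lib.Helper29.WaBc
open Groth.Agent.Lib.Helper29.Ra

section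

variable {k : Type u} [Field k] {X : Scheme.{u}} (f : X ⟶ Spec (CommRingCat.of k)) (x : X)
  [Algebra k (X.presheaf.stalk x)]
  (hψ : Spec.map (CommRingCat.ofHom (algebraMap k (X.presheaf.stalk x))) = X.fromSpecStalk x ≫ f)
  (K : Type u) [Field K] [Algebra k K]

variable (F : X.Modules) [F.IsQuasicoherent] (q : PrimeSpectrum ((X.presheaf.stalk x) ⊗[k] K))

include hψ in
theorem transfer_gen' (hN : ∀ x : X, IsNoetherianRing (X.presheaf.stalk x))
    (hy : Curv2.IsWeakAssPoint ((Scheme.Modules.pullback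
      (pullback.fst f (Spec.map (CommRingCat.ofHom (algebraMap k K))))).obj F) (jmap f x hψ K q))
    (hqx : pullback.fst f (Spec.map (CommRingCat.ofHom (algebraMap k K))) (jmap f x hψ K q) = x) :
    Curv2.IsWeakAssPoint F
      (pullback.fst f (Spec.map (CommRingCat.ofHom (algebraMap k K))) (jmap f x hψ K q)) ∧
    ∀ P : Ideal ((pullback f (Spec.map (CommRingCat.ofHom (algebraMap k K)))).presheaf.stalk
        (jmap f x hψ K q)), P.IsPrime →
      (IsLocalRing.maximalIdeal (X.presheaf.stalk
        (pullback.fst f (Spec.map (CommRingCat.ofHom (algebraMap k K))) (jmap f x hψ K q)))).map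
        ((pullback.fst f (Spec.map (CommRingCat.ofHom (algebraMap k K)))).stalkMap
          (jmap f x hψ K q)).hom ≤ P →
      P = IsLocalRing.maximalIdeal _ := by
  obtain ⟨bcF, hbcF⟩ : ∃ g, g = pullback.fst f (Spec.map (CommRingCat.ofHom (algebraMap k K))) :=
    ⟨_, rfl⟩
  obtain ⟨j, hj⟩ : ∃ g, g = jmap f x hψ K := ⟨_, rfl⟩
  haveI : Flat j := hj ▸ inferInstance
  haveI : IsPreimmersion j := hj ▸ inferInstance
  haveI : Flat bcF := hbcF ▸ inferInstance
  have hsq : j ≫ bcF = specAlg (X.presheaf.stalk x) ((X.presheaf.stalk x) ⊗[k] K) ≫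
      X.fromSpecStalk x := by rw [hj, hbcF, jmap_fst]
  rw [← hbcF, ← hj] at hy hqx ⊢
  obtain ⟨m, hm⟩ := hy
  letI := (bcF.stalkMap (j q)).hom.toAlgebra
  obtain ⟨e⟩ := Groth.Agent.Lib.Lead.PullbackAff.nonempty_stalk_pullback_equiv bcF F (j q)
  have hm' : ∃ m' : ((pullback f (Spec.map (CommRingCat.ofHom (algebraMap k K)))).presheaf.stalk (j q))
      ⊗[X.presheaf.stalk (bcF (j q))] (F.presheaf.stalk (bcF (j q))),
      Ideal.radical (LinearMap.ker (LinearMap.toSpanSingleton _ _ m')) =
        IsLocalRing.maximalIdeal ((pullback f (Spec.map (CommRingCat.ofHom (algebraMap k K)))).presheaf.stalk (j q)) := by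
    refine ⟨e m, ?_⟩
    rw [← hm]
    congr 1
    ext b
    simp only [LinearMap.mem_ker, LinearMap.toSpanSingleton_apply]
    rw [← map_smul, LinearEquiv.map_eq_zero_iff]
  -- the ring isomorphisms
  have hbij := bijective_stalkMap_of_flat_of_isPreimmersion j q
  let εq := RingEquiv.ofBijective (j.stalkMap q).hom hbij
  let σT := (Spec.stalkIso (CommRingCat.of ((X.presheaf.stalk x) ⊗[k] K)) q).commRingCatIsoToRingEquiv
  let EB := εq.trans σT
  let sA := specAlg (X.presheaf.stalk x) ((X.presheaf.stalk x) ⊗[k] K)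
  have hpt : (j ≫ bcF) q = (sA ≫ X.fromSpecStalk x) q := by rw [hsq]
  let τ := (X.presheaf.stalkCongr (.of_eq hpt)).commRingCatIsoToRingEquiv
  have hbijι := bijective_stalkMap_of_flat_of_isPreimmersion (X.fromSpecStalk x) (sA q)
  let εA := RingEquiv.ofBijective ((X.fromSpecStalk x).stalkMap (sA q)).hom hbijι
  let σA := (Spec.stalkIso (CommRingCat.of (X.presheaf.stalk x)) (sA q)).commRingCatIsoToRingEquiv
  let EA := τ.trans (εA.trans σA)
  have hcomp : ∀ a₀ : X.presheaf.stalk (bcF (j q)), EB ((bcF.stalkMap (j q)).hom a₀) =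
      Localization.localRingHom
        (q.asIdeal.comap (algebraMap (X.presheaf.stalk x) ((X.presheaf.stalk x) ⊗[k] K))) q.asIdeal
        (algebraMap (X.presheaf.stalk x) ((X.presheaf.stalk x) ⊗[k] K)) rfl (EA a₀) := by
    intro a₀
    have h1 : (j.stalkMap q).hom ((bcF.stalkMap (j q)).hom a₀) = ((j ≫ bcF).stalkMap q).hom a₀ := by
      rw [Scheme.Hom.stalkMap_comp]; rfl
    have h2 : ((j ≫ bcF).stalkMap q).hom a₀ =
        ((sA ≫ X.fromSpecStalk x).stalkMap q).hom (τ a₀) := by
      rw [Scheme.Hom.stalkMap_congr_hom _ _ hsq q]; rfl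
    have h3 : ((sA ≫ X.fromSpecStalk x).stalkMap q).hom (τ a₀) =
        (sA.stalkMap q).hom (εA (τ a₀)) := by
      rw [Scheme.Hom.stalkMap_comp]; rfl
    change σT ((j.stalkMap q).hom _) = _
    rw [h1, h2, h3]
    have := stalkIso_stalkMap_apply (X.presheaf.stalk x) (R := (X.presheaf.stalk x) ⊗[k] K) q
    exact this (εA (τ a₀))
  -- the prime lies over the maximal ideal
  have hq : q.asIdeal.comap (algebraMap (X.presheaf.stalk x) ((X.presheaf.stalk x) ⊗[k] K)) =
      IsLocalRing.maximalIdeal (X.presheaf.stalk x) := by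
    have h1 : X.fromSpecStalk x (sA q) = X.fromSpecStalk x (IsLocalRing.closedPoint _) := by
      have h0 : X.fromSpecStalk x (sA q) = x := hpt.symm.trans hqx
      rw [Scheme.fromSpecStalk_closedPoint]
      exact h0
    have h2 := (X.fromSpecStalk x).isEmbedding.injective h1
    exact congrArg PrimeSpectrum.asIdeal h2
  have hflat : (bcF.stalkMap (j q)).hom.Flat := Flat.stalkMap bcF (j q)
  haveI := hN (bcF (j q))
  exact gen_of_equivs q.asIdeal hq _ _ (bcF.stalkMap (j q)).hom hflat EA EB hcomp _ hm'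

end

theorem main_field' (k : Type u) [Field k] (K : Type u) [Field K] [Algebra k K]
    {X : Scheme.{u}} (c : X ⟶ Spec (CommRingCat.of k)) (hN : ∀ x : X, IsNoetherianRing (X.presheaf.stalk x))
    (F : X.Modules) (hF : Coh.IsQCoh F)
    (y : ↥(pullback c (Spec.map (CommRingCat.ofHom (algebraMap k K))))) :
    Curv2.IsWeakAssPoint ((Scheme.Modules.pullback
        (pullback.fst c (Spec.map (CommRingCat.ofHom (algebraMap k K))))).obj F) y ↔
      Curv2.IsWeakAssPoint F (pullback.fst c (Spec.map (CommRingCat.ofHom (algebraMap k K))) y) ∧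
      ∀ y' : ↥(pullback c (Spec.map (CommRingCat.ofHom (algebraMap k K)))),
        pullback.fst c (Spec.map (CommRingCat.ofHom (algebraMap k K))) y' =
          pullback.fst c (Spec.map (CommRingCat.ofHom (algebraMap k K))) y → y' ⤳ y → y' = y := by
  haveI : F.IsQuasicoherent := hF
  constructor
  · intro hy
    obtain ⟨x, hx⟩ : ∃ x, x = pullback.fst c (Spec.map (CommRingCat.ofHom (algebraMap k K))) y :=
      ⟨_, rfl⟩
    letI : Algebra k (X.presheaf.stalk x) :=
      ((X.presheaf.germ ⊤ x trivial).hom.comp (Coh.toGlobal c)).toAlgebra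
    have hψ : Spec.map (CommRingCat.ofHom (algebraMap k (X.presheaf.stalk x))) =
        X.fromSpecStalk x ≫ c := specMap_stalkMapOf c x
    have hy' : pullback.fst c (Spec.map (CommRingCat.ofHom (algebraMap k K))) y = x := by
      rw [hx]
    obtain ⟨w, hw⟩ := exists_stalkBcMap_eq c x hψ K y hy'
    have hq : jmap c x hψ K ((pullbackSpecIso k (X.presheaf.stalk x) K).hom w) = y := by
      have h1 : (pullbackSpecIso k (X.presheaf.stalk x) K).inv
          ((pullbackSpecIso k (X.presheaf.stalk x) K).hom w) = w := by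
        rw [← Scheme.Hom.comp_apply, Iso.hom_inv_id]; rfl
      rw [jmap, Scheme.Hom.comp_apply, h1, hw]
    have hy2 : Curv2.IsWeakAssPoint ((Scheme.Modules.pullback
        (pullback.fst c (Spec.map (CommRingCat.ofHom (algebraMap k K))))).obj F)
        (jmap c x hψ K ((pullbackSpecIso k (X.presheaf.stalk x) K).hom w)) := by
      rw [hq]; exact hy
    have hqx : pullback.fst c (Spec.map (CommRingCat.ofHom (algebraMap k K)))
        (jmap c x hψ K ((pullbackSpecIso k (X.presheaf.stalk x) K).hom w)) = x := by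
      rw [hq, hy']
    have key := transfer_gen' c x hψ K F ((pullbackSpecIso k (X.presheaf.stalk x) K).hom w) hN hy2 hqx
    rw [hq] at key
    exact ⟨key.1, generic_in_fibre_of_prime _ y key.2⟩
  · rintro ⟨hs, hgen⟩
    exact Groth.Agent.Lib.Helper22.WeakAssPull.isWeakAssPoint_pullback _ F hF y
      (Flat.stalkMap _ y) hgen hs

end Groth.Agent.Lib.Helper29.Rc
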