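import Groth.Agent.Lib.Helper29.RcB

/-!
# Relative assassin under base change for a general cartesian square, with stalkwise Noetherian
fibre (variant of `Ra.main'`) (helper29)
-/

set_option autoImplicit false
universe u
open CategoryTheory CategoryTheory.Limits AlgebraicGeometry TensorProduct

namespace Groth.Agent.Lib.Helper29.Rc

open Groth.Agent.Lib.Helper29.Ra

theorem main'' {P X S S' : Scheme.{u}} {g' : P ⟶ X} {f' : P ⟶ S'} {f : X ⟶ S} {g : S' ⟶ S}
    (hc : IsPullback g' f' f g)
    (F : X.Modules) (hF : Coh.IsQCoh F) (x' : ↥P)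
    (hN : ∀ z : ↥(f.fiber (g (f' x'))), IsNoetherianRing ((f.fiber (g (f' x'))).presheaf.stalk z))
    (hx : f (g' x') = g (f' x')) :
    Curv2.IsWeakAssPoint
        ((Scheme.Modules.pullback (f'.fiberι (f' x'))).obj
          ((Scheme.Modules.pullback g').obj F))
        (f'.asFiber x') ↔
      Curv2.IsWeakAssPoint ((Scheme.Modules.pullback (f.fiberι (g (f' x')))).obj F)
          ((f.fiberHomeo (g (f' x'))).symm ⟨g' x', hx⟩) ∧
        ∀ x'' : ↥P, f' x'' = f' x' →
          g' x'' = g' x' → x'' ⤳ x' → x'' = x' := by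
  haveI : F.IsQuasicoherent := hF
  obtain ⟨h, hι, hpb⟩ := exists_h' hc x'
  letI : Algebra (S.residueField (g (f' x'))) (S'.residueField (f' x')) :=
    (g.residueFieldMap (f' x')).hom.toAlgebra
  let e := hpb.isoPullback
  have he1 : e.hom ≫ pullback.fst _ _ = h := hpb.isoPullback_hom_fst
  have hG : Coh.IsQCoh ((Scheme.Modules.pullback (f.fiberι (g (f' x')))).obj F) :=
    (inferInstance : ((Scheme.Modules.pullback (f.fiberι (g (f' x')))).obj F).IsQuasicoherent)
  have key := main_field' (S.residueField (g (f' x')))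
    (S'.residueField (f' x')) (f.fiberToSpecResidueField (g (f' x'))) hN
    ((Scheme.Modules.pullback (f.fiberι (g (f' x')))).obj F) hG
    (e.hom (f'.asFiber x'))
  -- abbreviations
  obtain ⟨pr, hpr⟩ : ∃ m, m = pullback.fst (f.fiberToSpecResidueField (g (f' x')))
      (Spec.map (g.residueFieldMap (f' x'))) := ⟨_, rfl⟩
  obtain ⟨ι, hιdef⟩ : ∃ m, m = f.fiberι (g (f' x')) := ⟨_, rfl⟩
  obtain ⟨ι', hι'def⟩ : ∃ m, m = f'.fiberι (f' x') := ⟨_, rfl⟩
  obtain ⟨z', hz'def⟩ : ∃ z, z = f'.asFiber x' := ⟨_, rfl⟩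
  rw [← hpr] at he1
  rw [← hιdef, ← hι'def] at hι
  have hz' : ι' z' = x' := by rw [hι'def, hz'def]; exact Scheme.Hom.fiberι_asFiber _ _
  have hιinj : Function.Injective ι := by rw [hιdef]; exact (f.fiberι _).isEmbedding.injective
  have hι'inj : Function.Injective ι' := by
    rw [hι'def]; exact (f'.fiberι _).isEmbedding.injective
  have heq : ι' ≫ g' = e.hom ≫ pr ≫ ι := by
    rw [← Category.assoc, he1, hι]
  let φ : (Scheme.Modules.pullback ι').obj ((Scheme.Modules.pullback g').obj F) ≅
      (Scheme.Modules.pullback e.hom).obj ((Scheme.Modules.pullback pr).obj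
        ((Scheme.Modules.pullback ι).obj F)) :=
    (Scheme.Modules.pullbackComp ι' g').app F ≪≫
    (Scheme.Modules.pullbackCongr heq).app F ≪≫
    ((Scheme.Modules.pullbackComp e.hom (pr ≫ ι)).app F).symm ≪≫
    ((Scheme.Modules.pullback e.hom).mapIso ((Scheme.Modules.pullbackComp pr ι).app F)).symm
  have step1 : Curv2.IsWeakAssPoint ((Scheme.Modules.pullback ι').obj
      ((Scheme.Modules.pullback g').obj F)) z' ↔
      Curv2.IsWeakAssPoint ((Scheme.Modules.pullback e.hom).obj ((Scheme.Modules.pullback pr).obj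
        ((Scheme.Modules.pullback ι).obj F))) z' :=
    ⟨isWeakAssPoint_of_iso φ _, isWeakAssPoint_of_iso φ.symm _⟩
  have hN : Coh.IsQCoh ((Scheme.Modules.pullback pr).obj ((Scheme.Modules.pullback ι).obj F)) :=
    (inferInstance : ((Scheme.Modules.pullback pr).obj
      ((Scheme.Modules.pullback ι).obj F)).IsQuasicoherent)
  have step2 := isWeakAssPoint_pullback_iso e _ hN z'
  rw [← hz'def, ← hι'def, ← hιdef]
  rw [← hιdef, ← hz'def] at key
  have key' : Curv2.IsWeakAssPoint ((Scheme.Modules.pullback pr).obj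
      ((Scheme.Modules.pullback ι).obj F)) (e.hom z') ↔
      Curv2.IsWeakAssPoint ((Scheme.Modules.pullback ι).obj F) (pr (e.hom z')) ∧
      ∀ y', pr y' = pr (e.hom z') → y' ⤳ e.hom z' → y' = e.hom z' := by
    rw [hpr]; exact key
  refine step1.trans (step2.trans (key'.trans ?_))
  have hprz : ∀ z, pr (e.hom z) = h z := by
    intro z
    have h0 : (e.hom ≫ pr) z = h z := by rw [he1]
    exact h0
  have hιh : ∀ z, ι (h z) = g' (ι' z) := by
    intro z
    have h0 : (h ≫ ι) z = (ι' ≫ g') z := by rw [hι]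
    exact h0
  have hpt : pr (e.hom z') = (f.fiberHomeo (g (f' x'))).symm ⟨g' x', hx⟩ := by
    apply hιinj
    rw [hprz, hιh, hz', hιdef]
    exact (Scheme.Hom.fiberι_fiberHomeo_symm f _ ⟨_, hx⟩).symm
  rw [hpt]
  refine and_congr Iff.rfl ⟨fun hb => ?_, fun hb => ?_⟩
  · intro x'' h1 h2 h3
    obtain ⟨z'', hz''⟩ : ∃ z'', ι' z'' = x'' := by
      have : x'' ∈ Set.range ι' := by
        rw [hι'def, Scheme.Hom.range_fiberι]; exact h1
      exact this
    have hspec : z'' ⤳ z' := by
      have hind : Topology.IsInducing ι' := by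
        rw [hι'def]; exact (f'.fiberι _).isEmbedding.isInducing
      rw [← hind.specializes_iff, hz'', hz']; exact h3
    have hy1 : pr (e.hom z'') = pr (e.hom z') := by
      apply hιinj
      rw [hprz, hprz, hιh, hιh, hz'', hz', h2]
    have hy2 : e.hom z'' ⤳ e.hom z' := hspec.map e.hom.continuous
    have h4 := hb (e.hom z'') (by rw [← hpt]; exact hy1) hy2
    have h5 : z'' = z' := iso_injective e h4
    rw [← hz'', h5, hz']
  · intro y'' h1 h2
    obtain ⟨z'', hez⟩ : ∃ z'', e.hom z'' = y'' := by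
      refine ⟨e.inv y'', ?_⟩
      have h0 : (e.inv ≫ e.hom) y'' = y'' := by rw [e.inv_hom_id]; rfl
      exact h0
    subst hez
    have hf : f' (ι' z'') = f' x' := by
      have : ι' z'' ∈ Set.range ι' := Set.mem_range_self z''
      rw [hι'def, Scheme.Hom.range_fiberι] at this
      rw [hι'def]; exact this
    have hg : g' (ι' z'') = g' x' := by
      rw [← hιh, ← hprz, h1, ← hpt, hprz, hιh, hz']
    have hs : ι' z'' ⤳ x' := by
      have h3 : e.inv (e.hom z'') ⤳ e.inv (e.hom z') := h2.map e.inv.continuous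
      have h4 : ∀ z, e.inv (e.hom z) = z := by
        intro z
        have h0 : (e.hom ≫ e.inv) z = z := by rw [e.hom_inv_id]; rfl
        exact h0
      rw [h4, h4] at h3
      have h5 := h3.map ι'.continuous
      rwa [hz'] at h5
    have h6 := hb (ι' z'') hf hg hs
    have h7 : z'' = z' := hι'inj (by rw [h6, hz'])
    rw [h7]

end Groth.Agent.Lib.Helper29.Rc
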