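import Groth.Agent.Lib.Helper29.RcC
import Groth.Agent.Lib.Helper29.QCohUnit

/-!
# Associated points of `F ⊗_S G` on `X ×_S Y` for `G` flat over `S` (helper29)
-/

set_option autoImplicit false
set_option linter.style.haveILetI false
universe u
open CategoryTheory CategoryTheory.Limits AlgebraicGeometry TopologicalSpace TensorProduct

namespace Groth.Agent.Lib.Helper29.Rc

open Groth.Agent.Lib.Helper29.Ra Groth.Agent.Lib.Helper29.Rb Groth.Agent.Lib.Helper29.QCohLoc

/-- stalks of a fibre of a morphism from a locally Noetherian scheme are Noetherian -/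
theorem isNoetherianRing_stalk_fiber {Y S : Scheme.{u}} [IsLocallyNoetherian Y] (g : Y ⟶ S) (s : S)
    (z : g.fiber s) : IsNoetherianRing ((g.fiber s).presheaf.stalk z) :=
  isNoetherianRing_of_surjective _ _ ((g.fiberι s).stalkMap z).hom
    ((g.fiberι s).stalkMap_surjective z)

/-- a point of the relative assassin lying over an associated point of the base is associated -/
theorem isAssPoint_of_relAss {Y S : Scheme.{u}} [IsLocallyNoetherian S] (g : Y ⟶ S) (G : Y.Modules)
    (y : Y) (hfl : FlatMod.IsFlatOverAt g G y) (hy : y ∈ MoreMor.relAss g G)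
    (hs : Curv2.IsAssPoint (Coh.structureModule S) (g y)) : Curv2.IsAssPoint G y := by
  letI alg : Algebra (S.presheaf.stalk (g y)) (Y.presheaf.stalk y) := (g.stalkMap y).hom.toAlgebra
  letI modR : Module (S.presheaf.stalk (g y)) (G.presheaf.stalk y) :=
    FlatMod.moduleStalkOver g G y
  haveI : IsScalarTower (S.presheaf.stalk (g y)) (Y.presheaf.stalk y) (G.presheaf.stalk y) :=
    IsScalarTower.of_algebraMap_smul fun r m => rfl
  haveI : Module.Flat (S.presheaf.stalk (g y)) (G.presheaf.stalk y) := hfl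
  haveI : IsLocalHom (algebraMap (S.presheaf.stalk (g y)) (Y.presheaf.stalk y)) :=
    inferInstanceAs (IsLocalHom (g.stalkMap y).hom)
  have h1 : IsLocalRing.maximalIdeal (S.presheaf.stalk (g y)) ∈
      associatedPrimes (S.presheaf.stalk (g y)) (S.presheaf.stalk (g y)) :=
    (isAssociatedPrime_congr (stalkEquiv S (g y)) _).mpr hs
  have h2 := (flat_ass_mod (R := S.presheaf.stalk (g y)) (S := Y.presheaf.stalk y)
    (G.presheaf.stalk y) (S.presheaf.stalk (g y))).mpr ⟨h1, hy⟩
  exact (isAssociatedPrime_congr (TensorProduct.AlgebraTensorModule.rid (S.presheaf.stalk (g y))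
    (Y.presheaf.stalk y) (G.presheaf.stalk y)) _).mp h2

section

variable {X Y S : Scheme.{u}} (f : X ⟶ S) (g : Y ⟶ S)
    [IsLocallyNoetherian X] [IsLocallyNoetherian Y]
    (F : X.Modules) (hF : Coh.IsQCoh F) (G : Y.Modules) (hG : Coh.IsQCoh G)
    (hGfl : FlatMod.IsFlatOver g G)

theorem comm_apply (z : ↥(pullback f g)) :
    g (pullback.snd f g z) = f (pullback.fst f g z) := by
  have h0 : (pullback.snd f g ≫ g) z = (pullback.fst f g ≫ f) z := by rw [pullback.condition]
  exact h0

include hG in
theorem mem_relAss_fst_iff (z : ↥(pullback f g)) :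
    z ∈ MoreMor.relAss (pullback.fst f g) ((Scheme.Modules.pullback (pullback.snd f g)).obj G) ↔
      pullback.snd f g z ∈ MoreMor.relAss g G ∧
      ∀ z'' : ↥(pullback f g), pullback.fst f g z'' = pullback.fst f g z →
        pullback.snd f g z'' = pullback.snd f g z → z'' ⤳ z → z'' = z := by
  haveI : G.IsQuasicoherent := hG
  have hc : IsPullback (pullback.snd f g) (pullback.fst f g) g f :=
    (IsPullback.of_hasPullback f g).flip
  have hx := comm_apply f g z
  rw [bridge (pullback.fst f g) _ z,
    main'' hc G hG z (fun w => isNoetherianRing_stalk_fiber g _ w) hx,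
    ← bridge_s g G (pullback.snd f g z) _ hx]

include hF hG hGfl in
theorem isAssPoint_tensorS_iff (z : ↥(pullback f g)) :
    Curv2.IsAssPoint (CohB1.tensorMod ((Scheme.Modules.pullback (pullback.fst f g)).obj F)
      ((Scheme.Modules.pullback (pullback.snd f g)).obj G)) z ↔
      Curv2.IsAssPoint F (pullback.fst f g z) ∧
      pullback.snd f g z ∈ MoreMor.relAss g G ∧
      ∀ z'' : ↥(pullback f g), pullback.fst f g z'' = pullback.fst f g z →
        pullback.snd f g z'' = pullback.snd f g z → z'' ⤳ z → z'' = z := by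
  haveI : F.IsQuasicoherent := hF
  rw [isAssPoint_tensor_iff (pullback.fst f g) _ F z (isFlatOver_pullback_symm f g G hG hGfl z),
    mem_relAss_fst_iff f g G hG z]

include hF hG hGfl in
theorem snd_mem_ass [IsLocallyNoetherian S]
    (hAss : ∀ x ∈ AssSch.Ass F, f x ∈ AssSch.Ass (Coh.structureModule S))
    (z : ↥(pullback f g))
    (hz : z ∈ AssSch.Ass (CohB1.tensorMod ((Scheme.Modules.pullback (pullback.fst f g)).obj F)
      ((Scheme.Modules.pullback (pullback.snd f g)).obj G))) :
    pullback.snd f g z ∈ AssSch.Ass G := by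
  obtain ⟨hx, hy, -⟩ := (isAssPoint_tensorS_iff f g F hF G hG hGfl z).mp hz
  have hs : Curv2.IsAssPoint (Coh.structureModule S) (f (pullback.fst f g z)) := hAss _ hx
  exact isAssPoint_of_relAss g G _ (hGfl _) hy (by rw [comm_apply f g z]; exact hs)

include hF hG hGfl in
theorem noEmbedded_of_fibres (hFne : AssSch.NoEmbedded F)
    (hGne : ∀ s : ↥S, AssSch.NoEmbedded ((Scheme.Modules.pullback (g.fiberι s)).obj G)) :
    AssSch.NoEmbedded (CohB1.tensorMod ((Scheme.Modules.pullback (pullback.fst f g)).obj F)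
      ((Scheme.Modules.pullback (pullback.snd f g)).obj G)) := by
  haveI : G.IsQuasicoherent := hG
  intro z hz z' hz' hsp
  obtain ⟨hx, hy, hgen⟩ := (isAssPoint_tensorS_iff f g F hF G hG hGfl z).mp hz
  obtain ⟨hx', hy', -⟩ := (isAssPoint_tensorS_iff f g F hF G hG hGfl z').mp hz'
  have h1 : pullback.fst f g z = pullback.fst f g z' :=
    hFne _ hx _ hx' (hsp.map (pullback.fst f g).base.hom.continuous)
  have hys : g (pullback.snd f g z) = f (pullback.fst f g z) := comm_apply f g z
  have hy's : g (pullback.snd f g z') = f (pullback.fst f g z) := by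
    rw [comm_apply f g z', ← h1]
  have e1 : g.fiberι _ ((g.fiberHomeo (f (pullback.fst f g z))).symm ⟨pullback.snd f g z, hys⟩) =
      pullback.snd f g z := g.fiberι_fiberHomeo_symm _ _
  have e2 : g.fiberι _ ((g.fiberHomeo (f (pullback.fst f g z))).symm ⟨pullback.snd f g z', hy's⟩) =
      pullback.snd f g z' := g.fiberι_fiberHomeo_symm _ _
  have a1 := (isAssPoint_fibre_iff g G _
    ((g.fiberHomeo (f (pullback.fst f g z))).symm ⟨pullback.snd f g z, hys⟩)).mpr
    (by rw [e1]; exact hy)
  have a2 := (isAssPoint_fibre_iff g G _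
    ((g.fiberHomeo (f (pullback.fst f g z))).symm ⟨pullback.snd f g z', hy's⟩)).mpr
    (by rw [e2]; exact hy')
  have hsp12 : (g.fiberHomeo (f (pullback.fst f g z))).symm ⟨pullback.snd f g z', hy's⟩ ⤳
      (g.fiberHomeo (f (pullback.fst f g z))).symm ⟨pullback.snd f g z, hys⟩ :=
    ((g.fiberι _).isEmbedding.isInducing.specializes_iff).mp
      (by rw [e1, e2]; exact hsp.map (pullback.snd f g).base.hom.continuous)
  have h2 := hGne _ _ a1 _ a2 hsp12
  have h3 : pullback.snd f g z' = pullback.snd f g z := by rw [← e1, ← e2, h2]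
  exact (hgen z' h1.symm h3 hsp).symm

include hF hG hGfl in
theorem noEmbedded_of_noEmbedded [IsLocallyNoetherian S]
    (hAss : ∀ x ∈ AssSch.Ass F, f x ∈ AssSch.Ass (Coh.structureModule S))
    (hFne : AssSch.NoEmbedded F) (hGne : AssSch.NoEmbedded G) :
    AssSch.NoEmbedded (CohB1.tensorMod ((Scheme.Modules.pullback (pullback.fst f g)).obj F)
      ((Scheme.Modules.pullback (pullback.snd f g)).obj G)) := by
  intro z hz z' hz' hsp
  obtain ⟨hx, -, hgen⟩ := (isAssPoint_tensorS_iff f g F hF G hG hGfl z).mp hz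
  obtain ⟨hx', -, -⟩ := (isAssPoint_tensorS_iff f g F hF G hG hGfl z').mp hz'
  have h1 : pullback.fst f g z = pullback.fst f g z' :=
    hFne _ hx _ hx' (hsp.map (pullback.fst f g).base.hom.continuous)
  have b1 := snd_mem_ass f g F hF G hG hGfl hAss z hz
  have b2 := snd_mem_ass f g F hF G hG hGfl hAss z' hz'
  have h3 : pullback.snd f g z = pullback.snd f g z' :=
    hGne _ b1 _ b2 (hsp.map (pullback.snd f g).base.hom.continuous)
  exact (hgen z' h1.symm h3.symm hsp).symm

end

end Groth.Agent.Lib.Helper29.Rc
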