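import Groth.Agent.Lib.Helper29.RcD
import Groth.Agent.Lib.Helper40.NisGen

/-!
# Associated points of `Spec κ(x) ×_S Spec κ(y)` are its generic points (helper29)
-/

set_option autoImplicit false
set_option linter.style.haveILetI false
universe u
open CategoryTheory CategoryTheory.Limits AlgebraicGeometry TopologicalSpace TensorProduct

namespace Groth.Agent.Lib.Helper29.Rc

open Groth.Agent.Lib.Helper29.Ra Groth.Agent.Lib.Helper29.Rb Groth.Agent.Lib.Helper29.QCohLoc

/-- the stalks of the spectrum of a field have zero maximal ideal -/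
theorem maximalIdeal_stalk_spec_field (K : CommRingCat.{u}) (hK : IsField K) (u : ↥(Spec K)) :
    IsLocalRing.maximalIdeal ((Spec K).presheaf.stalk u) = ⊥ := by
  letI := hK.toField
  let e := (Spec.stalkIso K u).commRingCatIsoToRingEquiv
  have hp : u.asIdeal = ⊥ := by
    haveI := u.isPrime
    exact (Ideal.eq_bot_or_top u.asIdeal).resolve_right u.isPrime.ne_top
  have h1 : IsLocalRing.maximalIdeal (Localization.AtPrime u.asIdeal) = ⊥ := by
    rw [← IsLocalization.AtPrime.map_eq_maximalIdeal u.asIdeal (Localization.AtPrime u.asIdeal),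
      eq_bot_iff]
    exact Ideal.map_le_iff_le_comap.mpr (hp.le.trans bot_le)
  rw [eq_bot_iff]
  intro r hr
  have h2 : e r ∈ IsLocalRing.maximalIdeal (Localization.AtPrime u.asIdeal) := by
    rw [IsLocalRing.mem_maximalIdeal, mem_nonunits_iff] at hr ⊢
    intro hu
    apply hr
    have := hu.map e.symm
    rwa [RingEquiv.symm_apply_apply] at this
  rw [h1, Ideal.mem_bot] at h2
  rw [Ideal.mem_bot]
  exact (map_eq_zero_iff e e.injective).mp h2

/-- over a point whose local ring has zero maximal ideal, the relative assassin is the assassin -/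
theorem mem_relAss_iff_of_maximalIdeal_eq_bot {T B : Scheme.{u}} (b : T ⟶ B) (M : T.Modules) (t : T)
    (h : IsLocalRing.maximalIdeal (B.presheaf.stalk (b t)) = ⊥) :
    t ∈ MoreMor.relAss b M ↔ Curv2.IsAssPoint M t := by
  have hI : Ideal.map (b.stalkMap t).hom (IsLocalRing.maximalIdeal (B.presheaf.stalk (b t))) = ⊥ := by
    rw [h, Ideal.map_bot]
  have hcongr : ∀ (I : Ideal (T.presheaf.stalk t)) (_ : I = ⊥),
      IsAssociatedPrime (IsLocalRing.maximalIdeal (T.presheaf.stalk t))
        (M.presheaf.stalk t ⧸ I • (⊤ : Submodule (T.presheaf.stalk t) (M.presheaf.stalk t))) ↔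
      IsAssociatedPrime (IsLocalRing.maximalIdeal (T.presheaf.stalk t)) (M.presheaf.stalk t) := by
    intro I hI
    subst hI
    exact isAssociatedPrime_congr (Submodule.quotEquivOfEqBot _ (by rw [Submodule.bot_smul])) _
  exact hcongr _ hI

end Groth.Agent.Lib.Helper29.Rc
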