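import Groth.Agent.Lib.Helper29.RcE
import Groth.Agent.Lib.Helper22.IsoLocus

/-!
# Associated points of a fibre product of two "points" over a scheme are its generic points
(helper29)
-/

set_option autoImplicit false
set_option linter.style.haveILetI false
universe u
open CategoryTheory CategoryTheory.Limits AlgebraicGeometry TopologicalSpace TensorProduct

namespace Groth.Agent.Lib.Helper29.Rc

open Groth.Agent.Lib.Helper29.Ra Groth.Agent.Lib.Helper29.Rb Groth.Agent.Lib.Helper29.QCohLoc

theorem mem_relAss_iff_of_map_eq_bot {T B : Scheme.{u}} (b : T ⟶ B) (M : T.Modules) (t : T)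
    (hI : Ideal.map (b.stalkMap t).hom (IsLocalRing.maximalIdeal (B.presheaf.stalk (b t))) = ⊥) :
    t ∈ MoreMor.relAss b M ↔ Curv2.IsAssPoint M t := by
  have hcongr : ∀ (I : Ideal (T.presheaf.stalk t)) (_ : I = ⊥),
      IsAssociatedPrime (IsLocalRing.maximalIdeal (T.presheaf.stalk t))
        (M.presheaf.stalk t ⧸ I • (⊤ : Submodule (T.presheaf.stalk t) (M.presheaf.stalk t))) ↔
      IsAssociatedPrime (IsLocalRing.maximalIdeal (T.presheaf.stalk t)) (M.presheaf.stalk t) := by
    intro I hI
    subst hI
    exact isAssociatedPrime_congr (Submodule.quotEquivOfEqBot _ (by rw [Submodule.bot_smul])) _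
  exact hcongr _ hI

theorem isAssociatedPrime_maximalIdeal_self_of_eq_bot (R : Type u) [CommRing R] [IsLocalRing R]
    (h : IsLocalRing.maximalIdeal R = ⊥) : IsAssociatedPrime (IsLocalRing.maximalIdeal R) R := by
  change IsLocalRing.maximalIdeal R ∈ associatedPrimes R R
  rw [mem_associatedPrimes_iff_exists]
  refine ⟨1, ?_⟩
  have hker : LinearMap.ker (LinearMap.toSpanSingleton R R 1) = ⊥ := by
    ext r
    simp [LinearMap.mem_ker, LinearMap.toSpanSingleton_apply]
  rw [hker]
  apply le_antisymm
  · exact (Ideal.IsPrime.radical_le_iff (IsLocalRing.maximalIdeal.isMaximal R).isPrime).mpr bot_le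
  · rw [h]; exact bot_le

theorem isAssPoint_structureModule_of_eq_bot {A : Scheme.{u}} (u : A)
    (h : IsLocalRing.maximalIdeal (A.presheaf.stalk u) = ⊥) :
    Curv2.IsAssPoint (Coh.structureModule A) u :=
  (isAssociatedPrime_congr (stalkEquiv A u) _).mp
    (isAssociatedPrime_maximalIdeal_self_of_eq_bot _ h)

section

variable {A B S : Scheme.{u}} (a : A ⟶ S) (b : B ⟶ S)
  (hA : ∀ u : A, IsLocalRing.maximalIdeal (A.presheaf.stalk u) = ⊥)
  (hB : ∀ v : B, IsLocalRing.maximalIdeal (B.presheaf.stalk v) = ⊥)
  (hA1 : Subsingleton A) (hB1 : Subsingleton B)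

include hA hB hA1 hB1 in
theorem isAssPoint_structureModule_pullback_iff (t : ↥(pullback a b)) :
    Curv2.IsAssPoint (Coh.structureModule (pullback a b)) t ↔
      ∀ t'' : ↥(pullback a b), t'' ⤳ t → t'' = t := by
  haveI hqc' : (Coh.structureModule A).IsQuasicoherent :=
    Groth.Agent.Lib.Helper22.IsoLocus.structureModule_isQuasicoherent A
  have hqc : Coh.IsQCoh (Coh.structureModule A) := hqc'
  have hc : IsPullback (pullback.fst a b) (pullback.snd a b) a b := IsPullback.of_hasPullback a b
  have hx : a (pullback.fst a b t) = b (pullback.snd a b t) := by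
    have h0 : (pullback.fst a b ≫ a) t = (pullback.snd a b ≫ b) t := by rw [pullback.condition]
    exact h0
  -- step 1
  have s1 : Curv2.IsAssPoint (Coh.structureModule (pullback a b)) t ↔
      Curv2.IsAssPoint ((Scheme.Modules.pullback (pullback.fst a b)).obj (Coh.structureModule A)) t := by
    rw [isAssPoint_iff_isWeakAssPoint, isAssPoint_iff_isWeakAssPoint]
    exact ⟨isWeakAssPoint_of_iso
        (Groth.Agent.Lib.Helper40.NisGen.pullbackUnitIso (pullback.fst a b)).symm t,
      isWeakAssPoint_of_iso (Groth.Agent.Lib.Helper40.NisGen.pullbackUnitIso (pullback.fst a b)) t⟩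
  -- step 2
  have s2 := mem_relAss_iff_of_map_eq_bot (pullback.snd a b)
    ((Scheme.Modules.pullback (pullback.fst a b)).obj (Coh.structureModule A)) t
    (by rw [hB, Ideal.map_bot])
  have hN : ∀ z : ↥(a.fiber (b (pullback.snd a b t))),
      IsNoetherianRing ((a.fiber (b (pullback.snd a b t))).presheaf.stalk z) := by
    intro z
    have hf : IsField (A.presheaf.stalk (a.fiberι _ z)) :=
      IsLocalRing.isField_iff_maximalIdeal_eq.mpr (hA _)
    letI := hf.toField
    exact isNoetherianRing_of_surjective _ _ ((a.fiberι _).stalkMap z).hom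
      ((a.fiberι _).stalkMap_surjective z)
  have s3 := bridge (pullback.snd a b)
    ((Scheme.Modules.pullback (pullback.fst a b)).obj (Coh.structureModule A)) t
  have s4 := main'' hc (Coh.structureModule A) hqc t hN hx
  -- step 5
  have hImap : Ideal.map (a.stalkMap (pullback.fst a b t)).hom
      (IsLocalRing.maximalIdeal (S.presheaf.stalk (a (pullback.fst a b t)))) = ⊥ := by
    rw [eq_bot_iff, ← hA (pullback.fst a b t), Ideal.map_le_iff_le_comap]
    have hloc : IsLocalHom (a.stalkMap (pullback.fst a b t)).hom := inferInstance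
    have hcm : Ideal.comap (a.stalkMap (pullback.fst a b t)).hom
        (IsLocalRing.maximalIdeal (A.presheaf.stalk (pullback.fst a b t))) =
        IsLocalRing.maximalIdeal (S.presheaf.stalk (a (pullback.fst a b t))) :=
      ((IsLocalRing.local_hom_TFAE (a.stalkMap (pullback.fst a b t)).hom).out 0 4).mp hloc
    exact hcm.ge
  have s5 : Curv2.IsWeakAssPoint
      ((Scheme.Modules.pullback (a.fiberι (b (pullback.snd a b t)))).obj (Coh.structureModule A))
      ((a.fiberHomeo (b (pullback.snd a b t))).symm ⟨pullback.fst a b t, hx⟩) :=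
    (bridge_s a (Coh.structureModule A) (pullback.fst a b t) _ hx).mp
      ((mem_relAss_iff_of_map_eq_bot a _ _ hImap).mpr
        (isAssPoint_structureModule_of_eq_bot _ (hA _)))
  rw [s1, ← s2, s3, s4]
  constructor
  · rintro ⟨-, hgen⟩ t'' hsp
    exact hgen t'' (Subsingleton.elim _ _) (Subsingleton.elim _ _) hsp
  · intro hgen
    exact ⟨s5, fun t'' _ _ hsp => hgen t'' hsp⟩

end

end Groth.Agent.Lib.Helper29.Rc
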