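import Groth.Agent.Lib.Helper29.RcF

/-!
# Associated points of `F ⊗_S G` as the union of the images of `Ass O_{T(x,y)}` (helper29)
-/

set_option autoImplicit false
set_option linter.style.haveILetI false
universe u
open CategoryTheory CategoryTheory.Limits AlgebraicGeometry TopologicalSpace TensorProduct

namespace Groth.Agent.Lib.Helper29.Rc

open Groth.Agent.Lib.Helper29.Ra Groth.Agent.Lib.Helper29.Rb Groth.Agent.Lib.Helper29.QCohLoc

section

variable {X Y S : Scheme.{u}} (f : X ⟶ S) (g : Y ⟶ S) (x : X) (y : Y)

/-- the canonical morphism `T(x, y) = Spec κ(x) ×_S Spec κ(y) ⟶ X ×_S Y` -/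
noncomputable abbrev tau :
    pullback (X.fromSpecResidueField x ≫ f) (Y.fromSpecResidueField y ≫ g) ⟶ pullback f g :=
  pullback.map (X.fromSpecResidueField x ≫ f) (Y.fromSpecResidueField y ≫ g) f g
    (X.fromSpecResidueField x) (Y.fromSpecResidueField y) (𝟙 S) (Category.comp_id _)
    (Category.comp_id _)

instance : IsPreimmersion (tau f g x y) :=
  MorphismProperty.pullbackMap (P := @IsPreimmersion) (f := X.fromSpecResidueField x ≫ f)
    (g := Y.fromSpecResidueField y ≫ g) (f' := f) (g' := g)
    (i₁ := X.fromSpecResidueField x) (i₂ := Y.fromSpecResidueField y)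
    inferInstance inferInstance rfl rfl

theorem range_tau : Set.range (tau f g x y) =
    {z | pullback.fst f g z = x ∧ pullback.snd f g z = y} := by
  rw [tau, Scheme.Pullback.range_map, Scheme.range_fromSpecResidueField,
    Scheme.range_fromSpecResidueField]
  rfl

theorem fst_tau (t) : pullback.fst f g (tau f g x y t) = x := by
  have : tau f g x y t ∈ Set.range (tau f g x y) := Set.mem_range_self t
  rw [range_tau] at this
  exact this.1

theorem snd_tau (t) : pullback.snd f g (tau f g x y t) = y := by
  have : tau f g x y t ∈ Set.range (tau f g x y) := Set.mem_range_self t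
  rw [range_tau] at this
  exact this.2

theorem generic_iff (t : ↥(pullback (X.fromSpecResidueField x ≫ f) (Y.fromSpecResidueField y ≫ g))) :
    (∀ t'', t'' ⤳ t → t'' = t) ↔
      ∀ z'' : ↥(pullback f g), pullback.fst f g z'' = pullback.fst f g (tau f g x y t) →
        pullback.snd f g z'' = pullback.snd f g (tau f g x y t) →
        z'' ⤳ tau f g x y t → z'' = tau f g x y t := by
  constructor
  · intro h z'' h1 h2 hsp
    rw [fst_tau] at h1
    rw [snd_tau] at h2
    have hz : z'' ∈ Set.range (tau f g x y) := by
      rw [range_tau]; exact ⟨h1, h2⟩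
    obtain ⟨t'', rfl⟩ := hz
    have hsp' : t'' ⤳ t := ((tau f g x y).isEmbedding.isInducing.specializes_iff).mp hsp
    rw [h t'' hsp']
  · intro h t'' hsp
    have h1 := h (tau f g x y t'') (by rw [fst_tau, fst_tau]) (by rw [snd_tau, snd_tau])
      (hsp.map (tau f g x y).base.hom.continuous)
    exact (tau f g x y).isEmbedding.injective h1

theorem isAssPoint_T_iff (t : ↥(pullback (X.fromSpecResidueField x ≫ f) (Y.fromSpecResidueField y ≫ g))) :
    Curv2.IsAssPoint (Coh.structureModule
      (pullback (X.fromSpecResidueField x ≫ f) (Y.fromSpecResidueField y ≫ g))) t ↔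
      ∀ t'', t'' ⤳ t → t'' = t :=
  isAssPoint_structureModule_pullback_iff _ _
    (fun u => maximalIdeal_stalk_spec_field (X.residueField x) (Field.toIsField _) u)
    (fun v => maximalIdeal_stalk_spec_field (Y.residueField y) (Field.toIsField _) v)
    (inferInstance : Subsingleton (PrimeSpectrum (X.residueField x)))
    (inferInstance : Subsingleton (PrimeSpectrum (Y.residueField y))) t

end

end Groth.Agent.Lib.Helper29.Rc
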