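import Groth.Agent.Lib.Helper29.RcG

/-!
# Associated points of `F ⊗_S G`: the two union formulas (helper29)
-/

set_option autoImplicit false
set_option linter.style.haveILetI false
universe u
open CategoryTheory CategoryTheory.Limits AlgebraicGeometry TopologicalSpace TensorProduct

namespace Groth.Agent.Lib.Helper29.Rc

open Groth.Agent.Lib.Helper29.Ra Groth.Agent.Lib.Helper29.Rb Groth.Agent.Lib.Helper29.QCohLoc

/-- an associated point of a module flat over a locally Noetherian base is in the relative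
assassin -/
theorem relAss_of_isAssPoint {Y S : Scheme.{u}} [IsLocallyNoetherian S] (g : Y ⟶ S) (G : Y.Modules)
    (y : Y) (hfl : FlatMod.IsFlatOverAt g G y) (hy : Curv2.IsAssPoint G y) :
    y ∈ MoreMor.relAss g G := by
  letI alg : Algebra (S.presheaf.stalk (g y)) (Y.presheaf.stalk y) := (g.stalkMap y).hom.toAlgebra
  letI modR : Module (S.presheaf.stalk (g y)) (G.presheaf.stalk y) :=
    FlatMod.moduleStalkOver g G y
  haveI : IsScalarTower (S.presheaf.stalk (g y)) (Y.presheaf.stalk y) (G.presheaf.stalk y) :=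
    IsScalarTower.of_algebraMap_smul fun r m => rfl
  haveI : Module.Flat (S.presheaf.stalk (g y)) (G.presheaf.stalk y) := hfl
  haveI : IsLocalHom (algebraMap (S.presheaf.stalk (g y)) (Y.presheaf.stalk y)) :=
    inferInstanceAs (IsLocalHom (g.stalkMap y).hom)
  have h2 : IsLocalRing.maximalIdeal (Y.presheaf.stalk y) ∈ associatedPrimes (Y.presheaf.stalk y)
      ((G.presheaf.stalk y) ⊗[S.presheaf.stalk (g y)] (S.presheaf.stalk (g y))) :=
    (isAssociatedPrime_congr (TensorProduct.AlgebraTensorModule.rid (S.presheaf.stalk (g y))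
      (Y.presheaf.stalk y) (G.presheaf.stalk y)) _).mpr hy
  exact ((flat_ass_mod (R := S.presheaf.stalk (g y)) (S := Y.presheaf.stalk y)
    (G.presheaf.stalk y) (S.presheaf.stalk (g y))).mp h2).2

section

variable {X Y S : Scheme.{u}} (f : X ⟶ S) (g : Y ⟶ S)
    [IsLocallyNoetherian X] [IsLocallyNoetherian Y]
    (F : X.Modules) (hF : Coh.IsQCoh F) (G : Y.Modules) (hG : Coh.IsQCoh G)
    (hGfl : FlatMod.IsFlatOver g G)

include hF hG hGfl in
/-- `z` is associated to `F ⊗_S G` iff it is the image of an associated point of `T(p z, q z)`,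
`p z` is associated to `F` and `q z` is in the relative assassin of `G`. -/
theorem isAssPoint_tensorS_iff_exists (z : ↥(pullback f g)) :
    Curv2.IsAssPoint (CohB1.tensorMod ((Scheme.Modules.pullback (pullback.fst f g)).obj F)
      ((Scheme.Modules.pullback (pullback.snd f g)).obj G)) z ↔
      ∃ (x : X) (y : Y), Curv2.IsAssPoint F x ∧ y ∈ MoreMor.relAss g G ∧
        ∃ t, Curv2.IsAssPoint (Coh.structureModule
          (pullback (X.fromSpecResidueField x ≫ f) (Y.fromSpecResidueField y ≫ g))) t ∧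
          tau f g x y t = z := by
  rw [isAssPoint_tensorS_iff f g F hF G hG hGfl z]
  constructor
  · rintro ⟨hx, hy, hgen⟩
    refine ⟨pullback.fst f g z, pullback.snd f g z, hx, hy, ?_⟩
    have hz : z ∈ Set.range (tau f g (pullback.fst f g z) (pullback.snd f g z)) := by
      rw [range_tau]; exact ⟨rfl, rfl⟩
    obtain ⟨t, ht⟩ := hz
    refine ⟨t, ?_, ht⟩
    rw [isAssPoint_T_iff, generic_iff, ht]
    exact hgen
  · rintro ⟨x, y, hx, hy, t, ht, rfl⟩
    rw [isAssPoint_T_iff, generic_iff] at ht
    refine ⟨by rw [fst_tau]; exact hx, by rw [snd_tau]; exact hy, ht⟩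

include hF hG hGfl in
theorem ass_tensorS_eq_iUnion_fibre :
    AssSch.Ass (CohB1.tensorMod ((Scheme.Modules.pullback (pullback.fst f g)).obj F)
        ((Scheme.Modules.pullback (pullback.snd f g)).obj G)) =
      ⋃ (x : ↥X) (_ : x ∈ AssSch.Ass F) (y' : ↥(g.fiber (f x)))
        (_ : y' ∈ AssSch.Ass ((Scheme.Modules.pullback (g.fiberι (f x))).obj G)) (y : ↥Y)
        (_ : y = g.fiberι (f x) y'),
        ⇑(pullback.map (X.fromSpecResidueField x ≫ f) (Y.fromSpecResidueField y ≫ g) f g
            (X.fromSpecResidueField x) (Y.fromSpecResidueField y) (𝟙 S) (Category.comp_id _)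
            (Category.comp_id _)) ''
          AssSch.Ass (Coh.structureModule
            (pullback (X.fromSpecResidueField x ≫ f) (Y.fromSpecResidueField y ≫ g))) := by
  haveI : G.IsQuasicoherent := hG
  ext z
  simp only [Set.mem_iUnion, Set.mem_image]
  change Curv2.IsAssPoint _ z ↔ _
  rw [isAssPoint_tensorS_iff_exists f g F hF G hG hGfl z]
  constructor
  · rintro ⟨x, y, hx, hy, t, ht, htz⟩
    have hxy : g y = f x := by
      rw [← htz] at *
      have := comm_apply f g (tau f g x y t)
      rwa [fst_tau, snd_tau] at this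
    have e1 : g.fiberι (f x) ((g.fiberHomeo (f x)).symm ⟨y, hxy⟩) = y :=
      g.fiberι_fiberHomeo_symm _ _
    refine ⟨x, hx, (g.fiberHomeo (f x)).symm ⟨y, hxy⟩, ?_, y, e1.symm, t, ht, htz⟩
    exact (isAssPoint_fibre_iff g G _ _).mpr (by rw [e1]; exact hy)
  · rintro ⟨x, hx, y', hy', y, rfl, t, ht, htz⟩
    exact ⟨x, _, hx, (isAssPoint_fibre_iff g G _ _).mp hy', t, ht, htz⟩

include hF hG hGfl in
theorem ass_tensorS_eq_iUnion [IsLocallyNoetherian S]
    (hAss : ∀ x ∈ AssSch.Ass F, f x ∈ AssSch.Ass (Coh.structureModule S)) :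
    AssSch.Ass (CohB1.tensorMod ((Scheme.Modules.pullback (pullback.fst f g)).obj F)
        ((Scheme.Modules.pullback (pullback.snd f g)).obj G)) =
      ⋃ (x : ↥X) (_ : x ∈ AssSch.Ass F) (y : ↥Y) (_ : y ∈ AssSch.Ass G) (_ : f x = g y),
        ⇑(pullback.map (X.fromSpecResidueField x ≫ f) (Y.fromSpecResidueField y ≫ g) f g
            (X.fromSpecResidueField x) (Y.fromSpecResidueField y) (𝟙 S) (Category.comp_id _)
            (Category.comp_id _)) ''
          AssSch.Ass (Coh.structureModule
            (pullback (X.fromSpecResidueField x ≫ f) (Y.fromSpecResidueField y ≫ g))) := by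
  ext z
  simp only [Set.mem_iUnion, Set.mem_image]
  change Curv2.IsAssPoint _ z ↔ _
  rw [isAssPoint_tensorS_iff_exists f g F hF G hG hGfl z]
  constructor
  · rintro ⟨x, y, hx, hy, t, ht, htz⟩
    have hxy : g y = f x := by
      rw [← htz] at *
      have := comm_apply f g (tau f g x y t)
      rwa [fst_tau, snd_tau] at this
    refine ⟨x, hx, y, ?_, hxy.symm, t, ht, htz⟩
    exact isAssPoint_of_relAss g G y (hGfl y) hy (by rw [hxy]; exact hAss x hx)
  · rintro ⟨x, hx, y, hy, hxy, t, ht, htz⟩
    refine ⟨x, y, hx, ?_, t, ht, htz⟩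
    exact relAss_of_isAssPoint g G y (hGfl y) hy

end

end Groth.Agent.Lib.Helper29.Rc
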