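import Mathlib
import Groth.Agent.Lib.Helper96.GrpLikeCoeff

/-!
# Sub-lemma A2 for S2982 (helper96's request, msg 3399) (helper29)
-/

set_option autoImplicit false
universe u
open TensorProduct

namespace Groth.Agent.Lib.Helper29.S2982_A2

open Groth.Agent.Lib.Helper96.GrpLikeCoeff

theorem coeff_mem_sq {K : Type u} [CommRing K] {M : Type u} [CommGroup M] {C : Type u} [CommRing C]
    [Bialgebra K C] (f : C →ₐc[K] MonoidAlgebra K M) (b : M) (I : Ideal K)
    (h : ∀ c : C, (f c).coeff b ∈ I) (c : C) : (f c).coeff b ∈ I * I := by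
  have key : ∀ t : C ⊗[K] C,
      ev2 b b (TensorProduct.map (f : C →ₗ[K] MonoidAlgebra K M) (f : C →ₗ[K] MonoidAlgebra K M) t)
        ∈ I * I := by
    intro t
    induction t using TensorProduct.induction_on with
    | zero => rw [map_zero, map_zero]; exact (I * I).zero_mem
    | tmul l r =>
      rw [TensorProduct.map_tmul, ev2_tmul]
      exact Ideal.mul_mem_mul (h l) (h r)
    | add x y hx hy =>
      rw [map_add, map_add]
      exact (I * I).add_mem hx hy
  have h1 : (f c).coeff b = ev2 b b (CoalgebraStruct.comul (R := K) (f c)) := by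
    rw [ev2_comul, if_pos rfl]
  have h2 : CoalgebraStruct.comul (R := K) (f c) =
      TensorProduct.map (f : C →ₗ[K] MonoidAlgebra K M) (f : C →ₗ[K] MonoidAlgebra K M)
        (CoalgebraStruct.comul (R := K) c) :=
    (CoalgHomClass.map_comp_comul_apply f c).symm
  rw [h1, h2]
  exact key _

end Groth.Agent.Lib.Helper29.S2982_A2
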