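import Mathlib

/-!
# Sub-lemma B for S2982 (helper96's request, msg 3399) (helper29)
-/

set_option autoImplicit false
universe u
open TensorProduct

namespace Groth.Agent.Lib.Helper29.S2982_B

theorem coeff_mem_of_generators {K : Type u} [CommRing K] {M : Type u} [CommGroup M] {C : Type u}
    [CommRing C] [Algebra K C] (f : C →ₐ[K] MonoidAlgebra K M) (s : Set C)
    (hs : Algebra.adjoin K s = ⊤) (M' : Subgroup M) (I : Ideal K)
    (h : ∀ x ∈ s, ∀ m : M, m ∉ M' → (f x).coeff m ∈ I) :
    ∀ (c : C) (m : M), m ∉ M' → (f c).coeff m ∈ I := by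
  intro c
  have hc : c ∈ Algebra.adjoin K s := by rw [hs]; trivial
  induction hc using Algebra.adjoin_induction with
  | mem x hx => exact h x hx
  | algebraMap r =>
    intro m hm
    rw [AlgHom.commutes, MonoidAlgebra.coe_algebraMap]
    have hm1 : (1 : M) ≠ m := by
      rintro rfl
      exact hm M'.one_mem
    simp only [Function.comp_apply, MonoidAlgebra.coeff_single]
    rw [Finsupp.single_eq_of_ne' hm1]
    exact I.zero_mem
  | add x y _ _ hx hy =>
    intro m hm
    rw [map_add, MonoidAlgebra.coeff_add, Finsupp.add_apply]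
    exact I.add_mem (hx m hm) (hy m hm)
  | mul x y _ _ hx hy =>
    intro m hm
    rw [map_mul, MonoidAlgebra.coeff_mul_apply_left]
    refine Ideal.sum_mem _ (fun a _ => ?_)
    by_cases ha : a ∈ M'
    · have : a⁻¹ * m ∉ M' := by
        intro h1
        apply hm
        have := M'.mul_mem ha h1
        rwa [mul_inv_cancel_left] at this
      exact I.mul_mem_left _ (hy _ this)
    · exact I.mul_mem_right _ (hx a ha)

end Groth.Agent.Lib.Helper29.S2982_B
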