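import Mathlib
import Groth.Prelude.Def_Tame

/-!
# Tame symbols, part A: local factorization data and the local symbol

For a local ring `C` and elements `c₁ c₂`, `LocFac C c₁ c₂` is a factorization `c_i = u_i π^{e_i}`
with `π` a non-zero-divisor.  The local symbol `((-1)^{e₁e₂} ū₁^{e₂} ū₂^{-e₁})^{ord π}` does not depend
on the factorization (`LocFac.sym_eq`) when `C` is Noetherian of dimension `≤ 1`.
-/

set_option autoImplicit false

namespace Groth.Agent.Lib.Helper29.Tame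

universe u

open IsLocalRing

/-- factorization data in a local ring -/
structure LocFac (C : Type u) [CommRing C] [IsLocalRing C] (c₁ c₂ : C) where
  π : C
  π_mem : π ∈ nonZeroDivisors C
  u₁ : Cˣ
  u₂ : Cˣ
  e₁ : ℕ
  e₂ : ℕ
  fac₁ : c₁ = (u₁ : C) * π ^ e₁
  fac₂ : c₂ = (u₂ : C) * π ^ e₂

namespace LocFac

variable {C : Type u} [CommRing C] [IsLocalRing C] {c₁ c₂ : C}

/-- the element `(-1)^{e₁e₂} ū₁^{e₂} ū₂^{-e₁}` of the residue field -/
noncomputable def base (F : LocFac C c₁ c₂) : ResidueField C :=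
  (-1) ^ (F.e₁ * F.e₂) * residue C (F.u₁ : C) ^ F.e₂ * (residue C (F.u₂ : C) ^ F.e₁)⁻¹

/-- the local symbol -/
noncomputable def sym (F : LocFac C c₁ c₂) : ResidueField C :=
  F.base ^ (Ring.ord C F.π).toNat

theorem residue_unit_ne_zero (u : Cˣ) : residue C (u : C) ≠ 0 :=
  (residue_ne_zero_iff_isUnit _).mpr u.isUnit

theorem base_ne_zero (F : LocFac C c₁ c₂) : F.base ≠ 0 := by
  unfold base
  refine mul_ne_zero (mul_ne_zero (pow_ne_zero _ (neg_ne_zero.mpr one_ne_zero))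
    (pow_ne_zero _ (residue_unit_ne_zero _))) (inv_ne_zero (pow_ne_zero _ (residue_unit_ne_zero _)))

theorem c₁_mem (F : LocFac C c₁ c₂) : c₁ ∈ nonZeroDivisors C := by
  rw [F.fac₁]
  exact mul_mem (IsUnit.mem_nonZeroDivisors F.u₁.isUnit) (pow_mem F.π_mem _)

theorem c₂_mem (F : LocFac C c₁ c₂) : c₂ ∈ nonZeroDivisors C := by
  rw [F.fac₂]
  exact mul_mem (IsUnit.mem_nonZeroDivisors F.u₂.isUnit) (pow_mem F.π_mem _)

theorem ord_c₁ (F : LocFac C c₁ c₂) : Ring.ord C c₁ = F.e₁ • Ring.ord C F.π := by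
  conv_lhs => rw [F.fac₁]
  rw [Ring.ord_mul_of_isUnit_left F.u₁.isUnit, Ring.ord_pow F.π_mem]

theorem ord_c₂ (F : LocFac C c₁ c₂) : Ring.ord C c₂ = F.e₂ • Ring.ord C F.π := by
  conv_lhs => rw [F.fac₂]
  rw [Ring.ord_mul_of_isUnit_left F.u₂.isUnit, Ring.ord_pow F.π_mem]

theorem neg_one_pow_mul_self {K : Type*} [Monoid K] [HasDistribNeg K] (k m : ℕ) :
    (-1 : K) ^ (k * m * m) = (-1) ^ (k * m) := by
  rcases Nat.even_or_odd m with hm | hm
  · rw [Even.neg_one_pow (Even.mul_left hm _), Even.neg_one_pow (Even.mul_left hm _)]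
  · rcases Nat.even_or_odd k with hk | hk
    · rw [Even.neg_one_pow (Even.mul_right (Even.mul_right hk _) _),
        Even.neg_one_pow (Even.mul_right hk _)]
    · rw [Odd.neg_one_pow ((hk.mul hm).mul hm), Odd.neg_one_pow (hk.mul hm)]

omit [IsLocalRing C] in
theorem key_identity (u₁ u₂ π : C) (e₁ e₂ m : ℕ) :
    (u₁ * π ^ e₁) ^ (e₂ * m) * u₂ ^ (e₁ * m) = (u₂ * π ^ e₂) ^ (e₁ * m) * u₁ ^ (e₂ * m) := by
  ring

variable [IsNoetherianRing C] [Ring.KrullDimLE 1 C]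

theorem toNat_ord_c₁ (F : LocFac C c₁ c₂) :
    (Ring.ord C c₁).toNat = F.e₁ * (Ring.ord C F.π).toNat := by
  rw [F.ord_c₁, nsmul_eq_mul, ENat.toNat_mul, ENat.toNat_coe]

theorem toNat_ord_c₂ (F : LocFac C c₁ c₂) :
    (Ring.ord C c₂).toNat = F.e₂ * (Ring.ord C F.π).toNat := by
  rw [F.ord_c₂, nsmul_eq_mul, ENat.toNat_mul, ENat.toNat_coe]

/-- canonical form of the local symbol -/
theorem sym_eq_canonical (F : LocFac C c₁ c₂) :
    F.sym = (-1) ^ ((Ring.ord C c₁).toNat * (Ring.ord C c₂).toNat) *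
      residue C (F.u₁ : C) ^ (Ring.ord C c₂).toNat *
      (residue C (F.u₂ : C) ^ (Ring.ord C c₁).toNat)⁻¹ := by
  rw [F.toNat_ord_c₁, F.toNat_ord_c₂]
  unfold sym base
  set m := (Ring.ord C F.π).toNat
  rw [mul_pow, mul_pow, ← pow_mul, ← pow_mul, inv_pow, ← pow_mul]
  congr 2
  have : F.e₁ * m * (F.e₂ * m) = F.e₁ * F.e₂ * m * m := by ring
  rw [this, neg_one_pow_mul_self]

/-- the local symbol does not depend on the factorization -/
theorem sym_eq (F F' : LocFac C c₁ c₂) : F.sym = F'.sym := by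
  rw [F.sym_eq_canonical, F'.sym_eq_canonical]
  set n₁ := (Ring.ord C c₁).toNat
  set n₂ := (Ring.ord C c₂).toNat
  -- the unit identity
  have h1 : c₁ ^ n₂ * (F.u₂ : C) ^ n₁ = c₂ ^ n₁ * (F.u₁ : C) ^ n₂ := by
    have e1 : n₁ = F.e₁ * (Ring.ord C F.π).toNat := F.toNat_ord_c₁
    have e2 : n₂ = F.e₂ * (Ring.ord C F.π).toNat := F.toNat_ord_c₂
    have k := key_identity (F.u₁ : C) F.u₂ F.π F.e₁ F.e₂ (Ring.ord C F.π).toNat
    rw [← F.fac₁, ← F.fac₂, ← e1, ← e2] at k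
    exact k
  have h2 : c₁ ^ n₂ * (F'.u₂ : C) ^ n₁ = c₂ ^ n₁ * (F'.u₁ : C) ^ n₂ := by
    have e1 : n₁ = F'.e₁ * (Ring.ord C F'.π).toNat := F'.toNat_ord_c₁
    have e2 : n₂ = F'.e₂ * (Ring.ord C F'.π).toNat := F'.toNat_ord_c₂
    have k := key_identity (F'.u₁ : C) F'.u₂ F'.π F'.e₁ F'.e₂ (Ring.ord C F'.π).toNat
    rw [← F'.fac₁, ← F'.fac₂, ← e1, ← e2] at k
    exact k
  have h3 : (F.u₁ : C) ^ n₂ * (F'.u₂ : C) ^ n₁ = (F'.u₁ : C) ^ n₂ * (F.u₂ : C) ^ n₁ := by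
    have hc : c₂ ^ n₁ ∈ nonZeroDivisors C := pow_mem F.c₂_mem _
    apply (mul_cancel_left_mem_nonZeroDivisors hc).mp
    calc c₂ ^ n₁ * ((F.u₁ : C) ^ n₂ * (F'.u₂ : C) ^ n₁)
        = (c₂ ^ n₁ * (F.u₁ : C) ^ n₂) * (F'.u₂ : C) ^ n₁ := by ring
      _ = (c₁ ^ n₂ * (F'.u₂ : C) ^ n₁) * (F.u₂ : C) ^ n₁ := by rw [← h1]; ring
      _ = c₂ ^ n₁ * ((F'.u₁ : C) ^ n₂ * (F.u₂ : C) ^ n₁) := by rw [h2]; ring
  have h4 := congrArg (residue C) h3
  simp only [map_mul, map_pow] at h4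
  have hu2 : residue C (F.u₂ : C) ^ n₁ ≠ 0 := pow_ne_zero _ (residue_unit_ne_zero _)
  have hu2' : residue C (F'.u₂ : C) ^ n₁ ≠ 0 := pow_ne_zero _ (residue_unit_ne_zero _)
  rw [mul_assoc, mul_assoc]
  congr 1
  field_simp
  linear_combination h4

end LocFac

end Groth.Agent.Lib.Helper29.Tame
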