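import Groth.Agent.Lib.Helper29.TameA
import Groth.Agent.S14438
import Groth.Agent.S6320
import Groth.Agent.Lib.Helper29.SemilocalBlowup

/-!
# Tame symbols, part B: finite algebras over a local ring

Generic facts about a finite algebra `R` over a local ring `A`: local homomorphisms to the
localizations, dimension bounds, the length formula
`ℓ_A(R/x) = Σ_n [κ(R_n):κ(A)] · ord_{R_n}(x)`.
-/

set_option autoImplicit false

namespace Groth.Agent.Lib.Helper29.Tame

universe u

open IsLocalRing

section semilocal

variable {A : Type u} [CommRing A] [IsLocalRing A] {R : Type u} [CommRing R] [Algebra A R]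
  [Module.Finite A R]

theorem comap_maximal (n : MaximalSpectrum R) :
    n.asIdeal.comap (algebraMap A R) = maximalIdeal A :=
  haveI := n.isMaximal
  Groth.Agent.S14438.comap_eq_maximalIdeal n.asIdeal

theorem isLocalHom_of_finite (n : MaximalSpectrum R) :
    IsLocalHom (algebraMap A (Localization.AtPrime n.asIdeal)) := by
  constructor
  intro a ha
  rw [IsScalarTower.algebraMap_apply A R (Localization.AtPrime n.asIdeal),
    IsLocalization.AtPrime.isUnit_to_map_iff _ n.asIdeal] at ha
  by_contra hu
  have hm : a ∈ maximalIdeal A := (IsLocalRing.mem_maximalIdeal a).mpr hu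
  rw [← comap_maximal n] at hm
  exact ha hm

theorem finite_maximalSpectrum (A : Type u) [CommRing A] [IsLocalRing A] {R : Type u} [CommRing R]
    [Algebra A R] [Module.Finite A R] : Finite (MaximalSpectrum R) :=
  Groth.Agent.S14438.finite_maximalSpectrum_of_finite A

theorem ringKrullDim_le_of_finite : ringKrullDim R ≤ ringKrullDim A := by
  haveI : Algebra.IsIntegral A R := inferInstance
  refine Order.krullDim_le_of_strictMono (PrimeSpectrum.comap (algebraMap A R)) ?_
  intro p q hpq
  rw [← PrimeSpectrum.asIdeal_lt_asIdeal] at hpq ⊢
  exact Ideal.IsIntegral.comap_lt_comap hpq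

theorem krullDimLE_one_of_finite [Ring.KrullDimLE 1 A] : Ring.KrullDimLE 1 R := by
  rw [Ring.krullDimLE_iff]
  exact (ringKrullDim_le_of_finite (A := A)).trans (Ring.krullDimLE_iff.mp inferInstance)

omit [IsLocalRing A] [Module.Finite A R] [Algebra A R] in
theorem krullDimLE_one_localization [Ring.KrullDimLE 1 R] (n : Ideal R) [n.IsPrime] :
    Ring.KrullDimLE 1 (Localization.AtPrime n) := by
  rw [Ring.krullDimLE_iff, IsLocalization.AtPrime.ringKrullDim_eq_height n]
  exact (Ideal.height_le_ringKrullDim_of_ne_top Ideal.IsPrime.ne_top').trans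
    (Ring.krullDimLE_iff.mp inferInstance)

omit [IsLocalRing A] [Module.Finite A R] [Algebra A R] in
/-- an element which is a non-zero-divisor in all localizations at maximal ideals is a
non-zero-divisor -/
theorem mem_nonZeroDivisors_of_localization (x : R)
    (h : ∀ n : MaximalSpectrum R,
      algebraMap R (Localization.AtPrime n.asIdeal) x ∈
        nonZeroDivisors (Localization.AtPrime n.asIdeal)) :
    x ∈ nonZeroDivisors R := by
  rw [mem_nonZeroDivisors_iff_right]
  intro y hy
  apply eq_zero_of_localization
  intro J hJ
  have h1 := h ⟨J, hJ⟩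
  have h2 : algebraMap R (Localization.AtPrime J) y * algebraMap R (Localization.AtPrime J) x = 0 := by
    rw [← map_mul, hy, map_zero]
  exact (mem_nonZeroDivisors_iff_right.mp h1) _ h2

omit [IsLocalRing A] [Module.Finite A R] [Algebra A R] in
/-- the localization of `R/x` at a prime is `R_n/x`, on the level of lengths -/
theorem length_localized_quot_span (n : Ideal R) [n.IsPrime] (x : R) :
    Module.length (Localization.AtPrime n) (LocalizedModule n.primeCompl (R ⧸ Ideal.span {x})) =
      Ring.ord (Localization.AtPrime n) (algebraMap R (Localization.AtPrime n) x) := by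
  let fl : R →ₗ[R] Localization.AtPrime n := Algebra.linearMap R (Localization.AtPrime n)
  haveI : IsLocalizedModule n.primeCompl fl := inferInstance
  let g := (Ideal.span {x} : Submodule R R).toLocalizedQuotient' (Localization.AtPrime n)
    n.primeCompl fl
  haveI : IsLocalizedModule n.primeCompl g := inferInstance
  have hloc : (Ideal.span {x} : Submodule R R).localized' (Localization.AtPrime n) n.primeCompl fl =
      (Ideal.span {algebraMap R (Localization.AtPrime n) x} : Ideal (Localization.AtPrime n)) := by
    rw [Submodule.localized'_eq_span]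
    apply le_antisymm
    · rw [Submodule.span_le]
      rintro _ ⟨y, hy, rfl⟩
      obtain ⟨c, rfl⟩ := Ideal.mem_span_singleton'.mp hy
      show algebraMap R (Localization.AtPrime n) (c * x) ∈ _
      rw [map_mul]
      exact Ideal.mul_mem_left _ _ (Ideal.mem_span_singleton_self _)
    · show Ideal.span _ ≤ _
      rw [Ideal.span_le, Set.singleton_subset_iff]
      exact Submodule.subset_span ⟨x, Ideal.mem_span_singleton_self x, rfl⟩
  have e1 : LocalizedModule n.primeCompl (R ⧸ Ideal.span {x}) ≃ₗ[Localization.AtPrime n]
      (Localization.AtPrime n ⧸ (Ideal.span {x} : Submodule R R).localized'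
        (Localization.AtPrime n) n.primeCompl fl) :=
    (IsLocalizedModule.iso n.primeCompl g).extendScalarsOfIsLocalization n.primeCompl
      (Localization.AtPrime n)
  rw [e1.length_eq, (Submodule.quotEquivOfEq _ _ hloc).length_eq]
  rfl

end semilocal

end Groth.Agent.Lib.Helper29.Tame
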