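import Groth.Agent.Lib.Helper29.TameC

/-!
# Tame symbols, part D: pushing factorization data along a local homomorphism
-/

set_option autoImplicit false

namespace Groth.Agent.Lib.Helper29.Tame

universe u

open IsLocalRing

namespace LocFac

variable {C C'' : Type u} [CommRing C] [CommRing C''] [IsLocalRing C] [IsLocalRing C'']
  {c₁ c₂ : C}

/-- push factorization data along a ring homomorphism -/
def map (F : LocFac C c₁ c₂) (φ : C →+* C'') (hφ : φ F.π ∈ nonZeroDivisors C'')
    {d₁ d₂ : C''} (h₁ : φ c₁ = d₁) (h₂ : φ c₂ = d₂) : LocFac C'' d₁ d₂ where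
  π := φ F.π
  π_mem := hφ
  u₁ := Units.map φ F.u₁
  u₂ := Units.map φ F.u₂
  e₁ := F.e₁
  e₂ := F.e₂
  fac₁ := by
    have := congrArg φ F.fac₁
    rw [h₁, map_mul, map_pow] at this
    exact this
  fac₂ := by
    have := congrArg φ F.fac₂
    rw [h₂, map_mul, map_pow] at this
    exact this

theorem map_base (F : LocFac C c₁ c₂) (φ : C →+* C'') [IsLocalHom φ]
    (hφ : φ F.π ∈ nonZeroDivisors C'') {d₁ d₂ : C''} (h₁ : φ c₁ = d₁) (h₂ : φ c₂ = d₂) :
    (F.map φ hφ h₁ h₂).base = ResidueField.map φ F.base := by
  unfold base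
  simp only [map_mul, map_pow, map_inv₀, map_neg, map_one, ResidueField.map_residue]
  rfl

end LocFac

section tower

variable {A C C'' : Type u} [CommRing A] [CommRing C] [CommRing C''] [IsLocalRing A]
  [IsLocalRing C] [IsLocalRing C''] [Algebra A C] [Algebra A C'']
  [IsLocalHom (algebraMap A C)] [IsLocalHom (algebraMap A C'')]

theorem norm_algebraMap_residue [Algebra C C''] [IsScalarTower A C C'']
    [IsLocalHom (algebraMap C C'')] (c : ResidueField C) :
    Algebra.norm (ResidueField A) (algebraMap (ResidueField C) (ResidueField C'') c) =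
      Algebra.norm (ResidueField A) c ^ Module.finrank (ResidueField C) (ResidueField C'') := by
  rw [← Algebra.norm_norm (S := ResidueField C), Algebra.norm_algebraMap, map_pow]

/-- the norm of the pushed local symbol -/
theorem exists_resDeg (φ : C →+* C'') [hφl : IsLocalHom φ]
    (hcomp : ∀ a : A, φ (algebraMap A C a) = algebraMap A C'' a) :
    ∃ f : ℕ, Module.finrank (ResidueField A) (ResidueField C'') =
        Module.finrank (ResidueField A) (ResidueField C) * f ∧
      ∀ {c₁ c₂ : C} (F : LocFac C c₁ c₂) (hφ : φ F.π ∈ nonZeroDivisors C'') {d₁ d₂ : C''}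
        (h₁ : φ c₁ = d₁) (h₂ : φ c₂ = d₂),
        Algebra.norm (ResidueField A) (F.map φ hφ h₁ h₂).sym =
          Algebra.norm (ResidueField A) F.base ^ (f * (Ring.ord C'' (φ F.π)).toNat) := by
  letI : Algebra C C'' := φ.toAlgebra
  haveI : IsScalarTower A C C'' := IsScalarTower.of_algebraMap_eq (fun a => (hcomp a).symm)
  haveI : IsLocalHom (algebraMap C C'') := hφl
  refine ⟨Module.finrank (ResidueField C) (ResidueField C''), ?_, ?_⟩
  · rw [Module.finrank_mul_finrank]
  · intro c₁ c₂ F hφ d₁ d₂ h₁ h₂
    have hb : (F.map φ hφ h₁ h₂).base = algebraMap (ResidueField C) (ResidueField C'') F.base := by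
      rw [LocFac.map_base]
      generalize F.base = c
      obtain ⟨x, rfl⟩ := residue_surjective c
      rfl
    unfold LocFac.sym
    rw [hb, map_pow, norm_algebraMap_residue, ← pow_mul]
    rfl

end tower

end Groth.Agent.Lib.Helper29.Tame
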