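import Groth.Agent.Lib.Helper29.TameE

/-!
# Tame symbols, part F: comparison along an injective map of finite algebras
-/

set_option autoImplicit false

namespace Groth.Agent.Lib.Helper29.Tame

universe u

open IsLocalRing

section compare

variable {A : Type u} [CommRing A] [IsLocalRing A]
  {B B'' : Type u} [CommRing B] [CommRing B''] [Algebra A B] [Algebra A B'']
  [Module.Finite A B] [Module.Finite A B'']

theorem isMaximal_comap (g : B →ₐ[A] B'') (q'' : MaximalSpectrum B'') :
    (q''.asIdeal.comap (g : B →+* B'')).IsMaximal := by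
  haveI := q''.isMaximal
  haveI : (q''.asIdeal.comap (g : B →+* B'')).IsPrime := Ideal.comap_isPrime _ _
  haveI : Algebra.IsIntegral A B := inferInstance
  apply Ideal.isMaximal_of_isIntegral_of_isMaximal_comap (R := A)
  have : (q''.asIdeal.comap (g : B →+* B'')).comap (algebraMap A B) =
      q''.asIdeal.comap (algebraMap A B'') := by
    rw [Ideal.comap_comap, g.comp_algebraMap]
  rw [this, comap_maximal q'']
  infer_instance

/-- contraction of maximal ideals along a map of finite algebras -/
def sigma (g : B →ₐ[A] B'') (q'' : MaximalSpectrum B'') : MaximalSpectrum B :=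
  ⟨q''.asIdeal.comap (g : B →+* B''), isMaximal_comap g q''⟩

/-- the induced local homomorphism of localizations -/
noncomputable def phi (g : B →ₐ[A] B'') (q'' : MaximalSpectrum B'') :
    Localization.AtPrime (sigma g q'').asIdeal →+* Localization.AtPrime q''.asIdeal :=
  Localization.localRingHom (sigma g q'').asIdeal q''.asIdeal (g : B →+* B'') rfl

instance isLocalHom_phi (g : B →ₐ[A] B'') (q'' : MaximalSpectrum B'') : IsLocalHom (phi g q'') :=
  Localization.isLocalHom_localRingHom _ _ _ _

theorem phi_algebraMap (g : B →ₐ[A] B'') (q'' : MaximalSpectrum B'') (b : B) :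
    phi g q'' (algebraMap B _ b) = algebraMap B'' _ (g b) :=
  Localization.localRingHom_to_map _ _ _ _ b

theorem phi_algebraMap_base (g : B →ₐ[A] B'') (q'' : MaximalSpectrum B'') (a : A) :
    phi g q'' (algebraMap A _ a) = algebraMap A _ a := by
  rw [IsScalarTower.algebraMap_apply A B (Localization.AtPrime (sigma g q'').asIdeal),
    phi_algebraMap, g.commutes, ← IsScalarTower.algebraMap_apply]

omit [IsLocalRing A] [Module.Finite A B] [Algebra A B] in
theorem isUnit_of_notMem (n : MaximalSpectrum B) (x : B) (hx : x ∉ n.asIdeal) :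
    IsUnit (algebraMap B (Localization.AtPrime n.asIdeal) x) :=
  (IsLocalization.AtPrime.isUnit_to_map_iff _ n.asIdeal x).mpr hx

theorem notMem_of_sigma_ne (g : B →ₐ[A] B'') (q'' : MaximalSpectrum B'') (q : MaximalSpectrum B)
    (h : sigma g q'' ≠ q) (p : B) (hp : ∀ q' : MaximalSpectrum B, q' ≠ q → p ∉ q'.asIdeal) :
    g p ∉ q''.asIdeal := fun hgp => hp (sigma g q'') h hgp

/-- Herbrand-type invariance: `ℓ_A(B/p) = ℓ_A(B''/g p)` -/
theorem length_quot_span_eq_of_injective (g : B →ₐ[A] B'') (hg : Function.Injective g)
    (hcoker : Module.length A (B'' ⧸ LinearMap.range g.toLinearMap) < ⊤) (p : B)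
    (hgp : g p ∈ nonZeroDivisors B'') :
    Module.length A (B ⧸ Ideal.span {p}) = Module.length A (B'' ⧸ Ideal.span {g p}) := by
  have h1 : ∀ (R : Type u) [CommRing R] [Algebra A R] (x : R),
      Module.length A (R ⧸ Ideal.span {x}) =
        Module.length A (R ⧸ LinearMap.range (LinearMap.mulLeft A x)) := by
    intro R _ _ x
    have hr : LinearMap.range (LinearMap.mulLeft A x) =
        (Ideal.span {x} : Submodule R R).restrictScalars A := by
      ext y
      simp only [LinearMap.mem_range, LinearMap.mulLeft_apply, Submodule.restrictScalars_mem]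
      rw [Ideal.mem_span_singleton']
      constructor
      · rintro ⟨z, rfl⟩
        exact ⟨z, mul_comm _ _⟩
      · rintro ⟨z, rfl⟩
        exact ⟨z, mul_comm _ _⟩
    rw [(Submodule.quotEquivOfEq _ _ hr).length_eq,
      (Submodule.Quotient.restrictScalarsEquiv A _).length_eq]
  rw [h1 B p, h1 B'' (g p)]
  refine Groth.Agent.Lib.Helper29.SemilocalBlowup.length_quot_range_eq_of_injective g.toLinearMap hg _ _ ?_ ?_ hcoker.ne
  · intro x y hxy
    simp only [LinearMap.mulLeft_apply] at hxy
    exact (mul_cancel_left_mem_nonZeroDivisors hgp).mp hxy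
  · refine LinearMap.ext fun x => ?_
    simp [LinearMap.mulLeft_apply]

end compare

end Groth.Agent.Lib.Helper29.Tame
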