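import Groth.Agent.Lib.Helper29.TameF

/-!
# Tame symbols, part G: the fibre formula and invariance of the product of norms
-/

set_option autoImplicit false

namespace Groth.Agent.Lib.Helper29.Tame

universe u

open IsLocalRing

section compare

variable {A : Type u} [CommRing A] [IsLocalRing A] [IsNoetherianRing A] [Ring.KrullDimLE 1 A]
  {B B'' : Type u} [CommRing B] [CommRing B''] [Algebra A B] [Algebra A B'']
  [Module.Finite A B] [Module.Finite A B'']
  [hlocB : ∀ n : MaximalSpectrum B, IsLocalHom (algebraMap A (Localization.AtPrime n.asIdeal))]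
  [hlocB'' : ∀ n : MaximalSpectrum B'',
    IsLocalHom (algebraMap A (Localization.AtPrime n.asIdeal))]

theorem isNoetherianRing_of_finite (A : Type u) [CommRing A] [IsNoetherianRing A] {B : Type u}
    [CommRing B] [Algebra A B] [Module.Finite A B] : IsNoetherianRing B :=
  isNoetherian_of_tower A (isNoetherian_of_isNoetherianRing_of_finite A B)

/-- the fibre formula -/
theorem fiber_sum_eq [Fintype (MaximalSpectrum B'')] [DecidableEq (MaximalSpectrum B)]
    (g : B →ₐ[A] B'') (hg : Function.Injective g)
    (hcoker : Module.length A (B'' ⧸ LinearMap.range g.toLinearMap) < ⊤)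
    (q : MaximalSpectrum B) (p : B) (hp : p ∈ nonZeroDivisors B)
    (hgp : g p ∈ nonZeroDivisors B'')
    (hq' : ∀ q' : MaximalSpectrum B, q' ≠ q → p ∉ q'.asIdeal) :
    ∑ q'' ∈ Finset.univ.filter (fun q'' => sigma g q'' = q),
      (Module.finrank (ResidueField A) (ResidueField (Localization.AtPrime q''.asIdeal)) : ℕ∞) *
        Ring.ord (Localization.AtPrime q''.asIdeal)
          (algebraMap B'' (Localization.AtPrime q''.asIdeal) (g p)) =
      (Module.finrank (ResidueField A) (ResidueField (Localization.AtPrime q.asIdeal)) : ℕ∞) *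
        Ring.ord (Localization.AtPrime q.asIdeal)
          (algebraMap B (Localization.AtPrime q.asIdeal) p) := by
  haveI : IsNoetherianRing B := isNoetherianRing_of_finite A
  haveI : IsNoetherianRing B'' := isNoetherianRing_of_finite A
  haveI : Ring.KrullDimLE 1 B := krullDimLE_one_of_finite (A := A)
  haveI : Ring.KrullDimLE 1 B'' := krullDimLE_one_of_finite (A := A)
  have e1 := length_quot_span_eq_sum (A := A) p (isFiniteLength_quotient_span_singleton B hp)
  have e2 := length_quot_span_eq_sum (A := A) (g p)
    (isFiniteLength_quotient_span_singleton B'' hgp)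
  have e3 := length_quot_span_eq_of_injective g hg hcoker p hgp
  rw [e1, e2] at e3
  rw [finsum_eq_single _ q] at e3
  · rw [e3, finsum_eq_sum_of_fintype, Finset.sum_filter]
    apply Finset.sum_congr rfl
    intro q'' _
    split_ifs with h
    · rfl
    · rw [Ring.ord_of_isUnit (isUnit_of_notMem q'' _ (notMem_of_sigma_ne g q'' q h p hq')),
        mul_zero]
  · intro q' hq
    rw [Ring.ord_of_isUnit (isUnit_of_notMem q' _ (hq' q' hq)), mul_zero]

end compare

end Groth.Agent.Lib.Helper29.Tame
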