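import Groth.Agent.Lib.Helper29.TameH

/-!
# Tame symbols, part I: invariance of the product of norms under an injective map of finite algebras
-/

set_option autoImplicit false

namespace Groth.Agent.Lib.Helper29.Tame

universe u

open IsLocalRing

section compare

variable {A : Type u} [CommRing A] [IsLocalRing A] [IsNoetherianRing A] [Ring.KrullDimLE 1 A]
  {B B'' : Type u} [CommRing B] [CommRing B''] [Algebra A B] [Algebra A B'']
  [Module.Finite A B] [Module.Finite A B'']
  [hlocB : ∀ n : MaximalSpectrum B, IsLocalHom (algebraMap A (Localization.AtPrime n.asIdeal))]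
  [hlocB'' : ∀ n : MaximalSpectrum B'',
    IsLocalHom (algebraMap A (Localization.AtPrime n.asIdeal))]

/-- the product of the norms of the local symbols does not change when the data are pushed
along an injective map of finite algebras with cokernel of finite length -/
theorem prod_norm_sym_eq {a₁ a₂ : A}
    (F : ∀ q : MaximalSpectrum B, LocFac (Localization.AtPrime q.asIdeal)
      (algebraMap A _ a₁) (algebraMap A _ a₂))
    (g : B →ₐ[A] B'') (hg : Function.Injective g)
    (hcoker : Module.length A (B'' ⧸ LinearMap.range g.toLinearMap) < ⊤)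
    (hpush : ∀ q'' : MaximalSpectrum B'', phi g q'' (F (sigma g q'')).π ∈
      nonZeroDivisors (Localization.AtPrime q''.asIdeal)) :
    ∏ᶠ q'' : MaximalSpectrum B'', Algebra.norm (ResidueField A)
        ((F (sigma g q'')).map (phi g q'') (hpush q'') (phi_algebraMap_base g q'' a₁)
          (phi_algebraMap_base g q'' a₂)).sym =
      ∏ᶠ q : MaximalSpectrum B, Algebra.norm (ResidueField A) (F q).sym := by
  classical
  haveI := finite_maximalSpectrum A (R := B)
  haveI := finite_maximalSpectrum A (R := B'')
  letI := Fintype.ofFinite (MaximalSpectrum B)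
  letI := Fintype.ofFinite (MaximalSpectrum B'')
  rw [finprod_eq_prod_of_fintype, finprod_eq_prod_of_fintype]
  have hex := fun q'' : MaximalSpectrum B'' =>
    exists_resDeg (A := A) (phi g q'') (phi_algebraMap_base g q'')
  choose f hf1 hf2 using hex
  have h1 : ∀ q'' : MaximalSpectrum B'', Algebra.norm (ResidueField A)
        ((F (sigma g q'')).map (phi g q'') (hpush q'') (phi_algebraMap_base g q'' a₁)
          (phi_algebraMap_base g q'' a₂)).sym =
      Algebra.norm (ResidueField A) (F (sigma g q'')).base ^
        (f q'' * (Ring.ord (Localization.AtPrime q''.asIdeal)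
          (phi g q'' (F (sigma g q'')).π)).toNat) := fun q'' => hf2 q'' _ _ _ _
  rw [Finset.prod_congr rfl (fun q'' _ => h1 q''),
    ← Finset.prod_fiberwise Finset.univ (sigma g)]
  apply Finset.prod_congr rfl
  intro q _
  have h2 : ∀ q'' ∈ Finset.univ.filter (fun q'' => sigma g q'' = q),
      Algebra.norm (ResidueField A) (F (sigma g q'')).base ^
        (f q'' * (Ring.ord (Localization.AtPrime q''.asIdeal)
          (phi g q'' (F (sigma g q'')).π)).toNat) =
      Algebra.norm (ResidueField A) (F q).base ^
        (f q'' * (Ring.ord (Localization.AtPrime q''.asIdeal)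
          (phi g q'' (F (sigma g q'')).π)).toNat) := by
    intro q'' hq''
    have h : sigma g q'' = q := (Finset.mem_filter.mp hq'').2
    subst h
    rfl
  rw [Finset.prod_congr rfl h2, Finset.prod_pow_eq_pow_sum,
    fiber_exponent_eq F g hg hcoker hpush f hf1 q]
  unfold LocFac.sym
  rw [map_pow]

end compare

end Groth.Agent.Lib.Helper29.Tame
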