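import Groth.Agent.Lib.Helper29.TameI
import Mathlib.RingTheory.TensorProduct.Finite

/-!
# Tame symbols, part J: gluing two finite extensions (tensor product modulo `f`-power torsion)
-/

set_option autoImplicit false

namespace Groth.Agent.Lib.Helper29.Tame

universe u

open IsLocalRing TensorProduct

section glue

variable {A : Type u} [CommRing A] (f : A)

/-- the ideal of `f`-power torsion elements -/
def torsIdeal (P : Type u) [CommRing P] [Algebra A P] : Ideal P where
  carrier := {x | ∃ k : ℕ, f ^ k • x = 0}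
  add_mem' := by
    rintro x y ⟨k, hk⟩ ⟨l, hl⟩
    refine ⟨k + l, ?_⟩
    have h1 : f ^ (k + l) • x = 0 := by rw [pow_add, mul_comm, mul_smul, hk, smul_zero]
    have h2 : f ^ (k + l) • y = 0 := by rw [pow_add, mul_smul, hl, smul_zero]
    rw [smul_add, h1, h2, add_zero]
  zero_mem' := ⟨0, smul_zero _⟩
  smul_mem' := by
    rintro c x ⟨k, hk⟩
    refine ⟨k, ?_⟩
    rw [smul_eq_mul, ← mul_smul_comm, hk, mul_zero]

theorem mem_torsIdeal {P : Type u} [CommRing P] [Algebra A P] (x : P) :
    x ∈ torsIdeal f P ↔ ∃ k : ℕ, f ^ k • x = 0 := Iff.rfl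

variable (B B' : Type u) [CommRing B] [CommRing B'] [Algebra A B] [Algebra A B']

/-- the glued algebra -/
abbrev Glue : Type u := (B ⊗[A] B') ⧸ torsIdeal f (B ⊗[A] B')

/-- the left structure map -/
noncomputable def glueL : B →ₐ[A] Glue f B B' :=
  (Ideal.Quotient.mkₐ A _).comp Algebra.TensorProduct.includeLeft

/-- the right structure map -/
noncomputable def glueR : B' →ₐ[A] Glue f B B' :=
  (Ideal.Quotient.mkₐ A _).comp Algebra.TensorProduct.includeRight

theorem glueL_apply (b : B) :
    glueL f B B' b = Ideal.Quotient.mkₐ A (torsIdeal f (B ⊗[A] B')) (b ⊗ₜ 1) := rfl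

theorem glueR_apply (b' : B') :
    glueR f B B' b' = Ideal.Quotient.mkₐ A (torsIdeal f (B ⊗[A] B')) (1 ⊗ₜ b') := rfl

theorem glue_smul_eq_zero (x : Glue f B B') (h : f • x = 0) : x = 0 := by
  obtain ⟨p, rfl⟩ := Ideal.Quotient.mkₐ_surjective A _ x
  rw [← map_smul, Ideal.Quotient.mkₐ_eq_mk, Ideal.Quotient.eq_zero_iff_mem, mem_torsIdeal] at h
  obtain ⟨k, hk⟩ := h
  rw [Ideal.Quotient.mkₐ_eq_mk, Ideal.Quotient.eq_zero_iff_mem, mem_torsIdeal]
  refine ⟨k + 1, ?_⟩
  rw [pow_succ, mul_smul]
  exact hk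

theorem glue_nonZeroDivisor : algebraMap A (Glue f B B') f ∈ nonZeroDivisors (Glue f B B') := by
  rw [mem_nonZeroDivisors_iff_right]
  intro x hx
  apply glue_smul_eq_zero f B B' x
  rw [Algebra.smul_def, mul_comm]
  exact hx

instance glue_finite [Module.Finite A B] [Module.Finite A B'] : Module.Finite A (Glue f B B') :=
  Module.Finite.of_surjective (Ideal.Quotient.mkₐ A (torsIdeal f (B ⊗[A] B'))).toLinearMap
    (Ideal.Quotient.mkₐ_surjective A _)

variable {B B'}

/-- the retraction `B' → A` with `ι ∘ r = f ^ N` -/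
noncomputable def retr (hι : Function.Injective (algebraMap A B')) (N : ℕ)
    (hN : ∀ b' : B', f ^ N • b' ∈ (algebraMap A B').range) : B' →ₗ[A] A where
  toFun b' := (RingHom.mem_range.mp (hN b')).choose
  map_add' x y := by
    apply hι
    rw [map_add, (RingHom.mem_range.mp (hN _)).choose_spec,
      (RingHom.mem_range.mp (hN x)).choose_spec, (RingHom.mem_range.mp (hN y)).choose_spec,
      smul_add]
  map_smul' c x := by
    apply hι
    rw [RingHom.id_apply, smul_eq_mul, map_mul, (RingHom.mem_range.mp (hN _)).choose_spec,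
      (RingHom.mem_range.mp (hN x)).choose_spec, smul_comm, Algebra.smul_def c]

theorem retr_spec (hι : Function.Injective (algebraMap A B')) (N : ℕ)
    (hN : ∀ b' : B', f ^ N • b' ∈ (algebraMap A B').range) (b' : B') :
    algebraMap A B' (retr f hι N hN b') = f ^ N • b' :=
  (RingHom.mem_range.mp (hN b')).choose_spec

theorem retr_one (hι : Function.Injective (algebraMap A B')) (N : ℕ)
    (hN : ∀ b' : B', f ^ N • b' ∈ (algebraMap A B').range) :
    retr f hι N hN 1 = f ^ N := by
  apply hι
  rw [retr_spec, Algebra.smul_def, mul_one]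

theorem glueL_injective (hfB : algebraMap A B f ∈ nonZeroDivisors B)
    (hι : Function.Injective (algebraMap A B')) (N : ℕ)
    (hN : ∀ b' : B', f ^ N • b' ∈ (algebraMap A B').range) :
    Function.Injective (glueL f B B') := by
  rw [injective_iff_map_eq_zero]
  intro b hb
  rw [glueL_apply, Ideal.Quotient.mkₐ_eq_mk, Ideal.Quotient.eq_zero_iff_mem, mem_torsIdeal] at hb
  obtain ⟨k, hk⟩ := hb
  have h := congrArg ((TensorProduct.rid A B).toLinearMap ∘ₗ
    (LinearMap.lTensor B (retr f hι N hN))) hk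
  rw [map_smul, map_zero, LinearMap.comp_apply, LinearMap.lTensor_tmul, retr_one,
    LinearEquiv.coe_coe, TensorProduct.rid_tmul, ← mul_smul, ← pow_add, Algebra.smul_def,
    map_pow] at h
  exact (mem_nonZeroDivisors_iff.mp (pow_mem hfB (k + N))).1 b h

theorem glueR_injective (hfB' : algebraMap A B' f ∈ nonZeroDivisors B')
    (hι : Function.Injective (algebraMap A B)) (N : ℕ)
    (hN : ∀ b : B, f ^ N • b ∈ (algebraMap A B).range) :
    Function.Injective (glueR f B B') := by
  rw [injective_iff_map_eq_zero]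
  intro b hb
  rw [glueR_apply, Ideal.Quotient.mkₐ_eq_mk, Ideal.Quotient.eq_zero_iff_mem, mem_torsIdeal] at hb
  obtain ⟨k, hk⟩ := hb
  have h := congrArg ((TensorProduct.lid A B').toLinearMap ∘ₗ
    (LinearMap.rTensor B' (retr f hι N hN))) hk
  rw [map_smul, map_zero, LinearMap.comp_apply, LinearMap.rTensor_tmul, retr_one,
    LinearEquiv.coe_coe, TensorProduct.lid_tmul, ← mul_smul, ← pow_add, Algebra.smul_def,
    map_pow] at h
  exact (mem_nonZeroDivisors_iff.mp (pow_mem hfB' (k + N))).1 b h

theorem glueL_coker (N : ℕ) (hN : ∀ b' : B', f ^ N • b' ∈ (algebraMap A B').range)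
    (x : Glue f B B') : f ^ N • x ∈ LinearMap.range (glueL f B B').toLinearMap := by
  obtain ⟨p, rfl⟩ := Ideal.Quotient.mkₐ_surjective A _ x
  induction p using TensorProduct.induction_on with
  | zero => rw [map_zero, smul_zero]; exact Submodule.zero_mem _
  | tmul b b' =>
    obtain ⟨a, ha⟩ := RingHom.mem_range.mp (hN b')
    refine ⟨a • b, ?_⟩
    rw [AlgHom.toLinearMap_apply, glueL_apply, ← map_smul]
    congr 1
    rw [TensorProduct.smul_tmul, Algebra.smul_def a (1 : B'), mul_one, ha,
      TensorProduct.tmul_smul]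
  | add p q hp hq => rw [map_add, smul_add]; exact Submodule.add_mem _ hp hq

theorem glueR_coker (N : ℕ) (hN : ∀ b : B, f ^ N • b ∈ (algebraMap A B).range)
    (x : Glue f B B') : f ^ N • x ∈ LinearMap.range (glueR f B B').toLinearMap := by
  obtain ⟨p, rfl⟩ := Ideal.Quotient.mkₐ_surjective A _ x
  induction p using TensorProduct.induction_on with
  | zero => rw [map_zero, smul_zero]; exact Submodule.zero_mem _
  | tmul b b' =>
    obtain ⟨a, ha⟩ := RingHom.mem_range.mp (hN b)
    refine ⟨a • b', ?_⟩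
    rw [AlgHom.toLinearMap_apply, glueR_apply, ← map_smul]
    congr 1
    rw [← TensorProduct.smul_tmul, Algebra.smul_def a (1 : B), mul_one, ha,
      ← TensorProduct.smul_tmul']
  | add p q hp hq => rw [map_add, smul_add]; exact Submodule.add_mem _ hp hq

end glue

end Groth.Agent.Lib.Helper29.Tame
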