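import Groth.Agent.Lib.Helper29.TameJ
import Groth.Agent.Lib.Helper87.DimOne
import Groth.Prelude.Def_Tame

/-!
# Tame symbols, part K: independence of the tame symbol from the choice of data
-/

set_option autoImplicit false

namespace Groth.Agent.Lib.Helper29.Tame

universe u

open IsLocalRing TensorProduct CycAlg

section push

/-- a divisor of a power of an element mapping to a non-zero-divisor maps to a non-zero-divisor -/
theorem push_mem_nonZeroDivisors {C C'' : Type u} [CommRing C] [IsLocalRing C]
    [IsNoetherianRing C] [Ring.KrullDimLE 1 C] [CommRing C''] (φ : C →+* C'') (t : C)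
    (ht : t ∈ maximalIdeal C) (hφt : φ t ∈ nonZeroDivisors C'') (π : C)
    (hπ : π ∈ nonZeroDivisors C) : φ π ∈ nonZeroDivisors C'' := by
  obtain ⟨k, hk⟩ := exists_maximalIdeal_pow_le π hπ
  have h1 : t ^ k ∈ Ideal.span {π} := hk (Ideal.pow_mem_pow ht k)
  obtain ⟨c, hc⟩ := Ideal.mem_span_singleton'.mp h1
  have h2 : φ c * φ π ∈ nonZeroDivisors C'' := by
    rw [← map_mul, hc, map_pow]
    exact pow_mem hφt k
  exact (mul_mem_nonZeroDivisors.mp h2).2

end push

section data

variable {A : Type u} [CommRing A] [IsLocalRing A] {a₁ a₂ : A}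

/-- the local factorization datum of a tame datum -/
def locFac (D : TameData A a₁ a₂) (q : MaximalSpectrum D.B) :
    LocFac (Localization.AtPrime q.asIdeal) (algebraMap A _ a₁) (algebraMap A _ a₂) :=
  ⟨D.π q, D.π_mem q, D.u₁ q, D.u₂ q, D.e₁ q, D.e₂ q, D.fac₁ q, D.fac₂ q⟩

theorem localFactor_eq (D : TameData A a₁ a₂) (q : MaximalSpectrum D.B) :
    D.localFactor q =
      haveI := D.isLocalHom q
      Algebra.norm (ResidueField A) (locFac D q).sym := by
  unfold TameData.localFactor LocFac.sym LocFac.base locFac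
  simp only
  rw [map_pow]

/-- if both elements are units the value is one -/
theorem value_eq_one_of_isUnit (D : TameData A a₁ a₂) (h₁ : IsUnit a₁) (h₂ : IsUnit a₂) :
    D.value = 1 := by
  unfold TameData.value
  apply finprod_eq_one_of_forall_eq_one
  intro q
  haveI := D.isLocalHom q
  by_cases hπ : IsUnit (D.π q)
  · unfold TameData.localFactor
    rw [Ring.ord_of_isUnit hπ]
    simp
  · have he : ∀ (a : A) (u : (Localization.AtPrime q.asIdeal)ˣ) (e : ℕ), IsUnit a →
        algebraMap A (Localization.AtPrime q.asIdeal) a = (u : Localization.AtPrime q.asIdeal) *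
          D.π q ^ e → e = 0 := by
      intro a u e ha hfac
      by_contra he
      apply hπ
      have h1 : IsUnit ((u : Localization.AtPrime q.asIdeal) * D.π q ^ e) := by
        rw [← hfac]
        exact ha.map _
      have h2 : IsUnit (D.π q ^ e) := (IsUnit.mul_iff.mp h1).2
      exact (isUnit_pow_iff he).mp h2
    have e1 : D.e₁ q = 0 := he a₁ _ _ h₁ (D.fac₁ q)
    have e2 : D.e₂ q = 0 := he a₂ _ _ h₂ (D.fac₂ q)
    unfold TameData.localFactor
    rw [e1, e2]
    simp

end data

section main

variable {A : Type u} [CommRing A] [IsNoetherianRing A] [IsLocalRing A] {a₁ a₂ : A}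

theorem value_eq_of_nonunit (hA : ringKrullDim A = 1) (D D' : TameData A a₁ a₂) (f : A)
    (hf : ¬ IsUnit f) (hfA : f ∈ nonZeroDivisors A)
    (hfD : ∀ q : MaximalSpectrum D.B, algebraMap A (Localization.AtPrime q.asIdeal) f ∈
      nonZeroDivisors (Localization.AtPrime q.asIdeal))
    (hfD' : ∀ q : MaximalSpectrum D'.B, algebraMap A (Localization.AtPrime q.asIdeal) f ∈
      nonZeroDivisors (Localization.AtPrime q.asIdeal)) :
    D.value = D'.value := by
  haveI : Ring.KrullDimLE 1 A := Ring.krullDimLE_iff.mpr hA.le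
  haveI : Module.Finite A D.B := D.isFinExt.2.1
  haveI : Module.Finite A D'.B := D'.isFinExt.2.1
  haveI hlocB : ∀ q : MaximalSpectrum D.B,
      IsLocalHom (algebraMap A (Localization.AtPrime q.asIdeal)) := D.isLocalHom
  haveI hlocB' : ∀ q : MaximalSpectrum D'.B,
      IsLocalHom (algebraMap A (Localization.AtPrime q.asIdeal)) := D'.isLocalHom
  have hfm : f ∈ maximalIdeal A := (mem_maximalIdeal f).mpr hf
  have hfB : algebraMap A D.B f ∈ nonZeroDivisors D.B := by
    apply mem_nonZeroDivisors_of_localization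
    intro n
    rw [← IsScalarTower.algebraMap_apply]
    exact hfD n
  have hfB' : algebraMap A D'.B f ∈ nonZeroDivisors D'.B := by
    apply mem_nonZeroDivisors_of_localization
    intro n
    rw [← IsScalarTower.algebraMap_apply]
    exact hfD' n
  obtain ⟨N, hN⟩ := D.isFinExt.2.2
  obtain ⟨N', hN'⟩ := D'.isFinExt.2.2
  have hN1 : ∀ b : D.B, f ^ N • b ∈ (algebraMap A D.B).range :=
    fun b => hN (f ^ N) (Ideal.pow_mem_pow hfm N) b
  have hN1' : ∀ b : D'.B, f ^ N' • b ∈ (algebraMap A D'.B).range :=
    fun b => hN' (f ^ N') (Ideal.pow_mem_pow hfm N') b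
  haveI hlocB'' : ∀ n : MaximalSpectrum (Glue f D.B D'.B),
      IsLocalHom (algebraMap A (Localization.AtPrime n.asIdeal)) :=
    fun n => isLocalHom_of_finite n
  have hg : Function.Injective (glueL f D.B D'.B) :=
    glueL_injective f hfB D'.isFinExt.1 N' hN1'
  have hg' : Function.Injective (glueR f D.B D'.B) :=
    glueR_injective f hfB' D.isFinExt.1 N hN1
  have hcoker : Module.length A
      (Glue f D.B D'.B ⧸ LinearMap.range (glueL f D.B D'.B).toLinearMap) < ⊤ := by
    haveI := Groth.Agent.Lib.Helper87.artinian_quot hA (f ^ N') (pow_mem hfA N')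
    apply Groth.Agent.Lib.Helper87.length_lt_top_of_smul_eq_zero (f ^ N')
    intro x
    obtain ⟨y, rfl⟩ := Submodule.Quotient.mk_surjective _ x
    rw [← Submodule.Quotient.mk_smul, Submodule.Quotient.mk_eq_zero]
    exact glueL_coker f N' hN1' y
  have hcoker' : Module.length A
      (Glue f D.B D'.B ⧸ LinearMap.range (glueR f D.B D'.B).toLinearMap) < ⊤ := by
    haveI := Groth.Agent.Lib.Helper87.artinian_quot hA (f ^ N) (pow_mem hfA N)
    apply Groth.Agent.Lib.Helper87.length_lt_top_of_smul_eq_zero (f ^ N)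
    intro x
    obtain ⟨y, rfl⟩ := Submodule.Quotient.mk_surjective _ x
    rw [← Submodule.Quotient.mk_smul, Submodule.Quotient.mk_eq_zero]
    exact glueR_coker f N hN1 y
  have hf'' : ∀ q'' : MaximalSpectrum (Glue f D.B D'.B),
      algebraMap A (Localization.AtPrime q''.asIdeal) f ∈
        nonZeroDivisors (Localization.AtPrime q''.asIdeal) := by
    intro q''
    rw [IsScalarTower.algebraMap_apply A (Glue f D.B D'.B) (Localization.AtPrime q''.asIdeal)]
    exact IsLocalization.map_nonZeroDivisors_le q''.asIdeal.primeCompl _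
      (Submonoid.mem_map_of_mem _ (glue_nonZeroDivisor f D.B D'.B))
  have hpush : ∀ q'' : MaximalSpectrum (Glue f D.B D'.B),
      phi (glueL f D.B D'.B) q'' (locFac D (sigma (glueL f D.B D'.B) q'')).π ∈
        nonZeroDivisors (Localization.AtPrime q''.asIdeal) := by
    intro q''
    obtain ⟨hN, hK⟩ := instances_localization' A (sigma (glueL f D.B D'.B) q'')
    refine push_mem_nonZeroDivisors (phi (glueL f D.B D'.B) q'') (algebraMap A _ f) ?_ ?_ _
      (locFac D _).π_mem
    · rw [mem_maximalIdeal]
      intro hu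
      exact hf (isUnit_of_map_unit (algebraMap A _) f hu)
    · rw [phi_algebraMap_base]
      exact hf'' q''
  have hpush' : ∀ q'' : MaximalSpectrum (Glue f D.B D'.B),
      phi (glueR f D.B D'.B) q'' (locFac D' (sigma (glueR f D.B D'.B) q'')).π ∈
        nonZeroDivisors (Localization.AtPrime q''.asIdeal) := by
    intro q''
    obtain ⟨hN, hK⟩ := instances_localization' A (sigma (glueR f D.B D'.B) q'')
    refine push_mem_nonZeroDivisors (phi (glueR f D.B D'.B) q'') (algebraMap A _ f) ?_ ?_ _
      (locFac D' _).π_mem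
    · rw [mem_maximalIdeal]
      intro hu
      exact hf (isUnit_of_map_unit (algebraMap A _) f hu)
    · rw [phi_algebraMap_base]
      exact hf'' q''
  have e1 := prod_norm_sym_eq (locFac D) (glueL f D.B D'.B) hg hcoker hpush
  have e2 := prod_norm_sym_eq (locFac D') (glueR f D.B D'.B) hg' hcoker' hpush'
  have e3 : D.value = ∏ᶠ q : MaximalSpectrum D.B,
      Algebra.norm (ResidueField A) (locFac D q).sym :=
    finprod_congr (localFactor_eq D)
  have e4 : D'.value = ∏ᶠ q : MaximalSpectrum D'.B,
      Algebra.norm (ResidueField A) (locFac D' q).sym :=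
    finprod_congr (localFactor_eq D')
  rw [e3, e4, ← e1, ← e2]
  apply finprod_congr
  intro q''
  obtain ⟨hN, hK⟩ := instances_localization' A q''
  rw [LocFac.sym_eq _ ((locFac D' (sigma (glueR f D.B D'.B) q'')).map
    (phi (glueR f D.B D'.B) q'') (hpush' q'') (phi_algebraMap_base _ q'' a₁)
    (phi_algebraMap_base _ q'' a₂))]

theorem value_eq (hA : ringKrullDim A = 1) (h₁ : a₁ ∈ nonZeroDivisors A)
    (h₂ : a₂ ∈ nonZeroDivisors A) (D D' : TameData A a₁ a₂) : D.value = D'.value := by
  by_cases hu₁ : IsUnit a₁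
  · by_cases hu₂ : IsUnit a₂
    · rw [value_eq_one_of_isUnit D hu₁ hu₂, value_eq_one_of_isUnit D' hu₁ hu₂]
    · exact value_eq_of_nonunit hA D D' a₂ hu₂ h₂ (fun q => (locFac D q).c₂_mem)
        (fun q => (locFac D' q).c₂_mem)
  · exact value_eq_of_nonunit hA D D' a₁ hu₁ h₁ (fun q => (locFac D q).c₁_mem)
      (fun q => (locFac D' q).c₁_mem)

end main

end Groth.Agent.Lib.Helper29.Tame
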