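import Groth.Agent.Lib.Helper29.TameK

/-!
# Tame symbols, part L: monomial calculus in a local ring
-/

set_option autoImplicit false

namespace Groth.Agent.Lib.Helper29.Tame

universe u

open IsLocalRing

section field

variable {κ : Type u} [Field κ]

/-- the basic symbol on pairs `(x₁, e₁)`, `(x₂, e₂)` in a field -/
def bs' (x₁ : κ) (e₁ : ℕ) (x₂ : κ) (e₂ : ℕ) : κ :=
  (-1) ^ (e₁ * e₂) * x₁ ^ e₂ * (x₂ ^ e₁)⁻¹

theorem sgn_sq (k : ℕ) : ((-1 : κ) ^ k) * (-1) ^ k = 1 := by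
  rw [← mul_pow, neg_one_mul, neg_neg, one_pow]

theorem sgn_inv (k : ℕ) : ((-1 : κ) ^ k)⁻¹ = (-1) ^ k :=
  inv_eq_of_mul_eq_one_right (sgn_sq k)

theorem sgn_mul_self (k : ℕ) : (-1 : κ) ^ (k * k) = (-1) ^ k := by
  have := LocFac.neg_one_pow_mul_self (K := κ) 1 k
  rwa [one_mul] at this

theorem sgn_ne_zero (k : ℕ) : (-1 : κ) ^ k ≠ 0 := pow_ne_zero _ (neg_ne_zero.mpr one_ne_zero)

theorem bs'_mul_left (x x' : κ) (e e' : ℕ) (y : κ) (n : ℕ) :
    bs' (x * x') (e + e') y n = bs' x e y n * bs' x' e' y n := by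
  unfold bs'
  rw [add_mul, pow_add, mul_pow, pow_add, mul_inv]
  ring

theorem bs'_mul_right (x x' : κ) (e e' : ℕ) (y : κ) (n : ℕ) :
    bs' y n (x * x') (e + e') = bs' y n x e * bs' y n x' e' := by
  unfold bs'
  rw [mul_add, pow_add, mul_pow, pow_add, mul_inv]
  ring

theorem bs'_self (x : κ) (hx : x ≠ 0) (e : ℕ) : bs' x e x e = (-1) ^ e := by
  unfold bs'
  rw [mul_assoc, mul_inv_cancel₀ (pow_ne_zero _ hx), mul_one, sgn_mul_self]

theorem bs'_ne_zero (x : κ) (hx : x ≠ 0) (e : ℕ) (y : κ) (hy : y ≠ 0) (n : ℕ) :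
    bs' x e y n ≠ 0 := by
  unfold bs'
  exact mul_ne_zero (mul_ne_zero (sgn_ne_zero _) (pow_ne_zero _ hx))
    (inv_ne_zero (pow_ne_zero _ hy))

/-- case A of the Steinberg-type relation -/
theorem bs'_caseA (x y : κ) (hx : x ≠ 0) (hy : y ≠ 0) (e n : ℕ) :
    bs' x e (-x) e * bs' y n y n = bs' y n (-x) e * bs' x e y n := by
  rw [bs'_self y hy]
  unfold bs'
  rw [neg_pow x e, neg_pow x n, mul_inv, mul_inv, sgn_inv, sgn_inv, sgn_mul_self]
  have hxe : x ^ e ≠ 0 := pow_ne_zero _ hx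
  have hxn : x ^ n ≠ 0 := pow_ne_zero _ hx
  have hye : y ^ e ≠ 0 := pow_ne_zero _ hy
  have h1 : (-1 : κ) ^ (n * e) * (-1) ^ (e * n) = 1 := by rw [mul_comm n e]; exact sgn_sq _
  calc (-1 : κ) ^ e * x ^ e * ((-1) ^ e * (x ^ e)⁻¹) * (-1) ^ n
      = ((-1 : κ) ^ e * (-1) ^ e) * (x ^ e * (x ^ e)⁻¹) * (-1) ^ n := by ring
    _ = (-1) ^ n := by rw [sgn_sq, mul_inv_cancel₀ hxe, one_mul, one_mul]
    _ = ((-1 : κ) ^ (n * e) * (-1) ^ (e * n)) * (y ^ e * (y ^ e)⁻¹) * (x ^ n * (x ^ n)⁻¹) *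
          (-1) ^ n := by
        rw [h1, mul_inv_cancel₀ hye, mul_inv_cancel₀ hxn, one_mul, one_mul, one_mul]
    _ = (-1) ^ (n * e) * y ^ e * ((-1) ^ n * (x ^ n)⁻¹) * ((-1) ^ (e * n) * x ^ n * (y ^ e)⁻¹) := by
        ring

/-- case C0 of the Steinberg-type relation -/
theorem bs'_caseC (x y z : κ) (hx : x ≠ 0) (hy : y ≠ 0) (e : ℕ) :
    bs' x e z e * bs' y e y e = bs' y e z e * bs' x e y e := by
  rw [bs'_self y hy]
  unfold bs'
  rw [sgn_mul_self]
  have hye : y ^ e ≠ 0 := pow_ne_zero _ hy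
  calc (-1 : κ) ^ e * x ^ e * (z ^ e)⁻¹ * (-1) ^ e
      = ((-1 : κ) ^ e * (-1) ^ e) * (x ^ e * (z ^ e)⁻¹) := by ring
    _ = ((-1 : κ) ^ e * (-1) ^ e) * (x ^ e * (z ^ e)⁻¹) * (y ^ e * (y ^ e)⁻¹) := by
        rw [mul_inv_cancel₀ hye, mul_one]
    _ = (-1) ^ e * y ^ e * (z ^ e)⁻¹ * ((-1) ^ e * x ^ e * (y ^ e)⁻¹) := by ring

end field

/-- a factorization `c = u π^e` -/
structure Mono (C : Type u) [CommRing C] (π c : C) where
  u : Cˣ
  e : ℕ
  fac : c = (u : C) * π ^ e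

namespace Mono

variable {C : Type u} [CommRing C] {π c c' c₁ c₂ : C}

/-- product of monomials -/
def mul (M : Mono C π c) (M' : Mono C π c') : Mono C π (c * c') where
  u := M.u * M'.u
  e := M.e + M'.e
  fac := by
    conv_lhs => rw [M.fac, M'.fac]
    rw [Units.val_mul, pow_add]
    ring

/-- a unit as a monomial -/
def ofUnit (π : C) (v : Cˣ) : Mono C π (v : C) := ⟨v, 0, by rw [pow_zero, mul_one]⟩

/-- transport along an equality -/
def cast (h : c = c') (M : Mono C π c) : Mono C π c' := ⟨M.u, M.e, h ▸ M.fac⟩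

@[simp] theorem cast_u (h : c = c') (M : Mono C π c) : (M.cast h).u = M.u := rfl
@[simp] theorem cast_e (h : c = c') (M : Mono C π c) : (M.cast h).e = M.e := rfl
@[simp] theorem mul_u (M : Mono C π c) (M' : Mono C π c') : (M.mul M').u = M.u * M'.u := rfl
@[simp] theorem mul_e (M : Mono C π c) (M' : Mono C π c') : (M.mul M').e = M.e + M'.e := rfl
@[simp] theorem ofUnit_u (v : Cˣ) : (ofUnit π v).u = v := rfl
@[simp] theorem ofUnit_e (v : Cˣ) : (ofUnit π v).e = 0 := rfl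

variable [IsLocalRing C]

/-- the residue of the unit part -/
noncomputable def r (M : Mono C π c) : ResidueField C := residue C (M.u : C)

theorem r_ne_zero (M : Mono C π c) : M.r ≠ 0 := LocFac.residue_unit_ne_zero _

/-- the factorization datum attached to two monomials -/
def toLocFac (hπ : π ∈ nonZeroDivisors C) (M₁ : Mono C π c₁) (M₂ : Mono C π c₂) :
    LocFac C c₁ c₂ :=
  ⟨π, hπ, M₁.u, M₂.u, M₁.e, M₂.e, M₁.fac, M₂.fac⟩

theorem toLocFac_base (hπ : π ∈ nonZeroDivisors C) (M₁ : Mono C π c₁) (M₂ : Mono C π c₂) :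
    (toLocFac hπ M₁ M₂).base = bs' M₁.r M₁.e M₂.r M₂.e := rfl

theorem toLocFac_sym (hπ : π ∈ nonZeroDivisors C) (M₁ : Mono C π c₁) (M₂ : Mono C π c₂) :
    (toLocFac hπ M₁ M₂).sym = bs' M₁.r M₁.e M₂.r M₂.e ^ (Ring.ord C π).toNat := rfl

theorem mul_r (M : Mono C π c) (M' : Mono C π c') : (M.mul M').r = M.r * M'.r := by
  unfold r
  rw [mul_u, Units.val_mul, map_mul]

/-- uniqueness of exponent and unit part -/
theorem unique (hπ : π ∈ nonZeroDivisors C) (hπu : ¬ IsUnit π) (u w : C) (hu : IsUnit u)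
    (hw : IsUnit w) (i j : ℕ) (h : u * π ^ i = w * π ^ j) : i = j ∧ u = w := by
  have key : ∀ (u w : C) (_ : IsUnit u) (_ : IsUnit w) (i j : ℕ), i ≤ j →
      u * π ^ i = w * π ^ j → i = j ∧ u = w := by
    intro u w hu hw i j hij h
    obtain ⟨k, rfl⟩ := Nat.exists_eq_add_of_le hij
    rw [pow_add, mul_comm (π ^ i) (π ^ k), ← mul_assoc] at h
    have h2 : u = w * π ^ k := (mul_cancel_right_mem_nonZeroDivisors (pow_mem hπ i)).mp h
    rcases Nat.eq_zero_or_pos k with hk | hk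
    · subst hk
      rw [pow_zero, mul_one] at h2
      exact ⟨rfl, h2⟩
    · exfalso
      apply hπu
      have h3 : IsUnit (w * π ^ k) := h2 ▸ hu
      exact (isUnit_pow_iff hk.ne').mp (IsUnit.mul_iff.mp h3).2
  rcases le_total i j with hij | hij
  · exact key u w hu hw i j hij h
  · obtain ⟨h1, h2⟩ := key w u hw hu j i hij h.symm
    exact ⟨h1.symm, h2.symm⟩

end Mono

end Groth.Agent.Lib.Helper29.Tame
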