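import Groth.Agent.Lib.Helper29.TameL

/-!
# Tame symbols, part M: local laws for the symbol attached to monomials
-/

set_option autoImplicit false

namespace Groth.Agent.Lib.Helper29.Tame

universe u

open IsLocalRing

namespace Mono

variable {C : Type u} [CommRing C] [IsLocalRing C] {π c c' d : C}

theorem sym_mul_left (hπ : π ∈ nonZeroDivisors C) (M : Mono C π c) (M' : Mono C π c')
    (N : Mono C π d) :
    (toLocFac hπ (M.mul M') N).sym = (toLocFac hπ M N).sym * (toLocFac hπ M' N).sym := by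
  rw [toLocFac_sym, toLocFac_sym, toLocFac_sym, mul_r, mul_e, bs'_mul_left, mul_pow]

theorem sym_mul_right (hπ : π ∈ nonZeroDivisors C) (M : Mono C π c) (M' : Mono C π c')
    (N : Mono C π d) :
    (toLocFac hπ N (M.mul M')).sym = (toLocFac hπ N M).sym * (toLocFac hπ N M').sym := by
  rw [toLocFac_sym, toLocFac_sym, toLocFac_sym, mul_r, mul_e, bs'_mul_right, mul_pow]

theorem sym_self (hπ : π ∈ nonZeroDivisors C) (M : Mono C π c) :
    (toLocFac hπ M M).sym = (-1) ^ (M.e * (Ring.ord C π).toNat) := by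
  rw [toLocFac_sym, bs'_self _ M.r_ne_zero, ← pow_mul]

theorem sym_unit_left (hπ : π ∈ nonZeroDivisors C) (v : Cˣ) (N : Mono C π d) :
    (toLocFac hπ (ofUnit π v) N).sym = residue C (v : C) ^ (N.e * (Ring.ord C π).toNat) := by
  rw [toLocFac_sym, pow_mul]
  congr 1
  unfold bs'
  rw [ofUnit_e, zero_mul, pow_zero, pow_zero, inv_one, one_mul, mul_one]
  rfl

theorem residue_pi (hπu : ¬ IsUnit π) : residue C π = 0 :=
  (residue_eq_zero_iff π).mpr ((mem_maximalIdeal π).mpr hπu)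

theorem bs_steinberg (hπ : π ∈ nonZeroDivisors C) (hπu : ¬ IsUnit π) {a b : C}
    (Ma : Mono C π a) (Mb : Mono C π b) (Mc : Mono C π (b - a)) :
    bs' Ma.r Ma.e Mc.r Mc.e * bs' Mb.r Mb.e Mb.r Mb.e =
      bs' Mb.r Mb.e Mc.r Mc.e * bs' Ma.r Ma.e Mb.r Mb.e := by
  have hc : (Mc.u : C) * π ^ Mc.e = (Mb.u : C) * π ^ Mb.e - (Ma.u : C) * π ^ Ma.e := by
    rw [← Mc.fac, ← Ma.fac, ← Mb.fac]
  have hres := residue_pi hπu
  rcases lt_trichotomy Ma.e Mb.e with hlt | heq | hgt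
  · -- case A
    obtain ⟨k, hk⟩ := Nat.exists_eq_add_of_lt hlt
    have hw : (Mc.u : C) * π ^ Mc.e = ((Mb.u : C) * π ^ (k + 1) - (Ma.u : C)) * π ^ Ma.e := by
      rw [hc, hk]
      ring
    have hwres : residue C ((Mb.u : C) * π ^ (k + 1) - (Ma.u : C)) = - Ma.r := by
      rw [map_sub, map_mul, map_pow, hres, zero_pow (Nat.succ_ne_zero k), mul_zero, zero_sub]
      rfl
    have hwu : IsUnit ((Mb.u : C) * π ^ (k + 1) - (Ma.u : C)) := by
      rw [← residue_ne_zero_iff_isUnit, hwres]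
      exact neg_ne_zero.mpr Ma.r_ne_zero
    obtain ⟨he, hu⟩ := unique hπ hπu _ _ Mc.u.isUnit hwu _ _ hw
    have hr : Mc.r = - Ma.r := by
      rw [← hwres, ← hu]
      rfl
    rw [hr, he]
    exact bs'_caseA _ _ Ma.r_ne_zero Mb.r_ne_zero _ _
  · -- case C
    rw [← heq, ← sub_mul] at hc
    rcases lt_or_ge Mc.e Ma.e with hlt | hge
    · exfalso
      obtain ⟨k, hk⟩ := Nat.exists_eq_add_of_lt hlt
      rw [hk, show Mc.e + k + 1 = (k + 1) + Mc.e by ring, pow_add, ← mul_assoc] at hc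
      have h2 := (mul_cancel_right_mem_nonZeroDivisors (pow_mem hπ Mc.e)).mp hc
      have h3 : IsUnit (((Mb.u : C) - (Ma.u : C)) * π ^ (k + 1)) := h2 ▸ Mc.u.isUnit
      exact hπu ((isUnit_pow_iff (Nat.succ_ne_zero k)).mp (IsUnit.mul_iff.mp h3).2)
    · obtain ⟨k, hk⟩ := Nat.exists_eq_add_of_le hge
      rw [hk, show Ma.e + k = k + Ma.e by ring, pow_add, ← mul_assoc] at hc
      have h2 := (mul_cancel_right_mem_nonZeroDivisors (pow_mem hπ Ma.e)).mp hc
      rcases Nat.eq_zero_or_pos k with hk0 | hkpos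
      · subst hk0
        rw [add_zero] at hk
        rw [hk, ← heq]
        exact bs'_caseC _ _ _ Ma.r_ne_zero Mb.r_ne_zero _
      · have h3 := congrArg (residue C) h2
        rw [map_mul, map_pow, hres, zero_pow hkpos.ne', mul_zero, map_sub] at h3
        have hr : Ma.r = Mb.r := (sub_eq_zero.mp h3.symm).symm
        rw [← heq, hr]
  · -- case B
    obtain ⟨k, hk⟩ := Nat.exists_eq_add_of_lt hgt
    have hw : (Mc.u : C) * π ^ Mc.e = ((Mb.u : C) - (Ma.u : C) * π ^ (k + 1)) * π ^ Mb.e := by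
      rw [hc, hk]
      ring
    have hwres : residue C ((Mb.u : C) - (Ma.u : C) * π ^ (k + 1)) = Mb.r := by
      rw [map_sub, map_mul, map_pow, hres, zero_pow (Nat.succ_ne_zero k), mul_zero, sub_zero]
      rfl
    have hwu : IsUnit ((Mb.u : C) - (Ma.u : C) * π ^ (k + 1)) := by
      rw [← residue_ne_zero_iff_isUnit, hwres]
      exact Mb.r_ne_zero
    obtain ⟨he, hu⟩ := unique hπ hπu _ _ Mc.u.isUnit hwu _ _ hw
    have hr : Mc.r = Mb.r := by
      rw [← hwres, ← hu]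
      rfl
    rw [hr, he, mul_comm]

theorem sym_steinberg (hπ : π ∈ nonZeroDivisors C) {a b : C}
    (Ma : Mono C π a) (Mb : Mono C π b) (Mc : Mono C π (b - a)) :
    (toLocFac hπ Ma Mc).sym * (toLocFac hπ Mb Mb).sym =
      (toLocFac hπ Mb Mc).sym * (toLocFac hπ Ma Mb).sym := by
  rw [toLocFac_sym, toLocFac_sym, toLocFac_sym, toLocFac_sym, ← mul_pow, ← mul_pow]
  by_cases hπu : IsUnit π
  · rw [Ring.ord_of_isUnit hπu]
    simp
  · rw [bs_steinberg hπ hπu Ma Mb Mc]

end Mono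

end Groth.Agent.Lib.Helper29.Tame
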