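import Groth.Agent.Lib.Helper29.TameO
import Mathlib.RingTheory.Ideal.AssociatedPrime.Basic

/-!
# Tame symbols, part P: invariance under ring isomorphisms, torsion-freeness
-/

set_option autoImplicit false

namespace Groth.Agent.Lib.Helper29.Tame

universe u

open IsLocalRing CycAlg

/-- the order of vanishing is invariant under ring isomorphisms -/
theorem ord_ringEquiv {C C'' : Type u} [CommRing C] [CommRing C''] (φ : C ≃+* C'') (x : C) :
    Ring.ord C'' (φ x) = Ring.ord C x := by
  unfold Ring.ord
  have hI : Ideal.span {φ x} = Ideal.map (φ : C →+* C'') (Ideal.span {x}) := by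
    rw [Ideal.map_span, Set.image_singleton]
    rfl
  let e := Ideal.quotientEquiv (Ideal.span {x}) (Ideal.span {φ x}) φ hI
  haveI : RingHomSurjective (φ : C →+* C'') := ⟨φ.surjective⟩
  let f : (C ⧸ Ideal.span {x}) →ₛₗ[(φ : C →+* C'')] (C'' ⧸ Ideal.span {φ x}) :=
    { toFun := e
      map_add' := map_add e
      map_smul' := by
        intro c y
        obtain ⟨y, rfl⟩ := Ideal.Quotient.mk_surjective y
        show e (Ideal.Quotient.mk _ (c * y)) = _
        rw [Ideal.quotientEquiv_mk, Ideal.quotientEquiv_mk, map_mul]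
        rfl }
  symm
  rw [Module.length, Module.length, WithBot.unbot_inj,
    Order.krullDim_eq_of_orderIso (Submodule.orderIsoMapComapOfBijective f e.bijective)]

section tower

variable {A C C'' : Type u} [CommRing A] [CommRing C] [CommRing C''] [IsLocalRing A]
  [IsLocalRing C] [IsLocalRing C''] [Algebra A C] [Algebra A C'']
  [IsLocalHom (algebraMap A C)] [IsLocalHom (algebraMap A C'')]

/-- the norm of the local symbol is invariant under isomorphisms -/
theorem norm_map_sym_of_bijective (φ : C →+* C'') [hφl : IsLocalHom φ]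
    (hφb : Function.Bijective φ)
    (hcomp : ∀ a : A, φ (algebraMap A C a) = algebraMap A C'' a)
    {c₁ c₂ : C} (F : LocFac C c₁ c₂) (hφ : φ F.π ∈ nonZeroDivisors C'') {d₁ d₂ : C''}
    (h₁ : φ c₁ = d₁) (h₂ : φ c₂ = d₂) :
    Algebra.norm (ResidueField A) (F.map φ hφ h₁ h₂).sym =
      Algebra.norm (ResidueField A) F.sym := by
  letI : Algebra C C'' := φ.toAlgebra
  haveI : IsScalarTower A C C'' := IsScalarTower.of_algebraMap_eq (fun a => (hcomp a).symm)
  haveI : IsLocalHom (algebraMap C C'') := hφl
  have hb : (F.map φ hφ h₁ h₂).base = algebraMap (ResidueField C) (ResidueField C'') F.base := by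
    rw [LocFac.map_base]
    generalize F.base = c
    obtain ⟨x, rfl⟩ := residue_surjective c
    rfl
  have hord : Ring.ord C'' (φ F.π) = Ring.ord C F.π :=
    ord_ringEquiv (RingEquiv.ofBijective φ hφb) F.π
  have hsurj : Function.Surjective (algebraMap (ResidueField C) (ResidueField C'')) := by
    intro y
    obtain ⟨y, rfl⟩ := residue_surjective y
    obtain ⟨x, rfl⟩ := hφb.2 y
    exact ⟨residue C x, rfl⟩
  have hrank : Module.finrank (ResidueField C) (ResidueField C'') = 1 := by
    have e : ResidueField C ≃ₗ[ResidueField C] ResidueField C'' :=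
      LinearEquiv.ofBijective (Algebra.linearMap (ResidueField C) (ResidueField C''))
        ⟨(algebraMap (ResidueField C) (ResidueField C'')).injective, hsurj⟩
    rw [← e.finrank_eq, Module.finrank_self]
  show Algebra.norm (ResidueField A) ((F.map φ hφ h₁ h₂).base ^ (Ring.ord C'' (φ F.π)).toNat) = _
  rw [hb, hord, ← map_pow, norm_algebraMap_residue, hrank, pow_one]
  rfl

end tower

section tors

variable {A : Type u} [CommRing A] [IsNoetherianRing A] [IsLocalRing A]
  {B : Type u} [CommRing B] [Algebra A B]

/-- if the maximal ideal is not an associated prime of `B`, non-zero-divisors of `A` remain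
non-zero-divisors in `B` -/
theorem nzd_of_notMem_associatedPrimes (hB : IsFinExt A B (maximalIdeal A))
    (hass : maximalIdeal A ∉ associatedPrimes A B) (f : A) (hf : f ∈ nonZeroDivisors A) :
    algebraMap A B f ∈ nonZeroDivisors B := by
  rw [mem_nonZeroDivisors_iff_right]
  intro x hx
  by_contra hx0
  obtain ⟨n, hn⟩ := hB.2.2
  obtain ⟨P, hP, hle⟩ := exists_le_isAssociatedPrime_of_isNoetherianRing A x hx0
  apply hass
  have hmP : maximalIdeal A ^ n ≤ P := by
    intro r hr
    apply hle
    rw [Submodule.mem_colon_singleton, Submodule.mem_bot]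
    obtain ⟨a', ha'⟩ := RingHom.mem_range.mp (hn r hr x)
    have h1 : algebraMap A B (f * a') = 0 := by
      rw [map_mul, ha', Algebra.smul_def, ← mul_assoc, mul_comm (algebraMap A B f), mul_assoc,
        mul_comm (algebraMap A B f), hx, mul_zero]
    have h2 : f * a' = 0 := hB.1 (by rw [h1, map_zero])
    have h3 : a' = 0 := (mem_nonZeroDivisors_iff_right.mp hf) a' (by rw [mul_comm]; exact h2) 
    rw [← ha', h3, map_zero]
  haveI := hP.isPrime
  have hmP' : maximalIdeal A ≤ P := Ideal.IsPrime.le_of_pow_le hmP
  have : P = maximalIdeal A :=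
    ((maximalIdeal.isMaximal A).eq_of_le hP.isPrime.ne_top hmP').symm
  rw [← this]
  exact hP

end tors

section dim

/-- a Noetherian local ring of dimension `≤ 1` with a non-unit non-zero-divisor has dimension
one -/
theorem ringKrullDim_eq_one_of_nzd {R : Type u} [CommRing R] [IsLocalRing R]
    [Ring.KrullDimLE 1 R] (t : R) (ht : t ∈ nonZeroDivisors R) (htu : ¬ IsUnit t) :
    ringKrullDim R = 1 := by
  apply le_antisymm (Ring.krullDimLE_iff.mp inferInstance)
  have h := ringKrullDim_quotient_succ_le_of_nonZeroDivisor ht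
  haveI : Nontrivial (R ⧸ Ideal.span {t}) := by
    apply Ideal.Quotient.nontrivial_iff.mpr
    rw [Ne, Ideal.span_singleton_eq_top]
    exact htu
  have h0 : (0 : WithBot ℕ∞) ≤ ringKrullDim (R ⧸ Ideal.span {t}) := ringKrullDim_nonneg_of_nontrivial
  calc (1 : WithBot ℕ∞) = 0 + 1 := by simp
    _ ≤ ringKrullDim (R ⧸ Ideal.span {t}) + 1 := by gcongr
    _ ≤ ringKrullDim R := h

end dim

end Groth.Agent.Lib.Helper29.Tame
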