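import Groth.Agent.Lib.Helper29.TameP
import Mathlib.RingTheory.Localization.LocalizationLocalization
import Mathlib.RingTheory.Localization.Finiteness

/-!
# Tame symbols, part Q: localizing a finite algebra at a maximal ideal of the base
-/

set_option autoImplicit false

namespace Groth.Agent.Lib.Helper29.Tame

universe u

open IsLocalRing CycAlg

section loc

variable {B : Type u} [CommRing B] (q : Ideal B) [hq : q.IsMaximal]
  (C : Type u) [CommRing C] [Algebra B C] [Module.Finite B C]

/-- the localization of `C` at the image of the complement of `q` -/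
abbrev Eloc : Type u := Localization (Algebra.algebraMapSubmonoid C q.primeCompl)

variable {C}

/-- contraction of a maximal ideal of the localization -/
abbrev jIdeal (n : MaximalSpectrum (Eloc q C)) : Ideal C :=
  n.asIdeal.comap (algebraMap C (Eloc q C))

theorem jIdeal_comap (n : MaximalSpectrum (Eloc q C)) :
    (jIdeal q n).comap (algebraMap B C) = q := by
  have h1 : (jIdeal q n).comap (algebraMap B C) =
      (n.asIdeal.comap (algebraMap (Localization.AtPrime q) (Eloc q C))).comap
        (algebraMap B (Localization.AtPrime q)) := by
    rw [Ideal.comap_comap, Ideal.comap_comap]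
    congr 1
    rw [← IsScalarTower.algebraMap_eq, ← IsScalarTower.algebraMap_eq]
  rw [h1, comap_maximal (A := Localization.AtPrime q) n]
  exact Localization.AtPrime.under_maximalIdeal

theorem jIdeal_isMaximal (n : MaximalSpectrum (Eloc q C)) : (jIdeal q n).IsMaximal := by
  haveI := n.isMaximal
  haveI : (jIdeal q n).IsPrime := Ideal.comap_isPrime _ _
  haveI : Algebra.IsIntegral B C := inferInstance
  apply Ideal.isMaximal_of_isIntegral_of_isMaximal_comap (R := B)
  rw [jIdeal_comap]
  exact hq

/-- the maximal ideal of `C` below a maximal ideal of the localization -/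
def jMax (n : MaximalSpectrum (Eloc q C)) : MaximalSpectrum C :=
  ⟨jIdeal q n, jIdeal_isMaximal q n⟩

theorem jMax_injective : Function.Injective (jMax q (C := C)) := by
  intro n₁ n₂ h
  have h' : jIdeal q n₁ = jIdeal q n₂ := congrArg MaximalSpectrum.asIdeal h
  have e1 := IsLocalization.map_under (Algebra.algebraMapSubmonoid C q.primeCompl) (Eloc q C)
    n₁.asIdeal
  have e2 := IsLocalization.map_under (Algebra.algebraMapSubmonoid C q.primeCompl) (Eloc q C)
    n₂.asIdeal
  ext1
  rw [← e1, ← e2]
  exact congrArg _ h'

theorem range_jMax : Set.range (jMax q (C := C)) =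
    {q'' : MaximalSpectrum C | q''.asIdeal.comap (algebraMap B C) = q} := by
  ext q''
  constructor
  · rintro ⟨n, rfl⟩
    exact jIdeal_comap q n
  · intro hq''
    haveI := q''.isMaximal
    have hdisj : Disjoint (Algebra.algebraMapSubmonoid C q.primeCompl : Set C) q''.asIdeal := by
      rw [Set.disjoint_left]
      rintro x ⟨t, ht, rfl⟩ hx
      apply ht
      rw [← hq'']
      exact hx
    have hprime := IsLocalization.isPrime_of_isPrime_disjoint
      (Algebra.algebraMapSubmonoid C q.primeCompl) (Eloc q C) q''.asIdeal inferInstance hdisj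
    have hunder := IsLocalization.under_map_of_isPrime_disjoint
      (Algebra.algebraMapSubmonoid C q.primeCompl) (Eloc q C)
      (inferInstance : q''.asIdeal.IsPrime) hdisj
    obtain ⟨n', hn', hle⟩ := Ideal.exists_le_maximal _ hprime.ne_top
    have h1 : q''.asIdeal ≤ n'.comap (algebraMap C (Eloc q C)) := by
      rw [← hunder]
      exact Ideal.comap_mono hle
    have h2 : n'.comap (algebraMap C (Eloc q C)) = q''.asIdeal :=
      (q''.isMaximal.eq_of_le (Ideal.comap_ne_top _ hn'.ne_top) h1).symm
    refine ⟨⟨n', hn'⟩, ?_⟩
    ext1
    exact h2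

/-- the isomorphism of the localizations -/
noncomputable def psi (n : MaximalSpectrum (Eloc q C)) :
    Localization.AtPrime (jMax q n).asIdeal ≃ₐ[C] Localization.AtPrime n.asIdeal :=
  IsLocalization.localizationLocalizationAtPrimeIsoLocalization
    (Algebra.algebraMapSubmonoid C q.primeCompl) n.asIdeal

end loc

end Groth.Agent.Lib.Helper29.Tame
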