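import Groth.Agent.Lib.Helper29.TameQ

/-!
# Tame symbols, part R: the localized algebra is a finite extension
-/

set_option autoImplicit false

namespace Groth.Agent.Lib.Helper29.Tame

universe u

open IsLocalRing CycAlg

section finext

variable {B : Type u} [CommRing B] (q : Ideal B) [hq : q.IsMaximal]
  {C : Type u} [CommRing C] [Algebra B C] [Module.Finite B C]

theorem isFinExt_loc [IsNoetherianRing (Localization.AtPrime q)]
    [Ring.KrullDimLE 1 (Localization.AtPrime q)]
    (hinj : Function.Injective (algebraMap B C)) (t : B)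
    (ht : algebraMap B (Localization.AtPrime q) t ∈ nonZeroDivisors (Localization.AtPrime q))
    (N : ℕ) (hN : ∀ c : C, t ^ N • c ∈ (algebraMap B C).range) :
    IsFinExt (Localization.AtPrime q) (Eloc q C) (maximalIdeal (Localization.AtPrime q)) := by
  refine ⟨localizationAlgebra_injective _ _ hinj, inferInstance, ?_⟩
  obtain ⟨k, hk⟩ := exists_maximalIdeal_pow_le (algebraMap B (Localization.AtPrime q) t) ht
  refine ⟨k * N, ?_⟩
  intro r hr e
  have hr' : r ∈ Ideal.span {(algebraMap B (Localization.AtPrime q) t) ^ N} := by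
    rw [← Ideal.span_singleton_pow]
    apply Ideal.pow_right_mono hk N
    rwa [← pow_mul]
  obtain ⟨r', rfl⟩ := Ideal.mem_span_singleton'.mp hr'
  obtain ⟨c, ⟨s, hs⟩, rfl⟩ := IsLocalization.exists_mk'_eq
    (Algebra.algebraMapSubmonoid C q.primeCompl) e
  obtain ⟨s₀, hs₀, rfl⟩ := hs
  obtain ⟨b, hb⟩ := RingHom.mem_range.mp (hN c)
  have key : (algebraMap B (Localization.AtPrime q) t ^ N) •
      IsLocalization.mk' (Eloc q C) c
        (⟨algebraMap B C s₀, Algebra.mem_algebraMapSubmonoid_of_mem ⟨s₀, hs₀⟩⟩ :
          Algebra.algebraMapSubmonoid C q.primeCompl) =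
      algebraMap (Localization.AtPrime q) (Eloc q C)
        (IsLocalization.mk' (Localization.AtPrime q) b (⟨s₀, hs₀⟩ : q.primeCompl)) := by
    rw [IsLocalization.algebraMap_mk' C (Localization.AtPrime q) (Eloc q C), hb, Algebra.smul_def,
      map_pow, ← IsScalarTower.algebraMap_apply B (Localization.AtPrime q) (Eloc q C),
      IsScalarTower.algebraMap_apply B C (Eloc q C), ← map_pow,
      IsLocalization.mul_mk'_eq_mk'_of_mul, Algebra.smul_def, map_pow]
  rw [mul_smul, key, Algebra.smul_def, ← map_mul]
  exact ⟨_, rfl⟩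

end finext

end Groth.Agent.Lib.Helper29.Tame
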