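import Groth.Agent.Lib.Helper29.TameR

/-!
# Tame symbols, part S: the tame symbol of a localization of a finite extension
-/

set_option autoImplicit false

namespace Groth.Agent.Lib.Helper29.Tame

universe u

open IsLocalRing CycAlg

section psi

variable {B : Type u} [CommRing B] (q : Ideal B) [hq : q.IsMaximal]
  {C : Type u} [CommRing C] [Algebra B C] [Module.Finite B C]

/-- the isomorphism `psi` as a ring homomorphism -/
noncomputable def psiHom (n : MaximalSpectrum (Eloc q C)) :
    Localization.AtPrime (jMax q n).asIdeal →+* Localization.AtPrime n.asIdeal :=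
  (psi q n).toAlgHom.toRingHom

theorem psiHom_algebraMap (n : MaximalSpectrum (Eloc q C)) (c : C) :
    psiHom q n (algebraMap C _ c) = algebraMap C _ c := (psi q n).commutes c

theorem psiHom_bijective (n : MaximalSpectrum (Eloc q C)) : Function.Bijective (psiHom q n) :=
  (psi q n).bijective

instance isLocalHom_psiHom (n : MaximalSpectrum (Eloc q C)) : IsLocalHom (psiHom q n) := by
  constructor
  intro x hx
  have h := hx.map (psi q n).symm
  have e : (psi q n).symm (psiHom q n x) = x := (psi q n).symm_apply_apply x
  rwa [e] at h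

theorem psiHom_mem_nonZeroDivisors (n : MaximalSpectrum (Eloc q C))
    (x : Localization.AtPrime (jMax q n).asIdeal) (hx : x ∈ nonZeroDivisors _) :
    psiHom q n x ∈ nonZeroDivisors (Localization.AtPrime n.asIdeal) := by
  rw [mem_nonZeroDivisors_iff_right]
  intro y hy
  obtain ⟨y, rfl⟩ := (psiHom_bijective q n).2 y
  rw [← map_mul] at hy
  have h0 : y * x = 0 := (psiHom_bijective q n).1 (by rw [hy, map_zero])
  rw [(mem_nonZeroDivisors_iff_right.mp hx) y h0, map_zero]

end psi

section thmM

variable {A : Type u} [CommRing A] [IsNoetherianRing A] [IsLocalRing A]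
  {B : Type u} [CommRing B] [Algebra A B] [Module.Finite A B]
  {C : Type u} [CommRing C] [Algebra A C] [Algebra B C] [IsScalarTower A B C] [Module.Finite A C]
  [hlocB : ∀ q : MaximalSpectrum B, IsLocalHom (algebraMap A (Localization.AtPrime q.asIdeal))]
  [hlocC : ∀ q'' : MaximalSpectrum C,
    IsLocalHom (algebraMap A (Localization.AtPrime q''.asIdeal))]

omit [IsNoetherianRing A] [IsLocalRing A] [Module.Finite A B] [Module.Finite A C] hlocB hlocC in
theorem nzd_base_of_nzd (hinj : Function.Injective (algebraMap B C)) (x : A)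
    (hx : algebraMap A C x ∈ nonZeroDivisors C) : algebraMap A B x ∈ nonZeroDivisors B := by
  rw [mem_nonZeroDivisors_iff_right]
  intro y hy
  apply hinj
  rw [map_zero]
  apply (mem_nonZeroDivisors_iff_right.mp hx)
  rw [IsScalarTower.algebraMap_apply A B C, ← map_mul, hy, map_zero]

theorem norm_tameSymbol_loc (hA : ringKrullDim A = 1) (q : MaximalSpectrum B)
    (f : A) (hf : ¬ IsUnit f) (hfC : algebraMap A C f ∈ nonZeroDivisors C)
    (hinj : Function.Injective (algebraMap B C)) (N : ℕ)
    (hN : ∀ c : C, f ^ N • c ∈ (algebraMap B C).range)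
    (a b : A)
    (G : ∀ q'' : MaximalSpectrum C, LocFac (Localization.AtPrime q''.asIdeal)
      (algebraMap A _ a) (algebraMap A _ b)) :
    Algebra.norm (ResidueField A) (tameSymbol (Localization.AtPrime q.asIdeal)
        (algebraMap A _ a) (algebraMap A _ b)) =
      ∏ᶠ q'' ∈ {q'' : MaximalSpectrum C | q''.asIdeal.comap (algebraMap B C) = q.asIdeal},
        Algebra.norm (ResidueField A) (G q'').sym := by
  haveI : Ring.KrullDimLE 1 A := Ring.krullDimLE_iff.mpr hA.le
  haveI := q.isMaximal
  haveI : Module.Finite B C := Module.Finite.of_restrictScalars_finite A B C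
  obtain ⟨hNoeR, hKR⟩ := instances_localization' A q
  have nzdR : ∀ x : A, algebraMap A C x ∈ nonZeroDivisors C →
      algebraMap A (Localization.AtPrime q.asIdeal) x ∈
        nonZeroDivisors (Localization.AtPrime q.asIdeal) := by
    intro x hx
    rw [IsScalarTower.algebraMap_apply A B (Localization.AtPrime q.asIdeal)]
    exact IsLocalization.map_nonZeroDivisors_le q.asIdeal.primeCompl _
      (Submonoid.mem_map_of_mem _ (nzd_base_of_nzd hinj x hx))
  have haC : algebraMap A C a ∈ nonZeroDivisors C := by
    apply mem_nonZeroDivisors_of_localization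
    intro n
    rw [← IsScalarTower.algebraMap_apply]
    exact (G n).c₁_mem
  have hbC : algebraMap A C b ∈ nonZeroDivisors C := by
    apply mem_nonZeroDivisors_of_localization
    intro n
    rw [← IsScalarTower.algebraMap_apply]
    exact (G n).c₂_mem
  have hfR := nzdR f hfC
  have hfRu : ¬ IsUnit (algebraMap A (Localization.AtPrime q.asIdeal) f) :=
    fun hu => hf (isUnit_of_map_unit (algebraMap A _) f hu)
  have hR : ringKrullDim (Localization.AtPrime q.asIdeal) = 1 :=
    ringKrullDim_eq_one_of_nzd _ hfR hfRu
  have hN' : ∀ c : C, (algebraMap A B f) ^ N • c ∈ (algebraMap B C).range := by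
    intro c
    rw [← map_pow, algebraMap_smul]
    exact hN c
  have hE := isFinExt_loc q.asIdeal hinj (algebraMap A B f)
    (by rw [← IsScalarTower.algebraMap_apply]; exact hfR) N hN'
  haveI hlocE : ∀ n : MaximalSpectrum (Eloc q.asIdeal C),
      IsLocalHom (algebraMap (Localization.AtPrime q.asIdeal) (Localization.AtPrime n.asIdeal)) :=
    fun n => isLocalHom_of_finite n
  haveI tARE : IsScalarTower A (Localization.AtPrime q.asIdeal) (Eloc q.asIdeal C) :=
    IsScalarTower.of_algebraMap_eq (fun x => by
      rw [IsScalarTower.algebraMap_apply A C (Eloc q.asIdeal C),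
        IsScalarTower.algebraMap_apply A B C,
        ← IsScalarTower.algebraMap_apply B C (Eloc q.asIdeal C),
        IsScalarTower.algebraMap_apply B (Localization.AtPrime q.asIdeal) (Eloc q.asIdeal C),
        ← IsScalarTower.algebraMap_apply A B (Localization.AtPrime q.asIdeal)])
  have tAREn : ∀ n : MaximalSpectrum (Eloc q.asIdeal C),
      IsScalarTower A (Localization.AtPrime q.asIdeal) (Localization.AtPrime n.asIdeal) := fun n =>
    IsScalarTower.of_algebraMap_eq (fun x => by
      rw [IsScalarTower.algebraMap_apply A (Eloc q.asIdeal C) (Localization.AtPrime n.asIdeal),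
        IsScalarTower.algebraMap_apply A (Localization.AtPrime q.asIdeal) (Eloc q.asIdeal C),
        ← IsScalarTower.algebraMap_apply (Localization.AtPrime q.asIdeal) (Eloc q.asIdeal C)
          (Localization.AtPrime n.asIdeal)])
  have hcomp : ∀ (n : MaximalSpectrum (Eloc q.asIdeal C)) (x : A),
      psiHom q.asIdeal n (algebraMap A _ x) = algebraMap A (Localization.AtPrime n.asIdeal) x := by
    intro n x
    rw [IsScalarTower.algebraMap_apply A C (Localization.AtPrime (jMax q.asIdeal n).asIdeal),
      psiHom_algebraMap, ← IsScalarTower.algebraMap_apply]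
  have h₁ : ∀ (n : MaximalSpectrum (Eloc q.asIdeal C)) (x : A),
      psiHom q.asIdeal n (algebraMap A _ x) =
        algebraMap (Localization.AtPrime q.asIdeal) (Localization.AtPrime n.asIdeal)
          (algebraMap A (Localization.AtPrime q.asIdeal) x) := by
    intro n x
    haveI := tAREn n
    rw [hcomp, ← IsScalarTower.algebraMap_apply]
  have key := tameSymbol_eq_finprod hR (nzdR a haC) (nzdR b hbC) (Eloc q.asIdeal C) hE
    (fun n => (G (jMax q.asIdeal n)).map (psiHom q.asIdeal n)
      (psiHom_mem_nonZeroDivisors q.asIdeal n _ (G _).π_mem) (h₁ n a) (h₁ n b))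
  haveI := finite_maximalSpectrum (Localization.AtPrime q.asIdeal) (R := Eloc q.asIdeal C)
  rw [key, map_finprod _ (Set.toFinite _), ← range_jMax, finprod_mem_range (jMax_injective q.asIdeal)]
  apply finprod_congr
  intro n
  haveI := tAREn n
  haveI : IsLocalHom (algebraMap A (Localization.AtPrime n.asIdeal)) := by
    rw [IsScalarTower.algebraMap_eq A (Localization.AtPrime q.asIdeal)
      (Localization.AtPrime n.asIdeal)]
    exact RingHom.isLocalHom_comp _ _
  rw [Algebra.norm_norm]
  exact norm_map_sym_of_bijective (A := A) (psiHom q.asIdeal n) (psiHom_bijective q.asIdeal n)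
    (hcomp n) (G _) _ _ _

end thmM

end Groth.Agent.Lib.Helper29.Tame
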