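import Mathlib

/-!
# Helper29 / TrA : exterior algebra helper maps

* `sandwich` : `ι m₀ * y * ι m₀ = 0` in an exterior algebra.
* `mu R M m₀ : ExteriorAlgebra R (M ⧸ R ∙ m₀) →ₗ[R] ExteriorAlgebra R M` : "lift and multiply on the
  right by `ι m₀`", with `mu_prod`.
* `proj R M n : ExteriorAlgebra R M →ₗ[R] ⋀[R]^n M` : projection to the degree `n` part.
-/

set_option autoImplicit false
universe u v

namespace Groth.Agent.Lib.Helper29.Tr

open ExteriorAlgebra

section
variable (R : Type u) [CommRing R] (M : Type v) [AddCommGroup M] [Module R M]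

theorem sandwich (m₀ : M) (y : ExteriorAlgebra R M) : ι R m₀ * y * ι R m₀ = 0 := by
  induction y using CliffordAlgebra.right_induction with
  | algebraMap r =>
    rw [← Algebra.commutes, mul_assoc, ι_sq_zero, mul_zero]
  | add x y hx hy => rw [mul_add, add_mul, hx, hy, add_zero]
  | mul_ι m x hx =>
    have h1 : ι R m * ι R m₀ = - (ι R m₀ * ι R m) := by
      rw [eq_neg_iff_add_eq_zero]; exact ι_add_mul_swap m m₀
    calc ι R m₀ * (x * (ι R) m) * ι R m₀ = ι R m₀ * x * (ι R m * ι R m₀) := by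
          simp only [mul_assoc]
      _ = - (ι R m₀ * x * ι R m₀ * ι R m) := by rw [h1, mul_neg, mul_assoc (ι R m₀ * x)]
      _ = 0 := by rw [hx, zero_mul, neg_zero]

/-- The left ideal `E · ι m₀`, as an `R`-submodule. -/
noncomputable def V (m₀ : M) : Submodule R (ExteriorAlgebra R M) :=
  LinearMap.range (LinearMap.mulRight R (ι R m₀))

theorem ι_mem_V (m₀ : M) : ι R m₀ ∈ V R M m₀ := ⟨1, by simp⟩

theorem mul_mem_V (m₀ : M) (e : ExteriorAlgebra R M) {v : ExteriorAlgebra R M}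
    (hv : v ∈ V R M m₀) : e * v ∈ V R M m₀ := by
  obtain ⟨w, rfl⟩ := hv
  exact ⟨e * w, by simp [mul_assoc]⟩

theorem ι_mul_V_eq_zero (m₀ : M) {v : ExteriorAlgebra R M} (hv : v ∈ V R M m₀) :
    ι R m₀ * v = 0 := by
  obtain ⟨w, rfl⟩ := hv
  simp only [LinearMap.mulRight_apply]
  rw [← mul_assoc]; exact sandwich R M m₀ w

/-- left multiplication by `ι m` on `V`. -/
noncomputable def L₀ (m₀ : M) : M →ₗ[R] Module.End R (V R M m₀) where
  toFun m := (LinearMap.mulLeft R (ι R m)).restrict (p := V R M m₀) (q := V R M m₀)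
    (fun v hv => mul_mem_V R M m₀ _ hv)
  map_add' m m' := by
    ext v; simp [add_mul]
  map_smul' r m := by
    ext v; simp

@[simp] theorem L₀_apply_coe (m₀ m : M) (v : V R M m₀) :
    ((L₀ R M m₀ m v : V R M m₀) : ExteriorAlgebra R M) = ι R m * (v : ExteriorAlgebra R M) := rfl

theorem L₀_self (m₀ : M) : L₀ R M m₀ m₀ = 0 := by
  ext v
  simp only [L₀_apply_coe, LinearMap.zero_apply, ZeroMemClass.coe_zero]
  exact ι_mul_V_eq_zero R M m₀ v.2

/-- `L₀` descended to the quotient by `m₀`. -/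
noncomputable def Lbar (m₀ : M) : (M ⧸ Submodule.span R {m₀}) →ₗ[R] Module.End R (V R M m₀) :=
  Submodule.liftQSpanSingleton (R := R) (M := M) (R₂ := R) (M₂ := Module.End R (V R M m₀))
    (τ₁₂ := RingHom.id R) m₀ (L₀ R M m₀) (L₀_self R M m₀)

@[simp] theorem Lbar_mk (m₀ m : M) :
    Lbar R M m₀ (Submodule.Quotient.mk m) = L₀ R M m₀ m := by
  simp [Lbar]

theorem Lbar_sq (m₀ : M) (q : M ⧸ Submodule.span R {m₀}) :
    Lbar R M m₀ q * Lbar R M m₀ q = 0 := by
  obtain ⟨m, rfl⟩ := Submodule.Quotient.mk_surjective _ q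
  ext v
  simp only [Lbar_mk, Module.End.mul_apply, L₀_apply_coe, LinearMap.zero_apply,
    ZeroMemClass.coe_zero]
  rw [← mul_assoc, ι_sq_zero, zero_mul]

/-- the algebra map to `End (V)`. -/
noncomputable def liftEnd (m₀ : M) :
    ExteriorAlgebra R (M ⧸ Submodule.span R {m₀}) →ₐ[R] Module.End R (V R M m₀) :=
  ExteriorAlgebra.lift R ⟨Lbar R M m₀, Lbar_sq R M m₀⟩

/-- "lift and multiply on the right by `ι m₀`". -/
noncomputable def mu (m₀ : M) :
    ExteriorAlgebra R (M ⧸ Submodule.span R {m₀}) →ₗ[R] ExteriorAlgebra R M :=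
  (V R M m₀).subtype ∘ₗ (LinearMap.applyₗ (⟨ι R m₀, ι_mem_V R M m₀⟩ : V R M m₀)) ∘ₗ
    (liftEnd R M m₀).toLinearMap

theorem mu_apply (m₀ : M) (y : ExteriorAlgebra R (M ⧸ Submodule.span R {m₀})) :
    mu R M m₀ y = ((liftEnd R M m₀ y) ⟨ι R m₀, ι_mem_V R M m₀⟩ : V R M m₀) := rfl

theorem mu_one (m₀ : M) : mu R M m₀ 1 = ι R m₀ := by
  rw [mu_apply, map_one]; rfl

theorem mu_ι_mul (m₀ m : M) (y : ExteriorAlgebra R (M ⧸ Submodule.span R {m₀})) :
    mu R M m₀ (ι R (Submodule.Quotient.mk m) * y) = ι R m * mu R M m₀ y := by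
  rw [mu_apply, mu_apply, map_mul]
  simp only [liftEnd, ExteriorAlgebra.lift_ι_apply, Module.End.mul_apply, Lbar_mk, L₀_apply_coe]

theorem mu_list_prod (m₀ : M) (l : List M) :
    mu R M m₀ ((l.map fun m => ι R (Submodule.Quotient.mk m : M ⧸ Submodule.span R {m₀})).prod) =
      (l.map fun m => ι R m).prod * ι R m₀ := by
  induction l with
  | nil => simp [mu_one]
  | cons m l ih =>
    simp only [List.map_cons, List.prod_cons]
    rw [mu_ι_mul, ih, mul_assoc]

/-- projection onto the degree `n` component. -/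
noncomputable def proj (n : ℕ) : ExteriorAlgebra R M →ₗ[R] ⋀[R]^n M :=
  (DirectSum.component R ℕ (fun i => ⋀[R]^i M) n) ∘ₗ
    (DirectSum.decomposeLinearEquiv (fun i => ⋀[R]^i M)).toLinearMap

theorem proj_coe (n : ℕ) (y : ⋀[R]^n M) : proj R M n (y : ExteriorAlgebra R M) = y := by
  simp only [proj, LinearMap.coe_comp, LinearEquiv.coe_coe, Function.comp_apply,
    DirectSum.decomposeLinearEquiv_apply, DirectSum.decompose_coe]
  simp only [DirectSum.component]
  exact DirectSum.of_eq_same (β := fun i => ↥(⋀[R]^i M)) n y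

end

end Groth.Agent.Lib.Helper29.Tr
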