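import Mathlib

/-!
# Helper29 / TrB : base change of the exterior algebra (one direction)

For an `R`-algebra `S`, an `S`-module `N`, an `R`-module `M'` and an `S`-linear map
`ρ : N → S ⊗[R] M'`, the `S`-algebra map `Psi ρ : ExteriorAlgebra S N → S ⊗[R] ExteriorAlgebra R M'`.
-/

set_option autoImplicit false
universe u v w

namespace Groth.Agent.Lib.Helper29.Tr

open ExteriorAlgebra TensorProduct

section
variable (R : Type u) [CommRing R] (S : Type u) [CommRing S] [Algebra R S]
  (M' : Type v) [AddCommGroup M'] [Module R M']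

/-- base change of `ι`. -/
noncomputable def jay : S ⊗[R] M' →ₗ[S] S ⊗[R] ExteriorAlgebra R M' :=
  (ι R : M' →ₗ[R] ExteriorAlgebra R M').baseChange S

@[simp] theorem jay_tmul (s : S) (m : M') : jay R S M' (s ⊗ₜ m) = s ⊗ₜ ι R m := by
  simp [jay]

theorem jay_anticomm (z z' : S ⊗[R] M') :
    jay R S M' z * jay R S M' z' + jay R S M' z' * jay R S M' z = 0 := by
  induction z using TensorProduct.induction_on with
  | zero => simp
  | add a b ha hb =>
    rw [map_add, add_mul, mul_add]
    calc _ = (jay R S M' a * jay R S M' z' + jay R S M' z' * jay R S M' a) +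
          (jay R S M' b * jay R S M' z' + jay R S M' z' * jay R S M' b) := by abel
      _ = 0 := by rw [ha, hb, add_zero]
  | tmul s m =>
    induction z' using TensorProduct.induction_on with
    | zero => simp
    | add a b ha hb =>
      rw [map_add, add_mul, mul_add]
      calc _ = (jay R S M' (s ⊗ₜ m) * jay R S M' a + jay R S M' a * jay R S M' (s ⊗ₜ m)) +
            (jay R S M' (s ⊗ₜ m) * jay R S M' b + jay R S M' b * jay R S M' (s ⊗ₜ m)) := by abel
        _ = 0 := by rw [ha, hb, add_zero]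
    | tmul s' m' =>
      rw [jay_tmul, jay_tmul, Algebra.TensorProduct.tmul_mul_tmul,
        Algebra.TensorProduct.tmul_mul_tmul, mul_comm s' s, ← tmul_add, ι_add_mul_swap, tmul_zero]

theorem jay_sq (z : S ⊗[R] M') : jay R S M' z * jay R S M' z = 0 := by
  induction z using TensorProduct.induction_on with
  | zero => simp
  | add a b ha hb =>
    rw [map_add, add_mul, mul_add, mul_add, ha, hb]
    have := jay_anticomm R S M' a b
    calc _ = jay R S M' a * jay R S M' b + jay R S M' b * jay R S M' a := by abel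
      _ = 0 := this
  | tmul s m =>
    rw [jay_tmul, Algebra.TensorProduct.tmul_mul_tmul, ι_sq_zero, tmul_zero]

variable {R S M'}
variable {N : Type w} [AddCommGroup N] [Module S N]

/-- the `S`-algebra map induced by `ρ`. -/
noncomputable def Psi (ρ : N →ₗ[S] S ⊗[R] M') :
    ExteriorAlgebra S N →ₐ[S] S ⊗[R] ExteriorAlgebra R M' :=
  ExteriorAlgebra.lift S ⟨jay R S M' ∘ₗ ρ, fun n => jay_sq R S M' (ρ n)⟩

@[simp] theorem Psi_ι (ρ : N →ₗ[S] S ⊗[R] M') (n : N) :
    Psi ρ (ι S n) = jay R S M' (ρ n) := by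
  simp [Psi]

theorem Psi_ofFn (ρ : N →ₗ[S] S ⊗[R] M') {t : ℕ} (u : Fin t → N) (w : Fin t → M')
    (h : ∀ k, ρ (u k) = 1 ⊗ₜ w k) :
    Psi ρ ((List.ofFn fun k => ι S (u k)).prod) =
      (1 : S) ⊗ₜ[R] ((List.ofFn fun k => ι R (w k)).prod) := by
  rw [map_list_prod, List.map_ofFn]
  have h1 : ((Psi ρ : ExteriorAlgebra S N → S ⊗[R] ExteriorAlgebra R M') ∘ fun k => ι S (u k)) =
      (Algebra.TensorProduct.includeRight : ExteriorAlgebra R M' →ₐ[R] S ⊗[R] ExteriorAlgebra R M')
        ∘ fun k => ι R (w k) := by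
    funext k
    simp [h k]
  rw [h1, ← List.map_ofFn, ← map_list_prod]
  rfl

variable (M') in
/-- apply an `R`-linear functional on `S`. -/
noncomputable def tauE (τ₀ : S →ₗ[R] R) :
    S ⊗[R] ExteriorAlgebra R M' →ₗ[R] ExteriorAlgebra R M' :=
  TensorProduct.lift ((LinearMap.lsmul R (ExteriorAlgebra R M')).comp τ₀)

@[simp] theorem tauE_tmul (τ₀ : S →ₗ[R] R) (s : S) (e : ExteriorAlgebra R M') :
    tauE M' τ₀ (s ⊗ₜ e) = τ₀ s • e := by
  simp [tauE]

end

end Groth.Agent.Lib.Helper29.Tr
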