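import Mathlib

/-!
# Helper29 / TrC : derivations on `S = R[X]/(f)` over a base `Λ`

`descend` : a `Λ`-linear map `R[X] → N` satisfying the Leibniz rule through `aeval x` and killing `f`
descends to a `Λ`-derivation `S → N`.  Two instances: `Dc` (formal derivative) and `Drho`
(coefficientwise derivation).
-/

set_option autoImplicit false
universe u v

namespace Groth.Agent.Lib.Helper29.Tr

open Polynomial TensorProduct

/-- `S` is `R[X]/(f)` via `X ↦ x`. -/
structure Setup (R : Type u) (S : Type u) [CommRing R] [CommRing S] [Algebra R S] (x : S)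
    (f : R[X]) : Prop where
  surj : Function.Surjective (aeval x : R[X] → S)
  ker : ∀ g : R[X], aeval x g = 0 → f ∣ g
  root : aeval x f = 0

section
variable {Λ R S : Type u} [CommRing Λ] [CommRing R] [CommRing S] [Algebra Λ R] [Algebra R S]
  [Algebra Λ S] [IsScalarTower Λ R S] {x : S} {f : R[X]}
variable {N : Type v} [AddCommGroup N] [Module S N] [Module Λ N] [IsScalarTower Λ S N]

theorem aeval_smul_base (l : Λ) (g : R[X]) : aeval x (l • g) = l • aeval x g := by
  rw [← algebraMap_smul R l g, map_smul, algebraMap_smul]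

theorem Setup.wd (H : Setup R S x f) (Dt : R[X] →ₗ[Λ] N)
    (hD : ∀ g h, Dt (g * h) = aeval x g • Dt h + aeval x h • Dt g) (hf0 : Dt f = 0)
    {g g' : R[X]} (hgg : aeval x g = aeval x g') : Dt g = Dt g' := by
  have h0 : aeval x (g - g') = 0 := by rw [map_sub, hgg, sub_self]
  obtain ⟨q, hq⟩ := H.ker _ h0
  have : Dt (g - g') = 0 := by
    rw [hq, hD, hf0, smul_zero, add_zero, H.root, zero_smul]
  rwa [map_sub, sub_eq_zero] at this

/-- the descended function. -/
noncomputable def Setup.descFun (H : Setup R S x f) (Dt : R[X] →ₗ[Λ] N) (s : S) : N :=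
  Dt (Classical.choose (H.surj s))

theorem Setup.descFun_aeval (H : Setup R S x f) (Dt : R[X] →ₗ[Λ] N)
    (hD : ∀ g h, Dt (g * h) = aeval x g • Dt h + aeval x h • Dt g) (hf0 : Dt f = 0) (g : R[X]) :
    H.descFun Dt (aeval x g) = Dt g :=
  H.wd Dt hD hf0 (Classical.choose_spec (H.surj (aeval x g)))

/-- the descended derivation. -/
noncomputable def Setup.descend (H : Setup R S x f) (Dt : R[X] →ₗ[Λ] N)
    (hD : ∀ g h, Dt (g * h) = aeval x g • Dt h + aeval x h • Dt g) (hf0 : Dt f = 0) :
    Derivation Λ S N where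
  toFun := H.descFun Dt
  map_add' s s' := by
    obtain ⟨g, rfl⟩ := H.surj s
    obtain ⟨g', rfl⟩ := H.surj s'
    rw [← map_add, H.descFun_aeval Dt hD hf0, H.descFun_aeval Dt hD hf0,
      H.descFun_aeval Dt hD hf0, map_add]
  map_smul' l s := by
    obtain ⟨g, rfl⟩ := H.surj s
    rw [← aeval_smul_base, H.descFun_aeval Dt hD hf0, H.descFun_aeval Dt hD hf0, map_smul]
    rfl
  map_one_eq_zero' := by
    have h1 : Dt 1 = 0 := by
      have := hD 1 1
      rw [mul_one, map_one (aeval x : R[X] →ₐ[R] S), one_smul] at this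
      exact left_eq_add.mp this
    show H.descFun Dt 1 = 0
    rw [← map_one (aeval x : R[X] →ₐ[R] S), H.descFun_aeval Dt hD hf0, h1]
  leibniz' s s' := by
    obtain ⟨g, rfl⟩ := H.surj s
    obtain ⟨g', rfl⟩ := H.surj s'
    show H.descFun Dt (aeval x g * aeval x g') = aeval x g • H.descFun Dt (aeval x g') +
      aeval x g' • H.descFun Dt (aeval x g)
    rw [← map_mul, H.descFun_aeval Dt hD hf0, H.descFun_aeval Dt hD hf0,
      H.descFun_aeval Dt hD hf0, hD]

@[simp] theorem Setup.descend_aeval (H : Setup R S x f) (Dt : R[X] →ₗ[Λ] N)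
    (hD : ∀ g h, Dt (g * h) = aeval x g • Dt h + aeval x h • Dt g) (hf0 : Dt f = 0) (g : R[X]) :
    H.descend Dt hD hf0 (aeval x g) = Dt g :=
  H.descFun_aeval Dt hD hf0 g

/-! ### the formal derivative -/

variable (Λ x) in
/-- `g ↦ g'(x)`. -/
noncomputable def DcT : R[X] →ₗ[Λ] S :=
  ((aeval x : R[X] →ₐ[R] S).toLinearMap ∘ₗ (Polynomial.derivative : R[X] →ₗ[R] R[X])).restrictScalars Λ

@[simp] theorem DcT_apply (g : R[X]) : DcT Λ x g = aeval x (derivative g) := rfl

theorem DcT_leibniz (g h : R[X]) :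
    DcT Λ x (g * h) = aeval x g • DcT Λ x h + aeval x h • DcT Λ x g := by
  simp only [DcT_apply, derivative_mul, map_add, map_mul, smul_eq_mul]
  ring

/-! ### the coefficientwise derivation -/

variable (x) in
/-- `g ↦ ∑ xⁱ • δ (gᵢ)`. -/
noncomputable def DrT (δ : R →ₗ[Λ] N) : R[X] →ₗ[Λ] N :=
  Polynomial.lsum fun i => ((LinearMap.lsmul S N (x ^ i)).restrictScalars Λ) ∘ₗ δ

theorem DrT_monomial (δ : R →ₗ[Λ] N) (n : ℕ) (r : R) :
    DrT x δ (monomial n r) = x ^ n • δ r := by
  simp only [DrT, lsum_apply]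
  rw [sum_monomial_index]
  · rfl
  · simp

theorem DrT_leibniz (δ : R →ₗ[Λ] N)
    (hδ : ∀ r r', δ (r * r') = algebraMap R S r • δ r' + algebraMap R S r' • δ r) (g h : R[X]) :
    DrT x δ (g * h) = aeval x g • DrT x δ h + aeval x h • DrT x δ g := by
  induction g using Polynomial.induction_on' with
  | add g₁ g₂ h₁ h₂ =>
    simp only [add_mul, map_add, add_smul, smul_add, h₁, h₂]; abel
  | monomial n r =>
    induction h using Polynomial.induction_on' with
    | add g₁ g₂ h₁ h₂ =>
      simp only [mul_add, map_add, add_smul, smul_add, h₁, h₂]; abel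
    | monomial m r' =>
      simp only [monomial_mul_monomial, DrT_monomial, aeval_monomial, hδ, smul_add, smul_smul]
      congr 2 <;> ring

theorem DrT_C (δ : R →ₗ[Λ] N) (r : R) : DrT x δ (C r) = δ r := by
  rw [← monomial_zero_left, DrT_monomial, pow_zero, one_smul]

theorem delta_one (δ : R →ₗ[Λ] N)
    (hδ : ∀ r r', δ (r * r') = algebraMap R S r • δ r' + algebraMap R S r' • δ r) : δ 1 = 0 := by
  have := hδ 1 1
  rw [mul_one, map_one (algebraMap R S), one_smul] at this
  exact left_eq_add.mp this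

theorem DrT_X_pow (δ : R →ₗ[Λ] N)
    (hδ : ∀ r r', δ (r * r') = algebraMap R S r • δ r' + algebraMap R S r' • δ r) (n : ℕ) :
    DrT x δ (X ^ n) = 0 := by
  rw [← monomial_one_right_eq_X_pow, DrT_monomial, delta_one δ hδ, smul_zero]

end

end Groth.Agent.Lib.Helper29.Tr
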