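import Groth.Agent.Lib.Helper29.TrA
import Groth.Agent.Lib.Helper29.TrB
import Groth.Agent.Lib.Helper29.TrC

/-!
# Helper29 / TrD : the trace on exterior powers of differentials for `S = R[x]/(x^p - a)`
-/

set_option autoImplicit false
universe u v

namespace Groth.Agent.Lib.Helper29.Tr

open Polynomial TensorProduct ExteriorAlgebra

section lists

theorem ofFn_snoc_prod {A : Type*} [Monoid A] {t : ℕ} (u : Fin t → A) (w : A) :
    (List.ofFn (fun i => (Fin.snoc (α := fun _ => A) u w : Fin (t + 1) → A) i)).prod =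
      (List.ofFn u).prod * w := by
  rw [List.ofFn_succ']
  simp [List.prod_concat]

variable {S : Type u} [CommRing S] {N : Type v} [AddCommGroup N] [Module S N]

theorem contract_list_zero (c : Module.Dual S N) (l : List N) (h : ∀ n ∈ l, c n = 0) :
    CliffordAlgebra.contractRight (Q := (0 : QuadraticForm S N)) ((l.map (ι S)).prod) c = 0 := by
  induction l using List.reverseRecOn with
  | nil => simp
  | append_singleton l n ih =>
    rw [List.map_append, List.prod_append, List.map_singleton, List.prod_singleton]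
    erw [CliffordAlgebra.contractRight_mul_ι]
    rw [h n (by simp), zero_smul, ih (fun n' hn' => h n' (by simp [hn'])), zero_mul, sub_zero]

theorem contract_ofFn_zero (c : Module.Dual S N) {t : ℕ} (u : Fin t → N) (h : ∀ k, c (u k) = 0) :
    CliffordAlgebra.contractRight (Q := (0 : QuadraticForm S N))
      ((List.ofFn fun k => ι S (u k)).prod) c = 0 := by
  have : (List.ofFn fun k => ι S (u k)) = (List.ofFn u).map (ι S) := by
    rw [List.map_ofFn]; rfl
  rw [this]
  apply contract_list_zero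
  intro n hn
  rw [List.mem_ofFn] at hn
  obtain ⟨k, rfl⟩ := hn
  exact h k

theorem contract_snoc (c : Module.Dual S N) {t : ℕ} (u : Fin t → N) (h : ∀ k, c (u k) = 0)
    (w : N) :
    CliffordAlgebra.contractRight (Q := (0 : QuadraticForm S N))
      ((List.ofFn fun k => ι S ((Fin.snoc (α := fun _ => N) u w : Fin (t + 1) → N) k)).prod) c =
      c w • (List.ofFn fun k => ι S (u k)).prod := by
  have h1 : (fun k => ι S ((Fin.snoc (α := fun _ => N) u w : Fin (t + 1) → N) k)) =
      fun k => (Fin.snoc (α := fun _ => ExteriorAlgebra S N) (fun j => ι S (u j)) (ι S w) :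
        Fin (t + 1) → ExteriorAlgebra S N) k := by
    funext k
    refine Fin.lastCases ?_ (fun j => ?_) k
    · simp
    · simp
  rw [h1, ofFn_snoc_prod]
  erw [CliffordAlgebra.contractRight_mul_ι]
  rw [contract_ofFn_zero c u h, zero_mul, sub_zero]

theorem ιMulti_snoc_coe {t : ℕ} (u : Fin t → N) (w : N) :
    ((exteriorPower.ιMulti S (t + 1) (Fin.snoc (α := fun _ => N) u w) : ⋀[S]^(t + 1) N) :
        ExteriorAlgebra S N) = (List.ofFn fun k => ι S (u k)).prod * ι S w := by
  rw [exteriorPower.ιMulti_apply_coe, ExteriorAlgebra.ιMulti_apply]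
  have h1 : (fun k => ι S ((Fin.snoc (α := fun _ => N) u w : Fin (t + 1) → N) k)) =
      fun k => (Fin.snoc (α := fun _ => ExteriorAlgebra S N) (fun j => ι S (u j)) (ι S w) :
        Fin (t + 1) → ExteriorAlgebra S N) k := by
    funext k
    refine Fin.lastCases ?_ (fun j => ?_) k
    · simp
    · simp
  rw [h1, ofFn_snoc_prod]

end lists

section general

variable {R : Type u} [CommRing R] {S : Type u} [CommRing S] [Algebra R S]
  {N : Type u} [AddCommGroup N] [Module S N] {M : Type u} [AddCommGroup M] [Module R M]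
  (m₀ : M) (c : Module.Dual S N) (ρ : N →ₗ[S] S ⊗[R] (M ⧸ Submodule.span R {m₀}))
  (τ₀ : S →ₗ[R] R) (n : ℕ)

/-- the general trace-like map. -/
noncomputable def TrG : (⋀[S]^n N) →+ (⋀[R]^n M) where
  toFun ω := proj R M n (mu R M m₀ (tauE _ τ₀ (Psi ρ
    (CliffordAlgebra.contractRight (Q := (0 : QuadraticForm S N)) (ω : ExteriorAlgebra S N) c))))
  map_zero' := by simp
  map_add' ω ω' := by simp [map_add]

theorem TrG_apply (ω : ⋀[S]^n N) : TrG m₀ c ρ τ₀ n ω = proj R M n (mu R M m₀ (tauE _ τ₀ (Psi ρ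
    (CliffordAlgebra.contractRight (Q := (0 : QuadraticForm S N)) (ω : ExteriorAlgebra S N) c)))) :=
  rfl

theorem tauE_algebraMap_smul (r : R) (z : S ⊗[R] ExteriorAlgebra R (M ⧸ Submodule.span R {m₀})) :
    tauE _ τ₀ (algebraMap R S r • z) = r • tauE _ τ₀ z := by
  rw [algebraMap_smul, map_smul]

theorem TrG_smul (r : R) (ω : ⋀[S]^n N) :
    TrG m₀ c ρ τ₀ n (algebraMap R S r • ω) = r • TrG m₀ c ρ τ₀ n ω := by
  rw [TrG_apply, TrG_apply, Submodule.coe_smul, LinearMap.map_smul₂, map_smul,
    tauE_algebraMap_smul, map_smul, map_smul]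

theorem TrG_zero_of {u : Fin n → N} (h : ∀ k, c (u k) = 0) (s : S) :
    TrG m₀ c ρ τ₀ n (s • exteriorPower.ιMulti S n u) = 0 := by
  rw [TrG_apply, Submodule.coe_smul, LinearMap.map_smul₂, exteriorPower.ιMulti_apply_coe,
    ExteriorAlgebra.ιMulti_apply, contract_ofFn_zero c u h]
  simp

theorem TrG_snoc {t : ℕ} (u : Fin t → N) (w' : Fin t → M) (hc : ∀ k, c (u k) = 0)
    (hρ : ∀ k, ρ (u k) = 1 ⊗ₜ Submodule.Quotient.mk (w' k)) (w : N) :
    TrG m₀ c ρ τ₀ (t + 1) (exteriorPower.ιMulti S (t + 1) (Fin.snoc (α := fun _ => N) u w)) =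
      τ₀ (c w) • exteriorPower.ιMulti R (t + 1) (Fin.snoc (α := fun _ => M) w' m₀) := by
  rw [TrG_apply, exteriorPower.ιMulti_apply_coe, ExteriorAlgebra.ιMulti_apply, contract_snoc c u hc,
    map_smul, Psi_ofFn ρ u (fun k => Submodule.Quotient.mk (w' k)) hρ, TensorProduct.smul_tmul',
    smul_eq_mul, mul_one, tauE_tmul, map_smul, map_smul]
  congr 1
  have h1 : (List.ofFn fun k => ι R (Submodule.Quotient.mk (w' k) : M ⧸ Submodule.span R {m₀})) =
      (List.ofFn w').map fun m => ι R (Submodule.Quotient.mk m : M ⧸ Submodule.span R {m₀}) := by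
    rw [List.map_ofFn]; rfl
  have h2 : ((List.ofFn w').map fun m => ι R m) = List.ofFn fun k => ι R (w' k) := by
    rw [List.map_ofFn]; rfl
  rw [h1, mu_list_prod, h2, ← ιMulti_snoc_coe, proj_coe]

end general

end Groth.Agent.Lib.Helper29.Tr
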