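import Groth.Agent.Lib.Helper29.TrD

/-!
# Helper29 / TrE : the maps `c` and `ρ` on `Ω[S⁄Λ]` for `S = R[x]/(x^p - a)`, and the main theorem
-/

set_option autoImplicit false
universe u v

namespace Groth.Agent.Lib.Helper29.Tr

open Polynomial TensorProduct ExteriorAlgebra

section main
variable (p : ℕ) (Λ R S : Type u) [CommRing Λ] [CommRing R] [CommRing S] [Algebra Λ R] [Algebra R S]
  [Algebra Λ S] [IsScalarTower Λ R S] (a : R) (x : S)

/-- `Ω[R⁄Λ] / (da)`. -/
abbrev Mq : Type u := Ω[R⁄Λ] ⧸ Submodule.span R {KaehlerDifferential.D Λ R a}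

/-- `r ↦ 1 ⊗ [dr]`. -/
noncomputable def delta : R →ₗ[Λ] S ⊗[R] Mq Λ R a where
  toFun r := (1 : S) ⊗ₜ[R] (Submodule.Quotient.mk (KaehlerDifferential.D Λ R r))
  map_add' r r' := by simp [tmul_add]
  map_smul' l r := by
    simp only [RingHom.id_apply]
    rw [Derivation.map_smul, Submodule.Quotient.mk_smul, TensorProduct.tmul_smul]

theorem delta_apply (r : R) :
    delta Λ R S a r = (1 : S) ⊗ₜ[R] (Submodule.Quotient.mk (KaehlerDifferential.D Λ R r)) := rfl

theorem delta_leibniz (r r' : R) : delta Λ R S a (r * r') =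
    algebraMap R S r • delta Λ R S a r' + algebraMap R S r' • delta Λ R S a r := by
  simp only [delta_apply, Derivation.leibniz, Submodule.Quotient.mk_add, Submodule.Quotient.mk_smul,
    tmul_add, algebraMap_smul, TensorProduct.tmul_smul]

theorem delta_a : delta Λ R S a a = 0 := by
  rw [delta_apply]
  have : (Submodule.Quotient.mk (KaehlerDifferential.D Λ R a) : Mq Λ R a) = 0 := by
    rw [Submodule.Quotient.mk_eq_zero]
    exact Submodule.mem_span_singleton_self _
  rw [this, tmul_zero]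

variable {p R S a x}

/-- the `dx`-coefficient. -/
noncomputable def cmap (H : Setup R S x (X ^ p - C a)) (hp : (p : S) = 0) : Ω[S⁄Λ] →ₗ[S] S :=
  (H.descend (DcT Λ x) DcT_leibniz (by
    rw [DcT_apply, derivative_sub, derivative_C, sub_zero, derivative_X_pow, map_mul, aeval_C,
      map_natCast, hp, zero_mul])).liftKaehlerDifferential

/-- the coefficientwise part. -/
noncomputable def rho (H : Setup R S x (X ^ p - C a)) : Ω[S⁄Λ] →ₗ[S] S ⊗[R] Mq Λ R a :=
  (H.descend (DrT x (delta Λ R S a)) (DrT_leibniz _ (delta_leibniz Λ R S a)) (by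
    rw [map_sub, DrT_X_pow _ (delta_leibniz Λ R S a), DrT_C, delta_a, sub_zero])).liftKaehlerDifferential

theorem cmap_D_aeval (H : Setup R S x (X ^ p - C a)) (hp : (p : S) = 0) (g : R[X]) :
    cmap Λ H hp (KaehlerDifferential.D Λ S (aeval x g)) = aeval x (derivative g) := by
  rw [cmap, Derivation.liftKaehlerDifferential_comp_D, Setup.descend_aeval, DcT_apply]

theorem cmap_D_x (H : Setup R S x (X ^ p - C a)) (hp : (p : S) = 0) :
    cmap Λ H hp (KaehlerDifferential.D Λ S x) = 1 := by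
  have := cmap_D_aeval Λ H hp X
  rwa [aeval_X, derivative_X, map_one] at this

theorem cmap_map (H : Setup R S x (X ^ p - C a)) (hp : (p : S) = 0) (η : Ω[R⁄Λ]) :
    cmap Λ H hp (KaehlerDifferential.map Λ Λ R S η) = 0 := by
  have hη : η ∈ Submodule.span R (Set.range (KaehlerDifferential.D Λ R)) := by
    rw [KaehlerDifferential.span_range_derivation]; trivial
  induction hη using Submodule.span_induction with
  | mem y hy =>
    obtain ⟨r, rfl⟩ := hy
    rw [KaehlerDifferential.map_D]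
    have := cmap_D_aeval Λ H hp (C r)
    rwa [aeval_C, derivative_C, map_zero] at this
  | zero => simp
  | add y z _ _ hy hz => rw [map_add, map_add, hy, hz, add_zero]
  | smul r y _ hy =>
    rw [map_smul, ← algebraMap_smul S r, map_smul, hy, smul_zero]

theorem rho_D_aeval (H : Setup R S x (X ^ p - C a)) (g : R[X]) :
    rho Λ H (KaehlerDifferential.D Λ S (aeval x g)) = DrT x (delta Λ R S a) g := by
  rw [rho, Derivation.liftKaehlerDifferential_comp_D, Setup.descend_aeval]

theorem rho_D_x (H : Setup R S x (X ^ p - C a)) :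
    rho Λ H (KaehlerDifferential.D Λ S x) = 0 := by
  have := rho_D_aeval Λ H (X ^ 1)
  rwa [pow_one, aeval_X, ← pow_one (X : R[X]), DrT_X_pow _ (delta_leibniz Λ R S a)] at this

theorem rho_map (H : Setup R S x (X ^ p - C a)) (η : Ω[R⁄Λ]) :
    rho Λ H (KaehlerDifferential.map Λ Λ R S η) = 1 ⊗ₜ Submodule.Quotient.mk η := by
  have hη : η ∈ Submodule.span R (Set.range (KaehlerDifferential.D Λ R)) := by
    rw [KaehlerDifferential.span_range_derivation]; trivial
  induction hη using Submodule.span_induction with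
  | mem y hy =>
    obtain ⟨r, rfl⟩ := hy
    rw [KaehlerDifferential.map_D]
    have := rho_D_aeval Λ H (C r)
    rwa [aeval_C, DrT_C, delta_apply] at this
  | zero => simp
  | add y z _ _ hy hz => rw [map_add, map_add, hy, hz, Submodule.Quotient.mk_add, tmul_add]
  | smul r y _ hy =>
    rw [map_smul, ← algebraMap_smul S r, map_smul, hy, algebraMap_smul, Submodule.Quotient.mk_smul,
      TensorProduct.tmul_smul]

theorem main (H : Setup R S x (X ^ p - C a)) (hp : (p : S) = 0) (τ₀ : S →ₗ[R] R)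
    (hτ : ∀ i, i < p → τ₀ (x ^ i) = if i = p - 1 then 1 else 0) (hp1 : 1 ≤ p) (t : ℕ) :
    ∃ Tr : (⋀[S]^(t + 1) (Ω[S⁄Λ])) →+ (⋀[R]^(t + 1) (Ω[R⁄Λ])),
      (∀ (r : R) (ω : ⋀[S]^(t + 1) (Ω[S⁄Λ])),
        Tr (algebraMap R S r • ω) = r • Tr ω) ∧
      (∀ (η : Fin t → Ω[R⁄Λ]) (i : ℕ), i + 2 ≤ p →
        Tr (exteriorPower.ιMulti _ (t + 1) (Fin.snoc (fun j => KaehlerDifferential.map Λ Λ R S (η j))
          (x ^ i • KaehlerDifferential.D Λ _ x))) = 0) ∧
      (∀ (η : Fin t → Ω[R⁄Λ]),
        Tr (exteriorPower.ιMulti _ (t + 1) (Fin.snoc (fun j => KaehlerDifferential.map Λ Λ R S (η j))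
          (x ^ (p - 1) • KaehlerDifferential.D Λ _ x))) =
          exteriorPower.ιMulti R (t + 1) (Fin.snoc η (KaehlerDifferential.D Λ R a))) ∧
      (∀ (s : S) (η : Fin (t + 1) → Ω[R⁄Λ]),
        Tr (s • exteriorPower.ιMulti _ (t + 1) (fun j => KaehlerDifferential.map Λ Λ R S (η j))) = 0) := by
  refine ⟨TrG (KaehlerDifferential.D Λ R a) (cmap Λ H hp) (rho Λ H) τ₀ (t + 1), ?_, ?_, ?_, ?_⟩
  · intro r ω
    exact TrG_smul _ _ _ _ _ r ω
  · intro η i hi
    rw [TrG_snoc _ _ _ _ (fun j => KaehlerDifferential.map Λ Λ R S (η j)) η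
      (fun k => cmap_map Λ H hp _) (fun k => rho_map Λ H _)]
    rw [map_smul, cmap_D_x, smul_eq_mul, mul_one, hτ i (by omega), if_neg (by omega), zero_smul]
  · intro η
    rw [TrG_snoc _ _ _ _ (fun j => KaehlerDifferential.map Λ Λ R S (η j)) η
      (fun k => cmap_map Λ H hp _) (fun k => rho_map Λ H _)]
    rw [map_smul, cmap_D_x, smul_eq_mul, mul_one, hτ (p - 1) (by omega), if_pos rfl, one_smul]
  · intro s η
    exact TrG_zero_of _ _ _ _ _ (fun k => cmap_map Λ H hp _) s

end main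

end Groth.Agent.Lib.Helper29.Tr
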