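import Mathlib
import Groth.Prelude.Def_FlatCA
import Groth.Agent.Lib.Helper74.WeakAss

/-!
# Weakly associated primes under field base change: the local algebra bridge (helper29)

`H9592` is the statement of milestone S9592 (field base change of weakly associated primes).
`local_bridge` : given it, for `A₀ = A_p → B₀ = (A ⊗[k] K)_q` (`p = q ∩ A`) and an `A₀`-module `N₀`,
if the maximal ideal of `B₀` is the radical of the annihilator of an element of `B₀ ⊗[A₀] N₀`, then
the maximal ideal of `A₀` is the radical of the annihilator of an element of `N₀`.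
-/

set_option autoImplicit false
universe u
open TensorProduct

namespace Groth.Agent.Lib.Helper29.WaBc

/-- The statement of S9592. -/
def H9592 : Prop :=
  ∀ {k K R : Type u} [Field k] [Field K] [Algebra k K] [CommRing R] [Algebra k R] (RK : Type u)
    [CommRing RK] [Algebra k RK] [Algebra K RK] [Algebra R RK] [IsScalarTower k K RK]
    [IsScalarTower k R RK] [Algebra.IsPushout k K R RK] (M : Type u) [AddCommGroup M] [Module R M]
    (MK : Type u) [AddCommGroup MK] [Module RK MK] [Module R MK] [IsScalarTower R RK MK]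
    (f : M →ₗ[R] MK) (_ : IsBaseChange RK f) (q : Ideal RK) [q.IsPrime]
    (_ : q ∈ FlatCA.weakAss RK MK), q.comap (algebraMap R RK) ∈ FlatCA.weakAss R M

theorem ker_toSpanSingleton_eq {R : Type*} [CommRing R] {M : Type*} [AddCommGroup M] [Module R M]
    (m : M) : LinearMap.ker (LinearMap.toSpanSingleton R M m) =
      (Submodule.span R {m}).annihilator := by
  ext r
  rw [LinearMap.mem_ker, LinearMap.toSpanSingleton_apply, Submodule.mem_annihilator_span_singleton]

/-- In a local ring: the maximal ideal is minimal over `I` iff it is the radical of `I`. -/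
theorem maximalIdeal_mem_minimalPrimes_iff {R : Type*} [CommRing R] [IsLocalRing R] (I : Ideal R) :
    IsLocalRing.maximalIdeal R ∈ I.minimalPrimes ↔ I.radical = IsLocalRing.maximalIdeal R := by
  constructor
  · intro h
    apply le_antisymm
    · exact (Ideal.IsPrime.radical_le_iff (IsLocalRing.maximalIdeal.isMaximal R).isPrime).mpr h.1.2
    · rw [Ideal.radical_eq_sInf]
      refine le_sInf ?_
      rintro P ⟨hIP, hP⟩
      exact h.2 ⟨hP, hIP⟩ (IsLocalRing.le_maximalIdeal hP.ne_top)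
  · intro h
    refine ⟨⟨(IsLocalRing.maximalIdeal.isMaximal R).isPrime, h ▸ Ideal.le_radical⟩, ?_⟩
    rintro P ⟨hP, hIP⟩ _
    rw [← h]
    exact (Ideal.IsPrime.radical_le_iff hP).mpr hIP

theorem exists_radical_iff_mem_weakAss {R : Type*} [CommRing R] [IsLocalRing R] {M : Type*}
    [AddCommGroup M] [Module R M] :
    (∃ m : M, Ideal.radical (LinearMap.ker (LinearMap.toSpanSingleton R M m)) =
      IsLocalRing.maximalIdeal R) ↔ IsLocalRing.maximalIdeal R ∈ FlatCA.weakAss R M := by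
  constructor
  · rintro ⟨m, hm⟩
    refine ⟨m, ?_⟩
    rw [maximalIdeal_mem_minimalPrimes_iff, ← ker_toSpanSingleton_eq]
    exact hm
  · rintro ⟨m, hm⟩
    refine ⟨m, ?_⟩
    rw [ker_toSpanSingleton_eq, ← maximalIdeal_mem_minimalPrimes_iff]
    exact hm

section bridge

attribute [local instance] Algebra.TensorProduct.rightAlgebra

variable {k K A : Type u} [Field k] [Field K] [Algebra k K] [CommRing A] [Algebra k A]
  (q : Ideal (A ⊗[k] K)) [q.IsPrime]
  (A₀ B₀ : Type u) [CommRing A₀] [CommRing B₀] [Algebra A A₀]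
  [IsLocalization.AtPrime A₀ (q.comap (algebraMap A (A ⊗[k] K)))]
  [Algebra (A ⊗[k] K) B₀] [IsLocalization.AtPrime B₀ q] [Algebra A₀ B₀] [Algebra A B₀]
  [IsScalarTower A A₀ B₀] [IsScalarTower A (A ⊗[k] K) B₀]
  (N₀ : Type u) [AddCommGroup N₀] [Module A₀ N₀]

include q in
theorem local_bridge (H : H9592.{u}) [IsLocalRing A₀] [IsLocalRing B₀]
    (hm : ∃ m : B₀ ⊗[A₀] N₀, Ideal.radical (LinearMap.ker (LinearMap.toSpanSingleton B₀ (B₀ ⊗[A₀] N₀) m)) =
      IsLocalRing.maximalIdeal B₀) :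
    ∃ n : N₀, Ideal.radical (LinearMap.ker (LinearMap.toSpanSingleton A₀ N₀ n)) =
      IsLocalRing.maximalIdeal A₀ := by
  classical
  rw [exists_radical_iff_mem_weakAss] at hm ⊢
  letI : Module A N₀ := Module.compHom N₀ (algebraMap A A₀)
  haveI : IsScalarTower A A₀ N₀ := ⟨fun a b n => by
    change (a • b) • n = (algebraMap A A₀ a) • (b • n)
    rw [Algebra.smul_def, mul_smul]⟩
  -- the base change of N₀ to T
  let h0 : N₀ →ₗ[A] (A ⊗[k] K) ⊗[A] N₀ := TensorProduct.mk A (A ⊗[k] K) N₀ 1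
  have hh0 : IsBaseChange (A ⊗[k] K) h0 := TensorProduct.isBaseChange A N₀ (A ⊗[k] K)
  -- N₀ is its own localisation
  have hid : IsLocalizedModule (q.comap (algebraMap A (A ⊗[k] K))).primeCompl (LinearMap.id : N₀ →ₗ[A] N₀) :=
    isLocalizedModule_id (q.comap (algebraMap A (A ⊗[k] K))).primeCompl N₀ A₀
  have hid' : IsBaseChange A₀ (LinearMap.id : N₀ →ₗ[A] N₀) :=
    (isLocalizedModule_iff_isBaseChange (q.comap (algebraMap A (A ⊗[k] K))).primeCompl A₀ _).mp hid
  let g2 : N₀ →ₗ[A₀] B₀ ⊗[A₀] N₀ := TensorProduct.mk A₀ B₀ N₀ 1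
  have hg2 : IsBaseChange B₀ g2 := TensorProduct.isBaseChange A₀ N₀ B₀
  have hcomp : IsBaseChange B₀ ((g2.restrictScalars A).comp (LinearMap.id : N₀ →ₗ[A] N₀)) :=
    hid'.comp hg2
  -- the comparison map
  let f : (A ⊗[k] K) ⊗[A] N₀ →ₗ[A ⊗[k] K] B₀ ⊗[A₀] N₀ :=
    hh0.lift ((g2.restrictScalars A).comp (LinearMap.id : N₀ →ₗ[A] N₀))
  have hf : (f.restrictScalars A).comp h0 = (g2.restrictScalars A).comp (LinearMap.id : N₀ →ₗ[A] N₀) :=
    hh0.lift_comp _
  have hfb : IsBaseChange B₀ f := by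
    apply IsBaseChange.of_comp hh0
    rw [show ((f : (A ⊗[k] K) ⊗[A] N₀ →ₗ[A] B₀ ⊗[A₀] N₀) ∘ₗ h0) = _ from hf]
    exact hcomp
  haveI hfl : IsLocalizedModule q.primeCompl f :=
    (isLocalizedModule_iff_isBaseChange q.primeCompl B₀ f).mpr hfb
  -- step 1: q ∈ weakAss T (T ⊗ N₀)
  have hq1 : q ∈ FlatCA.weakAss (A ⊗[k] K) ((A ⊗[k] K) ⊗[A] N₀) := by
    rw [Groth.Agent.Lib.Helper74.WeakAss.mem_weakAss_iff_map_mem q.primeCompl f (A := B₀) q
      (by
        rw [Set.disjoint_left]
        intro x hx hx'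
        exact hx hx'),
      IsLocalization.AtPrime.map_eq_maximalIdeal q B₀]
    exact hm
  -- step 2: S9592
  have hq2 : q.comap (algebraMap A (A ⊗[k] K)) ∈ FlatCA.weakAss A N₀ :=
    H (k := k) (K := K) (R := A) (A ⊗[k] K) N₀ ((A ⊗[k] K) ⊗[A] N₀) h0 hh0 q hq1
  -- step 3: localise
  rw [Groth.Agent.Lib.Helper74.WeakAss.mem_weakAss_iff_map_mem (q.comap (algebraMap A (A ⊗[k] K))).primeCompl
      (LinearMap.id : N₀ →ₗ[A] N₀) (A := A₀) (q.comap (algebraMap A (A ⊗[k] K)))
      (by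
        rw [Set.disjoint_left]
        intro x hx hx'
        exact hx hx'),
      IsLocalization.AtPrime.map_eq_maximalIdeal (q.comap (algebraMap A (A ⊗[k] K))) A₀] at hq2
  exact hq2

end bridge

end Groth.Agent.Lib.Helper29.WaBc
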