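import Groth.Agent.Lib.Helper29.WaBcC

/-!
# S8900 modulo S9592 (helper29)
-/

set_option autoImplicit false
universe u
open CategoryTheory CategoryTheory.Limits AlgebraicGeometry TensorProduct

namespace Groth.Agent.Lib.Helper29.WaBc

open Groth.Agent.Lib.Helper51

theorem main (H : H9592.{u}) (k : Type u) [Field k] (K : Type u) [Field K] [Algebra k K]
    (X : Scheme.{u}) [X.Over (Spec (CommRingCat.of k))] (F : X.Modules) (hF : Coh.IsQCoh F)
    (y : ↥(Curv2.bc k X K))
    (hy : Curv2.IsWeakAssPoint ((Scheme.Modules.pullback (Curv2.bcFst k X K)).obj F) y) :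
    Curv2.IsWeakAssPoint F (Curv2.bcFst k X K y) := by
  haveI : F.IsQuasicoherent := hF
  obtain ⟨x, hx⟩ : ∃ x, x = Curv2.bcFst k X K y := ⟨_, rfl⟩
  letI : Algebra k (X.presheaf.stalk x) :=
    ((X.presheaf.germ ⊤ x trivial).hom.comp (Coh.toGlobal (X ↘ Spec (CommRingCat.of k)))).toAlgebra
  have hψ : Spec.map (CommRingCat.ofHom (algebraMap k (X.presheaf.stalk x))) =
      X.fromSpecStalk x ≫ (X ↘ Spec (CommRingCat.of k)) := specMap_stalkMapOf (X ↘ Spec (CommRingCat.of k)) x
  have hy' : pullback.fst (X ↘ Spec (CommRingCat.of k)) (Spec.map (CommRingCat.ofHom (algebraMap k K))) y = x := by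
    rw [hx]
  obtain ⟨w, hw⟩ := exists_stalkBcMap_eq (X ↘ Spec (CommRingCat.of k)) x hψ K y hy'
  have hq : jmap (X ↘ Spec (CommRingCat.of k)) x hψ K ((pullbackSpecIso k (X.presheaf.stalk x) K).hom w) = y := by
    have h1 : (pullbackSpecIso k (X.presheaf.stalk x) K).inv
        ((pullbackSpecIso k (X.presheaf.stalk x) K).hom w) = w := by
      rw [← Scheme.Hom.comp_apply, Iso.hom_inv_id]; rfl
    rw [jmap, Scheme.Hom.comp_apply, h1, hw]
  have hy2 : Curv2.IsWeakAssPoint ((Scheme.Modules.pullback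
      (pullback.fst (X ↘ Spec (CommRingCat.of k)) (Spec.map (CommRingCat.ofHom (algebraMap k K))))).obj F)
      (jmap (X ↘ Spec (CommRingCat.of k)) x hψ K ((pullbackSpecIso k (X.presheaf.stalk x) K).hom w)) := by
    rw [hq]; exact hy
  have := transfer (X ↘ Spec (CommRingCat.of k)) x hψ K F ((pullbackSpecIso k (X.presheaf.stalk x) K).hom w) H hy2
  rw [hq] at this
  exact this

end Groth.Agent.Lib.Helper29.WaBc
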