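import Groth.Agent.Lib.Helper29.QCohUnit

/-!
Zero-divisors of the ring of sections over an affine open lie in a weakly associated prime:
a section invertible at every weakly associated point of the structure sheaf is a nonzerodivisor.
-/

set_option autoImplicit false
universe u

namespace Groth.Agent.Lib.Helper29.QCohLoc

open AlgebraicGeometry CategoryTheory Opposite TopologicalSpace

variable {X : Scheme.{u}} {U : X.Opens} (hU : IsAffineOpen U)

include hU in
/-- if `b ≠ 0` there is a weakly associated point of the structure sheaf in `U` whose prime contains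
the annihilator of `b` -/
theorem exists_isWeakAssPoint_ann_le (b : Γ(X, U)) (hb : b ≠ 0) :
    ∃ (y : X) (hy : y ∈ U), Curv2.IsWeakAssPoint (Coh.structureModule X) y ∧
      ∀ a : Γ(X, U), a * b = 0 → a ∈ (hU.primeIdealOf ⟨y, hy⟩).asIdeal := by
  set s : Γ(Coh.structureModule X, U) := ofSec X b with hs
  have hne : ann (Coh.structureModule X) s ≠ ⊤ := by
    intro h
    have : (1 : Γ(X, U)) ∈ ann (Coh.structureModule X) s := by rw [h]; trivial
    rw [mem_ann, one_smul] at this
    exact hb this
  obtain ⟨m, hm, hle⟩ := Ideal.exists_le_maximal _ hne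
  obtain ⟨p, hp, -⟩ := Ideal.exists_minimalPrimes_le (J := m) hle
  have hpp : p.IsPrime := hp.1.1
  obtain ⟨y, hy, hyp⟩ := exists_point_of_prime hU p
  refine ⟨y, hy, ?_, ?_⟩
  · refine (isWeakAssPoint_iff (Coh.structureModule X) hU (locAt_structureModule X hU) y hy).mpr
      ⟨s, ?_⟩
    rw [hyp]
    exact hp
  · intro a hab
    rw [hyp]
    apply hp.1.2
    rw [mem_ann, hs, smul_ofSec, hab]
    rfl

include hU in
/-- a section invertible at all weakly associated points of the structure sheaf is a
nonzerodivisor -/
theorem mem_nonZeroDivisors_of_forall_weakAss (a : Γ(X, U))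
    (h : ∀ y ∈ U, Curv2.IsWeakAssPoint (Coh.structureModule X) y → y ∈ X.basicOpen a) :
    a ∈ nonZeroDivisors Γ(X, U) := by
  rw [mem_nonZeroDivisors_iff_right]
  intro b hba
  by_contra hb
  obtain ⟨y, hy, hwa, hann⟩ := exists_isWeakAssPoint_ann_le hU b hb
  have h1 := hann a (by rw [mul_comm]; exact hba)
  rw [mem_primeIdealOf_iff] at h1
  exact h1 (h y hy hwa)

end Groth.Agent.Lib.Helper29.QCohLoc
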